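import Groth.Agent.S5341
import Groth.Agent.L06.CMFibreDim
import Groth.Agent.L06.FibreDimCons
import Groth.Agent.L07.FibreDimSemi
import Groth.Agent.L07.UnivOpenFibre
import Groth.Prelude.Def_Red

/-!
# The dimension of the fibres of a group scheme
-/

set_option autoImplicit false
set_option linter.style.haveILetI false
set_option backward.isDefEq.respectTransparency.types false
universe u

open CategoryTheory CategoryTheory.Limits MonoidalCategory CartesianMonoidalCategory MonObj AlgebraicGeometry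

namespace Groth.Lead.GrpFibreDim

variable {S : Scheme.{u}} (G : Over S) [GrpObj G]

/-- The dimension of the fibre over a point, as a subspace. -/
noncomputable def dim (s : S) : WithBot ℕ∞ := topologicalKrullDim ↥(G.hom.base ⁻¹' {s})

theorem dim_eq_fiber (s : S) : dim G s = topologicalKrullDim (G.hom.fiber s) :=
  (IsHomeomorph.topologicalKrullDim_eq _ (G.hom.fiberHomeo s).isHomeomorph).symm

/-- All local fibre dimensions equal the fibre dimension. -/
theorem fibreDimAt_eq [LocallyOfFiniteType G.hom] (x : G.left) :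
    FlatMor.fibreDimAt G.hom x = dim G (G.hom x) := by
  rw [dim_eq_fiber]
  let t := S.fromSpecResidueField (G.hom x)
  let G' : Over (Spec (CommRingCat.of (S.residueField (G.hom x)))) := (Over.pullback t).obj G
  letI : GrpObj G' := Functor.grpObjObj
  haveI : LocallyOfFiniteType G'.hom :=
    MorphismProperty.pullback_snd _ _ ‹LocallyOfFiniteType G.hom›
  exact (Groth.Agent.S5341.result (S.residueField (G.hom x)) G').2 (G.hom.asFiber x)

theorem hom_one (s : S) : G.hom ((η[G] : 𝟙_ (Over S) ⟶ G).left s) = s :=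
  (congrArg (fun φ : (𝟙_ (Over S)).left ⟶ S => φ s) (Over.w (η[G] : 𝟙_ (Over S) ⟶ G))).trans rfl

theorem dim_eq [LocallyOfFiniteType G.hom] (s : S) :
    dim G s = FlatMor.fibreDimAt G.hom ((η[G] : 𝟙_ (Over S) ⟶ G).left s) := by
  rw [fibreDimAt_eq, hom_one]

theorem exists_nat [LocallyOfFiniteType G.hom] (s : S) : ∃ n : ℕ, dim G s = (n : WithBot ℕ∞) := by
  rw [dim_eq]
  exact Groth.L07.OpenEquiv.exists_nat_fibreDimAt G.hom _

theorem isOpen_le [LocallyOfFiniteType G.hom] (n : ℕ) : IsOpen {s : S | dim G s ≤ (n : WithBot ℕ∞)} := by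
  have e : {s : S | dim G s ≤ (n : WithBot ℕ∞)} = (η[G] : 𝟙_ (Over S) ⟶ G).left ⁻¹'
      {x | FlatMor.fibreDimAt G.hom x ≤ (n : WithBot ℕ∞)} := by
    ext s
    simp only [Set.mem_setOf_eq, Set.mem_preimage, dim_eq]
  rw [e]
  exact (Groth.L07.FibreDim.isOpen_fibreDimAt_le G.hom n).preimage (η[G] : 𝟙_ (Over S) ⟶ G).left.continuous

theorem upperSemicontinuous [LocallyOfFiniteType G.hom] : UpperSemicontinuous (dim G) := by
  intro s y hy
  obtain ⟨n, hn⟩ := exists_nat G s
  filter_upwards [(isOpen_le G n).mem_nhds (show s ∈ {s : S | dim G s ≤ (n : WithBot ℕ∞)} from hn.le)] with t ht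
  exact lt_of_le_of_lt ht (hn ▸ hy)

theorem isLocallyConstant [Flat G.hom] [LocallyOfFinitePresentation G.hom] : IsLocallyConstant (dim G) := by
  rw [IsLocallyConstant.iff_exists_open]
  intro s
  obtain ⟨n, hn⟩ := exists_nat G s
  refine ⟨{t | dim G t ≤ (n : WithBot ℕ∞)} ∩ ⋂ k ∈ Finset.range n, {t | (k : WithBot ℕ∞) < dim G t},
    (isOpen_le G n).inter (isOpen_biInter_finset fun k _ => ?_), ⟨hn.le, ?_⟩, ?_⟩
  · simpa only [dim_eq_fiber] using Groth.L06.CMFibreDim.isOpen_lt G.hom (k : WithBot ℕ∞)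
  · refine Set.mem_iInter₂.2 fun k hk => ?_
    show (k : WithBot ℕ∞) < dim G s
    rw [hn]
    exact_mod_cast Finset.mem_range.1 hk
  · rintro t ⟨ht, ht'⟩
    obtain ⟨m, hm⟩ := exists_nat G t
    rw [hn, hm]
    have h1 : m ≤ n := by
      have : (m : WithBot ℕ∞) ≤ (n : WithBot ℕ∞) := hm ▸ ht
      exact_mod_cast this
    by_contra hne
    have hlt : m < n := lt_of_le_of_ne h1 fun e => hne (by rw [e])
    have h2 : (m : WithBot ℕ∞) < dim G t := Set.mem_iInter₂.1 ht' m (Finset.mem_range.2 hlt)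
    exact absurd hm (ne_of_gt h2)

/-- Locally on the base the fibre dimension is bounded with constructible level sets. -/
theorem exists_constructible [LocallyOfFinitePresentation G.hom] (s : S) : ∃ V : S.Opens, s ∈ V ∧
      (dim G '' (V : Set S)).Finite ∧
      ∀ d : WithBot ℕ∞, Topology.IsConstructible {t : V | dim G (t : S) = d} := by
  let e := (η[G] : 𝟙_ (Over S) ⟶ G).left
  obtain ⟨n, hn⟩ := exists_nat G s
  obtain ⟨U, hU, hxU, -⟩ := exists_isAffineOpen_mem_and_subset (U := ⊤) (x := e s) trivial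
  let O : S.Opens := ⟨{t | dim G t ≤ (n : WithBot ℕ∞)} ∩ e ⁻¹' U, (isOpen_le G n).inter (U.2.preimage e.continuous)⟩
  obtain ⟨V, hV, hsV, hVO⟩ := exists_isAffineOpen_mem_and_subset (U := O) (x := s) ⟨hn.le, hxU⟩
  refine ⟨V, hsV, ?_, ?_⟩
  · refine ((Finset.range (n + 1)).image fun k : ℕ => (k : WithBot ℕ∞)).finite_toSet.subset ?_
    rintro _ ⟨t, ht, rfl⟩
    obtain ⟨m, hm⟩ := exists_nat G t
    have : (m : WithBot ℕ∞) ≤ (n : WithBot ℕ∞) := hm ▸ (hVO ht).1
    simp only [Finset.coe_image, Finset.coe_range, Set.mem_image, Set.mem_Iio]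
    exact ⟨m, Nat.lt_succ_of_le (by exact_mod_cast this), hm.symm⟩
  haveI : IsAffine V.toScheme := hV
  haveI : IsAffine U.toScheme := hU
  have hr : Set.range (V.ι ≫ e : V.toScheme ⟶ G.left) ⊆ Set.range U.ι := by
    rintro _ ⟨t, rfl⟩
    rw [Scheme.Opens.range_ι]
    exact (hVO t.2).2
  let g : V.toScheme ⟶ U.toScheme := IsOpenImmersion.lift U.ι (V.ι ≫ e) hr
  have hg : ∀ t : V.toScheme, U.ι (g t) = e t.1 := fun t => by
    rw [← Scheme.Hom.comp_apply, IsOpenImmersion.lift_fac]
    rfl
  have hle : ∀ m : ℕ, Topology.IsConstructible {t : V.toScheme | dim G t.1 ≤ (m : WithBot ℕ∞)} := fun m => by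
    let A : Set U.toScheme := {x | FlatMor.fibreDimAt G.hom x.1 ≤ (m : WithBot ℕ∞)}
    have hAo : IsOpen A :=
      (Groth.L07.FibreDim.isOpen_fibreDimAt_le G.hom m).preimage continuous_subtype_val
    haveI : CompactSpace U.toScheme := inferInstance
    haveI : QuasiSeparatedSpace U.toScheme := inferInstance
    have hAc : Topology.IsConstructible A :=
      ((Groth.L06.FibreDimCons.isLocallyConstructible_le G.hom m).preimage_of_isOpenEmbedding
        (f := U.ι) U.ι.isOpenEmbedding).isConstructible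
    have e' : {t : V.toScheme | dim G t.1 ≤ (m : WithBot ℕ∞)} = g ⁻¹' A := by
      ext t
      show dim G t.1 ≤ _ ↔ FlatMor.fibreDimAt G.hom (g t).1 ≤ _
      rw [dim_eq, show (g t).1 = e t.1 from hg t]
    rw [e']
    haveI : CompactSpace V.toScheme := inferInstance
    haveI : QuasiSeparatedSpace V.toScheme := inferInstance
    exact hAc.preimage g.continuous fun W hW hW' =>
      IsCompact.isRetrocompact (g.isCompact_preimage (U := ⟨W, hW⟩) hW'.isCompact) (hW.preimage g.continuous)
  intro d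
  show Topology.IsConstructible (X := V.toScheme) {t | dim G t.1 = d}
  by_cases hd : ∃ m : ℕ, d = (m : WithBot ℕ∞)
  · obtain ⟨m, rfl⟩ := hd
    rcases m with _ | m
    · convert hle 0 using 1
      ext t
      obtain ⟨j, hj⟩ := exists_nat G t.1
      simp [hj]
    · convert (hle (m + 1)).sdiff (hle m) using 1
      ext t
      obtain ⟨j, hj⟩ := exists_nat G t.1
      simp only [Set.mem_setOf_eq, Set.mem_sdiff, hj, Nat.cast_le, Nat.cast_inj, not_le]
      omega
  · convert Topology.IsConstructible.empty (X := V.toScheme)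
    refine Set.eq_empty_iff_forall_notMem.2 fun t ht => hd ?_
    obtain ⟨j, hj⟩ := exists_nat G t.1
    exact ⟨j, (show dim G t.1 = d from ht).symm.trans hj⟩

end Groth.Lead.GrpFibreDim
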