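import Groth.Agent.L13.IdComp
import Groth.Agent.L25.Actions
import Groth.Prelude.Def_SGA3x
import Mathlib.AlgebraicGeometry.Fiber

/-!
# The neutral component: fibres, products, open subgroups
-/

set_option autoImplicit false
set_option linter.style.haveILetI false
universe u

open CategoryTheory CategoryTheory.Limits MonoidalCategory CartesianMonoidalCategory MonObj AlgebraicGeometry
open Groth.L25 Groth.L25.ConnIrred

namespace Groth.Lead.Neutral

section Field

variable {k : Type u} [Field k] {G : Over (Spec (CommRingCat.of k))} [GrpObj G]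

/-- A subset of `G` is a subgroup. -/
structure IsSubgroupSet (R : Set G.left) : Prop where
  one_mem : Component.one G ∈ R
  mul_mem : ∀ z : (G ⊗ G).left, (fst G G).left z ∈ R → (snd G G).left z ∈ R → μ[G].left z ∈ R
  inv_mem : ∀ x ∈ R, (GrpObj.inv (X := G)).left x ∈ R

theorem range_isSubgroupSet {H : Over (Spec (CommRingCat.of k))} [GrpObj H] (i : H ⟶ G) [IsMonHom i] :
    IsSubgroupSet (Set.range i.left) where
  one_mem := ⟨Component.one H, congr(($(IsMonHom.one_hom (f := i))).left _)⟩
  mul_mem z h₁ h₂ := by
    have hR : Set.range (i ⊗ₘ i).left =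
        (fst G G).left ⁻¹' Set.range i.left ∩ (snd G G).left ⁻¹' Set.range i.left :=
      Scheme.Pullback.range_map (f := H.hom) (g := H.hom) (f' := G.hom) (g' := G.hom) (i₁ := i.left) (i₂ := i.left)
        (i₃ := 𝟙 _) (by simp) (by simp)
    obtain ⟨w, rfl⟩ : z ∈ Set.range (i ⊗ₘ i).left := by rw [hR]; exact ⟨h₁, h₂⟩
    exact ⟨μ[H].left w, by
      rw [← Scheme.Hom.comp_apply, ← Scheme.Hom.comp_apply, ← Over.comp_left, ← Over.comp_left, IsMonHom.mul_hom]⟩
  inv_mem := by
    rintro _ ⟨x, rfl⟩
    exact ⟨(GrpObj.inv (X := H)).left x, by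
      rw [← Scheme.Hom.comp_apply, ← Scheme.Hom.comp_apply, ← Over.comp_left, ← Over.comp_left]
      congr 4
      simp⟩

/-- An open subgroup is closed. -/
theorem isClosed_of_isOpen {R : Set G.left} (hR : IsSubgroupSet R) (ho : IsOpen R) : IsClosed R := by
  refine isClosed_of_closure_subset fun x hx => ?_
  let T : Over (Spec (CommRingCat.of k)) := Over.mk (G.left.fromSpecResidueField x ≫ G.hom)
  let xT : T ⟶ G := Over.homMk (G.left.fromSpecResidueField x) rfl
  let c : T.left := IsLocalRing.closedPoint (G.left.residueField x)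
  have hxT : xT.left c = x := Scheme.fromSpecResidueField_apply x _
  let h : G ⊗ T ⟶ G := fst G T
  let hx' : G ⊗ T ⟶ G := fst G T * (snd G T ≫ xT)
  let θ : G ⊗ T ⟶ G ⊗ T := lift hx' (snd G T)
  haveI : IsIso θ := by
    refine ⟨lift (fst G T * (snd G T ≫ xT)⁻¹) (snd G T), ?_, ?_⟩
    all_goals
      apply CartesianMonoidalCategory.hom_ext
      · simp [θ, hx', MonObj.comp_mul, GrpObj.comp_inv]
      · simp [θ]
  haveI : IsIso θ.left := inferInstanceAs (IsIso ((Over.forget _).map θ))
  haveI : UniversallyOpen (fst G T).left :=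
    MorphismProperty.of_isPullback (Groth.L25.Actions.isPullback_snd G T).flip
      (inferInstance : UniversallyOpen T.hom)
  have hr : IsOpenMap hx'.left := by
    rw [show hx' = θ ≫ fst G T from (lift_fst _ _).symm, Over.comp_left]
    exact (θ.left ≫ (fst G T).left).isOpenMap
  let W : Set (G ⊗ T).left := h.left ⁻¹' R
  have hW : IsOpen W := ho.preimage h.left.continuous
  have hxW : x ∈ hx'.left '' W := by
    refine ⟨(lift (1 : T ⟶ G) (𝟙 T)).left c, ?_, ?_⟩
    · show h.left _ ∈ R
      rw [← Scheme.Hom.comp_apply, ← Over.comp_left, show lift (1 : T ⟶ G) (𝟙 T) ≫ h = 1 from lift_fst _ _, one_apply]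
      exact hR.one_mem
    · rw [← Scheme.Hom.comp_apply, ← Over.comp_left]
      simp only [hx', MonObj.comp_mul, lift_fst, lift_snd_assoc, Category.id_comp, _root_.one_mul]
      exact hxT
  obtain ⟨y, hyo, hyR⟩ := mem_closure_iff.1 hx _ (hr _ hW) hxW
  obtain ⟨t, ht, rfl⟩ := hyo
  let m : G ⊗ T ⟶ G ⊗ G := lift h⁻¹ hx'
  have hm : m ≫ μ[G] = snd G T ≫ xT := by
    rw [MonObj.mul_eq_mul G, MonObj.comp_mul, lift_fst, lift_snd]
    simp [h, hx', inv_mul_cancel_left]
  have := hR.mul_mem (m.left t) (by
      rw [← Scheme.Hom.comp_apply, ← Over.comp_left, lift_fst,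
        show h⁻¹ = h ≫ GrpObj.inv from Hom.inv_def h, Over.comp_left, Scheme.Hom.comp_apply]
      exact hR.inv_mem _ ht)
    (by rw [← Scheme.Hom.comp_apply, ← Over.comp_left, lift_snd]; exact hyR)
  rw [← Scheme.Hom.comp_apply, ← Over.comp_left, hm, Over.comp_left, Scheme.Hom.comp_apply] at this
  rwa [show (snd G T).left t = c from Subsingleton.elim (α := PrimeSpectrum _) _ _, hxT] at this

variable (G)

theorem component_mem : connectedComponent (Component.one G) ∈ irreducibleComponents ↥G.left :=
  ⟨(Groth.Agent.L13.IdComp.connectedComponent_one G).1, fun Z hZ hle =>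
    hZ.isConnected.subset_connectedComponent (hle mem_connectedComponent)⟩

theorem component_isSubgroupSet : IsSubgroupSet (connectedComponent (Component.one G)) where
  one_mem := mem_connectedComponent
  inv_mem x hx := by
    refine (isConnected_connectedComponent.image _ (GrpObj.inv (X := G)).left.continuous.continuousOn).subset_connectedComponent
      ⟨Component.one G, mem_connectedComponent, ?_⟩ ⟨x, hx, rfl⟩
    rw [Component.one, ← Scheme.Hom.comp_apply, ← Over.comp_left, GrpObj.one_inv]
  mul_mem := by
    intro z h₁ h₂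
    have hC := component_mem G
    let C := connectedComponent (Component.one G)
    let I := Scheme.IdealSheafData.vanishingIdeal (X := G.left) ⟨C, isClosed_connectedComponent⟩
    have hI : Set.range I.subschemeι = C := by
      rw [Scheme.IdealSheafData.range_subschemeι, Scheme.IdealSheafData.coe_support_vanishingIdeal]; rfl
    haveI := Component.irreducibleSpace_of_range I.subschemeι (hI.symm ▸ hC.1)
    haveI := Component.geometricallyIrreducible_component G I.subschemeι (hI.symm ▸ hC) (hI.symm ▸ mem_connectedComponent)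
    haveI : IrreducibleSpace ↥(pullback (I.subschemeι ≫ G.hom) (I.subschemeι ≫ G.hom)) := inferInstance
    let j : pullback (I.subschemeι ≫ G.hom) (I.subschemeι ≫ G.hom) ⟶ (G ⊗ G).left :=
      pullback.map _ _ G.hom G.hom I.subschemeι I.subschemeι (𝟙 _) (by simp) (by simp)
    have hj : Set.range j = (fst G G).left ⁻¹' C ∩ (snd G G).left ⁻¹' C := by
      rw [Scheme.Pullback.range_map, hI]; rfl
    have hc : _root_.IsConnected (μ[G].left '' Set.range j) :=
      (by rw [← Set.range_comp, ← Set.image_univ]
          exact ((IrreducibleSpace.isIrreducible_univ _).image _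
            (μ[G].left.continuous.comp j.continuous).continuousOn).isConnected)
    refine hc.subset_connectedComponent ?_ ⟨z, hj.symm ▸ ⟨h₁, h₂⟩, rfl⟩
    refine ⟨(lift η[G] η[G]).left (IsLocalRing.closedPoint k), hj.symm ▸ ⟨?_, ?_⟩, ?_⟩
    · rw [Set.mem_preimage, ← Scheme.Hom.comp_apply, ← Over.comp_left, lift_fst]; exact mem_connectedComponent
    · rw [Set.mem_preimage, ← Scheme.Hom.comp_apply, ← Over.comp_left, lift_snd]; exact mem_connectedComponent
    · rw [Component.one, ← Scheme.Hom.comp_apply, ← Over.comp_left]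
      congr 4
      simp [MonObj.mul_eq_mul G, MonObj.comp_mul, MonObj.one_eq_one]

/-- An open subgroup contains the neutral component. -/
theorem component_subset {R : Set G.left} (hR : IsSubgroupSet R) (ho : IsOpen R) : connectedComponent (Component.one G) ⊆ R :=
  IsClopen.connectedComponent_subset ⟨isClosed_of_isOpen hR ho, ho⟩ hR.one_mem

end Field

variable {S : Scheme.{u}} (G : Over S) [GrpObj G]

/-- The fibre of a group as a group. -/
noncomputable abbrev fib (s : S) : Over (Spec (CommRingCat.of (S.residueField s))) :=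
  Red.bc (S.fromSpecResidueField s) G

theorem fiberι_one (s : S) : G.hom.fiberι s (Component.one (fib G s)) = η[G].left s := by
  have h : (η[fib G s]).left ≫ G.hom.fiberι s = S.fromSpecResidueField s ≫ η[G].left := by
    rw [Functor.obj.η_def, Over.comp_left, Category.assoc]
    show _ ≫ ((Over.pullback (S.fromSpecResidueField s)).map η[G]).left ≫ pullback.fst G.hom _ = _
    erw [pullback.lift_fst]
    rw [← Category.assoc]
    congr 1
    simp [Functor.LaxMonoidal.ε]
    have e : pullback.fst (𝟙 S) (S.fromSpecResidueField s) =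
        (Functor.OplaxMonoidal.η (Over.pullback (S.fromSpecResidueField s))).left ≫ S.fromSpecResidueField s := by
      have hw := Over.w (Functor.OplaxMonoidal.η (Over.pullback (S.fromSpecResidueField s)))
      have hc := pullback.condition (f := 𝟙 S) (g := S.fromSpecResidueField s)
      rw [Category.comp_id] at hc
      exact hc.trans (congrArg (· ≫ _) (hw.symm.trans (Category.comp_id _)))
    rw [e, ← Category.assoc, ← Over.comp_left]
    erw [IsIso.inv_hom_id]
    exact Category.id_comp _
  show G.hom.fiberι s ((η[fib G s]).left _) = _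
  refine (congrArg (fun φ => φ (IsLocalRing.closedPoint (S.residueField s))) h).trans ?_
  exact congrArg η[G].left (Scheme.fromSpecResidueField_apply (x := s) _)

/-- The neutral set meets every fibre in the neutral component of that fibre. -/
theorem neutralSet_inter (s : S) :
    SGA3x.neutralSet G ∩ G.hom ⁻¹' {s} = G.hom.fiberι s '' connectedComponent (Component.one (fib G s)) := by
  have hcc : connectedComponentIn (G.hom ⁻¹' {s}) (η[G].left s) =
      G.hom.fiberι s '' connectedComponent (Component.one (fib G s)) := by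
    rw [← fiberι_one G s]
    have hmem : G.hom.fiberι s (Component.one (fib G s)) ∈ G.hom ⁻¹' {s} := by
      rw [← G.hom.range_fiberι]; exact ⟨_, rfl⟩
    rw [connectedComponentIn_eq_image hmem]
    let φ := G.hom.fiberHomeo s
    have h : φ '' connectedComponent (Component.one (fib G s)) = connectedComponent (φ (Component.one (fib G s))) := by
      refine (φ.continuous.image_connectedComponent_subset _).antisymm fun y hy => ⟨φ.symm y, ?_, φ.apply_symm_apply y⟩
      have := φ.symm.continuous.image_connectedComponent_subset (φ (Component.one (fib G s))) ⟨y, hy, rfl⟩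
      rwa [φ.symm_apply_apply] at this
    rw [show (⟨_, hmem⟩ : ↥(G.hom ⁻¹' {s})) = φ (Component.one (fib G s)) from Subtype.ext rfl, ← h, Set.image_image]
    rfl
  ext x
  constructor
  · rintro ⟨hx, hxs⟩
    obtain ⟨p, hp⟩ := Set.mem_iUnion.1 hx
    have hps : (p : S) = s := (connectedComponentIn_subset _ _ hp).symm.trans hxs
    subst hps
    exact hcc ▸ hp
  · intro hx
    refine ⟨Set.mem_iUnion.2 ⟨s, ?_⟩, ?_⟩
    · rw [← hcc] at hx; exact hx
    · rw [← G.hom.range_fiberι]; exact Set.image_subset_range _ _ hx

theorem mem_neutralSet_iff (x : G.left) :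
    x ∈ SGA3x.neutralSet G ↔ x ∈ G.hom.fiberι (G.hom x) '' connectedComponent (Component.one (fib G (G.hom x))) := by
  rw [← neutralSet_inter]
  simp

end Groth.Lead.Neutral

namespace Groth.Lead.Neutral

variable {S : Scheme.{u}} {G H : Over S} [GrpObj G] [GrpObj H] (u : G ⟶ H)

theorem inv_comm {X Y : Over S} [GrpObj X] [GrpObj Y] (f : X ⟶ Y) [IsMonHom f] :
    GrpObj.inv ≫ f = f ≫ GrpObj.inv := by simp

/-- The map on fibres. -/
noncomputable abbrev fibMap (s : S) : fib G s ⟶ fib H s := (Over.pullback (S.fromSpecResidueField s)).map u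

theorem fibMap_comp (s : S) (x : (fib G s).left) :
    u.left (G.hom.fiberι s x) = H.hom.fiberι s ((fibMap u s).left x) := by
  have h : (fibMap u s).left ≫ H.hom.fiberι s = G.hom.fiberι s ≫ u.left := pullback.lift_fst _ _ _
  exact (congrArg (fun φ => φ x) h).symm

/-- A homomorphism maps the neutral set into the neutral set. -/
theorem mapsTo_neutralSet [IsMonHom u] : Set.MapsTo u.left (SGA3x.neutralSet G) (SGA3x.neutralSet H) := by
  intro x hx
  obtain ⟨x', hx', hxe⟩ := (mem_neutralSet_iff G x).1 hx
  let s := G.hom x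
  have hs : H.hom (u.left x) = s := by
    rw [← Scheme.Hom.comp_apply, Over.w u]
  have h1 : (fibMap u s).left (Component.one (fib G s)) = Component.one (fib H s) :=
    congr(($(IsMonHom.one_hom (f := fibMap u s))).left _)
  have hmem : u.left x ∈ H.hom.fiberι s '' connectedComponent (Component.one (fib H s)) := by
    refine ⟨(fibMap u s).left x', h1 ▸ (fibMap u s).left.continuous.image_connectedComponent_subset _ ⟨x', hx', rfl⟩, ?_⟩
    rw [← fibMap_comp, hxe]
  rw [← neutralSet_inter] at hmem
  exact hmem.1

/-- If the image of the neutral component of each fibre is open, the neutral set is covered. -/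
theorem neutralSet_subset_image [IsMonHom u]
    (h : ∀ s : S, IsOpen ((fibMap u s).left '' connectedComponent (Component.one (fib G s)))) :
    SGA3x.neutralSet H ⊆ u.left '' SGA3x.neutralSet G := by
  intro y hy
  obtain ⟨y', hy', hye⟩ := (mem_neutralSet_iff H y).1 hy
  let s := H.hom y
  have hsub : IsSubgroupSet ((fibMap u s).left '' connectedComponent (Component.one (fib G s))) := by
    have hC := component_isSubgroupSet (fib G s)
    have h1 : (fibMap u s).left (Component.one (fib G s)) = Component.one (fib H s) :=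
      congr(($(IsMonHom.one_hom (f := fibMap u s))).left _)
    refine ⟨⟨_, hC.one_mem, h1⟩, fun z hz₁ hz₂ => ?_, ?_⟩
    · obtain ⟨a, ha, hae⟩ := hz₁
      obtain ⟨b, hb, hbe⟩ := hz₂
      let C := connectedComponent (Component.one (fib G s))
      let I := Scheme.IdealSheafData.vanishingIdeal (X := (fib G s).left) ⟨C, isClosed_connectedComponent⟩
      have hI : Set.range I.subschemeι = C := by
        rw [Scheme.IdealSheafData.range_subschemeι, Scheme.IdealSheafData.coe_support_vanishingIdeal]; rfl
      let K : Over (Spec (CommRingCat.of (S.residueField s))) := Over.mk (I.subschemeι ≫ (fib G s).hom)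
      let iK : K ⟶ fib G s := Over.homMk I.subschemeι rfl
      have hiK : Set.range iK.left = C := hI
      have hc : Set.range (iK ≫ fibMap u s).left = (fibMap u s).left '' C := by
        rw [Over.comp_left, Scheme.Hom.comp_base, TopCat.coe_comp, Set.range_comp, hiK]
      have hR : Set.range ((iK ≫ fibMap u s) ⊗ₘ (iK ≫ fibMap u s)).left =
          (fst (fib H s) (fib H s)).left ⁻¹' Set.range (iK ≫ fibMap u s).left ∩
            (snd (fib H s) (fib H s)).left ⁻¹' Set.range (iK ≫ fibMap u s).left :=
        Scheme.Pullback.range_map (f := K.hom) (g := K.hom) (f' := (fib H s).hom) (g' := (fib H s).hom)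
          (i₁ := (iK ≫ fibMap u s).left) (i₂ := (iK ≫ fibMap u s).left) (i₃ := 𝟙 _) (by rw [Category.comp_id]; exact (Over.w _).symm)
          (by rw [Category.comp_id]; exact (Over.w _).symm)
      obtain ⟨w, rfl⟩ : z ∈ Set.range ((iK ≫ fibMap u s) ⊗ₘ (iK ≫ fibMap u s)).left := by
        rw [hR, hc]; exact ⟨⟨a, ha, hae⟩, ⟨b, hb, hbe⟩⟩
      refine ⟨((iK ⊗ₘ iK) ≫ μ[fib G s]).left w, ?_, ?_⟩
      · rw [Over.comp_left, Scheme.Hom.comp_apply]
        refine hC.mul_mem _ ?_ ?_
        · rw [← Scheme.Hom.comp_apply, ← Over.comp_left, tensorHom_fst, Over.comp_left, Scheme.Hom.comp_apply]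
          exact hiK.le ⟨_, rfl⟩
        · rw [← Scheme.Hom.comp_apply, ← Over.comp_left, tensorHom_snd, Over.comp_left, Scheme.Hom.comp_apply]
          exact hiK.le ⟨_, rfl⟩
      · rw [← Scheme.Hom.comp_apply, ← Over.comp_left, Category.assoc, IsMonHom.mul_hom, ← Category.assoc,
          tensorHom_comp_tensorHom, Over.comp_left, Scheme.Hom.comp_apply]
    · rintro _ ⟨a, ha, rfl⟩
      refine ⟨_, hC.inv_mem a ha, ?_⟩
      rw [← Scheme.Hom.comp_apply, ← Scheme.Hom.comp_apply, ← Over.comp_left, ← Over.comp_left,
        inv_comm (fibMap u s)]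
  obtain ⟨x, hx, hxy⟩ := component_subset (fib H s) hsub (h s) hy'
  refine ⟨G.hom.fiberι s x, ?_, ?_⟩
  · exact ((neutralSet_inter G s).ge ⟨x, hx, rfl⟩).1
  · rw [fibMap_comp, hxy]; exact hye

end Groth.Lead.Neutral
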