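import Groth.Agent.Lead.Neutral
import Groth.Agent.L25.Translate

/-!
# The neutral component is covered by products of pairs from a neighbourhood of the unit
-/

set_option autoImplicit false
set_option linter.style.haveILetI false
universe u

open CategoryTheory CategoryTheory.Limits MonoidalCategory CartesianMonoidalCategory MonObj AlgebraicGeometry
open Groth.L25

namespace Groth.Lead.Neutral

theorem exists_qc_open {X : Scheme.{u}} (O : X.Opens) {K : Set X} (hK : IsCompact K) (hKO : K ⊆ (O : Set X)) :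
    ∃ U : X.Opens, IsCompact (U : Set X) ∧ K ⊆ U ∧ U ≤ O := by
  obtain ⟨t, ht⟩ := hK.elim_finite_subcover
    (fun V : {V : X.Opens // IsAffineOpen V ∧ V ≤ O} => ((V : X.Opens) : Set X)) (fun V => V.1.isOpen) (fun x hx => by
      obtain ⟨V, hV, hxV, hVO⟩ := exists_isAffineOpen_mem_and_subset (U := O) (x := x) (hKO hx)
      exact Set.mem_iUnion.2 ⟨⟨V, hV, hVO⟩, hxV⟩)
  refine ⟨⟨⋃ V ∈ t, ((V : X.Opens) : Set X), isOpen_biUnion fun V _ => V.1.isOpen⟩, ?_, ht, ?_⟩
  · exact t.isCompact_biUnion fun V _ => V.2.1.isCompact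
  · exact fun x hx => by
      obtain ⟨V, hV⟩ := Set.mem_iUnion.1 hx
      obtain ⟨_, hxV⟩ := Set.mem_iUnion.1 hV
      exact V.2.2 hxV

theorem exists_mul_eq_component {k : Type u} [Field k] (G : Over (Spec (CommRingCat.of k))) [GrpObj G]
    [LocallyOfFiniteType G.hom] {W : Set G.left} (hW : IsOpen W) (h1 : Component.one G ∈ W)
    {x : G.left} (hx : x ∈ connectedComponent (Component.one G)) :
    ∃ w : (G ⊗ G).left, μ[G].left w = x ∧ (fst G G).left w ∈ W ∧ (snd G G).left w ∈ W := by
  haveI : IsLocallyNoetherian G.left := LocallyOfFiniteType.isLocallyNoetherian G.hom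
  have hCo := Component.isOpen_of_mem G (component_mem G)
  have hC := component_isSubgroupSet G
  let C := connectedComponent (Component.one G)
  have hirr : IsIrreducible C := (component_mem G).1
  have hD : Dense ((W ∩ C) ∪ Cᶜ) := fun y => by
    rw [closure_union]
    by_cases hy : y ∈ C
    · exact Or.inl (mem_closure_iff.2 fun O hO hyO => by
        obtain ⟨z, hzC, hzO, hzW⟩ := hirr.2 O W hO hW ⟨y, hy, hyO⟩ ⟨_, mem_connectedComponent, h1⟩
        exact ⟨z, hzO, hzW, hzC⟩)
    · exact Or.inr (subset_closure hy)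
  have hne : ((fst G (Translate.pts x)).left ⁻¹' (W ∩ C)).Nonempty := by
    obtain ⟨z, hz⟩ := (Translate.fst_props x).2.1 (Component.one G)
    exact ⟨z, by rw [Set.mem_preimage, hz]; exact ⟨h1, mem_connectedComponent⟩⟩
  obtain ⟨z, hz1, hz2⟩ := (hD.preimage (Translate.psi_props x).1).inter_open_nonempty _
    ((hW.inter hCo).preimage (fst G (Translate.pts x)).left.continuous) hne
  obtain ⟨w, hw, hf, hs⟩ := Translate.exists_mul_eq x z
  refine ⟨w, hw, hf ▸ hz1.1, ?_⟩
  have hsC : (snd G G).left w ∈ C := by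
    let m : G ⊗ G ⟶ G ⊗ G := lift (fst G G)⁻¹ μ[G]
    have hm : m ≫ μ[G] = snd G G := by
      simp [m, MonObj.mul_eq_mul G, MonObj.comp_mul]
    have := hC.mul_mem (m.left w) (by
        rw [← Scheme.Hom.comp_apply, ← Over.comp_left, lift_fst,
          show (fst G G)⁻¹ = fst G G ≫ GrpObj.inv from Hom.inv_def _, Over.comp_left, Scheme.Hom.comp_apply]
        exact hC.inv_mem _ (hf ▸ hz1.2))
      (by rw [← Scheme.Hom.comp_apply, ← Over.comp_left, lift_snd, hw]; exact hx)
    rwa [← Scheme.Hom.comp_apply, ← Over.comp_left, hm] at this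
  rcases hz2 with h | h
  · exact hs ▸ h.1
  · exact absurd hsC (hs ▸ h)

variable {S : Scheme.{u}} (G : Over S) [GrpObj G]

/-- The neutral set over `V` is contained in `U * U`, for `U` open containing the unit section over `V`. -/
theorem inter_subset_mul (hG : ∀ s : S, LocallyOfFiniteType (G.hom.fiberToSpecResidueField s))
    {V : Set S} {U : Set G.left} (hU : IsOpen U) (h1 : ∀ s ∈ V, η[G].left s ∈ U) :
    SGA3x.neutralSet G ∩ G.hom ⁻¹' V ⊆ μ[G].left '' ((fst G G).left ⁻¹' U ∩ (snd G G).left ⁻¹' U) := by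
  rintro x ⟨hx, hxV⟩
  obtain ⟨x', hx', hxe⟩ := (mem_neutralSet_iff G x).1 hx
  let s := G.hom x
  haveI : LocallyOfFiniteType (fib G s).hom := hG s
  let F := Over.pullback (S.fromSpecResidueField s)
  obtain ⟨w, hw, hw1, hw2⟩ := exists_mul_eq_component (fib G s) (hU.preimage (G.hom.fiberι s).continuous)
    (by show G.hom.fiberι s (Component.one (fib G s)) ∈ U; erw [fiberι_one]; exact h1 s hxV) hx'
  let ν : (fib G s ⊗ fib G s).left ⟶ (G ⊗ G).left :=
    (Functor.LaxMonoidal.μ F G G).left ≫ pullback.fst (G ⊗ G).hom (S.fromSpecResidueField s)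
  have key : ∀ φ : G ⊗ G ⟶ G, ν ≫ φ.left = (Functor.LaxMonoidal.μ F G G ≫ F.map φ).left ≫ G.hom.fiberι s := fun φ => by
    rw [Over.comp_left, Category.assoc, Category.assoc]
    exact congrArg _ (pullback.lift_fst _ _ _).symm
  refine ⟨ν w, ⟨?_, ?_⟩, ?_⟩
  · rw [Set.mem_preimage, ← Scheme.Hom.comp_apply, key, Functor.Monoidal.μ_fst, Scheme.Hom.comp_apply]
    exact hw1
  · rw [Set.mem_preimage, ← Scheme.Hom.comp_apply, key, Functor.Monoidal.μ_snd, Scheme.Hom.comp_apply]
    exact hw2
  · rw [← Scheme.Hom.comp_apply, key, ← Functor.obj.μ_def, Scheme.Hom.comp_apply]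
    exact (congrArg (G.hom.fiberι s) hw).trans hxe

/-- `U * U` is compact if `U` is compact over a monomorphism. -/
theorem isCompact_mul {U : G.left.Opens} (hU : IsCompact (U : Set G.left)) {V : Scheme.{u}} (a : (U : Scheme.{u}) ⟶ V)
    (m : V ⟶ S) [Mono m] (e : a ≫ m = U.ι ≫ G.hom) [QuasiCompact a] :
    IsCompact (μ[G].left '' ((fst G G).left ⁻¹' (U : Set G.left) ∩ (snd G G).left ⁻¹' (U : Set G.left))) := by
  haveI : CompactSpace (U : Scheme.{u}) := isCompact_iff_compactSpace.1 hU
  haveI : CompactSpace ↥(pullback a a) :=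
    QuasiCompact.compactSpace_of_compactSpace (pullback.fst a a)
  let j : pullback a a ⟶ (G ⊗ G).left := pullback.map a a G.hom G.hom U.ι U.ι m e e
  have hj : Set.range j = (fst G G).left ⁻¹' (U : Set G.left) ∩ (snd G G).left ⁻¹' (U : Set G.left) := by
    rw [Scheme.Pullback.range_map, Scheme.Opens.range_ι]; rfl
  rw [← hj]
  exact (isCompact_range j.continuous).image μ[G].left.continuous

end Groth.Lead.Neutral
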