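import Groth.Agent.S16104
import Groth.Agent.S9566
import Groth.Agent.L02.An.Germ.FlatBij
import Mathlib.AlgebraicGeometry.Stalk
import Mathlib.Algebra.Algebra.Subalgebra.Basic
import Mathlib.RingTheory.Nakayama

/-!
# The power map of a group scheme over a field is etale at the unit, in degree prime to the characteristic

On points with values in `B = 𝒪_e / 𝔪²` the group law is addition (Eckmann–Hilton), so the power map
multiplies the cotangent space by `n`.
-/

set_option autoImplicit false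
universe u
open CategoryTheory CategoryTheory.Limits MonoidalCategory CartesianMonoidalCategory MonObj AlgebraicGeometry IsLocalRing

namespace Groth.Lead.PowEtale

variable {k : Type u} [Field k]

/-- The spectrum of a `k`-algebra over `k`. -/
noncomputable abbrev ob (k : Type u) [Field k] (R : Type u) [CommRing R] [Algebra k R] :
    Over (Spec (CommRingCat.of k)) :=
  Over.mk (Spec.map (CommRingCat.ofHom (algebraMap k R)))

/-- The morphism of spectra given by a map of `k`-algebras. -/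
noncomputable abbrev sMap {R R' : Type u} [CommRing R] [Algebra k R] [CommRing R'] [Algebra k R']
    (φ : R →ₐ[k] R') : ob k R' ⟶ ob k R :=
  Over.homMk (Spec.map (CommRingCat.ofHom φ.toRingHom)) (by
    show Spec.map _ ≫ Spec.map _ = Spec.map _
    rw [← Spec.map_comp, ← CommRingCat.ofHom_comp]
    exact congrArg (fun f => Spec.map (CommRingCat.ofHom f)) φ.comp_algebraMap)

theorem sMap_comp {R R' R'' : Type u} [CommRing R] [Algebra k R] [CommRing R'] [Algebra k R'] [CommRing R'']
    [Algebra k R''] (φ : R →ₐ[k] R') (ψ : R' →ₐ[k] R'') : sMap ψ ≫ sMap φ = sMap (ψ.comp φ) := by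
  ext1
  show Spec.map _ ≫ Spec.map _ = Spec.map _
  rw [← Spec.map_comp, ← CommRingCat.ofHom_comp]
  rfl

theorem sMap_id (R : Type u) [CommRing R] [Algebra k R] : sMap (AlgHom.id k R) = 𝟙 (ob k R) := by
  ext1
  exact Spec.map_id _

/-- Points with values in a local ring are determined by their images in jointly injective local quotients. -/
theorem point_ext {X : Scheme.{u}} {R R₁ R₂ : CommRingCat.{u}} [IsLocalRing R] [IsLocalRing R₁] [IsLocalRing R₂]
    (p₁ : R ⟶ R₁) (p₂ : R ⟶ R₂) [IsLocalHom p₁.hom] [IsLocalHom p₂.hom]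
    (hp : ∀ a b, p₁ a = p₁ b → p₂ a = p₂ b → a = b) (f g : Spec R ⟶ X)
    (h₁ : Spec.map p₁ ≫ f = Spec.map p₁ ≫ g) (h₂ : Spec.map p₂ ≫ f = Spec.map p₂ ≫ g) : f = g := by
  obtain ⟨⟨y, h, hl⟩, rfl⟩ := (SpecToEquivOfLocalRing X R).symm.surjective f
  obtain ⟨⟨y', h', hl'⟩, rfl⟩ := (SpecToEquivOfLocalRing X R).symm.surjective g
  change Spec.map p₁ ≫ Spec.map h ≫ _ = Spec.map p₁ ≫ Spec.map h' ≫ _ at h₁
  change Spec.map p₂ ≫ Spec.map h ≫ _ = Spec.map p₂ ≫ Spec.map h' ≫ _ at h₂
  rw [← Spec.map_comp_assoc, ← Spec.map_comp_assoc] at h₁ h₂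
  have c₁ := (SpecToEquivOfLocalRing X R₁).symm.injective
    (a₁ := ⟨y, h ≫ p₁, by haveI := hl; exact RingHom.isLocalHom_comp p₁.hom h.hom⟩)
    (a₂ := ⟨y', h' ≫ p₁, by haveI := hl'; exact RingHom.isLocalHom_comp p₁.hom h'.hom⟩) h₁
  have c₂ := (SpecToEquivOfLocalRing X R₂).symm.injective
    (a₁ := ⟨y, h ≫ p₂, by haveI := hl; exact RingHom.isLocalHom_comp p₂.hom h.hom⟩)
    (a₂ := ⟨y', h' ≫ p₂, by haveI := hl'; exact RingHom.isLocalHom_comp p₂.hom h'.hom⟩) h₂
  obtain rfl : y = y' := congrArg Sigma.fst c₁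
  have d₁ : h ≫ p₁ = h' ≫ p₁ := congrArg Subtype.val (eq_of_heq (Sigma.mk.inj c₁).2)
  have d₂ : h ≫ p₂ = h' ≫ p₂ := congrArg Subtype.val (eq_of_heq (Sigma.mk.inj c₂).2)
  have : h = h' := CommRingCat.hom_ext <| RingHom.ext fun a => hp _ _
    (congr($(d₁) a)) (congr($(d₂) a))
  subst this
  rfl

theorem range_eq {X : Scheme.{u}} {R : CommRingCat.{u}} [IsLocalRing R]
    (p q : Σ y : X, { f : X.presheaf.stalk y ⟶ R // IsLocalHom f.hom }) (h : p = q) :
    Set.range p.2.1.hom = Set.range q.2.1.hom := by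
  subst h; rfl

theorem length_eq {X : Scheme.{u}} {y x : X} (h : y = x) (n : ℕ) :
    Module.length (X.presheaf.stalk y) (X.presheaf.stalk y ⧸ maximalIdeal (X.presheaf.stalk y) ^ n) =
      Module.length (X.presheaf.stalk x) (X.presheaf.stalk x ⧸ maximalIdeal (X.presheaf.stalk x) ^ n) := by
  subst h; rfl

variable (G : Over (Spec (CommRingCat.of k))) [GrpObj G]

/-- The unit point. -/
noncomputable abbrev unitPt : G.left := (η[G]).left (closedPoint k)

theorem pow_stalk (n : ℕ) (hn : (n : k) ≠ 0) :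
    ((𝟙 G : G ⟶ G) ^ n).left (unitPt G) = unitPt G ∧
    Function.Surjective ((Ideal.Quotient.mk (maximalIdeal (G.left.presheaf.stalk (unitPt G)) ^ 2)).comp
      (((𝟙 G : G ⟶ G) ^ n).left.stalkMap (unitPt G)).hom) := by
  let u : G ⟶ G := (𝟙 G) ^ n
  let x : G.left := unitPt G
  let O := G.left.presheaf.stalk x
  let α : CommRingCat.of k ⟶ O := Spec.preimage (G.left.fromSpecStalk x ≫ G.hom)
  letI : Algebra k O := α.hom.toAlgebra
  have hα : Spec.map (CommRingCat.ofHom (algebraMap k O)) = G.left.fromSpecStalk x ≫ G.hom :=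
    Spec.map_preimage _
  let res : O ⟶ CommRingCat.of k := Scheme.stalkClosedPointTo η[G].left
  have hres : Spec.map res ≫ G.left.fromSpecStalk x = η[G].left := Scheme.Spec_stalkClosedPointTo_fromSpecStalk _
  have hresk : ∀ c : k, res (algebraMap k O c) = c := fun c => by
    have h : CommRingCat.ofHom (algebraMap k O) ≫ res = 𝟙 (CommRingCat.of k) := by
      apply Spec.map_injective
      rw [Spec.map_comp, hα, ← Category.assoc, hres, Spec.map_id]
      exact Over.w η[G]
    exact congr($h c)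
  haveI hloc : IsLocalHom res.hom := inferInstanceAs (IsLocalHom (Scheme.stalkClosedPointTo η[G].left).hom)
  let resA : O →ₐ[k] k := ⟨res.hom, hresk⟩
  let m := maximalIdeal O
  have hm : ∀ a, a ∈ m ↔ resA a = 0 := fun a => by
    constructor
    · intro ha
      by_contra hne
      exact ha ((isUnit_map_iff res.hom a).1 (Ne.isUnit hne))
    · intro h0 hu
      exact (hu.map res.hom).ne_zero h0
  let B := O ⧸ m ^ 2
  haveI : Nontrivial B := Ideal.Quotient.nontrivial_iff.mpr fun h => by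
    have := Ideal.pow_le_self (I := m) two_ne_zero
    rw [h, top_le_iff] at this
    exact (maximalIdeal.isMaximal O).ne_top this
  haveI : IsLocalRing B := .of_surjective' (Ideal.Quotient.mk (m ^ 2)) Ideal.Quotient.mk_surjective
  let resB : B →ₐ[k] k := Ideal.Quotient.liftₐ (m ^ 2) resA fun a ha => (hm a).1 (Ideal.pow_le_self two_ne_zero ha)
  have hresB : ∀ a : O, resB (Ideal.Quotient.mk _ a) = res a := fun a => rfl
  haveI : IsLocalHom resB.toRingHom := ⟨fun b hb => by
    obtain ⟨a, rfl⟩ := Ideal.Quotient.mk_surjective b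
    exact ((isUnit_map_iff res.hom a).1 hb).map _⟩
  let ε : B →ₐ[k] B := (Algebra.ofId k B).comp resB
  have hεk : ∀ b, resB (ε b) = resB b := fun b => resB.commutes _
  have hεε : ∀ b, ε (ε b) = ε b := fun b => congrArg (algebraMap k B) (hεk b)
  have sq0 : ∀ b b', (b - ε b) * (b' - ε b') = 0 := fun b b' => by
    obtain ⟨a, rfl⟩ := Ideal.Quotient.mk_surjective b
    obtain ⟨a', rfl⟩ := Ideal.Quotient.mk_surjective b'
    have e : ∀ c, ε (Ideal.Quotient.mk _ c) = Ideal.Quotient.mk (m ^ 2) (algebraMap k O (res c)) := fun c => rfl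
    rw [e, e, ← map_sub, ← map_sub, ← map_mul, Ideal.Quotient.eq_zero_iff_mem, pow_two]
    refine Ideal.mul_mem_mul ((hm _).2 ?_) ((hm _).2 ?_)
    all_goals rw [map_sub, AlgHom.commutes]; exact sub_self _
  let e : ℕ → (B →ₐ[k] B) := fun j =>
    { toFun := fun b => ε b + (j : B) * (b - ε b)
      map_one' := by simp
      map_mul' := fun b b' => by
        simp only [map_mul]
        linear_combination ((j : B) - (j : B) ^ 2) * sq0 b b'
      map_zero' := by simp
      map_add' := fun b b' => by simp only [map_add]; ring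
      commutes' := fun c => by simp }
  have heε : e 0 = ε := AlgHom.ext fun b => by show ε b + _ = _; simp
  -- the first order points of `G`
  let ι₂ : ob k B ⟶ G := Over.homMk (Spec.map (CommRingCat.ofHom (Ideal.Quotient.mk (m ^ 2))) ≫ G.left.fromSpecStalk x)
    (by
      show (_ ≫ _) ≫ G.hom = Spec.map _
      rw [Category.assoc, ← hα, ← Spec.map_comp]
      rfl)
  have hone : sMap resB ≫ ι₂ = 1 := by
    show sMap resB ≫ ι₂ = toUnit _ ≫ η[G]
    ext1
    show Spec.map _ ≫ Spec.map _ ≫ G.left.fromSpecStalk x = (toUnit (ob k k)).left ≫ η[G].left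
    rw [← Spec.map_comp_assoc, show (toUnit (ob k k)).left = 𝟙 _ from (Over.toUnit_left).trans (Spec.map_id _)]
    exact hres.trans (Category.id_comp _).symm
  have hε1 : sMap ε ≫ ι₂ = 1 := by
    rw [show sMap ε = sMap (Algebra.ofId k B) ≫ sMap resB from (sMap_comp resB (Algebra.ofId k B)).symm,
      Category.assoc, hone, MonObj.comp_one]
  -- the ring of pairs
  let R₂ : Subalgebra k (B × B) := AlgHom.equalizer (resB.comp (AlgHom.fst k B B)) (resB.comp (AlgHom.snd k B B))
  have hR : ∀ b : B × B, b ∈ R₂ ↔ resB b.1 = resB b.2 := fun b => Iff.rfl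
  let π₁ : R₂ →ₐ[k] B := (AlgHom.fst k B B).comp R₂.val
  let π₂ : R₂ →ₐ[k] B := (AlgHom.snd k B B).comp R₂.val
  have hR' : ∀ a : R₂, resB (π₁ a) = resB (π₂ a) := fun a => (hR _).1 a.2
  have hunit : ∀ a : R₂, resB (π₁ a) ≠ 0 → IsUnit a := fun a ha => by
    obtain ⟨v, hv⟩ := (isUnit_map_iff resB.toRingHom (π₁ a)).1 (Ne.isUnit ha)
    obtain ⟨w, hw⟩ := (isUnit_map_iff resB.toRingHom (π₂ a)).1 (Ne.isUnit (show resB (π₂ a) ≠ 0 by
      rw [← hR' a]; exact ha))
    refine IsUnit.of_mul_eq_one ⟨((↑v⁻¹ : B), (↑w⁻¹ : B)), (hR _).2 ?_⟩ (Subtype.ext (Prod.ext ?_ ?_))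
    · refine mul_left_cancel₀ ha ?_
      show resB (π₁ a) * resB ↑v⁻¹ = resB (π₁ a) * resB ↑w⁻¹
      conv_rhs => rw [hR' a]
      rw [← map_mul, ← map_mul, ← hv, ← hw, Units.mul_inv, Units.mul_inv]
    · show π₁ a * _ = 1
      exact (congrArg (· * (↑v⁻¹ : B)) hv.symm).trans (Units.mul_inv v)
    · show π₂ a * _ = 1
      exact (congrArg (· * (↑w⁻¹ : B)) hw.symm).trans (Units.mul_inv w)
  haveI : Nontrivial R₂ := π₁.toRingHom.domain_nontrivial
  haveI : IsLocalRing R₂ := IsLocalRing.of_isUnit_or_isUnit_one_sub_self fun a => by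
    by_cases h : resB (π₁ a) = 0
    · exact Or.inr (hunit _ (by rw [map_sub, map_one, map_sub, map_one, h, sub_zero]; exact one_ne_zero))
    · exact Or.inl (hunit _ h)
  haveI : IsLocalHom π₁.toRingHom := ⟨fun a ha => hunit a (ha.map resB).ne_zero⟩
  haveI : IsLocalHom π₂.toRingHom := ⟨fun a ha => hunit a (by rw [hR' a]; exact (ha.map resB).ne_zero)⟩
  have mkR : ∀ (p q : B →ₐ[k] B), (∀ b, resB (p b) = resB (q b)) → ∃ d : B →ₐ[k] R₂, π₁.comp d = p ∧ π₂.comp d = q :=
    fun p q h => ⟨(p.prod q).codRestrict R₂ fun b => (hR _).2 (h b), rfl, rfl⟩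
  have hres_e : ∀ j b, resB (e j b) = resB b := fun j b => by
    show resB (ε b + _) = _
    rw [map_add, map_mul, map_sub, hεk, sub_self, mul_zero, add_zero]
  obtain ⟨i₁, hi₁, hi₁'⟩ := mkR (AlgHom.id k B) ε fun b => (hεk b).symm
  obtain ⟨i₂, hi₂, hi₂'⟩ := mkR ε (AlgHom.id k B) hεk
  let σ : R₂ →ₐ[k] B :=
    { toFun := fun a => π₁ a + π₂ a - ε (π₁ a)
      map_one' := by simp
      map_mul' := fun a a' => by
        simp only [map_mul]
        have h : ∀ c : R₂, ε (π₁ c) = ε (π₂ c) := fun c => congrArg (algebraMap k B) ((hR _).1 c.2)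
        have h₁ := sq0 (π₁ a) (π₂ a')
        have h₂ := sq0 (π₂ a) (π₁ a')
        rw [← h a'] at h₁
        rw [← h a] at h₂
        linear_combination -h₁ - h₂
      map_zero' := by simp
      map_add' := fun a a' => by simp only [map_add]; ring
      commutes' := fun c => by simp }
  have hσ₁ : σ.comp i₁ = AlgHom.id k B := AlgHom.ext fun b => by
    show π₁ (i₁ b) + π₂ (i₁ b) - ε (π₁ (i₁ b)) = b
    rw [show π₁ (i₁ b) = b from congr($hi₁ b), show π₂ (i₁ b) = ε b from congr($hi₁' b)]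
    ring
  have hσ₂ : σ.comp i₂ = AlgHom.id k B := AlgHom.ext fun b => by
    show π₁ (i₂ b) + π₂ (i₂ b) - ε (π₁ (i₂ b)) = b
    rw [show π₁ (i₂ b) = ε b from congr($hi₂ b), show π₂ (i₂ b) = b from congr($hi₂' b), hεε]
    ring
  have hpow : ∀ j, ι₂ ^ j = sMap (e j) ≫ ι₂ := fun j => by
    induction j with
    | zero => rw [pow_zero, heε, hε1]
    | succ j ih =>
      obtain ⟨d, hd, hd'⟩ := mkR (e j) (AlgHom.id k B) (hres_e j)
      have key : (sMap i₁ ≫ sMap (e j) ≫ ι₂) * (sMap i₂ ≫ ι₂) = sMap d ≫ ι₂ := by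
        refine Over.OverMorphism.ext (point_ext (CommRingCat.ofHom π₁.toRingHom) (CommRingCat.ofHom π₂.toRingHom)
          (fun a b h h' => Subtype.ext (Prod.ext h h')) _ _ ?_ ?_)
        · have : sMap π₁ ≫ ((sMap i₁ ≫ sMap (e j) ≫ ι₂) * (sMap i₂ ≫ ι₂)) = sMap π₁ ≫ sMap d ≫ ι₂ := by
            rw [MonObj.comp_mul, ← Category.assoc, ← Category.assoc (sMap π₁) (sMap i₂), ← Category.assoc (sMap π₁) (sMap d),
              sMap_comp, sMap_comp, sMap_comp, hi₁, hi₂, hd, hε1, _root_.mul_one, sMap_id, Category.id_comp]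
          exact congr(($this).left)
        · have : sMap π₂ ≫ ((sMap i₁ ≫ sMap (e j) ≫ ι₂) * (sMap i₂ ≫ ι₂)) = sMap π₂ ≫ sMap d ≫ ι₂ := by
            rw [MonObj.comp_mul, ← Category.assoc, ← Category.assoc (sMap π₂) (sMap i₂), ← Category.assoc (sMap π₂) (sMap d),
              sMap_comp, sMap_comp, sMap_comp, hi₁', hi₂', hd', sMap_id, Category.id_comp, ← Category.assoc,
              sMap_comp]
            have : ε.comp (e j) = ε := AlgHom.ext fun b => congrArg (algebraMap k B) (hres_e j b)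
            rw [this, hε1, _root_.one_mul]
          exact congr(($this).left)
      have hσd : σ.comp d = e (j + 1) := AlgHom.ext fun b => by
        show π₁ (d b) + π₂ (d b) - ε (π₁ (d b)) = ε b + _
        rw [show π₁ (d b) = e j b from congr($hd b), show π₂ (d b) = b from congr($hd' b),
          show ε (e j b) = ε b from congrArg (algebraMap k B) (hres_e j b)]
        show ε b + (j : B) * (b - ε b) + b - ε b = _
        push_cast; ring
      calc ι₂ ^ (j + 1) = (sMap (e j) ≫ ι₂) * ι₂ := by rw [pow_succ ι₂ j, ih]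
        _ = sMap σ ≫ ((sMap i₁ ≫ sMap (e j) ≫ ι₂) * (sMap i₂ ≫ ι₂)) := by
          rw [MonObj.comp_mul, ← Category.assoc, ← Category.assoc (sMap σ) (sMap i₂), sMap_comp, sMap_comp,
            hσ₁, hσ₂, sMap_id, Category.id_comp, Category.id_comp]
        _ = sMap (e (j + 1)) ≫ ι₂ := by rw [key, ← Category.assoc, sMap_comp, hσd]
  have hu : ι₂ ≫ u = sMap (e n) ≫ ι₂ := by
    rw [← hpow n]
    have : ∀ j : ℕ, ι₂ ≫ ((𝟙 G : G ⟶ G) ^ j) = ι₂ ^ j := fun j => by
      induction j with
      | zero => rw [pow_zero, pow_zero, MonObj.comp_one]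
      | succ j ih => rw [pow_succ ι₂ j, pow_succ (𝟙 G : G ⟶ G) j, MonObj.comp_mul, ih, Category.comp_id]
    exact this n
  -- back to local rings
  let q : O ⟶ CommRingCat.of B := CommRingCat.ofHom (Ideal.Quotient.mk (m ^ 2))
  haveI : IsLocalHom q.hom := IsLocalHom.of_surjective (Ideal.Quotient.mk (maximalIdeal O ^ 2)) Ideal.Quotient.mk_surjective
  haveI : IsLocalHom (e n).toRingHom := ⟨fun b hb => by
    have := hb.map resB
    rw [show resB ((e n).toRingHom b) = resB b from hres_e n b] at this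
    exact (isUnit_map_iff resB.toRingHom b).1 this⟩
  have E : Spec.map (u.left.stalkMap x ≫ q) ≫ G.left.fromSpecStalk (u.left x) =
      Spec.map (q ≫ CommRingCat.ofHom (e n).toRingHom) ≫ G.left.fromSpecStalk x := by
    have h : (Spec.map q ≫ G.left.fromSpecStalk x) ≫ u.left =
        Spec.map (CommRingCat.ofHom (e n).toRingHom) ≫ Spec.map q ≫ G.left.fromSpecStalk x := congr(($hu).left)
    rw [Spec.map_comp, Spec.map_comp, Category.assoc, Category.assoc, ← h, Category.assoc,
      Scheme.SpecMap_stalkMap_fromSpecStalk]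
  have c := (SpecToEquivOfLocalRing G.left (CommRingCat.of B)).symm.injective
    (a₁ := ⟨u.left x, u.left.stalkMap x ≫ q, RingHom.isLocalHom_comp q.hom (u.left.stalkMap x).hom⟩)
    (a₂ := ⟨x, q ≫ CommRingCat.ofHom (e n).toRingHom, RingHom.isLocalHom_comp (e n).toRingHom q.hom⟩) E
  refine ⟨congrArg Sigma.fst c, fun b => ?_⟩
  have hb : b ∈ Set.range (q ≫ CommRingCat.ofHom (e n).toRingHom).hom := by
    obtain ⟨a, ha⟩ := Ideal.Quotient.mk_surjective (ε b + algebraMap k B (n : k)⁻¹ * (b - ε b))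
    refine ⟨a, ?_⟩
    show e n (Ideal.Quotient.mk (m ^ 2) a) = b
    rw [ha]
    show ε _ + (n : B) * (_ - ε _) = b
    simp only [map_add, map_mul, map_sub, hεε, sub_self, mul_zero, add_zero, add_sub_cancel_left]
    rw [← _root_.mul_assoc, ← map_natCast (algebraMap k B) n, ← map_mul, mul_inv_cancel₀ hn, map_one]
    ring
  rwa [← range_eq _ _ c] at hb

theorem etale_nhd [LocallyOfFiniteType G.hom] (n : ℕ) (hn : (n : k) ≠ 0) :
    ∃ U : G.left.Opens, unitPt G ∈ U ∧ Etale (U.ι ≫ ((𝟙 G : G ⟶ G) ^ n).left) := by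
  obtain ⟨hx, h1⟩ := pow_stalk G n hn
  let u : G ⟶ G := (𝟙 G) ^ n
  let x := unitPt G
  haveI : IsLocallyNoetherian G.left := LocallyOfFiniteType.isLocallyNoetherian G.hom
  haveI : LocallyOfFiniteType u.left := by
    haveI : LocallyOfFiniteType (u.left ≫ G.hom) := by rw [Over.w]; infer_instance
    exact locallyOfFiniteType_of_comp u.left G.hom
  have hpow := fun j => Groth.Agent.S16104.result (G.left.presheaf.stalk (u.left x)) (G.left.presheaf.stalk x)
    (u.left.stalkMap x).hom h1 (fun j => length_eq hx (j + 1)) j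
  have hmap : (maximalIdeal (G.left.presheaf.stalk (u.left x))).map (u.left.stalkMap x).hom =
      maximalIdeal (G.left.presheaf.stalk x) := by
    refine le_antisymm (Ideal.map_le_iff_le_comap.2 fun a ha => map_nonunit (u.left.stalkMap x).hom a ha) ?_
    refine Submodule.le_of_le_smul_of_le_jacobson_bot (I := maximalIdeal (G.left.presheaf.stalk x))
      (IsNoetherian.noetherian _) (IsLocalRing.maximalIdeal_le_jacobson _) fun b hb => ?_
    obtain ⟨a, ha⟩ := h1 (Ideal.Quotient.mk _ b)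
    rw [RingHom.comp_apply, Ideal.Quotient.eq] at ha
    have ha' : a ∈ maximalIdeal (G.left.presheaf.stalk (u.left x)) := by
      refine fun hu => hb ?_
      by_contra hb'
      have : (u.left.stalkMap x).hom a ∈ maximalIdeal (G.left.presheaf.stalk x) := by
        have := Ideal.add_mem _ (Ideal.pow_le_self two_ne_zero ha) (show b ∈ maximalIdeal _ from hb')
        rwa [sub_add_cancel] at this
      exact this (hu.map _)
    rw [show b = (u.left.stalkMap x).hom a - ((u.left.stalkMap x).hom a - b) by ring]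
    refine Submodule.sub_mem _ (Submodule.mem_sup_left (Ideal.mem_map_of_mem _ ha')) (Submodule.mem_sup_right ?_)
    rwa [Ideal.smul_eq_mul, ← pow_two]
  refine (Groth.Agent.S9566.result u.left x).2 ⟨?_, hmap, ?_⟩
  · letI := (u.left.stalkMap x).hom.toAlgebra
    refine Groth.L02.An.flat_of_bijective_pow hmap.le (fun j b => ?_) fun j a ha => ?_
    · rcases j with _ | j
      · exact ⟨0, by simp⟩
      obtain ⟨a, ha⟩ := (hpow j).1 (Ideal.Quotient.mk _ b)
      exact ⟨a, Ideal.Quotient.eq.1 ha.symm⟩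
    · rcases j with _ | j
      · simp
      · rw [← (hpow j).2]
        exact Ideal.Quotient.eq_zero_iff_mem.2 ha
  · letI := (u.left.residueFieldMap x).hom.toAlgebra
    have hs : Function.Surjective (algebraMap (G.left.residueField (u.left x)) (G.left.residueField x)) := fun c => by
      obtain ⟨b, rfl⟩ := IsLocalRing.residue_surjective c
      obtain ⟨a, ha⟩ := h1 (Ideal.Quotient.mk _ b)
      refine ⟨residue _ a, ?_⟩
      show residue _ ((u.left.stalkMap x).hom a) = residue _ b
      exact Ideal.Quotient.eq.2 (Ideal.pow_le_self two_ne_zero (Ideal.Quotient.eq.1 ha))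
    refine ⟨Module.Finite.of_surjective (Algebra.linearMap _ _) hs, ⟨fun c => ?_⟩⟩
    obtain ⟨a, rfl⟩ := hs c
    exact isSeparable_algebraMap a

end Groth.Lead.PowEtale
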