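import Groth.Agent.L07.GeomRedPerfect
import Groth.Prelude.Def_Curv2

/-!
Geometric reducedness at a point of a scheme over a field: local rings, generisations, generic points,
extensions of the base field.
-/

universe u

open CategoryTheory CategoryTheory.Limits AlgebraicGeometry TensorProduct

namespace Groth.Lead.GeomRedVariety

set_option autoImplicit false
set_option linter.style.haveILetI false
set_option maxSynthPendingDepth 3
set_option backward.isDefEq.respectTransparency.types false
set_option backward.isDefEq.respectTransparency false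

open Groth.L07.FlatGeomReduced

variable {k : Type u} [Field k]

theorem ker_eq_comap {C : Type u} [CommRing C] [Algebra k C] (L : Type u) [Field L] [Algebra k L]
    (𝔮 : Ideal C) [𝔮.IsPrime] : RingHom.ker (algebraMap k L) = 𝔮.comap (algebraMap k C) := by
  rw [(RingHom.injective_iff_ker_eq_bot _).mp (algebraMap k L).injective]
  exact ((Ideal.eq_bot_or_top _).resolve_right (Ideal.IsPrime.comap _).ne_top).symm

/-- A geometrically reduced local ring gives geometric reducedness at all generisations. -/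
theorem geomRedAt_of_le {C : Type u} [CommRing C] [Algebra k C] (𝔮 : Ideal C) [𝔮.IsPrime]
    [Algebra.IsGeometricallyReduced k (Localization.AtPrime 𝔮)] (𝔷 : Ideal C) [𝔷.IsPrime] (hle : 𝔷 ≤ 𝔮) :
    GeomRedAt k 𝔷 := by
  intro L _ _ _ Q _ hQ
  let S := Localization.AtPrime 𝔮
  haveI : _root_.IsReduced (L ⊗[k] S) := Groth.L03.GeomReduced2.isReduced_of_isGeometricallyReduced L
  haveI : _root_.IsReduced (S ⊗[k] L) := isReduced_of_injective (Algebra.TensorProduct.comm k S L).toAlgHom
    (Algebra.TensorProduct.comm k S L).injective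
  obtain ⟨toL, htoL⟩ := exists_toLoc (R := k) 𝔮 Q (hQ.le.trans hle)
  refine ⟨fun x hx => ?_⟩
  obtain ⟨a, s, rfl⟩ := IsLocalization.exists_mk'_eq Q.primeCompl x
  obtain ⟨n, hn⟩ := hx
  rw [← IsLocalization.mk'_pow, IsLocalization.mk'_eq_zero_iff] at hn
  obtain ⟨u, hu⟩ := hn
  have h1 : toS (R := k) 𝔮 L ((u : C ⊗[k] L) * a) = 0 := IsNilpotent.eq_zero ⟨n + 1, by
    rw [← map_pow, mul_pow, pow_succ (u : C ⊗[k] L), pow_succ a,
      show ((u : C ⊗[k] L) ^ n * u) * (a ^ n * a) = (u ^ n * a) * (u * a ^ n) by ring, hu, mul_zero, map_zero]⟩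
  have h2 := congrArg toL h1
  rw [htoL, map_zero, map_mul] at h2
  rw [IsLocalization.mk'_eq_zero_iff]
  obtain ⟨v, hv⟩ := (IsLocalization.map_eq_zero_iff Q.primeCompl (Localization.AtPrime Q) _).mp
    ((IsLocalization.map_units (Localization.AtPrime Q) u).mul_right_eq_zero.mp h2)
  exact ⟨v, hv⟩

/-- Geometric reducedness at a prime means that the local ring is geometrically reduced. -/
theorem geomRedAt_iff {C : Type u} [CommRing C] [Algebra k C] (𝔮 : Ideal C) [𝔮.IsPrime] :
    GeomRedAt k 𝔮 ↔ Algebra.IsGeometricallyReduced k (Localization.AtPrime 𝔮) := by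
  refine ⟨fun h => ?_, fun _ => geomRedAt_of_le 𝔮 𝔮 le_rfl⟩
  rw [Algebra.isGeometricallyReduced_field_iff]
  haveI := isReduced_localTensor 𝔮 h (AlgebraicClosure k) (ker_eq_comap _ 𝔮)
  exact isReduced_of_injective
    (Algebra.TensorProduct.comm k (AlgebraicClosure k) (Localization.AtPrime 𝔮)).toAlgHom
    (Algebra.TensorProduct.comm k _ _).injective

/-- A reduced algebra which is geometrically reduced at its minimal primes has reduced base changes. -/
theorem isReduced_tensor_of_minimalPrimes {C : Type u} [CommRing C] [Algebra k C] [_root_.IsReduced C]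
    (h : ∀ (𝔭 : Ideal C) [𝔭.IsPrime], 𝔭 ∈ minimalPrimes C → GeomRedAt k 𝔭)
    (L : Type u) [Field L] [Algebra k L] : _root_.IsReduced (C ⊗[k] L) := by
  classical
  let b := Module.Free.chooseBasis k L
  let bC := Algebra.TensorProduct.basis C b
  refine ⟨fun z hz => bC.repr.map_eq_zero_iff.mp (Finsupp.ext fun i => ?_)⟩
  rw [Finsupp.zero_apply]
  refine IsReduced.eq_zero _ (nilpotent_iff_mem_prime.mpr fun P hP => ?_)
  obtain ⟨𝔭, h𝔭, hle⟩ := Ideal.exists_minimalPrimes_le (bot_le : (⊥ : Ideal C) ≤ P)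
  haveI : 𝔭.IsPrime := h𝔭.1.1
  let S := Localization.AtPrime 𝔭
  haveI := (geomRedAt_iff 𝔭).mp (h 𝔭 h𝔭)
  haveI : _root_.IsReduced (L ⊗[k] S) := Groth.L03.GeomReduced2.isReduced_of_isGeometricallyReduced L
  haveI : _root_.IsReduced (S ⊗[k] L) := isReduced_of_injective (Algebra.TensorProduct.comm k S L).toAlgHom
    (Algebra.TensorProduct.comm k S L).injective
  let bS := Algebra.TensorProduct.basis S b
  have key : ∀ (w : C ⊗[k] L) (l), bS.repr (toS (R := k) 𝔭 L w) l = algebraMap C S (bC.repr w l) := by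
    intro w l
    induction w using TensorProduct.induction_on with
    | zero => simp
    | tmul a v =>
      simp only [bS, bC, toS, Algebra.TensorProduct.map_tmul, AlgHom.id_apply, IsScalarTower.coe_toAlgHom',
        Algebra.TensorProduct.basis_repr_tmul, Finsupp.smul_apply, Finsupp.mapRange_apply, smul_eq_mul, map_mul,
        ← IsScalarTower.algebraMap_apply k C S]
      rfl
    | add z w hz hw => simp [hz, hw]
  have h0 : toS (R := k) 𝔭 L z = 0 := IsReduced.eq_zero _ (hz.map _)
  have h1 : algebraMap C S (bC.repr z i) = 0 := by rw [← key, h0, map_zero, Finsupp.zero_apply]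
  obtain ⟨u, hu⟩ := (IsLocalization.map_eq_zero_iff 𝔭.primeCompl S _).mp h1
  exact hle ((Ideal.IsPrime.mem_or_mem inferInstance
    (show (u : C) * bC.repr z i ∈ 𝔭 by rw [hu]; exact zero_mem _)).resolve_left u.2)

variable {X : Scheme.{u}}

/-- The structure map to a stalk through an affine chart. -/
theorem stalkMap_eq [X.Over (Spec (CommRingCat.of k))] {V : X.Opens} (hV : IsAffineOpen V) [Algebra k Γ(X, V)]
    (hφ : hV.fromSpec ≫ (X ↘ Spec (CommRingCat.of k)) = Spec.map (CommRingCat.ofHom (algebraMap k Γ(X, V))))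
    (x : X) (hx : x ∈ V) :
    Curv2.stalkMap k X x = (X.presheaf.germ V x hx).hom.comp (algebraMap k Γ(X, V)) := by
  have h : CommRingCat.ofHom (Curv2.stalkMap k X x) =
      CommRingCat.ofHom (algebraMap k Γ(X, V)) ≫ X.presheaf.germ V x hx := by
    apply Spec.map_injective
    rw [Spec.map_comp, ← hφ, ← Category.assoc, ← IsAffineOpen.fromSpecStalk,
      hV.fromSpecStalk_eq_fromSpecStalk hx]
    have hq : (X ↘ Spec (CommRingCat.of k)) = X.toSpecΓ ≫
        Spec.map ((Scheme.ΓSpecIso (CommRingCat.of k)).inv ≫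
          (X ↘ Spec (CommRingCat.of k)).appTop) := by
      rw [Spec.map_comp, ← Scheme.toSpecΓ_naturality_assoc, ← SpecMap_ΓSpecIso_hom, ← Spec.map_comp]
      simp
    conv_rhs => rw [hq]
    rw [Scheme.fromSpecStalk_toSpecΓ_assoc, ← Spec.map_comp, Category.assoc]
    rfl
  exact congrArg CommRingCat.Hom.hom h

attribute [local instance] Curv2.stalkAlgebra

/-- Geometric reducedness at a point in terms of the local ring. -/
theorem isGeomReducedAt_iff_stalk [X.Over (Spec (CommRingCat.of k))] (x : X) :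
    Curv2.IsGeomReducedAt k X x ↔ Algebra.IsGeometricallyReduced k (X.presheaf.stalk x) := by
  obtain ⟨V, hV, hxV, -⟩ := exists_isAffineOpen_mem_and_subset (X := X) (x := x) (U := ⊤) trivial
  obtain ⟨hA, hφV⟩ := Groth.L07.GeomRedField.exists_field_algebra (X ↘ Spec (CommRingCat.of k)) hV
  letI := hA
  refine (Groth.L07.GeomRedField.isGeomReducedAt_iff _ hV hφV x hxV).trans ((geomRedAt_iff _).trans ?_)
  let p := hV.primeIdealOf ⟨x, hxV⟩
  letI : Algebra Γ(X, V) (X.presheaf.stalk x) := TopCat.Presheaf.algebra_section_stalk X.presheaf (⟨x, hxV⟩ : V)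
  haveI : IsLocalization.AtPrime (X.presheaf.stalk x) p.asIdeal := hV.isLocalization_stalk ⟨x, hxV⟩
  let e := IsLocalization.algEquiv p.asIdeal.primeCompl (Localization.AtPrime p.asIdeal) (X.presheaf.stalk x)
  let ek : Localization.AtPrime p.asIdeal ≃ₐ[k] X.presheaf.stalk x :=
    { e.toRingEquiv with
      commutes' := fun r => by
        show e (algebraMap k _ r) = Curv2.stalkMap k X x r
        rw [IsScalarTower.algebraMap_apply k Γ(X, V) (Localization.AtPrime p.asIdeal), e.commutes,
          stalkMap_eq hV hφV x hxV]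
        rfl }
  exact ⟨fun _ => .of_injective ek.symm.toAlgHom ek.symm.injective,
    fun _ => .of_injective ek.toAlgHom ek.injective⟩

/-- Geometric reducedness passes to generisations. -/
theorem isGeomReducedAt_of_specializes (f : X ⟶ Spec (CommRingCat.of k)) {x x' : X} (h : x' ⤳ x)
    (hx : FBase.IsGeomReducedAt f x) : FBase.IsGeomReducedAt f x' := by
  obtain ⟨V, hV, hxV, -⟩ := exists_isAffineOpen_mem_and_subset (X := X) (x := x) (U := ⊤) trivial
  obtain ⟨hA, hφV⟩ := Groth.L07.GeomRedField.exists_field_algebra f hV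
  letI := hA
  have hx'V : x' ∈ V := h.mem_open V.isOpen hxV
  rw [Groth.L07.GeomRedField.isGeomReducedAt_iff f hV hφV x hxV, geomRedAt_iff] at hx
  rw [Groth.L07.GeomRedField.isGeomReducedAt_iff f hV hφV x' hx'V]
  refine geomRedAt_of_le (hV.primeIdealOf ⟨x, hxV⟩).asIdeal _ ?_
  refine (PrimeSpectrum.le_iff_specializes _ _).mpr ?_
  rw [← hV.fromSpec.isOpenEmbedding.toIsEmbedding.isInducing.specializes_iff,
    hV.fromSpec_primeIdealOf, hV.fromSpec_primeIdealOf]
  exact h

/-- Geometric reducedness at all points. -/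
theorem geometricallyReduced_of_forall (f : X ⟶ Spec (CommRingCat.of k))
    (hall : ∀ x, FBase.IsGeomReducedAt f x) : GeometricallyReduced f := by
  refine ⟨fun K _ t Z fst snd hZ => ?_⟩
  obtain ⟨ψ, rfl⟩ := Spec.map_surjective t
  letI : Algebra k K := ψ.hom.toAlgebra
  haveI : ∀ z : FBase.bc f K, _root_.IsReduced ((FBase.bc f K).presheaf.stalk z) :=
    fun z => hall _ K z rfl
  haveI : IsReduced (FBase.bc f K) := isReduced_of_isReduced_stalk _
  exact @isReduced_of_isOpenImmersion _ _ hZ.isoPullback.hom _ ‹IsReduced (FBase.bc f K)›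

theorem forall_of_geometricallyReduced (f : X ⟶ Spec (CommRingCat.of k)) [GeometricallyReduced f] (x : X) :
    FBase.IsGeomReducedAt f x := by
  intro K _ _ z _
  haveI : IsReduced (FBase.bc f K) :=
    GeometricallyReduced.geometrically_isReduced (f := f) _ _ _ (.of_hasPullback _ _)
  infer_instance

/-- A reduced scheme geometrically reduced at its maximal points is geometrically reduced. -/
theorem geometricallyReduced_of_generic (f : X ⟶ Spec (CommRingCat.of k)) [IsReduced X]
    (h : ∀ η : X, (∀ y, y ⤳ η → y = η) → FBase.IsGeomReducedAt f η) : GeometricallyReduced f := by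
  refine geometricallyReduced_of_forall f fun x => ?_
  obtain ⟨V, hV, hxV, -⟩ := exists_isAffineOpen_mem_and_subset (X := X) (x := x) (U := ⊤) trivial
  obtain ⟨hA, hφV⟩ := Groth.L07.GeomRedField.exists_field_algebra f hV
  letI := hA
  rw [Groth.L07.GeomRedField.isGeomReducedAt_iff f hV hφV x hxV]
  intro L _ _ _ Q _ _
  haveI : _root_.IsReduced (Γ(X, V) ⊗[k] L) := by
    refine isReduced_tensor_of_minimalPrimes (fun 𝔭 _ h𝔭 => ?_) L
    let η : X := hV.fromSpec ⟨𝔭, inferInstance⟩
    have hηV : η ∈ V := hV.range_fromSpec.le ⟨_, rfl⟩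
    have hp : hV.primeIdealOf ⟨η, hηV⟩ = ⟨𝔭, inferInstance⟩ :=
      hV.fromSpec.isOpenEmbedding.injective (hV.fromSpec_primeIdealOf ⟨η, hηV⟩)
    have hgen : FBase.IsGeomReducedAt f η := h η fun y hy => by
      have hyV : y ∈ V := hy.mem_open V.isOpen hηV
      have h1 : (hV.primeIdealOf ⟨y, hyV⟩).asIdeal ≤ 𝔭 := by
        refine (PrimeSpectrum.le_iff_specializes (hV.primeIdealOf ⟨y, hyV⟩) ⟨𝔭, inferInstance⟩).mpr ?_
        rw [← hV.fromSpec.isOpenEmbedding.toIsEmbedding.isInducing.specializes_iff, hV.fromSpec_primeIdealOf]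
        exact hy
      refine (hV.fromSpec_primeIdealOf ⟨y, hyV⟩).symm.trans ?_
      exact congrArg hV.fromSpec (PrimeSpectrum.ext (le_antisymm h1
        (h𝔭.2 ⟨inferInstance, bot_le⟩ h1)))
    rw [Groth.L07.GeomRedField.isGeomReducedAt_iff f hV hφV η hηV] at hgen
    rw [hp] at hgen
    exact hgen
  exact isReduced_of_injective (RingHom.id _) Function.injective_id

/-- Geometric reducedness ascends along extensions of the base field. -/
theorem geomRed_ascend {k' : Type u} [Field k'] [Algebra k k'] {Z Z' : Scheme.{u}}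
    (π : Z ⟶ Spec (CommRingCat.of k)) (π' : Z' ⟶ Spec (CommRingCat.of k')) (q : Z' ⟶ Z)
    (H : IsPullback q π' π (Spec.map (CommRingCat.ofHom (algebraMap k k')))) (a : Z')
    (h : FBase.IsGeomReducedAt π (q a)) : FBase.IsGeomReducedAt π' a := by
  intro K _ _ z hz
  letI : Algebra k K := ((algebraMap k' K).comp (algebraMap k k')).toAlgebra
  have hm : Spec.map (CommRingCat.ofHom (algebraMap k K)) =
      Spec.map (CommRingCat.ofHom (algebraMap k' K)) ≫ Spec.map (CommRingCat.ofHom (algebraMap k k')) := by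
    rw [← Spec.map_comp]; rfl
  have H2 : IsPullback (FBase.bcπ π' K ≫ q) (FBase.bcStr π' K) π
      (Spec.map (CommRingCat.ofHom (algebraMap k K))) := by
    rw [hm]
    exact ((IsPullback.of_hasPullback π' (Spec.map (CommRingCat.ofHom (algebraMap k' K)))).paste_horiz H)
  let e := H2.isoPullback
  have h1 : (FBase.bcπ π K).base (e.hom z) = q a :=
    (congrArg (fun m : FBase.bc π' K ⟶ Z => m z) H2.isoPullback_hom_fst).trans (congrArg q hz)
  haveI h2 : _root_.IsReduced ((pullback π (Spec.map (CommRingCat.ofHom (algebraMap k K)))).presheaf.stalk (e.hom z)) :=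
    h K (e.hom z) h1
  exact isReduced_of_injective (asIso (e.hom.stalkMap z)).commRingCatIsoToRingEquiv.symm
    (asIso (e.hom.stalkMap z)).commRingCatIsoToRingEquiv.symm.injective

end Groth.Lead.GeomRedVariety
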