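import Groth.Agent.S5320
import Groth.Agent.L08.AbelianGrp
import Groth.Agent.L11.Magnet.Factor
import Mathlib.AlgebraicGeometry.Morphisms.FlatDescent

/-! # A homomorphism over a field unramified at one point is unramified -/

set_option autoImplicit false
set_option linter.style.haveILetI false
universe u

open CategoryTheory CategoryTheory.Limits MonoidalCategory CartesianMonoidalCategory MonObj GrpObj AlgebraicGeometry

set_option backward.isDefEq.respectTransparency.types false

namespace Groth.Lead.HomUnr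

theorem formallyUnramified_of_open {k : Type u} [Field k] (G H : Over (Spec (CommRingCat.of k)))
    [GrpObj G] [GrpObj H] [LocallyOfFiniteType G.hom] (v : G ⟶ H) [IsMonHom v]
    [LocallyOfFinitePresentation v.left] {x : G.left} (W : G.left.Opens) (hxW : x ∈ W)
    (hW : FormallyUnramified (W.ι ≫ v.left)) : FormallyUnramified v.left := by
  obtain ⟨K, _, i, _, _, -, hK⟩ := Groth.L08.AbelianGrp.exists_kernel v
  let a₀ := G.left.fromSpecResidueField x
  let T : Over (Spec (CommRingCat.of k)) := Over.mk (a₀ ≫ G.hom)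
  let a : T ⟶ G := Over.homMk a₀ rfl
  let F := pullback v (a ≫ v)
  have hp : ((pullback.fst v (a ≫ v)) * (pullback.snd v (a ≫ v) ≫ a)⁻¹) ≫ v = toUnit F ≫ η[H] := by
    rw [MonObj.mul_comp, GrpObj.inv_comp, pullback.condition, Category.assoc, mul_inv_cancel, Hom.one_def]
  let q : F ⟶ K := hK.lift (pullback.fst v (a ≫ v) * (pullback.snd v (a ≫ v) ≫ a)⁻¹) (toUnit F) hp
  have hq : q ≫ i = pullback.fst v (a ≫ v) * (pullback.snd v (a ≫ v) ≫ a)⁻¹ := hK.lift_fst _ _ _
  haveI : Mono i := Over.mono_of_mono_left i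
  have hl : ∀ {U : Over (Spec (CommRingCat.of k))} (b : U ⟶ K) (c : U ⟶ T),
      ((b ≫ i) * (c ≫ a)) ≫ v = c ≫ a ≫ v := by
    intro U b c
    rw [MonObj.mul_comp, Category.assoc, hK.w, ← Category.assoc,
      Subsingleton.elim (b ≫ toUnit K) (toUnit U), ← Hom.one_def, _root_.one_mul, Category.assoc]
  have hsq : IsPullback q (pullback.snd v (a ≫ v)) (toUnit K) (toUnit T) := by
    refine ⟨⟨Subsingleton.elim _ _⟩, ⟨PullbackCone.IsLimit.mk _
      (fun s => pullback.lift ((s.fst ≫ i) * (s.snd ≫ a)) s.snd (hl _ _))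
      (fun s => ?_) (fun s => pullback.lift_snd _ _ _) (fun s m h₁ h₂ => ?_)⟩⟩
    · rw [← cancel_mono i, Category.assoc, hq, MonObj.comp_mul, GrpObj.comp_inv,
        pullback.lift_fst, pullback.lift_snd_assoc, mul_inv_cancel_right]
    · apply pullback.hom_ext
      · rw [pullback.lift_fst, ← h₁, ← h₂, Category.assoc, hq, MonObj.comp_mul, GrpObj.comp_inv,
          ← Category.assoc m _ a, inv_mul_cancel_right]
      · rw [pullback.lift_snd, ← h₂]
  let δ : T ⟶ F := pullback.lift a (𝟙 T) (by rw [Category.id_comp])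
  have hδ : δ ≫ q = toUnit T ≫ η[K] := by
    rw [← cancel_mono i, Category.assoc, hq, Category.assoc, IsMonHom.one_hom i, MonObj.comp_mul,
      GrpObj.comp_inv, pullback.lift_fst, pullback.lift_snd_assoc, Category.id_comp, mul_inv_cancel,
      Hom.one_def]
  have hη : IsPullback (toUnit T) δ η[K] q := by
    refine IsPullback.of_bot ?_ hδ.symm hsq.flip.flip
    rw [Subsingleton.elim (η[K] ≫ toUnit K) (𝟙 _), show δ ≫ pullback.snd v (a ≫ v) = 𝟙 T from pullback.lift_snd _ _ _]
    exact IsPullback.of_vert_isIso ⟨by rw [Category.id_comp, Category.comp_id]⟩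
  have hF : IsPullback (pullback.fst v (a ≫ v)).left (pullback.snd v (a ≫ v)).left v.left (a ≫ v).left :=
    IsPullback.map (Over.forget _) (IsPullback.of_hasPullback v (a ≫ v))
  let j := pullback.fst (pullback.fst v (a ≫ v)).left W.ι
  have hsqW := ((IsPullback.of_hasPullback (pullback.fst v (a ≫ v)).left W.ι).paste_horiz hF.flip).flip
  haveI : FormallyUnramified (j ≫ (pullback.snd v (a ≫ v)).left) := MorphismProperty.of_isPullback hsqW hW
  haveI : LocallyOfFinitePresentation (j ≫ (pullback.snd v (a ≫ v)).left) :=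
    MorphismProperty.of_isPullback hsqW inferInstance
  let c : T.left := IsLocalRing.closedPoint (G.left.residueField x)
  have hfst : (pullback.fst v (a ≫ v)).left (δ.left c) = x := by
    rw [← Scheme.Hom.comp_apply, ← Over.comp_left, pullback.lift_fst]
    exact Scheme.fromSpecResidueField_apply x c
  have hr : Set.range δ.left ⊆ Set.range j := by
    rintro _ ⟨c', rfl⟩
    rw [Scheme.Pullback.range_fst]
    refine ⟨⟨x, hxW⟩, ?_⟩
    rw [show c' = c from Subsingleton.elim (α := PrimeSpectrum (G.left.residueField x)) _ _]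
    exact hfst.symm
  let d := IsOpenImmersion.lift j δ.left hr
  have hdj : d ≫ j = δ.left := IsOpenImmersion.lift_fac _ _ _
  have hd : d ≫ (j ≫ (pullback.snd v (a ≫ v)).left) = 𝟙 T.left := by
    rw [← Category.assoc, hdj, ← Over.comp_left, pullback.lift_snd]
    rfl
  haveI : IsIso (d ≫ (j ≫ (pullback.snd v (a ≫ v)).left)) := by rw [hd]; infer_instance
  haveI : Mono d := mono_of_mono d (j ≫ (pullback.snd v (a ≫ v)).left)
  haveI : Etale (d ≫ (j ≫ (pullback.snd v (a ≫ v)).left)) := inferInstance
  haveI : Etale d := Etale.of_comp d (j ≫ (pullback.snd v (a ≫ v)).left)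
  haveI : IsOpenImmersion d := IsOpenImmersion.of_flat_of_mono d
  have hδo : IsOpenImmersion δ.left := hdj ▸ inferInstance
  have hq' : IsPullback q.left (pullback.snd v (a ≫ v)).left (toUnit K).left (toUnit T).left :=
    IsPullback.map (Over.forget _) hsq
  have hT : (@Surjective ⊓ @Flat ⊓ @QuasiCompact : MorphismProperty Scheme.{u}) (toUnit T).left := by
    have e : (toUnit T).left = T.hom := (Category.comp_id _).symm.trans (Over.w (toUnit T))
    rw [e]
    exact ⟨⟨⟨fun y => ⟨c, Subsingleton.elim (α := PrimeSpectrum k) _ _⟩⟩, Groth.L11.Magnet.flat_of_field T⟩,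
      inferInstanceAs (QuasiCompact (a₀ ≫ G.hom : Spec (G.left.residueField x) ⟶ Spec (CommRingCat.of k)))⟩
  have hqP : (@Surjective ⊓ @Flat ⊓ @QuasiCompact : MorphismProperty Scheme.{u}) q.left :=
    MorphismProperty.of_isPullback hq'.flip hT
  have hopen : IsOpenImmersion η[K].left :=
    MorphismProperty.of_isPullback_of_descendsAlong (P := @IsOpenImmersion)
      (Q := @Surjective ⊓ @Flat ⊓ @QuasiCompact) (IsPullback.map (Over.forget _) hη).flip hqP hδo
  have hG : ∀ s : Spec (CommRingCat.of k), LocallyOfFiniteType (G.hom.fiberToSpecResidueField s) :=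
    fun s => inferInstanceAs (LocallyOfFiniteType (pullback.snd _ _))
  exact (Groth.Agent.S5320.result _ G H v hG K i hK).2.2.2 hopen

end Groth.Lead.HomUnr
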