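import Groth.Prelude.Def_DerSch
import Groth.Agent.L00.PullStalk
import Mathlib.Topology.Sheaves.Stalks

/-!
Stalks of direct images along topological embeddings, as modules over a local ring of the base.
-/

set_option autoImplicit false
set_option linter.style.haveILetI false
set_option backward.isDefEq.respectTransparency false
set_option backward.isDefEq.respectTransparency.types false

universe u

open CategoryTheory CategoryTheory.Limits AlgebraicGeometry Opposite TopologicalSpace

namespace Groth.Lead.StalkPush

variable {X X' Y : Scheme.{u}} (i : X ⟶ X') (f' : X' ⟶ Y) (x : X)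

/-- the comparison on stalks -/
theorem germ_smul {Z : Scheme.{u}} (F : Z.Modules) (U : Z.Opens) (z : Z) (hz : z ∈ U) (r : Γ(Z, U)) (m : Γ(F, U)) :
    F.presheaf.germ U z hz (r • m) = Z.presheaf.germ U z hz r • F.presheaf.germ U z hz m :=
  PresheafOfModules.germ_smul (R := Z.presheaf)
    (show PresheafOfModules (Z.presheaf ⋙ forget₂ CommRingCat RingCat) from F.val) z U hz r m

/-- the comparison on stalks -/
noncomputable def σ (M : X.Modules) :
    ((Scheme.Modules.pushforward i).obj M).presheaf.stalk (i x) →+ M.presheaf.stalk x :=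
  (TopCat.Presheaf.stalkPushforward AddCommGrpCat.{u} i.base M.presheaf x).hom

theorem σ_germ (M : X.Modules) (U : X'.Opens) (hU : i x ∈ U)
    (s : Γ((Scheme.Modules.pushforward i).obj M, U)) :
    σ i x M (((Scheme.Modules.pushforward i).obj M).presheaf.germ U (i x) hU s) =
      M.presheaf.germ (i ⁻¹ᵁ U) x hU s :=
  TopCat.Presheaf.stalkPushforward_germ_apply AddCommGrpCat.{u} i.base M.presheaf U x hU s

theorem σ_smul (M : X.Modules) (r : X'.presheaf.stalk (i x))
    (m : ((Scheme.Modules.pushforward i).obj M).presheaf.stalk (i x)) :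
    σ i x M (r • m) = (i.stalkMap x).hom r • σ i x M m := by
  obtain ⟨U, hU, s, rfl⟩ := TopCat.Presheaf.exists_germ_eq (F := ((Scheme.Modules.pushforward i).obj M).presheaf) m
  obtain ⟨V, hV, a, rfl⟩ := TopCat.Presheaf.exists_germ_eq (F := X'.presheaf) r
  have hW : i x ∈ U ⊓ V := ⟨hU, hV⟩
  rw [← TopCat.Presheaf.germ_res_apply ((Scheme.Modules.pushforward i).obj M).presheaf (homOfLE inf_le_left : U ⊓ V ⟶ U) (i x) hW s,
    ← TopCat.Presheaf.germ_res_apply X'.presheaf (homOfLE inf_le_right : U ⊓ V ⟶ V) (i x) hW a,
    ← germ_smul, σ_germ, σ_germ, Groth.L00.PullStalk.push_smul, germ_smul,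
    Scheme.Hom.germ_stalkMap_apply]

/-- stalks of direct images along embeddings, over the base -/
noncomputable def stalkOverPushIso (hi : Topology.IsInducing i.base) :
    Scheme.Modules.pushforward i ⋙ DerSch.stalkOver f' (i x) ≅ DerSch.stalkOver (i ≫ f') x :=
  NatIso.ofComponents (fun M =>
    LinearEquiv.toModuleIso (X₁ := ((Scheme.Modules.pushforward i ⋙ DerSch.stalkOver f' (i x)).obj M : Type u))
      (X₂ := ((DerSch.stalkOver (i ≫ f') x).obj M : Type u)) (LinearEquiv.ofBijective
      ({
        toFun := fun m => σ i x M m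
        map_add' := fun a b => map_add (σ i x M) a b
        map_smul' := fun a m => by
          change σ i x M ((f'.stalkMap (i x)).hom a • (show ((Scheme.Modules.pushforward i).obj M).presheaf.stalk (i x) from m)) =
            ((i ≫ f').stalkMap x).hom a • (show M.presheaf.stalk x from σ i x M m)
          rw [σ_smul, Scheme.Hom.stalkMap_comp]
          rfl } : ((Scheme.Modules.pushforward i ⋙ DerSch.stalkOver f' (i x)).obj M) →ₗ[(Y.presheaf.stalk (f' (i x)) : Type u)]
            ((DerSch.stalkOver (i ≫ f') x).obj M))
      (by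
        haveI := TopCat.Presheaf.stalkPushforward.stalkPushforward_iso_of_isInducing AddCommGrpCat.{u} hi M.presheaf x
        exact ConcreteCategory.bijective_of_isIso (TopCat.Presheaf.stalkPushforward AddCommGrpCat.{u} i.base M.presheaf x))))
    (fun {M N} φ => by
      refine ModuleCat.hom_ext (LinearMap.ext fun m => ?_)
      obtain ⟨U, hU, s, rfl⟩ := TopCat.Presheaf.exists_germ_eq (F := ((Scheme.Modules.pushforward i).obj M).presheaf) m
      change σ i x N ((DerSch.stalkFunctor X' (i x)).map ((Scheme.Modules.pushforward i).map φ)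
          (((Scheme.Modules.pushforward i).obj M).presheaf.germ U (i x) hU s)) =
        (DerSch.stalkFunctor X x).map φ (σ i x M (((Scheme.Modules.pushforward i).obj M).presheaf.germ U (i x) hU s))
      rw [DerSch.stalkFunctor_map_germ, σ_germ, σ_germ, DerSch.stalkFunctor_map_germ]
      rfl)

end Groth.Lead.StalkPush
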