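import Groth.Agent.L04.MatlisEnd
import Mathlib.RingTheory.Filtration
import Mathlib.RingTheory.AdicCompletion.Basic
import Mathlib.RingTheory.Artinian.Module
import Mathlib.RingTheory.Finiteness.Cardinality

/-!
# Chevalley's lemma for finite modules
-/

set_option autoImplicit false

universe u v

open IsLocalRing

namespace Groth.Lead.ChevalleyModule

variable {S : Type u} [CommRing S] {N : Type v} [AddCommGroup N] [Module S N]

theorem mem_of_mem_smul_top {r : ℕ} {I : Ideal S} {c : Fin r → S}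
    (hc : c ∈ (I • ⊤ : Submodule S (Fin r → S))) (i : Fin r) : c i ∈ I := by
  refine Submodule.smul_induction_on (p := fun c : Fin r → S => c i ∈ I) hc
    (fun a ha b _ => I.mul_mem_right _ ha) (fun x y hx hy => I.add_mem hx hy)

theorem mem_smul_top_of_mem {r : ℕ} {I : Ideal S} {c : Fin r → S}
    (hc : ∀ i, c i ∈ I) : c ∈ (I • ⊤ : Submodule S (Fin r → S)) := by
  rw [pi_eq_sum_univ c]
  exact sum_mem fun i _ => Submodule.smul_mem_smul (hc i) trivial

/-- A finite module over a complete ring is precomplete. -/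
theorem isPrecomplete_of_finite (I : Ideal S) [IsPrecomplete I S] [Module.Finite S N] :
    IsPrecomplete I N := by
  obtain ⟨r, π, hπ⟩ := Module.Finite.exists_fin' S N
  refine ⟨fun f hf => ?_⟩
  have hstep : ∀ n, ∃ d ∈ (I ^ n • ⊤ : Submodule S (Fin r → S)), π d = f (n + 1) - f n := by
    intro n
    have h1 : f (n + 1) - f n ∈ (I ^ n • ⊤ : Submodule S N) := by
      rw [← SModEq.sub_mem]
      exact (hf (Nat.le_succ n)).symm
    rw [← (LinearMap.range_eq_top.2 hπ), ← Submodule.map_top, ← Submodule.map_smul''] at h1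
    exact h1
  choose d hd hdπ using hstep
  obtain ⟨c₀, hc₀⟩ := hπ (f 0)
  let g : ℕ → (Fin r → S) := fun n => c₀ + ∑ j ∈ Finset.range n, d j
  have hg : ∀ n, π (g n) = f n := by
    intro n
    induction n with
    | zero => simp [g, hc₀]
    | succ n ih =>
      have : g (n + 1) = g n + d n := by simp [g, Finset.sum_range_succ, add_assoc]
      rw [this, map_add, ih, hdπ]
      abel
  have hdiff : ∀ a b, a ≤ b → g b - g a ∈ (I ^ a • ⊤ : Submodule S (Fin r → S)) := by
    intro a b hab
    induction b, hab using Nat.le_induction with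
    | base => simp
    | succ b hb ih =>
      have : g (b + 1) - g a = (g b - g a) + d b := by simp [g, Finset.sum_range_succ]; abel
      rw [this]
      exact add_mem ih (Submodule.smul_mono_left (Ideal.pow_le_pow_right hb) (hd b))
  have hlim : ∀ i, ∃ L : S, ∀ n, g n i ≡ L [SMOD (I ^ n • ⊤ : Submodule S S)] := fun i =>
    IsPrecomplete.prec' (I := I) (fun n => g n i) fun {a b} hab => by
      rw [SModEq.sub_mem, smul_eq_mul, Ideal.mul_top, ← neg_sub, neg_mem_iff]
      exact mem_of_mem_smul_top (hdiff a b hab) i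
  choose L hL using hlim
  refine ⟨π L, fun n => ?_⟩
  have h2 : g n - L ∈ (I ^ n • ⊤ : Submodule S (Fin r → S)) := mem_smul_top_of_mem fun i => by
    simpa [SModEq.sub_mem, smul_eq_mul, Ideal.mul_top] using hL i n
  rw [SModEq.sub_mem, ← hg n, ← map_sub]
  have h3 : π (g n - L) ∈ Submodule.map π (I ^ n • ⊤ : Submodule S (Fin r → S)) := ⟨_, h2, rfl⟩
  rw [Submodule.map_smul''] at h3
  exact Submodule.smul_mono le_rfl le_top h3

variable [IsLocalRing S] [IsNoetherianRing S] [Module.Finite S N]

/-- Krull: `∩ (F + m^k N) = F`. -/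
theorem mem_of_forall_mem_sup_pow (F : Submodule S N) {z : N}
    (hz : ∀ k, z ∈ F ⊔ maximalIdeal S ^ k • ⊤) : z ∈ F := by
  have hbot := Ideal.iInf_pow_smul_eq_bot_of_isLocalRing (M := N ⧸ F) (maximalIdeal S)
    (maximalIdeal.isMaximal S).ne_top
  rw [← Submodule.Quotient.mk_eq_zero F, ← Submodule.mem_bot S, ← hbot, Submodule.mem_iInf]
  intro k
  obtain ⟨a, ha, b, hb, rfl⟩ := Submodule.mem_sup.1 (hz k)
  rw [Submodule.Quotient.mk_add, (Submodule.Quotient.mk_eq_zero F).2 ha, zero_add]
  have h : F.mkQ b ∈ Submodule.map F.mkQ (maximalIdeal S ^ k • ⊤) := ⟨b, hb, rfl⟩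
  rw [Submodule.map_smul''] at h
  exact Submodule.smul_mono le_rfl le_top h

theorem exists_stable_sup_pow (F : ℕ → Submodule S N) (hF : Antitone F) (k : ℕ) :
    ∃ M, ∀ n, M ≤ n → F n ⊔ maximalIdeal S ^ k • ⊤ = F M ⊔ maximalIdeal S ^ k • ⊤ := by
  let P : Submodule S N := maximalIdeal S ^ k • ⊤
  obtain ⟨r, π, hπ⟩ := Module.Finite.exists_fin' S N
  haveI : IsArtinian S (S ⧸ maximalIdeal S ^ k) :=
    (isFiniteLength_iff_isNoetherian_isArtinian.1 (Groth.L04.isFiniteLength_quotient_pow k)).2
  let e : Fin r → N := fun i => π (Pi.single i 1)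
  let q : Fin r → ((S ⧸ maximalIdeal S ^ k) →ₗ[S] N ⧸ P) := fun i =>
    Submodule.liftQ (maximalIdeal S ^ k) (P.mkQ ∘ₗ LinearMap.toSpanSingleton S N (e i)) fun a ha =>
      (Submodule.Quotient.mk_eq_zero P).2 (Submodule.smul_mem_smul ha trivial)
  let ψ : (Fin r → S ⧸ maximalIdeal S ^ k) →ₗ[S] N ⧸ P := ∑ i, (q i) ∘ₗ LinearMap.proj i
  have hψ : Function.Surjective ψ := by
    intro y
    obtain ⟨y, rfl⟩ := P.mkQ_surjective y
    obtain ⟨c, rfl⟩ := hπ y
    refine ⟨fun i => Submodule.Quotient.mk (c i), ?_⟩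
    have hq : ∀ i, q i (Submodule.Quotient.mk (c i)) = P.mkQ (c i • e i) := fun i => rfl
    simp only [ψ, LinearMap.sum_apply, LinearMap.comp_apply, LinearMap.proj_apply, hq]
    rw [← map_sum]
    congr 1
    conv_rhs => rw [pi_eq_sum_univ c, map_sum]
    refine Finset.sum_congr rfl fun i _ => ?_
    rw [map_smul]
    simp only [e]
    congr 2
    ext j
    simp [Pi.single_apply, eq_comm]
  haveI : IsArtinian S (N ⧸ P) := isArtinian_of_surjective _ ψ hψ
  let G : ℕ →o (Submodule S (N ⧸ P))ᵒᵈ :=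
    ⟨fun n => OrderDual.toDual ((F n).map P.mkQ), fun a b h => Submodule.map_mono (hF h)⟩
  obtain ⟨M, hM⟩ := IsArtinian.monotone_stabilizes G
  refine ⟨M, fun n hn => ?_⟩
  have h := congrArg (Submodule.comap P.mkQ)
    (show (F M).map P.mkQ = (F n).map P.mkQ from congrArg OrderDual.ofDual (hM n hn))
  rw [Submodule.comap_map_mkQ, Submodule.comap_map_mkQ, sup_comm P, sup_comm P] at h
  exact h.symm

/-- Chevalley's lemma. -/
theorem exists_le_iInf_sup_pow [IsAdicComplete (maximalIdeal S) S] (F : ℕ → Submodule S N)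
    (hF : Antitone F) (k : ℕ) :
    ∃ n, F n ≤ (⨅ i, F i) ⊔ maximalIdeal S ^ k • ⊤ := by
  haveI := isPrecomplete_of_finite (N := N) (maximalIdeal S)
  choose M hM using exists_stable_sup_pow F hF
  refine ⟨M k, fun x hx => ?_⟩
  let P : ℕ → Submodule S N := fun j => maximalIdeal S ^ j • ⊤
  have hP : ∀ {a b}, a ≤ b → P b ≤ P a := fun {a b} h =>
    Submodule.smul_mono_left (Ideal.pow_le_pow_right h)
  have hL : ∀ j i, F (M j) ≤ F i ⊔ P j := fun j i => by
    rcases le_total (M j) i with h | h
    · rw [hM j i h]; exact le_sup_left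
    · exact le_sup_of_le_left (hF h)
  have hstep : ∀ (j : ℕ) (y : N), y ∈ F (M j) → ∃ y' ∈ F (M (j + 1)), y' - y ∈ P j := by
    intro j y hy
    obtain ⟨a, ha, b, hb, rfl⟩ := Submodule.mem_sup.1 (hL j (M (j + 1)) hy)
    exact ⟨a, ha, by simpa using neg_mem hb⟩
  choose! step hstep hstep' using hstep
  let y : ℕ → N := Nat.rec x fun j yj => step (k + j) yj
  have hy : ∀ j, y j ∈ F (M (k + j)) := fun j => by
    induction j with
    | zero => exact hx
    | succ j ih => exact hstep (k + j) _ ih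
  have hdiff : ∀ a b, a ≤ b → y b - y a ∈ P (k + a) := fun a b hab => by
    induction b, hab using Nat.le_induction with
    | base => simp
    | succ b hb ih =>
      have h := hP (show k + a ≤ k + b by omega) (hstep' (k + b) _ (hy b))
      have : y (b + 1) - y a = (step (k + b) (y b) - y b) + (y b - y a) := by
        show step (k + b) (y b) - y a = _
        abel
      rw [this]
      exact add_mem h ih
  obtain ⟨z, hz⟩ := IsPrecomplete.prec' (I := maximalIdeal S) y (fun {a b} hab => by
    rw [SModEq.sub_mem, ← neg_sub, neg_mem_iff]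
    exact hP (by omega) (hdiff a b hab))
  have hz' : ∀ j, y j - z ∈ P j := fun j => SModEq.sub_mem.1 (hz j)
  have hzF : z ∈ ⨅ i, F i := by
    refine (Submodule.mem_iInf _).2 fun i => mem_of_forall_mem_sup_pow _ fun j => ?_
    have h1 : y j ∈ F i ⊔ P j :=
      sup_le_sup_left (hP (show j ≤ k + j by omega)) _ (hL (k + j) i (hy j))
    rw [show z = y j - (y j - z) by abel]
    exact sub_mem h1 (Submodule.mem_sup_right (hz' j))
  have hxz : x - z ∈ P k := by
    have h := hdiff 0 k (Nat.zero_le k)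
    rw [show x - z = (y k - z) - (y k - y 0) by show x - z = (y k - z) - (y k - x); abel]
    exact sub_mem (hz' k) (by simpa using h)
  rw [show x = z + (x - z) by abel]
  exact add_mem (Submodule.mem_sup_left hzF) (Submodule.mem_sup_right hxz)

end Groth.Lead.ChevalleyModule
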