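import Groth.Agent.L26.Neron.SchDense
import Mathlib.AlgebraicGeometry.Morphisms.Separated
import Mathlib.AlgebraicGeometry.Fiber

/-!
# Morphisms agreeing on a schematically dense open
-/

set_option autoImplicit false
universe u
open CategoryTheory CategoryTheory.Limits AlgebraicGeometry

namespace Groth.Lead.EqDense

variable {X Y B : Scheme.{u}} {U : X.Opens} (q : Y ⟶ B) (f g : X ⟶ Y)

/-- Two morphisms over `B` agreeing on a schematically dense open are equal if their locus of coincidence
is closed. -/
theorem eq_of_closed (hU : CInt.IsSchematicallyDense U) (w : f ≫ q = g ≫ q) (h : U.ι ≫ f = U.ι ≫ g)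
    (hc : IsClosedImmersion (pullback.fst (pullback.lift (f := q) (g := q) f g w) (pullback.diagonal q))) :
    f = g := by
  let c := pullback.fst (pullback.lift (f := q) (g := q) f g w) (pullback.diagonal q)
  let l : U.toScheme ⟶ _ := pullback.lift (f := pullback.lift (f := q) (g := q) f g w) (g := pullback.diagonal q)
    U.ι (U.ι ≫ f) (by
      apply pullback.hom_ext
      · rw [Category.assoc, pullback.lift_fst, Category.assoc, pullback.diagonal_fst, Category.comp_id]
      · rw [Category.assoc, pullback.lift_snd, Category.assoc, pullback.diagonal_snd, Category.comp_id, h])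
  haveI : IsClosedImmersion c := hc
  haveI : IsIso c := IsClosedImmersion.isIso_iff_ker_eq_bot.2
    (Groth.Agent.NeronL.ker_eq_bot_of_schDense hU c l (pullback.lift_fst _ _ _))
  have hp := pullback.condition (f := pullback.lift (f := q) (g := q) f g w) (g := pullback.diagonal q)
  have h₁ := congr($hp ≫ pullback.fst q q)
  have h₂ := congr($hp ≫ pullback.snd q q)
  simp only [Category.assoc, pullback.lift_fst, pullback.lift_snd, pullback.diagonal_fst, pullback.diagonal_snd,
    Category.comp_id] at h₁ h₂
  exact (cancel_epi c).1 (h₁.trans h₂.symm)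

theorem eq_of_separated (hU : CInt.IsSchematicallyDense U) [IsSeparated q] (w : f ≫ q = g ≫ q)
    (h : U.ι ≫ f = U.ι ≫ g) : f = g :=
  eq_of_closed q f g hU w h inferInstance

theorem eq_of_fibres_separated (p : X ⟶ B) (hf : f ≫ q = p) (hg : g ≫ q = p)
    (hU : CInt.IsSchematicallyDense U)
    (hU' : ∀ (S' : Scheme.{u}) (i : S' ⟶ B), CInt.IsSchematicallyDense ((pullback.fst p i) ⁻¹ᵁ U))
    (hq : ∀ s : B, IsSeparated (pullback.snd q (B.fromSpecResidueField s)))
    (h : U.ι ≫ f = U.ι ≫ g) : f = g := by
  refine eq_of_closed q f g hU (hf.trans hg.symm) h ?_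
  refine IsClosedImmersion.of_isPreimmersion _ ?_
  suffices Set.range (pullback.fst (pullback.lift (f := q) (g := q) f g (hf.trans hg.symm)) (pullback.diagonal q)) =
      Set.univ by rw [this]; exact isClosed_univ
  refine Set.eq_univ_iff_forall.2 fun x => ?_
  let i := B.fromSpecResidueField (p x)
  let π := pullback.fst p i
  let fs : pullback p i ⟶ pullback q i := pullback.lift (π ≫ f) (pullback.snd _ _)
    (by rw [Category.assoc, hf]; exact pullback.condition)
  let gs : pullback p i ⟶ pullback q i := pullback.lift (π ≫ g) (pullback.snd _ _)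
    (by rw [Category.assoc, hg]; exact pullback.condition)
  haveI := hq (p x)
  have e : fs = gs := eq_of_separated (pullback.snd q i) fs gs (hU' _ i) (by rw [pullback.lift_snd, pullback.lift_snd]) (by
    apply pullback.hom_ext
    · simp only [Category.assoc, fs, gs, pullback.lift_fst]
      rw [← morphismRestrict_ι_assoc, ← morphismRestrict_ι_assoc, h]
    · rw [Category.assoc, Category.assoc, pullback.lift_snd, pullback.lift_snd])
  have eπ : π ≫ f = π ≫ g := (pullback.lift_fst _ _ _).symm.trans
    (congr($e ≫ pullback.fst q i).trans (pullback.lift_fst _ _ _))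
  obtain ⟨x', hx'⟩ : x ∈ Set.range π := by
    rw [Scheme.Pullback.range_fst, Scheme.range_fromSpecResidueField]
    rfl
  let t : pullback p i ⟶ _ := pullback.lift (f := pullback.lift (f := q) (g := q) f g (hf.trans hg.symm))
    (g := pullback.diagonal q) π (π ≫ f) (by
      apply pullback.hom_ext
      · rw [Category.assoc, pullback.lift_fst, Category.assoc, pullback.diagonal_fst, Category.comp_id]
      · rw [Category.assoc, pullback.lift_snd, Category.assoc, pullback.diagonal_snd, Category.comp_id, eπ])
  refine ⟨t x', ?_⟩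
  rw [← Scheme.Hom.comp_apply, pullback.lift_fst, hx']

theorem schDense_of_iso {X' X : Scheme.{u}} (e : X' ⟶ X) [IsIso e] {U : X.Opens}
    (h : CInt.IsSchematicallyDense (e ⁻¹ᵁ U)) : CInt.IsSchematicallyDense U := by
  intro V a b hab
  have hi : Function.Injective (e.app V) := (ConcreteCategory.bijective_of_isIso (e.app V)).1
  apply hi
  apply h (e ⁻¹ᵁ V)
  have hn := e.naturality (homOfLE (inf_le_left : V ⊓ U ≤ V)).op
  have ha : ∀ c, e.app (V ⊓ U) (X.presheaf.map (homOfLE (inf_le_left : V ⊓ U ≤ V)).op c) =
      X'.presheaf.map (homOfLE (inf_le_left : e ⁻¹ᵁ V ⊓ e ⁻¹ᵁ U ≤ e ⁻¹ᵁ V)).op (e.app V c) := fun c => congr($hn c)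
  rw [← ha, ← ha, hab]

end Groth.Lead.EqDense
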