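import Mathlib.AlgebraicGeometry.Morphisms.FormallyUnramified
import Mathlib.AlgebraicGeometry.Morphisms.FiniteType
import Mathlib.AlgebraicGeometry.Fiber
import Mathlib.CategoryTheory.Limits.Shapes.Pullback.Mono
import Mathlib.RingTheory.Kaehler.TensorProduct
import Mathlib.RingTheory.LocalRing.Module
import Mathlib.RingTheory.LocalRing.ResidueField.Fiber
import Mathlib.RingTheory.Unramified.Locus
import Mathlib.RingTheory.RingHom.Unramified

/-! # A morphism is unramified near the points of an unramified fibre -/

set_option autoImplicit false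
set_option linter.style.haveILetI false
universe u

open CategoryTheory CategoryTheory.Limits AlgebraicGeometry TensorProduct

attribute [local instance] Algebra.TensorProduct.rightAlgebra

set_option backward.isDefEq.respectTransparency.types false

namespace Groth.Lead.UnrLocus

/-- A prime lying on an unramified fibre has an unramified basic open neighbourhood. -/
theorem exists_basicOpen {R S : Type u} [CommRing R] [CommRing S] [Algebra R S] [Algebra.EssFiniteType R S]
    (q : PrimeSpectrum S)
    (h : Algebra.FormallyUnramified (q.asIdeal.under R).ResidueField ((q.asIdeal.under R).Fiber S)) :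
    ∃ g : S, g ∉ q.asIdeal ∧ Algebra.FormallyUnramified R (Localization.Away g) := by
  have hq : q ∉ Module.support S Ω[S⁄R] := by
    intro hq
    rw [Module.mem_support_iff_nontrivial_residueField_tensorProduct] at hq
    let p : Ideal R := q.asIdeal.under R
    let g := Ideal.ResidueField.mapₐ p q.asIdeal (Algebra.ofId R S) rfl
    letI : Algebra p.ResidueField q.asIdeal.ResidueField := g.toRingHom.toAlgebra
    haveI : IsScalarTower R p.ResidueField q.asIdeal.ResidueField :=
      IsScalarTower.of_algebraMap_eq fun r => (g.commutes r).symm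
    have h1 : Subsingleton (p.ResidueField ⊗[R] Ω[S⁄R]) :=
      (KaehlerDifferential.tensorKaehlerEquivBase R p.ResidueField S (p.Fiber S)).toEquiv.subsingleton
    have h2 : Subsingleton (q.asIdeal.ResidueField ⊗[R] Ω[S⁄R]) :=
      (TensorProduct.AlgebraTensorModule.cancelBaseChange R p.ResidueField p.ResidueField
        q.asIdeal.ResidueField Ω[S⁄R]).symm.toEquiv.subsingleton
    have h3 : Function.Surjective
        (TensorProduct.mapOfCompatibleSMul S R S q.asIdeal.ResidueField Ω[S⁄R]) :=
      fun x => TensorProduct.mapOfCompatibleSMul_surjective _ _ _ _ _ x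
    exact not_subsingleton _ h3.subsingleton
  have hmem : q ∈ Algebra.unramifiedLocus R S := by
    rw [Algebra.unramifiedLocus_eq_compl_support]; exact hq
  obtain ⟨_, ⟨g, rfl⟩, hgq, hg⟩ := PrimeSpectrum.isTopologicalBasis_basic_opens.exists_subset_of_mem_open
    hmem Algebra.isOpen_unramifiedLocus
  exact ⟨g, hgq, Algebra.basicOpen_subset_unramifiedLocus_iff.1 hg⟩

/-- Scheme form. -/
theorem exists_open {X Y : Scheme.{u}} (f : X ⟶ Y) [LocallyOfFiniteType f] (x : X)
    (h : FormallyUnramified (f.fiberToSpecResidueField (f x))) :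
    ∃ W : X.Opens, x ∈ W ∧ FormallyUnramified (W.ι ≫ f) := by
  obtain ⟨_, ⟨U, hU, rfl⟩, hxU, -⟩ :=
    Y.isBasis_affineOpens.exists_subset_of_mem_open (Set.mem_univ (f x)) isOpen_univ
  change Y.Opens at U
  obtain ⟨_, ⟨V, hV, rfl⟩, hxV, hVU⟩ :=
    X.isBasis_affineOpens.exists_subset_of_mem_open (show x ∈ (f ⁻¹ᵁ U : X.Opens) from hxU) (f ⁻¹ᵁ U).2
  change X.Opens at V
  have e : V ≤ f ⁻¹ᵁ U := hVU
  let φ := f.appLE U V e
  have hsq : Spec.map φ ≫ hU.fromSpec = hV.fromSpec ≫ f := IsAffineOpen.SpecMap_appLE_fromSpec f hU hV e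
  have hφ : φ.hom.FiniteType := HasRingHomProperty.appLE @LocallyOfFiniteType f ‹_› ⟨U, hU⟩ ⟨V, hV⟩ e
  algebraize [φ.hom]
  let q : PrimeSpectrum Γ(X, V) := hV.primeIdealOf ⟨x, hxV⟩
  let p : PrimeSpectrum Γ(Y, U) := Spec.map φ q
  have hp : hU.fromSpec p = f x := by
    show hU.fromSpec (Spec.map φ q) = f x
    rw [← Scheme.Hom.comp_apply, hsq, Scheme.Hom.comp_apply]
    exact congrArg f (hV.fromSpec_primeIdealOf ⟨x, hxV⟩)
  let t := (Spec Γ(Y, U)).fromSpecResidueField p
  have hfib : FormallyUnramified ((Spec.map φ).fiberToSpecResidueField p) := by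
    have key : ∀ y, y = f x → ∀ w : Spec ((Spec Γ(Y, U)).residueField p) ⟶ Spec (Y.residueField y),
        t ≫ hU.fromSpec = w ≫ Y.fromSpecResidueField y →
        FormallyUnramified (pullback.snd (hV.fromSpec ≫ f) (t ≫ hU.fromSpec)) := by
      rintro _ rfl w hw
      have hh : FormallyUnramified (pullback.snd (hV.fromSpec ≫ f) (Y.fromSpecResidueField (f x))) := by
        rw [← pullbackRightPullbackFstIso_inv_snd_snd]
        exact MorphismProperty.comp_mem _ _ _ inferInstance
          (MorphismProperty.comp_mem _ _ _ (MorphismProperty.pullback_snd _ _ inferInstance) h)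
      rw [hw, ← pullbackLeftPullbackSndIso_inv_snd_snd]
      exact (MorphismProperty.cancel_left_of_respectsIso @FormallyUnramified _ _).mpr
        (MorphismProperty.pullback_snd (P := @FormallyUnramified) _ _ hh)
    have h2 := key _ hp _ (Scheme.Hom.SpecMap_residueFieldMap_fromSpecResidueField hU.fromSpec p).symm
    have sq : IsPullback (pullback.fst (Spec.map φ) t) (pullback.snd (Spec.map φ) t)
        (hV.fromSpec ≫ f) (t ≫ hU.fromSpec) :=
      ⟨⟨by rw [← hsq, pullback.condition_assoc]⟩,
        ⟨by
          have := pullbackIsPullbackOfCompMono (Spec.map φ) t hU.fromSpec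
          convert this using 2 <;> simp only [hsq]⟩⟩
    show FormallyUnramified (pullback.snd (Spec.map φ) t)
    rw [← sq.isoPullback_hom_snd]
    exact (MorphismProperty.cancel_left_of_respectsIso @FormallyUnramified _ _).mpr h2
  obtain ⟨g, hgq, hg⟩ := exists_basicOpen (R := Γ(Y, U)) q <| by
    rw [← RingHom.formallyUnramified_algebraMap,
      ← CommRingCat.hom_ofHom (algebraMap (q.asIdeal.under Γ(Y, U)).ResidueField
        ((q.asIdeal.under Γ(Y, U)).Fiber Γ(X, V))),
      ← HasRingHomProperty.Spec_iff (P := @FormallyUnramified)]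
    exact (MorphismProperty.arrow_mk_iso_iff (P := @FormallyUnramified)
      (Spec.fiberToSpecResidueFieldIso Γ(Y, U) Γ(X, V) p)).1 hfib
  let ψ := CommRingCat.ofHom (algebraMap Γ(X, V) (Localization.Away g))
  let j := Spec.map ψ ≫ hV.fromSpec
  haveI : IsOpenImmersion (Spec.map ψ) := IsOpenImmersion.of_isLocalization g
  have hj : FormallyUnramified (j ≫ f) := by
    rw [Category.assoc, ← hsq, ← Category.assoc, ← Spec.map_comp]
    refine MorphismProperty.comp_mem _ _ _ ?_ inferInstance
    rw [HasRingHomProperty.Spec_iff (P := @FormallyUnramified)]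
    show ((algebraMap Γ(X, V) (Localization.Away g)).comp φ.hom).FormallyUnramified
    rw [← φ.hom.algebraMap_toAlgebra, ← IsScalarTower.algebraMap_eq]
    exact RingHom.formallyUnramified_algebraMap.2 hg
  refine ⟨j.opensRange, ?_, ?_⟩
  · have hq : q ∈ Set.range (PrimeSpectrum.comap (algebraMap Γ(X, V) (Localization.Away g))) := by
      rw [PrimeSpectrum.localization_away_comap_range _ g]; exact hgq
    obtain ⟨q', hq'⟩ := hq
    refine ⟨q', ?_⟩
    show hV.fromSpec (Spec.map ψ q') = x
    rw [show Spec.map ψ q' = q from hq']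
    exact hV.fromSpec_primeIdealOf ⟨x, hxV⟩
  · rw [← IsOpenImmersion.isoOfRangeEq_inv_fac j j.opensRange.ι
      (Scheme.Opens.range_ι j.opensRange).symm, Category.assoc]
    exact (MorphismProperty.cancel_left_of_respectsIso @FormallyUnramified _ _).mpr hj

end Groth.Lead.UnrLocus
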