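import Groth.Agent.L29.DCoh.ClosedProj
import Groth.Agent.L29.RelPC.Closed
import Groth.Agent.L29.RelPC.BCFamily
import Groth.Agent.L29.BC.PCPush
import Groth.Agent.L29.BC.Comp
import Groth.Agent.L16.ProjSpace.Basic

/-!
Direct images along closed immersions, and through projective space.
-/

set_option autoImplicit false
set_option linter.style.haveILetI false
set_option backward.defeqAttrib.useBackward true
set_option backward.isDefEq.respectTransparency false
set_option backward.isDefEq.respectTransparency.types false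

universe u

open CategoryTheory CategoryTheory.Limits AlgebraicGeometry

attribute [local instance] HasDerivedCategory.standard

namespace Groth.Lead.ClosedRpush

open Groth.L29.DC Groth.L29.DC.ClosedPC Groth.L29.RelPC

attribute [local instance] ClosedPC.additive ClosedPC.exactLeft ClosedPC.exactRight

theorem nonempty_Rpush_iso_pD {Z W : Scheme.{u}} (i : Z ⟶ W) [IsClosedImmersion i] [DCoh.HasRpush i] (E : DCoh.D Z) :
    Nonempty ((DCoh.Rpush i).obj E ≅ (pD i).obj E) := by
  let G := DerivedCategory.Q.objPreimage E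
  let eG := DerivedCategory.Q.objObjPreimageIso E
  obtain ⟨a⟩ := ClosedProj.nonempty_Rpush i G
  exact ⟨(DCoh.Rpush i).mapIso eG.symm ≪≫ a ≪≫
    ((Scheme.Modules.pushforward i).mapDerivedCategoryFactors.app G).symm ≪≫ (pD i).mapIso eG⟩

theorem nPC_of_flat {X Y : Scheme.{u}} (f : X ⟶ Y) [Flat f] [LocallyOfFinitePresentation f] :
    ∀ n : ℤ, DerSch.IsNPseudoCoherent f n := (mor_iff.1 (pcMor_of_flat f)).2

/-- over a pseudo-coherent morphism through projective space, absolute pseudo-coherence
gives pseudo-coherence of the direct image to projective space -/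
theorem pc_Rpush_closed {X P Y : Scheme.{u}} (i : X ⟶ P) [IsClosedImmersion i] (g : P ⟶ Y) [Flat g]
    [LocallyOfFinitePresentation g] (hf : ∀ n : ℤ, DerSch.IsNPseudoCoherent (i ≫ g) n)
    [DCoh.HasRpush i] {E : DCoh.D X} (hE : ∀ m : ℤ, DCoh.IsPseudoCoherentD m E) (m : ℤ) :
    DCoh.IsPseudoCoherentD m ((DCoh.Rpush i).obj E) := by
  obtain ⟨e⟩ := nonempty_Rpush_iso_pD i E
  exact isPseudoCoherentD_of_iso e.symm ((pc_iff_rel (nPC_of_flat g) m _).2
    ((rel_closed_iff i g m E).1 ((pc_iff_rel hf m E).1 (hE m))))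

/-- direct image to the base of an object pseudo-coherent on projective space -/
theorem pc_Rpush_projSpace {X Y : Scheme.{u}} (r : ℕ) (i : X ⟶ CohB1.ProjSpaceOver r Y) [DCoh.HasRpush i]
    [DCoh.HasRpush (i ≫ CohB1.ProjSpaceOver.toBase r Y)] {E : DCoh.D X}
    (hE : ∀ m : ℤ, DCoh.IsPseudoCoherentD m ((DCoh.Rpush i).obj E)) (m : ℤ) :
    DCoh.IsPseudoCoherentD m ((DCoh.Rpush (i ≫ CohB1.ProjSpaceOver.toBase r Y)).obj E) := by
  haveI := RpushQC.hasRpush (CohB1.ProjSpaceOver.toBase r Y)
  exact isPseudoCoherentD_of_iso ((Groth.L29.BC.cR (g := i) (f := CohB1.ProjSpaceOver.toBase r Y) rfl).app E)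
    (Groth.L29.BC.pc_Rpush (CohB1.ProjSpaceOver.toBase r Y) hE m)

end Groth.Lead.ClosedRpush
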