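import Groth.Agent.L29.DCoh.Gen.RpushTri
import Groth.Agent.L18.GenLocus
import Groth.Agent.L29.DCoh.QRlim
import Groth.Prelude.Def_DCoh2

/-!
A morphism out of the structure sheaf is zero when the hypercohomology in its degree vanishes.
-/

set_option autoImplicit false
set_option linter.style.haveILetI false
set_option backward.defeqAttrib.useBackward true
set_option backward.isDefEq.respectTransparency false
set_option backward.isDefEq.respectTransparency.types false

universe u

open CategoryTheory CategoryTheory.Limits AlgebraicGeometry Opposite DerivedCategory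

attribute [local instance] HasDerivedCategory.standard

noncomputable section

namespace Groth.Lead.GammaHom

variable {X : Scheme.{u}}

local notation "c" => ComplexShape.up ℤ

/-- the shift structure of `RΓ` -/
def commShiftRΓ [DCoh.HasRΓ X] : (DCoh.RΓ X).CommShift ℤ :=
  haveI := Groth.L29.DC.QRlim.enoughKInj X
  Groth.L29.DC.RDTri.commShift ((DCoh.gammaKh X).totalRightDerivedUnit DerivedCategory.Qh
    (HomotopyCategory.quasiIso X.Modules c))

theorem hom_eq_zero [DCoh.HasRΓ X] (E : DCoh.D X)
    (h : IsZero ((homologyFunctor AddCommGrpCat.{u} 0).obj ((DCoh.RΓ X).obj E)))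
    (φ : DCoh.inD X (Coh.structureModule X) ⟶ E) : φ = 0 := by
  haveI := Groth.L29.DC.QRlim.enoughKInj X
  obtain ⟨⟨J, hJ⟩, ⟨e⟩⟩ := Functor.EssSurj.mem_essImage
    (F := (Groth.L10.KInjDerived.kInj X.Modules).ι ⋙ DerivedCategory.Qh) E
  haveI : CochainComplex.IsKInjective J.as := hJ
  let q := HomotopyCategory.quotient X.Modules c
  let S := (CochainComplex.singleFunctor X.Modules 0).obj (Coh.structureModule X)
  obtain ⟨g, hg⟩ := (Groth.L10.KInjDerived.qh_bijective (q.obj S) ⟨J, hJ⟩).surjective
    ((quotientCompQhIso X.Modules).hom.app S ≫ φ ≫ e.inv)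
  obtain ⟨ψ, rfl⟩ : ∃ ψ : S ⟶ J.as, q.map ψ = g := q.map_surjective g
  suffices hψ : q.map ψ = 0 by
    rw [hψ, Functor.map_zero] at hg
    rw [← cancel_mono e.inv, ← cancel_epi ((quotientCompQhIso X.Modules).hom.app S), zero_comp, comp_zero]
    exact hg.symm
  let η := (DCoh.gammaKh X).totalRightDerivedUnit DerivedCategory.Qh (HomotopyCategory.quasiIso X.Modules c)
  haveI : IsIso (η.app (q.obj J.as)) := Groth.L10.KInjDerived.isIso_app_quotient (RF := DCoh.RΓ X) η _
  let G := ((DCoh.gammaAb X).mapHomologicalComplex c).obj J.as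
  have hG : IsZero (G.homology 0) := by
    refine h.of_iso ?_
    refine ((HomotopyCategory.homologyFunctorFactors AddCommGrpCat.{u} c 0).app G).symm ≪≫
      ((homologyFunctorFactorsh AddCommGrpCat.{u} 0).app _).symm ≪≫
      (homologyFunctor AddCommGrpCat.{u} 0).mapIso (asIso (η.app (q.obj J.as)) ≪≫ (DCoh.RΓ X).mapIso e)
  let x : Coh.structureModule X ⟶ J.as.X 0 :=
    (HomologicalComplex.singleObjXSelf c 0 (Coh.structureModule X)).inv ≫ ψ.f 0
  have hx : x ≫ J.as.d 0 1 = 0 := by
    simp [x, S, ψ.comm, CochainComplex.singleFunctor, CochainComplex.singleFunctors]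
  let σ : Γ(J.as.X 0, ⊤) := Groth.L18.GenLoc.secOf x
  have hσ : (J.as.d 0 1).app ⊤ σ = 0 :=
    congrArg Groth.L18.GenLoc.secOf hx
  have hex := ((HomologicalComplex.exactAt_iff_isZero_homology _ _).2 hG)
  rw [HomologicalComplex.exactAt_iff' _ (-1) 0 1 (by simp) (by simp), ShortComplex.ab_exact_iff] at hex
  obtain ⟨w, hw⟩ := hex σ hσ
  let v : Coh.structureModule X ⟶ J.as.X (-1) := Groth.L16.homOfSection (J.as.X (-1)) w
  have hv : v ≫ J.as.d (-1) 0 = x := by
    rw [← Groth.L18.GenLoc.homOfSection_secOf x, ← Groth.L18.GenLoc.homOfSection_secOf (v ≫ J.as.d (-1) 0)]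
    refine congrArg _ ?_
    change (J.as.d (-1) 0).app ⊤ (Groth.L18.GenLoc.secOf v) = σ
    rw [Groth.L18.GenLoc.secOf_homOfSection]
    exact hw
  let hh : ∀ i j, (ComplexShape.up ℤ).Rel j i → (S.X i ⟶ J.as.X j) := fun i j hij =>
    if hi : i = 0 then
      (HomologicalComplex.singleObjXIsoOfEq c 0 (Coh.structureModule X) i hi).hom ≫ v ≫
        (J.as.XIsoOfEq (show (-1 : ℤ) = j by simp at hij; omega)).hom
    else 0
  have heq : ψ = Homotopy.nullHomotopicMap' hh := by
    refine HomologicalComplex.from_single_hom_ext ?_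
    rw [Homotopy.nullHomotopicMap'_f (show (ComplexShape.up ℤ).Rel (-1) 0 by simp) (show (ComplexShape.up ℤ).Rel (0 : ℤ) 1 by simp)]
    simp [hh, S, CochainComplex.singleFunctor, CochainComplex.singleFunctors, hv, x, HomologicalComplex.singleObjXSelf]
  rw [← Functor.map_zero q, heq]
  exact HomotopyCategory.eq_of_homotopy _ _ (Homotopy.nullHomotopy' hh)

end Groth.Lead.GammaHom
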