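import Groth.Agent.Lead.PCProjBasic
import Groth.Agent.L29.DCoh.Summand

/-!
Pseudo-coherence on projective space is detected by the direct images of the first `n + 1` twists.
-/

set_option autoImplicit false
set_option linter.style.haveILetI false
set_option backward.defeqAttrib.useBackward true
set_option backward.isDefEq.respectTransparency false
set_option backward.isDefEq.respectTransparency.types false

universe u

open CategoryTheory CategoryTheory.Limits CategoryTheory.Pretriangulated AlgebraicGeometry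

attribute [local instance] HasDerivedCategory.standard
attribute [local instance] HasFiniteBiproducts.of_hasFiniteProducts

noncomputable section

namespace Groth.Lead.PCProj

open Groth.L29.DC Groth.L29.DC.Gen Groth.L16.ProjSpace

variable (n : ℕ) (A : Type u) [CommRing A] [DCoh.HasRpush (CohB1.ProjSpace.toSpec n A)]

local notation "O" => Twist.twistProjSpace n A
local notation "X'" => CohB1.ProjSpace n A
local notation "π'" => CohB1.ProjSpace.toSpec n A

instance : (DCoh.Rpush (CohB1.ProjSpace.toSpec n A)).CommShift ℤ := commShiftRpush _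

instance : (DCoh.Rpush (CohB1.ProjSpace.toSpec n A)).IsTriangulated := isTriangulated_Rpush _

theorem nonempty_HD_shift (c b i j : ℤ) (h : b + i = j) (K : DCoh.D X') :
    Nonempty (DCoh.HD ((NF n A c).obj (K⟦b⟧)) i ≅ DCoh.HD ((NF n A c).obj K) j) :=
  ⟨(DerivedCategory.homologyFunctor _ i).mapIso (((NF n A c).commShiftIso b).app K) ≪≫
    ((DerivedCategory.homologyFunctor (Spec (CommRingCat.of A)).Modules 0).shiftIso b i j h).app _⟩

theorem isZero_HH_twist (e : ℤ) (he : -(n : ℤ) ≤ e) (i : ℤ) (hi : 0 < i) :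
    IsZero (DCoh.HD ((DCoh.Rpush π').obj (DCoh.inD X' (O e))) i) := by
  haveI := Groth.L17.PushQCoh.hasInjectiveResolutions X'
  haveI : HasInjectiveResolutions (ModSite.Mod (CohB1.ProjSpace n A).sheaf) := ‹HasInjectiveResolutions (CohB1.ProjSpace n A).Modules›
  haveI := QRlim.enoughKInj X'
  haveI := Groth.L17.PushQCoh.additive_push π'
  haveI : EnoughInjectives (CohB1.ProjSpace n A).Modules := (Groth.L10.ModRDer.insts (CohB1.ProjSpace n A).sheaf).1
  haveI : Coh.IsQCoh (O e) := Groth.L21.Extend.isQCoh_of_isInvertible (Groth.L16.ProjTwist.isInvertible_twistProjSpace n A e)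
  obtain ⟨-, h2, -⟩ := Groth.L10.RDerBound.single_H (F := Scheme.Modules.pushforward π')
    ((DCoh.pushKh π').totalRightDerivedUnit DerivedCategory.Qh
      (HomotopyCategory.quasiIso (CohB1.ProjSpace n A).Modules (ComplexShape.up ℤ)))
    0 (O e) 0 (fun p hp => by
      obtain ⟨q, rfl⟩ : ∃ q, p = q + 1 := ⟨p - 1, by omega⟩
      exact (Groth.Agent.Pic0.subsingleton_HH_iff π' (O e) (q + 1)).1
        (subsingleton_HH_twist_pos n A e q (Or.inr he)))
  exact (DerivedCategory.isLE_iff _ _).1 h2 i (by simpa using hi)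

theorem isZero_NF_sum (R : ℕ) (c : Fin R → ℕ) (hc : ∀ q, c q ≤ n) (d : ℕ) (i : ℤ) (hi : 0 < i) :
    IsZero (DCoh.HD ((NF n A d).obj (DCoh.inD X' (⨁ fun q => O (-(c q : ℤ))))) i) := by
  let G := DerivedCategory.singleFunctor (CohB1.ProjSpace n A).Modules 0 ⋙ NF n A d ⋙
    DerivedCategory.homologyFunctor (Spec (CommRingCat.of A)).Modules i
  have hq : ∀ q, IsZero (G.obj (O (-(c q : ℤ)))) := fun q => by
    obtain ⟨e⟩ := Groth.L16.ProjTwist.nonempty_tensor_twist_iso_one (CohB1.polyGrading n A) (fun x => by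
      obtain ⟨k, hk⟩ := exists_mem_basicOpen_X n A x
      exact ⟨Xd n A k, hk⟩) (-(c q : ℤ)) d
    have := hc q
    exact (isZero_HH_twist n A (-(c q : ℤ) + d) (by omega) i hi).of_iso
      ((DerivedCategory.homologyFunctor _ i).mapIso ((DCoh.Rpush π').mapIso
        (TwistEquiv.TSingle (O d) (hfl n A d) _ ≪≫ (DerivedCategory.singleFunctor _ 0).mapIso e)))
  change IsZero (G.obj (⨁ fun q => O (-(c q : ℤ))))
  rw [IsZero.iff_id_eq_zero, ← G.map_id, ← biproduct.total, Functor.map_sum]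
  refine Finset.sum_eq_zero fun q _ => ?_
  rw [G.map_comp, (hq q).eq_of_tgt (G.map _) 0, zero_comp]

theorem isFinLocFree_sum (R : ℕ) (c : Fin R → ℤ) : FlatMod.IsFinLocFree (⨁ fun q => O (c q)) :=
  Groth.L29.LocFree.of_iso (biproduct.isoCoproduct _).symm (Groth.L29.DC.isFinLocFree_coprod_fin _ _ fun q => hfl n A (c q))

theorem isPerfect_Tw_inD (d : ℤ) {M : (CohB1.ProjSpace n A).Modules} (hM : FlatMod.IsFinLocFree M) :
    DCoh.IsPerfect ((Tw n A d).obj (DCoh.inD X' M)) :=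
  isPerfect_of_iso (TwistEquiv.TSingle (O d) (hfl n A d) M).symm
    (isPerfect_inD (Groth.L29.DC.isFinLocFree_tensor hM (hfl n A d)))

variable {n} {A}

/-- bounds on the twisted direct images bound the object -/
theorem isZero_HD_pos {K : DCoh.D X'} (hK : DCoh.IsQCohD K)
    (h : ∀ d : ℕ, d ≤ n → ∀ i : ℤ, 0 < i → IsZero (DCoh.HD ((NF n A d).obj K) i)) (j : ℤ) (hj : 0 < j) :
    IsZero (DCoh.HD K j) := by
  let P : (CohB1.ProjSpace n A).Modules → Prop := fun M =>
    ∀ i : ℤ, 0 < i → ∀ φ : DCoh.inD X' M ⟶ K⟦i⟧, φ = 0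
  have hz : ∀ M, IsZero M → P M := fun M hM i _ φ =>
    ((DerivedCategory.singleFunctor _ 0).map_isZero hM).eq_of_src _ _
  have hiso : ∀ {M M'}, (M ≅ M') → P M → P M' := fun {M M'} e hM i hi φ => by
    rw [← cancel_epi ((DerivedCategory.singleFunctor _ 0).map e.hom), comp_zero]
    exact hM i hi _
  have hfirst : ∀ {S : ShortComplex (CohB1.ProjSpace n A).Modules}, S.ShortExact → P S.X₂ → P S.X₃ → P S.X₁ := by
    intro S hS h₂ h₃ i hi ψ
    let D := DCoh.D X'
    let δ := hS.singleTriangle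
    obtain ⟨g, hg⟩ := Triangle.yoneda_exact₂ _ (inv_rot_of_distTriang _ hS.singleTriangle_distinguished) ψ (by
      refine (shiftFunctor D (1 : ℤ)).map_injective ?_
      rw [Functor.map_zero, ← cancel_epi ((shiftFunctorCompIsoId D (-1 : ℤ) 1 (by omega)).inv.app (DCoh.inD X' S.X₃)),
        comp_zero, ← cancel_mono ((shiftFunctorAdd' D i 1 (i + 1) rfl).inv.app K), zero_comp]
      exact h₃ (i + 1) (by omega) _)
    refine hg.trans ?_
    rw [h₂ i hi g]
    exact comp_zero
  have hmid : ∀ {S : ShortComplex (CohB1.ProjSpace n A).Modules}, S.ShortExact → P S.X₁ → P S.X₃ → P S.X₂ := by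
    intro S hS h₁ h₃ i hi ψ
    obtain ⟨g, hg⟩ := Triangle.yoneda_exact₂ _ hS.singleTriangle_distinguished ψ (h₁ i hi _)
    rw [hg, h₃ i hi g]
    exact comp_zero
  have hbip : ∀ {M : (CohB1.ProjSpace n A).Modules} (k : ℕ), P M → P (⨁ fun _ : Fin k => M) := fun {M} k hM i hi φ => by
    let S₀ := DerivedCategory.singleFunctor (CohB1.ProjSpace n A).Modules 0
    change S₀.obj (⨁ fun _ : Fin k => M) ⟶ _ at φ
    rw [← Category.id_comp φ, ← S₀.map_id, ← biproduct.total, Functor.map_sum, Preadditive.sum_comp]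
    refine Finset.sum_eq_zero fun q _ => ?_
    rw [S₀.map_comp, Category.assoc, hM i hi (S₀.map (biproduct.ι (fun _ : Fin k => M) q) ≫ φ), comp_zero]
  have hall : ∀ (k : ℕ) (c : ℕ), c ≤ n + k → P (O (-(c : ℤ))) := by
    intro k
    induction k with
    | zero =>
      intro c hc i hi φ
      obtain ⟨e⟩ := nonempty_HD_shift n A c i 0 i (by omega) K
      exact hom_eq_zero n A c (isQCohD_shift hK i) ((h c (by omega) i hi).of_iso e) φ
    | succ k ih =>
      intro c hc
      by_cases hc' : c ≤ n + k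
      · exact ih c hc'
      obtain ⟨C, hC, hlo, hhi, hX⟩ := TwistGenProj.exists_koszul (n := n) (A := A) (-(c : ℤ))
      have hterm : ∀ i : ℤ, 0 < i → P (C.X i) := fun i hi => by
        by_cases hbig : ((n + 1 : ℕ) : ℤ) < i
        · exact hz _ (hhi i hbig)
        · obtain ⟨m, rfl⟩ : ∃ m : ℕ, i = m := ⟨i.toNat, by omega⟩
          obtain ⟨e⟩ := hX m
          refine hiso (e ≪≫ biproduct.mapIso (fun _ => eqToIso ?_)).symm (hbip _ (ih (c - m) (by omega)))
          rw [show -(c : ℤ) + (m : ℤ) = -((c - m : ℕ) : ℤ) by omega]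
      have hcyc : ∀ d : ℕ, d ≤ n + 1 → P (C.cycles ((n + 2 : ℕ) - (d : ℤ))) := by
        intro d
        induction d with
        | zero => exact fun _ => hz _ (IsZero.of_mono (C.iCycles _) (hhi _ (by omega)))
        | succ d ihd =>
          intro hd
          obtain ⟨S, hS, h₁, h₂, h₃⟩ := TwistGen.exists_ses C hC ((n + 2 : ℕ) - ((d + 1 : ℕ) : ℤ)) ((n + 2 : ℕ) - (d : ℤ))
            (by push_cast; omega)
          rw [← h₁]
          exact hfirst hS (h₂ ▸ hterm _ (by omega)) (h₃ ▸ ihd (by omega))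
      obtain ⟨S, hS, h₁, h₂, h₃⟩ := TwistGen.exists_ses C hC 0 1 rfl
      obtain ⟨S', hS', h₁', h₂', h₃'⟩ := TwistGen.exists_ses C hC (-1) 0 rfl
      obtain ⟨e⟩ := hX 0
      refine hiso ?_ (hmid hS (hz _ ?_) ?_)
      · exact eqToIso h₂ ≪≫ e ≪≫ eqToIso (by rw [Nat.choose_zero_right]) ≪≫
          biproductUniqueIso (fun _ : Fin 1 => O (-(c : ℤ) + (0 : ℕ))) ≪≫ eqToIso (by simp)
      · rw [h₁, ← h₃']
        haveI := hS'.epi_g
        exact IsZero.of_epi S'.g (h₂' ▸ hlo _ (by omega))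
      · have := hcyc (n + 1) le_rfl
        rw [show ((n + 2 : ℕ) : ℤ) - ((n + 1 : ℕ) : ℤ) = 1 by push_cast; omega] at this
        rw [h₃]
        exact this
  haveI : QuasiSeparatedSpace (CohB1.ProjSpace n A) :=
    inferInstanceAs (QuasiSeparatedSpace (Proj (CohB1.polyGrading n A)))
  have haff : ∀ i, IsAffineOpen (dOpen n A i) := fun i =>
    Proj.isAffineOpen_basicOpen (CohB1.polyGrading n A) (Xd n A i).1 (Xd n A i).2 one_pos
  have htriv : ∀ M, (∃ c : ℤ, c ≤ 0 ∧ M = O c) → ∀ i : Fin (n + 1),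
      Nonempty (M.restrict (dOpen n A i).ι ≅ Coh.structureModule (dOpen n A i : Scheme.{u})) := by
    rintro M ⟨c, -, rfl⟩ i
    have := Groth.L16.ProjTwist.nonempty_restrict_iso_of_mem (CohB1.polyGrading n A) (dOpen n A i).ι (Xd n A i) (fun z => z.2) c
    rwa [Nat.cast_one, mul_one] at this
  rw [Groth.L00.Stk.isZero_iff]
  intro x
  obtain ⟨i₀, hi₀⟩ := exists_mem_basicOpen_X n A x
  refine TwistGen.isZero_stalk_of_hom_zero (TwistGenProj.kills n A (fun c => c ≤ 0) (fun c N hc => by omega) i₀)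
    (fun i => dOpen n A i) haff htriv (List.ofFn id)
    (fun y => by obtain ⟨i, hi⟩ := exists_mem_basicOpen_X n A y; exact ⟨i, List.mem_ofFn.2 ⟨i, rfl⟩, hi⟩) (haff i₀)
    (P := O 0) ⟨0, le_rfl, rfl⟩ (htriv _ ⟨0, le_rfl, rfl⟩ i₀) hK j ?_ x hi₀
  rintro M ⟨c, hc, rfl⟩ φ
  obtain ⟨m, rfl⟩ : ∃ m : ℕ, c = -(m : ℤ) := ⟨(-c).toNat, by omega⟩
  exact hall m m (by omega) j hj φ

/-- finitely many twists map onto the top cohomology of all the twisted direct images -/
theorem exists_cover_map (K : DCoh.D X') (hK : DCoh.IsQCohD K)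
    (hpc : ∀ d : ℕ, d ≤ n → ∀ m, DCoh.IsPseudoCoherentD m ((NF n A d).obj K))
    (hle : ∀ d : ℕ, d ≤ n → ∀ i : ℤ, 0 < i → IsZero (DCoh.HD ((NF n A d).obj K) i)) :
    ∃ (R : ℕ) (cs : Fin R → ℕ) (φ : DCoh.inD X' (⨁ fun q => O (-(cs q : ℤ))) ⟶ K), (∀ q, cs q ≤ n) ∧
      ∀ d : ℕ, d ≤ n → Epi ((DerivedCategory.homologyFunctor _ 0).map ((NF n A d).map φ)) := by
  have hgen : ∀ d : Fin (n + 1), ∃ (r : ℕ) (σ : Fin r → (Coh.structureModule (Spec (CommRingCat.of A)) ⟶ DCoh.HD ((NF n A (d : ℕ)).obj K) 0)),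
      ∀ (Z : (Spec (CommRingCat.of A)).Modules) (g : DCoh.HD ((NF n A (d : ℕ)).obj K) 0 ⟶ Z), (∀ q, σ q ≫ g = 0) → g = 0 :=
    fun d => exists_generators (hq := (isQCohD_NF n A (d : ℕ) hK) 0) _
      (TopCoh.isFT_top (m := 0) le_rfl (hpc d (by omega) 0) (hle d (by omega)))
  choose r σ hσ using hgen
  choose η hη using fun d : Fin (n + 1) => exists_adjoint n A (d : ℕ)
  choose τ hτ using fun (d : Fin (n + 1)) (q : Fin (r d)) => (cls_bij A (isQCohD_NF n A (d : ℕ) hK)).2 (σ d q)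
  choose φq hφq using fun (d : Fin (n + 1)) (q : Fin (r d)) => (hη d K).2 (τ d q)
  let eI := Fintype.equivFin (Σ d : Fin (n + 1), Fin (r d))
  let cs : Fin (Fintype.card (Σ d : Fin (n + 1), Fin (r d))) → ℕ := fun q => ((eI.symm q).1 : ℕ)
  let f := fun q => O (-(cs q : ℤ))
  let S₀ := DerivedCategory.singleFunctor (CohB1.ProjSpace n A).Modules 0
  let φ : S₀.obj (⨁ f) ⟶ K :=
    ∑ q, S₀.map (biproduct.π f q) ≫ φq (eI.symm q).1 (eI.symm q).2
  have hφ : ∀ q, S₀.map (biproduct.ι f q) ≫ φ = φq (eI.symm q).1 (eI.symm q).2 := fun q => by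
    refine (Preadditive.comp_sum _ _ _).trans ((Finset.sum_eq_single q ?_ ?_).trans ?_)
    · intro q' _ hne
      refine (Category.assoc _ _ _).symm.trans ?_
      rw [← S₀.map_comp, biproduct.ι_π_ne _ hne.symm, S₀.map_zero]
      exact zero_comp
    · intro h
      exact absurd (Finset.mem_univ q) h
    · refine (Category.assoc _ _ _).symm.trans ?_
      rw [← S₀.map_comp, biproduct.ι_π_self, S₀.map_id]
      exact Category.id_comp _
  refine ⟨_, cs, φ, fun q => Nat.lt_succ_iff.1 (eI.symm q).1.2, fun d hd => ?_⟩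
  refine Preadditive.epi_of_cancel_zero _ fun {Z} g hg => hσ ⟨d, by omega⟩ Z g fun q => ?_
  have key : ∀ (s : Σ e : Fin (n + 1), Fin (r e)) (g : DCoh.HD ((NF n A (s.1 : ℕ)).obj K) 0 ⟶ Z),
      (DerivedCategory.homologyFunctor _ 0).map ((NF n A (s.1 : ℕ)).map φ) ≫ g = 0 → σ s.1 s.2 ≫ g = 0 := by
    intro s g hg
    obtain ⟨q, rfl⟩ := eI.symm.surjective s
    have h1 : σ (eI.symm q).1 (eI.symm q).2 = Groth.L10.LocalDetect.cls (η (eI.symm q).1) ≫
        (DerivedCategory.homologyFunctor _ 0).map ((NF n A ((eI.symm q).1 : ℕ)).map (φq (eI.symm q).1 (eI.symm q).2)) := by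
      rw [← hτ, ← hφq]
      exact Groth.L10.LocalDetect.cls_comp _ _
    have h2 : (DerivedCategory.homologyFunctor _ 0).map
        ((NF n A ((eI.symm q).1 : ℕ)).map (φq (eI.symm q).1 (eI.symm q).2)) ≫ g = 0 := by
      rw [← hφ q, Functor.map_comp, Functor.map_comp]
      exact (Category.assoc _ _ _).trans ((congrArg (_ ≫ ·) hg).trans comp_zero)
    rw [h1]
    exact (Category.assoc _ _ _).trans ((congrArg (_ ≫ ·) h2).trans comp_zero)
  exact key ⟨⟨d, by omega⟩, q⟩ g hg

/-- approximation by sums of twists, step by step -/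
theorem pc_of_twists_aux : ∀ (k : ℕ) (K : DCoh.D X'), DCoh.IsQCohD K →
    (∀ d : ℕ, d ≤ n → ∀ m, DCoh.IsPseudoCoherentD m ((NF n A d).obj K)) →
    (∀ d : ℕ, d ≤ n → ∀ i : ℤ, 0 < i → IsZero (DCoh.HD ((NF n A d).obj K) i)) →
      DCoh.IsPseudoCoherentD (1 - (k : ℤ)) K
  | 0, K, hK, _, hle => pc_of_isZero fun i hi => isZero_HD_pos hK hle i (by simp at hi; omega)
  | k + 1, K, hK, hpc, hle => by
    obtain ⟨R, cs, φ, hcs, hepi⟩ := exists_cover_map K hK hpc hle
    obtain ⟨C, g, δ, hT⟩ := distinguished_cocone_triangle φ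
    have hM : DCoh.IsPerfect (DCoh.inD X' (⨁ fun q => O (-(cs q : ℤ)))) :=
      isPerfect_inD (isFinLocFree_sum n A _ fun q => -(cs q : ℤ))
    have hCq : DCoh.IsQCohD C := isQCohD_third _ hT (PCQCoh.isQCohD_of_perfect hM) hK
    have hCpc : ∀ d : ℕ, d ≤ n → ∀ m, DCoh.IsPseudoCoherentD m ((NF n A d).obj C) := fun d hd m =>
      (pc_two_out_of_three ((NF n A d).map_distinguished _ hT) m).1
        (Groth.L29.BC.pc_Rpush π' (fun m' => pc_of_perfect
          (isPerfect_Tw_inD n A d (isFinLocFree_sum n A _ fun q => -(cs q : ℤ))) m') (m + 1)) (hpc d hd m)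
    have hCle : ∀ d : ℕ, d ≤ n → ∀ i : ℤ, -1 < i → IsZero (DCoh.HD ((NF n A d).obj C) i) := fun d hd i hi => by
      have hT' := (NF n A d).map_distinguished _ hT
      have hz := isZero_NF_sum n A R cs hcs d (i + 1) (by omega)
      haveI h2 : Epi ((DerivedCategory.homologyFunctor _ i).map ((NF n A d).mapTriangle.obj (Triangle.mk φ g δ)).mor₂) :=
        (DerivedCategory.HomologySequence.epi_homologyMap_mor₂_iff _ hT' i (i + 1) rfl).2 (hz.eq_of_tgt _ _)
      have h1 : Epi ((DerivedCategory.homologyFunctor _ i).map ((NF n A d).map φ)) := by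
        rcases eq_or_lt_of_le (show (0 : ℤ) ≤ i by omega) with rfl | hpos
        · exact hepi d hd
        · exact ⟨fun a b _ => (hle d hd i hpos).eq_of_src a b⟩
      exact IsZero.of_epi_eq_zero _
        ((DerivedCategory.HomologySequence.epi_homologyMap_mor₁_iff _ hT' i).1 h1)
    have hC' : DCoh.IsPseudoCoherentD (1 - (k : ℤ)) (C⟦(-1 : ℤ)⟧) := by
      refine pc_of_twists_aux k _ (isQCohD_shift hCq (-1)) (fun d hd m => ?_) (fun d hd i hi => ?_)
      · exact isPseudoCoherentD_of_iso (((NF n A d).commShiftIso (-1 : ℤ)).app C).symm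
          (pc_shift (hCpc d hd (m - 1)) (-1) m (by omega))
      · obtain ⟨e⟩ := nonempty_HD_shift n A d (-1) i (i - 1) (by omega) C
        exact (hCle d hd (i - 1) (by omega)).of_iso e
    have hC : DCoh.IsPseudoCoherentD (-(k : ℤ)) C :=
      isPseudoCoherentD_of_iso ((shiftFunctorCompIsoId _ (-1 : ℤ) 1 (by omega)).app C)
        (pc_shift hC' 1 (-(k : ℤ)) (by omega))
    exact show DCoh.IsPseudoCoherentD (1 - ((k + 1 : ℕ) : ℤ)) K by
      rw [show (1 : ℤ) - ((k + 1 : ℕ) : ℤ) = -(k : ℤ) by push_cast; ring]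
      exact (pc_two_out_of_three hT _).2.1 (pc_of_perfect hM _) hC

/-- twisted direct images detect pseudo-coherence -/
theorem pc_of_twists (K : DCoh.D X') (hK : DCoh.IsQCohD K)
    (hpc : ∀ d : ℕ, d ≤ n → ∀ m, DCoh.IsPseudoCoherentD m ((NF n A d).obj K)) (m : ℤ) :
    DCoh.IsPseudoCoherentD m K := by
  choose N hN using fun d : Fin (n + 1) => TildeAlg.exists_isZero (hpc d (by omega) 0)
  obtain ⟨M, hM⟩ := (Set.finite_range N).bddAbove
  let b : ℤ := max M (m - 1)
  obtain ⟨k, hk⟩ : ∃ k : ℕ, (k : ℤ) = 1 + b - m := ⟨(1 + b - m).toNat, by omega⟩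
  have h := pc_of_twists_aux k (K⟦b⟧) (isQCohD_shift hK b)
    (fun d hd i => isPseudoCoherentD_of_iso (((NF n A d).commShiftIso b).app K).symm
      (pc_shift (hpc d hd (b + i)) b i rfl))
    (fun d hd i hi => by
      obtain ⟨e⟩ := nonempty_HD_shift n A d b i (b + i) rfl K
      have := hM ⟨⟨d, by omega⟩, rfl⟩
      exact (hN ⟨d, by omega⟩ (b + i) (by omega)).of_iso e)
  exact isPseudoCoherentD_of_iso ((shiftFunctorCompIsoId _ b (-b) (by omega)).app K)
    (pc_shift h (-b) m (by omega))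

theorem isPerfect_Tw_built (c : ℤ) {M : (CohB1.ProjSpace n A).Modules} (hM : FlatMod.IsFinLocFree M)
    {Y : DCoh.D X'} (hY : Groth.L29.Thick.Built (DCoh.inD X' M) Y) : DCoh.IsPerfect ((Tw n A c).obj Y) := by
  induction hY with
  | gen i =>
    exact isPerfect_of_iso (((Tw n A c).commShiftIso i).app (DCoh.inD _ M)).symm
      (perfect_shift (isPerfect_Tw_inD n A c hM) i)
  | zero h => exact EvalMain.isPerfect_of_isZero ((Tw n A c).map_isZero h)
  | ext T hT _ _ h₁ h₃ => exact (perfect_two_out_of_three ((Tw n A c).map_distinguished _ hT)).2.1 h₁ h₃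
  | iso e _ h => exact isPerfect_of_iso ((Tw n A c).mapIso e) h

theorem isPerfect_Tw (c : ℤ) {P : DCoh.D X'} (hP : DCoh.IsPerfect P) : DCoh.IsPerfect ((Tw n A c).obj P) := by
  haveI : QuasiSeparatedSpace (CohB1.ProjSpace n A) :=
    inferInstanceAs (QuasiSeparatedSpace (Proj (CohB1.polyGrading n A)))
  let f : Fin (n + 1) → (CohB1.ProjSpace n A).Modules := fun d => O (-((d : ℕ) : ℤ))
  let S₀ := DerivedCategory.singleFunctor (CohB1.ProjSpace n A).Modules 0
  have hM : FlatMod.IsFinLocFree (⨁ f) := isFinLocFree_sum n A _ fun d => -((d : ℕ) : ℤ)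
  obtain ⟨Y, hY, ⟨r⟩⟩ := exists_retract_of_generator (isPerfect_inD hM) (fun E hE ho =>
    TwistGenProj.isZero_of_ortho hE fun d hd i φ => by
      let q : Fin (n + 1) := ⟨d, by omega⟩
      change (S₀.obj (f q))⟦i⟧ ⟶ E at φ
      have h1 := ho i ((shiftFunctor _ i).map (S₀.map (biproduct.π f q)) ≫ φ)
      calc φ = (shiftFunctor _ i).map (S₀.map (biproduct.ι f q)) ≫ (shiftFunctor _ i).map (S₀.map (biproduct.π f q)) ≫ φ := by
            rw [← Category.assoc, ← Functor.map_comp, ← Functor.map_comp, biproduct.ι_π_self,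
              CategoryTheory.Functor.map_id, CategoryTheory.Functor.map_id, Category.id_comp]
        _ = 0 := by rw [h1]; exact comp_zero) hP
  exact Groth.L29.BC.isPerfect_of_retract (r.map (Tw n A c)) (isPerfect_Tw_built c hM hY)

theorem pc_Tw (c : ℤ) {K : DCoh.D X'} (hK : ∀ m, DCoh.IsPseudoCoherentD m K) (m : ℤ) :
    DCoh.IsPseudoCoherentD m ((Tw n A c).obj K) := by
  haveI : QuasiSeparatedSpace (CohB1.ProjSpace n A) :=
    inferInstanceAs (QuasiSeparatedSpace (Proj (CohB1.polyGrading n A)))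
  obtain ⟨r, hr⟩ := Gen.approxHolds (CohB1.ProjSpace n A) ⊥ (by simp [IsRetrocompact])
  obtain ⟨P, α, hP, -, hα⟩ := hr m K (PCQCoh.isQCohD_of_pc hK) (hK _) (fun i _ x hx => absurd hx (by simp))
  obtain ⟨C, g, d, hT⟩ := distinguished_cocone_triangle α
  have hC : C.IsLE (m - 1) := (approx_iff_triangle _ hT m).1 hα
  have hTC : ∀ i, m ≤ i → IsZero (DCoh.HD ((Tw n A c).obj C) i) := fun i hi => by
    obtain ⟨e⟩ := nonempty_HD_Tw n A c C i
    exact ((DCoh.tensorRightMod (O c)).map_isZero (DerivedCategory.isZero_of_isLE C (m - 1) i (by omega))).of_iso e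
  exact (pc_two_out_of_three ((Tw n A c).map_distinguished _ hT) m).2.1
    (pc_of_perfect (isPerfect_Tw c hP) m) (pc_of_isZero hTC)

end Groth.Lead.PCProj
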