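import Groth.Agent.Lead.KoszulTwist
import Groth.Agent.L29.DCoh.TensorAssoc
import Groth.Agent.L16.Rees.PushExact
import Groth.Prelude.Def_DDual2
import Mathlib.Algebra.Homology.DerivedCategory.ExactFunctor

/-!
Twisting by an invertible module is an autoequivalence of the derived category.
-/

set_option autoImplicit false
set_option linter.style.haveILetI false
set_option backward.defeqAttrib.useBackward true
set_option backward.isDefEq.respectTransparency false
set_option backward.isDefEq.respectTransparency.types false

universe u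

open CategoryTheory CategoryTheory.Limits AlgebraicGeometry MonoidalCategory

attribute [local instance] HasDerivedCategory.standard

noncomputable section

namespace Groth.Lead.TwistEquiv

open Groth.L00.Tensor

variable {X : Scheme.{u}}

/-- iterated tensor functors -/
def compIso (A B : X.Modules) :
    DCoh.tensorRightMod A ⋙ DCoh.tensorRightMod B ≅ DCoh.tensorRightMod (CohB1.tensorMod A B) :=
  NatIso.ofComponents (fun M => tensorAssoc M A B) fun {M M'} f => by
    change (DCoh.tensorRightMod B).map ((DCoh.tensorRightMod A).map f) ≫ (tensorAssoc M' A B).hom =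
      (tensorAssoc M A B).hom ≫ (DCoh.tensorRightMod (CohB1.tensorMod A B)).map f
    rw [KoszulTwist.rightMod_map, KoszulTwist.rightMod_map, KoszulTwist.rightMod_map]
    refine (Groth.L29.DC.Assoc.assoc_natural f (𝟙 A) (𝟙 B)).trans ?_
    rw [tensorMap_id]

/-- tensoring with a unit -/
def unitIso {U : X.Modules} (e : U ≅ Coh.structureModule X) : DCoh.tensorRightMod U ≅ 𝟭 X.Modules :=
  NatIso.ofComponents (fun M => tensorIso (Iso.refl M) e ≪≫ tensorUnitRight M) fun {M M'} f => by
    change (DCoh.tensorRightMod U).map f ≫ tensorMap (𝟙 M') e.hom ≫ (tensorUnitRight M').hom =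
      (tensorMap (𝟙 M) e.hom ≫ (tensorUnitRight M).hom) ≫ f
    rw [KoszulTwist.rightMod_map, Category.assoc, ← KoszulTwist.tensorUnitRight_natural, ← Category.assoc,
      ← Category.assoc]
    refine congrArg (· ≫ (tensorUnitRight M').hom) ?_
    rw [← tensorMap_comp, ← tensorMap_comp]
    simp only [Category.id_comp, Category.comp_id]

variable (A : X.Modules) (hA : FlatMod.IsFinLocFree A)

/-- the derived functor of an exact twist -/
def T : DCoh.D X ⥤ DCoh.D X :=
  haveI := (Groth.L16.Rees.PushExact.exact_instances hA).1
  haveI := (Groth.L16.Rees.PushExact.exact_instances hA).2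
  (DCoh.tensorRightMod A).mapDerivedCategory

/-- on complexes -/
def TFactors : DerivedCategory.Q ⋙ T A hA ≅
    (DCoh.tensorRightMod A).mapHomologicalComplex (ComplexShape.up ℤ) ⋙ DerivedCategory.Q :=
  haveI := (Groth.L16.Rees.PushExact.exact_instances hA).1
  haveI := (Groth.L16.Rees.PushExact.exact_instances hA).2
  (DCoh.tensorRightMod A).mapDerivedCategoryFactors

/-- on modules -/
def TSingle (M : X.Modules) : (T A hA).obj (DCoh.inD X M) ≅ DCoh.inD X ((DCoh.tensorRightMod A).obj M) :=
  haveI := (Groth.L16.Rees.PushExact.exact_instances hA).1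
  haveI := (Groth.L16.Rees.PushExact.exact_instances hA).2
  ((DCoh.tensorRightMod A).mapDerivedCategorySingleFunctor 0).app M

instance : (T A hA).CommShift ℤ :=
  haveI := (Groth.L16.Rees.PushExact.exact_instances hA).1
  haveI := (Groth.L16.Rees.PushExact.exact_instances hA).2
  inferInstanceAs ((DCoh.tensorRightMod A).mapDerivedCategory.CommShift ℤ)

instance : (T A hA).IsTriangulated :=
  haveI := (Groth.L16.Rees.PushExact.exact_instances hA).1
  haveI := (Groth.L16.Rees.PushExact.exact_instances hA).2
  inferInstanceAs ((DCoh.tensorRightMod A).mapDerivedCategory.IsTriangulated)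

variable {A}

/-- inverse twists -/
def compT {B : X.Modules} (hB : FlatMod.IsFinLocFree B) (e : CohB1.tensorMod A B ≅ Coh.structureModule X) :
    T A hA ⋙ T B hB ≅ 𝟭 (DCoh.D X) :=
  let W := HomologicalComplex.quasiIso X.Modules (ComplexShape.up ℤ)
  let c := compIso A B ≪≫ unitIso e
  letI : Localization.Lifting DerivedCategory.Q W (DerivedCategory.Q ⋙ T A hA ⋙ T B hB) (T A hA ⋙ T B hB) := ⟨Iso.refl _⟩
  letI : Localization.Lifting DerivedCategory.Q W (DerivedCategory.Q (C := X.Modules)) (𝟭 (DCoh.D X)) :=
    ⟨Functor.rightUnitor _⟩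
  Localization.liftNatIso DerivedCategory.Q W (DerivedCategory.Q ⋙ T A hA ⋙ T B hB) DerivedCategory.Q _ _
    ((Functor.associator _ _ _).symm ≪≫ Functor.isoWhiskerRight (TFactors A hA) _ ≪≫ Functor.associator _ _ _ ≪≫
      Functor.isoWhiskerLeft _ (TFactors B hB) ≪≫ (Functor.associator _ _ _).symm ≪≫
      Functor.isoWhiskerRight (show (DCoh.tensorRightMod A).mapHomologicalComplex (ComplexShape.up ℤ) ⋙
          (DCoh.tensorRightMod B).mapHomologicalComplex (ComplexShape.up ℤ) ≅ 𝟭 _ from
        NatIso.ofComponents (fun C => HomologicalComplex.Hom.isoOfComponents (fun i => c.app (C.X i))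
          fun i j _ => (c.hom.naturality (C.d i j)).symm)
          fun {C D} f => HomologicalComplex.hom_ext _ _ fun i => c.hom.naturality (f.f i)) _ ≪≫
      Functor.leftUnitor _)

/-- the twist is an equivalence -/
theorem isEquivalence {B : X.Modules} (hB : FlatMod.IsFinLocFree B) (e : CohB1.tensorMod A B ≅ Coh.structureModule X)
    (e' : CohB1.tensorMod B A ≅ Coh.structureModule X) : (T A hA).IsEquivalence :=
  (CategoryTheory.Equivalence.mk (T A hA) (T B hB) (compT hA hB e).symm (compT hB hA e')).isEquivalence_functor

variable (A) in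
/-- the total left derived functor agrees with it -/
def ltIso [DCoh.HasLTensorMod A] : DCoh.LTensorMod A ≅ T A hA :=
  haveI := (Groth.L16.Rees.PushExact.exact_instances hA).1
  haveI := (Groth.L16.Rees.PushExact.exact_instances hA).2
  haveI : (T A hA).IsLeftDerivedFunctor
      (DCoh.tensorRightMod A).mapDerivedCategoryFactorsh.hom
      (HomotopyCategory.quasiIso X.Modules (ComplexShape.up ℤ)) :=
    Functor.isLeftDerivedFunctor_of_inverts _ (T A hA) (DCoh.tensorRightMod A).mapDerivedCategoryFactorsh
  Functor.leftDerivedUnique (LF := DCoh.LTensorMod A) (LF' := T A hA)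
    (α := (DCoh.tensorModKh A).totalLeftDerivedCounit DerivedCategory.Qh
      (HomotopyCategory.quasiIso X.Modules (ComplexShape.up ℤ)))
    (α'₂ := (DCoh.tensorRightMod A).mapDerivedCategoryFactorsh.hom)
    (W := HomotopyCategory.quasiIso X.Modules (ComplexShape.up ℤ))

end Groth.Lead.TwistEquiv
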