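import Groth.Agent.Lead.TwistGenProj
import Groth.Agent.Lead.TwistEquiv
import Groth.Agent.L16.ProjSpace.Basic
import Groth.Agent.L16.ProjSpace.CohTwist
import Groth.Agent.L29.BC.PCPush
import Groth.Agent.L29.BC.PerfectPush
import Groth.Agent.L29.RelPC.BCMain
import Groth.Agent.L26.Pic0.Edge
import Groth.Agent.L18.GrTildeFT
import Groth.Agent.L17.BC.Apply

/-!
Twists on projective space: derived functors, sections, pseudo-coherence.
-/

set_option autoImplicit false
set_option linter.style.haveILetI false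
set_option backward.defeqAttrib.useBackward true
set_option backward.isDefEq.respectTransparency false
set_option backward.isDefEq.respectTransparency.types false

universe u

open CategoryTheory CategoryTheory.Limits CategoryTheory.Pretriangulated AlgebraicGeometry

attribute [local instance] HasDerivedCategory.standard

noncomputable section

namespace Groth.Lead.PCProj

open Groth.L29.DC Groth.L29.DC.Gen Groth.L16.ProjSpace

variable (n : ℕ) (A : Type u) [CommRing A]

local notation "O" => Twist.twistProjSpace n A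
local notation "X'" => CohB1.ProjSpace n A
local notation "π'" => CohB1.ProjSpace.toSpec n A

theorem hfl (c : ℤ) : FlatMod.IsFinLocFree (O c) :=
  Groth.L16.Existence.isFinLocFree_of_isInvertible (Groth.L16.ProjTwist.isInvertible_twistProjSpace n A c)

/-- the twist -/
abbrev Tw (c : ℤ) : DCoh.D X' ⥤ DCoh.D X' := TwistEquiv.T (O c) (hfl n A c)

theorem nonempty_inverse (c : ℤ) :
    Nonempty (CohB1.tensorMod (O c) (O (-c)) ≅ Coh.structureModule X') := by
  obtain ⟨e⟩ := Groth.L16.ProjTwist.nonempty_tensor_twist_iso_one (CohB1.polyGrading n A) (fun x => by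
    obtain ⟨k, hk⟩ := exists_mem_basicOpen_X n A x
    exact ⟨Xd n A k, hk⟩) c (-c)
  obtain ⟨e₀⟩ := Groth.L16.ProjTwist.nonempty_twist_zero_iso (CohB1.polyGrading n A)
  exact ⟨e ≪≫ eqToIso (by rw [add_neg_cancel]) ≪≫ e₀⟩

instance isEquivalence_Tw (c : ℤ) : (Tw n A c).IsEquivalence := by
  obtain ⟨e⟩ := nonempty_inverse n A c
  obtain ⟨e'⟩ := nonempty_inverse n A (-c)
  rw [neg_neg] at e'
  exact TwistEquiv.isEquivalence _ (hfl n A (-c)) e e'

theorem nonempty_HD_Tw (c : ℤ) (E : DCoh.D X') (i : ℤ) :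
    Nonempty (DCoh.HD ((Tw n A c).obj E) i ≅ (DCoh.tensorRightMod (O c)).obj (DCoh.HD E i)) := by
  haveI := (Groth.L16.Rees.PushExact.exact_instances (hfl n A c)).1
  haveI := (Groth.L16.Rees.PushExact.exact_instances (hfl n A c)).2
  let C := DerivedCategory.Q.objPreimage E
  let e := DerivedCategory.Q.objObjPreimageIso E
  let R := DCoh.tensorRightMod (O c)
  exact ⟨(DerivedCategory.homologyFunctor _ i).mapIso
      ((Tw n A c).mapIso e.symm ≪≫ (TwistEquiv.TFactors (O c) (hfl n A c)).app C) ≪≫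
    (DerivedCategory.homologyFunctorFactors _ i).app ((R.mapHomologicalComplex (ComplexShape.up ℤ)).obj C) ≪≫
    (C.sc i).mapHomologyIso R ≪≫
    R.mapIso (((DerivedCategory.homologyFunctorFactors _ i).app C).symm ≪≫
      (DerivedCategory.homologyFunctor _ i).mapIso e)⟩

theorem isQCohD_Tw (c : ℤ) {E : DCoh.D X'} (hE : DCoh.IsQCohD E) : DCoh.IsQCohD ((Tw n A c).obj E) := fun i => by
  obtain ⟨e⟩ := nonempty_HD_Tw n A c E i
  haveI := hE i
  haveI : Coh.IsQCoh (O c) := Groth.L21.Extend.isQCoh_of_isInvertible (Groth.L16.ProjTwist.isInvertible_twistProjSpace n A c)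
  exact Groth.L29.DC.isQCoh_of_iso' e.symm (Groth.L00.Tensor.isQCoh_tensorMod (DCoh.HD E i) (O c))

/-- twisting `O(-c)` gives the structure sheaf -/
theorem nonempty_Tw_neg (c : ℤ) :
    Nonempty ((Tw n A c).obj (DCoh.inD X' (O (-c))) ≅ DCoh.inD X' (Coh.structureModule X')) := by
  obtain ⟨e⟩ := nonempty_inverse n A (-c)
  rw [neg_neg] at e
  exact ⟨TwistEquiv.TSingle (O c) (hfl n A c) (O (-c)) ≪≫ (DerivedCategory.singleFunctor _ 0).mapIso e⟩

/-! ### sections -/

variable [DCoh.HasRpush (CohB1.ProjSpace.toSpec n A)]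

/-- twist and push -/
abbrev NF (c : ℤ) : DCoh.D X' ⥤ DCoh.D (Spec (CommRingCat.of A)) := Tw n A c ⋙ DCoh.Rpush π'

/-- the structure sheaf of the base -/
abbrev OS : DCoh.D (Spec (CommRingCat.of A)) := DCoh.inD _ (Coh.structureModule (Spec (CommRingCat.of A)))

theorem cls_bij {F : DCoh.D (Spec (CommRingCat.of A))} (hF : DCoh.IsQCohD F) :
    Function.Bijective (Groth.L10.LocalDetect.cls : (OS A ⟶ F) → _) := by
  obtain ⟨e⟩ := Cpt.nonempty_free_top (X := Spec (CommRingCat.of A))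
  have h := TwistGen.cls_injective hF (A := (⊤ : (Spec (CommRingCat.of A)).Opens)) (isAffineOpen_top _)
  let S₀ := DerivedCategory.singleFunctor (Spec (CommRingCat.of A)).Modules 0
  refine ⟨fun a b hab => (cancel_epi (S₀.map e.hom)).1 (h.1 ?_), fun y => ?_⟩
  · rw [Groth.L10.LocalDetect.cls_map, Groth.L10.LocalDetect.cls_map, hab]
  · obtain ⟨ξ, hξ⟩ := h.2 (e.hom ≫ y)
    refine ⟨S₀.map e.inv ≫ ξ, ?_⟩
    rw [Groth.L10.LocalDetect.cls_map, hξ, Iso.inv_hom_id_assoc]

/-- global sections of twisted direct images come from the twists -/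
theorem exists_adjoint (c : ℤ) :
    ∃ η : OS A ⟶ (NF n A c).obj (DCoh.inD X' (O (-c))), ∀ E : DCoh.D X',
      Function.Bijective (fun φ : DCoh.inD X' (O (-c)) ⟶ E => η ≫ (NF n A c).map φ) := by
  haveI := Groth.L00.KFlat.hasLpull (CohB1.ProjSpace.toSpec n A)
  obtain ⟨eP⟩ := Groth.L29.RelPC.nonempty_Lpull_unit (CohB1.ProjSpace.toSpec n A)
  obtain ⟨eT⟩ := nonempty_Tw_neg n A c
  let ad := Groth.L29.BC.adj (CohB1.ProjSpace.toSpec n A)
  let e := eP ≪≫ eT.symm
  refine ⟨ad.homEquiv _ _ e.hom, fun E => ?_⟩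
  have : (fun φ : DCoh.inD X' (O (-c)) ⟶ E => ad.homEquiv _ _ e.hom ≫ (NF n A c).map φ) =
      fun φ => ad.homEquiv _ _ (e.hom ≫ (Tw n A c).map φ) := funext fun φ => (ad.homEquiv_naturality_right _ _).symm
  rw [this]
  exact (ad.homEquiv _ _).bijective.comp
    (Function.Bijective.comp ⟨fun a b h => (cancel_epi e.hom).1 h, fun b => ⟨e.inv ≫ b, e.hom_inv_id_assoc b⟩⟩
      (Functor.FullyFaithful.map_bijective (Functor.FullyFaithful.ofFullyFaithful (Tw n A c)) _ _))

theorem isQCohD_NF (c : ℤ) {E : DCoh.D X'} (hE : DCoh.IsQCohD E) : DCoh.IsQCohD ((NF n A c).obj E) :=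
  RpushQC.isQCohD_Rpush π' _ (isQCohD_Tw n A c hE)

/-- no morphisms from `O(-c)` when the twisted direct image has no `H⁰` -/
theorem hom_eq_zero (c : ℤ) {E : DCoh.D X'} (hE : DCoh.IsQCohD E)
    (h : IsZero (DCoh.HD ((NF n A c).obj E) 0)) (φ : DCoh.inD X' (O (-c)) ⟶ E) : φ = 0 := by
  obtain ⟨η, hη⟩ := exists_adjoint n A c
  exact (hη E).1 ((cls_bij A (isQCohD_NF n A c hE)).1 (h.eq_of_tgt _ _))

/-! ### generators of sections -/

theorem exists_generators {R : CommRingCat.{u}} (F : (Spec (R)).Modules) [hq : F.IsQuasicoherent] (hF : CohB1.IsFT F) :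
    ∃ (r : ℕ) (σ : Fin r → (Coh.structureModule (Spec (R)) ⟶ F)),
      ∀ (Z : (Spec (R)).Modules) (g : F ⟶ Z), (∀ k, σ k ≫ g = 0) → g = 0 := by
  haveI : IsIso F.fromTildeΓ := Scheme.Modules.isIso_fromTildeΓ_of_isQuasicoherent F
  haveI : Module.Finite (R) ((moduleSpecΓFunctor (R := R)).obj F) :=
    (Groth.L18.GrT.tildeFT_iff _ _).1 (TildeAlg.isFT_of_iso (asIso F.fromTildeΓ).symm hF)
  obtain ⟨r, v, hv⟩ := Module.Finite.exists_fin (R := (R : Type u))
    (M := (moduleSpecΓFunctor (R := R)).obj F)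
  refine ⟨r, fun k => Groth.L16.homOfSection F (v k), fun Z g hg => ?_⟩
  have hΓ : (moduleSpecΓFunctor (R := R)).map g = 0 := by
    refine ModuleCat.hom_ext (LinearMap.ext_on hv ?_)
    rintro _ ⟨k, rfl⟩
    have h1 := congrArg (fun q : Coh.structureModule (Spec (R)) ⟶ Z =>
      Groth.L18.GenLoc.secOf q) (hg k)
    change g.app ⊤ (Groth.L18.GenLoc.secOf (Groth.L16.homOfSection F (v k))) = _ at h1
    rw [Groth.L18.GenLoc.secOf_homOfSection] at h1
    exact h1
  have h2 := (tilde.adjunction (R := R)).counit.naturality g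
  rw [Functor.comp_map, Functor.id_map, hΓ, Functor.map_zero, zero_comp] at h2
  rw [← cancel_epi F.fromTildeΓ, comp_zero]
  exact h2.symm

/-! ### pseudo-coherence under twists -/

theorem isPerfect_inD {X : Scheme.{u}} {M : X.Modules} (hM : FlatMod.IsFinLocFree M) :
    DCoh.IsPerfect (DCoh.inD X M) := by
  have hS : DCoh.IsStrictlyPerfect ((HomologicalComplex.single X.Modules (ComplexShape.up ℤ) 0).obj M) := by
    refine ⟨⟨0, 0, fun i hi => HomologicalComplex.isZero_single_obj_X (ComplexShape.up ℤ) 0 M i (by omega)⟩, fun i => ?_⟩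
    by_cases hi : i = 0
    · subst hi
      exact Groth.L29.LocFree.of_iso (HomologicalComplex.singleObjXSelf (ComplexShape.up ℤ) 0 M).symm hM
    · exact fun x => ⟨⊤, 0, trivial, ⟨((Scheme.Modules.restrictFunctor _).map_isZero
        (HomologicalComplex.isZero_single_obj_X (ComplexShape.up ℤ) 0 M i hi)).iso (Groth.L17.BC.isZero_freeMod_zero _)⟩⟩
  exact isPerfect_of_iso ((DerivedCategory.singleFunctorIsoCompQ X.Modules 0).app M).symm
    (perfect_of_on fun x => ⟨_, (⊤ : X.Opens).ι, inferInstance, by simp,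
      PWit.restrict _ ⟨_, hS, ⟨Iso.refl _⟩⟩⟩)

end Groth.Lead.PCProj
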