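import Groth.Agent.Lead.FibreLocal
import Groth.Agent.L10.RelPC.TorFlatBC
import Groth.Agent.L10.DRing.LocalAmp

/-!
# Stalkwise tor amplitude of an associated module complex
-/

set_option autoImplicit false
set_option linter.style.haveILetI false
set_option backward.isDefEq.respectTransparency false
set_option backward.isDefEq.respectTransparency.types false
set_option backward.defeqAttrib.useBackward true

universe u

open CategoryTheory CategoryTheory.Limits AlgebraicGeometry TensorProduct MonoidalCategory

noncomputable section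

attribute [local instance] HasDerivedCategory.standard

namespace Groth.Lead.TildeAmp

open Groth.L10.LocalAmp Groth.L10.AmpTest

variable {R A : Type u} [CommRing R] [CommRing A] (φ : R →+* A)

/-- the morphism of affine schemes -/
abbrev π : Spec (CommRingCat.of A) ⟶ Spec (CommRingCat.of R) := Spec.map (CommRingCat.ofHom φ)

theorem stalk_spec (x : Spec (CommRingCat.of A)) (r : R) :
    (((π φ).stalkMap x).hom) ((StructureSheaf.toStalk R (π φ x)).hom r) =
      (StructureSheaf.toStalk A x).hom (φ r) := by
  show Groth.L14.Quot.β (π φ) x r = _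
  rw [Groth.L14.Quot.β_eq_germ]
  have h : (π φ).appTop ((Scheme.ΓSpecIso (CommRingCat.of R)).inv r) =
      (Scheme.ΓSpecIso (CommRingCat.of A)).inv (φ r) :=
    (ConcreteCategory.congr_hom (Scheme.ΓSpecIso_inv_naturality (CommRingCat.ofHom φ)) r).symm
  exact (congrArg ((Spec (CommRingCat.of A)).presheaf.germ ⊤ x trivial) h).trans rfl

/-- the stalk complex of an associated complex -/
abbrev stalkExt (K : DRing.Cx A) (x : Spec (CommRingCat.of A)) :
    DRing.Cx ((Spec (CommRingCat.of A)).presheaf.stalk x) :=
  (_root_.DTen.extCx (StructureSheaf.toStalk A x).hom).obj K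

theorem amp_local_iff (K : DRing.Cx A) (a b : ℤ) :
    (∀ x : Spec (CommRingCat.of A), DRing.HasTorAmplitudeIn ((Spec (CommRingCat.of R)).presheaf.stalk (π φ x)) a b
      (DRing.toD ((_root_.DTen.resCx ((π φ).stalkMap x).hom).obj (stalkExt K x)))) ↔
    DRing.HasTorAmplitudeIn R a b (DRing.toD ((_root_.DTen.resCx φ).obj K)) := by
  letI : Algebra R A := φ.toAlgebra
  have key : ∀ x : Spec (CommRingCat.of A),
      (DRing.HasTorAmplitudeIn ((Spec (CommRingCat.of R)).presheaf.stalk (π φ x)) a b
        (DRing.toD ((_root_.DTen.resCx ((π φ).stalkMap x).hom).obj (stalkExt K x))) ↔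
      ∀ (N : ModuleCat.{u} R) (P : DRing.Cx R), DRing.IsKFlat R P →
        (DRing.toD P ≅ DRing.toD ((HomologicalComplex.single (ModuleCat.{u} R) (ComplexShape.up ℤ) 0).obj N)) →
          ∀ i : ℤ, i < a ∨ b < i → IsZero ((DRing.tensorCx ((_root_.DTen.extCx (algebraMap R A)).obj P ⊗ K)
            (resOne (StructureSheaf.toStalk A x).hom)).homology i)) := by
    intro x
    let T := (Spec (CommRingCat.of R)).presheaf.stalk (π φ x)
    let C := (Spec (CommRingCat.of A)).presheaf.stalk x
    letI : Algebra R T := (StructureSheaf.toStalk R (π φ x)).hom.toAlgebra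
    haveI : IsLocalization.AtPrime T (π φ x).asIdeal := StructureSheaf.IsLocalization.to_stalk _ (π φ x)
    letI : Algebra T C := ((π φ).stalkMap x).hom.toAlgebra
    letI : Algebra R C := ((StructureSheaf.toStalk A x).hom.comp φ).toAlgebra
    haveI : IsScalarTower R T C := IsScalarTower.of_algebraMap_eq fun r => (stalk_spec φ x r).symm
    rw [show ((π φ).stalkMap x).hom = algebraMap T C from rfl,
      ← Groth.L10.RelPC.TorFlatBC.amp_localization_iff (π φ x).asIdeal.primeCompl (stalkExt K x) a b,
      amp_iff_test]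
    exact ⟨fun h N P hP e i hi => (test_ext (A := R) (B := A) (C := C) (StructureSheaf.toStalk A x).hom rfl P K i).1 (h N P hP e i hi),
      fun h N P hP e i hi => (test_ext (A := R) (B := A) (C := C) (StructureSheaf.toStalk A x).hom rfl P K i).2 (h N P hP e i hi)⟩
  rw [show φ = algebraMap R A from rfl, amp_restrict_iff K a b]
  constructor
  · intro h N P hP e i hi
    refine isZero_of_local _ i fun m hm => ?_
    let x : Spec (CommRingCat.of A) := ⟨m, hm.isPrime⟩
    let C := (Spec (CommRingCat.of A)).presheaf.stalk x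
    letI : Algebra A C := (StructureSheaf.toStalk A x).hom.toAlgebra
    haveI : IsLocalization.AtPrime C m := StructureSheaf.IsLocalization.to_stalk _ x
    haveI : Module.Flat A C := IsLocalization.flat C m.primeCompl
    haveI := flat_resOne (algebraMap A C) rfl
    haveI := flat_resOne (algebraMap A (Localization.AtPrime m)) rfl
    have h1 : Subsingleton ((((_root_.DTen.extCx (algebraMap R A)).obj P ⊗ K).homology i : ModuleCat.{u} A) ⊗[A]
        resOne (algebraMap A C)) := (isZero_tensor_flat_iff _ _ i).1 ((key x).1 (h x) N P hP e i hi)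
    let e₁ : resOne (algebraMap A C) ≃ₗ[A] resOne (algebraMap A (Localization.AtPrime m)) :=
      resOneEquiv.symm.trans ((IsLocalization.algEquiv m.primeCompl C (Localization.AtPrime m)).toLinearEquiv.trans
        resOneEquiv)
    exact (isZero_tensor_flat_iff _ _ i).2
      ((LinearEquiv.lTensor _ e₁).symm.toEquiv.subsingleton)
  · intro h x
    refine (key x).2 fun N P hP e i hi => ?_
    letI : Algebra A ((Spec (CommRingCat.of A)).presheaf.stalk x) := (StructureSheaf.toStalk A x).hom.toAlgebra
    haveI : IsLocalization.AtPrime ((Spec (CommRingCat.of A)).presheaf.stalk x) x.asIdeal :=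
      StructureSheaf.IsLocalization.to_stalk _ x
    haveI : Module.Flat A ((Spec (CommRingCat.of A)).presheaf.stalk x) := IsLocalization.flat _ x.asIdeal.primeCompl
    haveI : Module.Flat A (resOne (StructureSheaf.toStalk A x).hom) :=
      flat_resOne (A := A) (B := (Spec (CommRingCat.of A)).presheaf.stalk x) _ rfl
    exact isZero_tensor_flat _ _ i (h N P hP e i hi)

/-- tor amplitude of the associated complex, at every point and over the base ring -/
theorem hasTorAmplitude_iff [PreservesFiniteLimits (tilde.functor (CommRingCat.of A))] (K : DRing.Cx A)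
    (F : CochainComplex (Spec (CommRingCat.of A)).Modules ℤ)
    (e : DCoh.toD (Spec (CommRingCat.of A)) F ≅ (DCoh.tildeD (CommRingCat.of A)).obj (DRing.toD K)) (a b : ℤ) :
    DerSch.HasTorAmplitude (π φ) a b F ↔
      DRing.HasTorAmplitudeIn R a b ((DRing.restrictD φ).obj (DRing.toD K)) := by
  letI : Algebra R A := φ.toAlgebra
  let tK := (Groth.L29.DC.TildeAlg.tC (R := CommRingCat.of A)).obj K
  let e' : DCoh.toD (Spec (CommRingCat.of A)) F ≅ DCoh.toD (Spec (CommRingCat.of A)) tK :=
    e ≪≫ Groth.L29.DC.TildeAlg.qIso (R := CommRingCat.of A) K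
  let i : ∀ x : Spec (CommRingCat.of A),
      (DerSch.stalkCxOver (π φ) x).obj tK ≅ (_root_.DTen.resCx ((π φ).stalkMap x).hom).obj (stalkExt K x) := fun x =>
    (_root_.DTen.resCx ((π φ).stalkMap x).hom).mapIso
      ((NatIso.mapHomologicalComplex (Groth.L00.KFlat.tildeStalkIso (CommRingCat.of A) x) (ComplexShape.up ℤ)).app K)
  refine Iff.trans ?_ ((amp_local_iff φ K a b).trans ⟨Groth.L10.DR.amp_of_iso (Groth.L20.TorAmp.resIso (A := R) K).symm,
    Groth.L10.DR.amp_of_iso (Groth.L20.TorAmp.resIso (A := R) K)⟩)
  exact ⟨fun h x => Groth.L10.DR.amp_of_iso (DerivedCategory.Q.mapIso (i x))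
      (Groth.Lead.RelFinTor.amp_congr (π φ) e' x a b (h x)),
    fun h x => Groth.Lead.RelFinTor.amp_congr (π φ) e'.symm x a b
      (Groth.L10.DR.amp_of_iso (DerivedCategory.Q.mapIso (i x).symm) (h x))⟩

end Groth.Lead.TildeAmp
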