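import Groth.Agent.Lead.FlatBCGlobal
import Groth.Agent.L29.BC.PerfectPush
import Groth.Agent.L29.DCoh.TensorPerfect
import Groth.Agent.L17.Approx.Model
import Groth.Agent.L17.KilledUnit
import Groth.Agent.L16.SchSupport
import Groth.Agent.L17.Strat.Rk
import Groth.Agent.L19.Approx.Closed
import Groth.Agent.L19.LimMod.Zero
import Groth.Agent.L20.ModStalk
import Groth.Agent.L19.SupportPullback
import Groth.Agent.L27.ExtZero.Proper
import Groth.Agent.L13.Fitting.LocFree

/-!
`Rf_*(E ⊗^L G)` is perfect for `G` finitely presented, flat over the base, with proper support.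
-/

set_option autoImplicit false
set_option linter.style.haveILetI false
set_option backward.defeqAttrib.useBackward true
set_option backward.isDefEq.respectTransparency false
set_option backward.isDefEq.respectTransparency.types false

universe u

open CategoryTheory CategoryTheory.Limits CategoryTheory.Pretriangulated AlgebraicGeometry

attribute [local instance] HasDerivedCategory.standard

namespace Groth.Lead.FlatPerfect

open Groth.L00 Groth.L29.DC Groth.L29.BC

local notation "up" => ComplexShape.up ℤ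

variable {X S : Scheme.{u}}

/-- isomorphic modules give isomorphic derived tensor products -/
theorem nonempty_LTMod_congr {G G' : X.Modules} (e : G ≅ G') [DCoh.HasLTensorMod G] [DCoh.HasLTensorMod G'] :
    Nonempty (DCoh.LTensorMod G ≅ DCoh.LTensorMod G') := by
  haveI := KFlat.hasLTensorCx (LTMod.S0 G)
  haveI := KFlat.hasLTensorCx (LTMod.S0 G')
  obtain ⟨c⟩ := ProjQC.nonempty_LTensorCx_congr (A := LTMod.S0 G) (B := LTMod.S0 G')
    (DerivedCategory.Q.mapIso ((HomologicalComplex.single X.Modules up 0).mapIso e))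
  exact ⟨LTMod.iso G ≪≫ c ≪≫ (LTMod.iso G').symm⟩

/-- `G ⊗^L D ≅ D ⊗^L G` -/
theorem nonempty_swap (G : X.Modules) [DCoh.HasLTensorMod G] (D : CochainComplex X.Modules ℤ) (hD : DCoh.IsKFlat D)
    [DCoh.HasLTensorCx D] :
    Nonempty ((DCoh.LTensorMod G).obj (DCoh.toD X D) ≅ (DCoh.LTensorCx D).obj (DCoh.inD X G)) :=
  ⟨DerivedApi.objIso (DerivedApi.acyclicKFlat_tensorMod G) D hD ≪≫
    DerivedCategory.Q.mapIso ((NatIso.mapHomologicalComplex (DerivedApi.tensorRightModIso G) up).app D) ≪≫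
    DerivedCategory.Q.mapIso (SingleTotal.iso (DCoh.tensorBi (X := X)) G D) ≪≫
    ((Assoc.allIso D hD).app _).symm ≪≫
    (DCoh.LTensorCx D).mapIso ((DerivedCategory.singleFunctorIsoCompQ X.Modules 0).app G).symm⟩

theorem isProperOver_support (f : X ⟶ S) [IsProper f] {M : X.Modules} (hM : Coh.IsCoh M) :
    ClSub.IsProperOver f (CohB1.support M) := by
  have hc : IsClosed (CohB1.support M) := by
    rw [← Groth.L16.SchSupport.coe_support_annIdeal hM]
    exact (Groth.L16.SchSupport.annIdeal hM).support.isClosed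
  exact ⟨hc, inferInstance⟩

/-- `- ⊗^L G` commutes with shifts -/
theorem nonempty_shift (G : X.Modules) [DCoh.HasLTensorMod G] (E : DCoh.D X) (n : ℤ) :
    Nonempty ((DCoh.LTensorMod G).obj (E⟦n⟧) ≅ ((DCoh.LTensorMod G).obj E)⟦n⟧) := by
  obtain ⟨P, q, hP, -, hq, -⟩ := KFlat.exists_resolution (DerivedCategory.Q.objPreimage E)
  haveI := (DerivedCategory.isIso_Q_map_iff_quasiIso _ q).2 hq
  let eE : DCoh.toD X P ≅ E := asIso (DerivedCategory.Q.map q) ≪≫ DerivedCategory.Q.objObjPreimageIso E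
  exact ⟨(DCoh.LTensorMod G).mapIso ((shiftFunctor _ n).mapIso eE.symm ≪≫
      ((DerivedCategory.Q.commShiftIso n).app P).symm) ≪≫
    DerivedApi.objIso (DerivedApi.acyclicKFlat_tensorMod G) _ (KFlat.shift P n hP) ≪≫
    DerivedCategory.Q.mapIso ((((DCoh.tensorRightMod G).mapHomologicalComplex up).commShiftIso n).app P) ≪≫
    (DerivedCategory.Q.commShiftIso n).app _ ≪≫
    (shiftFunctor _ n).mapIso ((DerivedApi.objIso (DerivedApi.acyclicKFlat_tensorMod G) P hP).symm ≪≫
      (DCoh.LTensorMod G).mapIso eE)⟩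

set_option maxHeartbeats 800000 in
/-- the proper case over an affine base -/
theorem isPerfect_affineBase {A : Type u} [CommRing A] (f : X ⟶ Spec (CommRingCat.of A)) [IsProper f]
    [LocallyOfFinitePresentation f] [DCoh.HasRpush f] (G : X.Modules) (hG : CohB1.IsFP G) (hGq : Coh.IsQCoh G)
    (hfl : FlatMod.IsFlatOver f G) [DCoh.HasLTensorMod G] {E : DCoh.D X} (hE : DCoh.IsPerfect E) :
    DCoh.IsPerfect ((DCoh.Rpush f).obj ((DCoh.LTensorMod G).obj E)) := by
  haveI := hGq
  obtain ⟨A₀, hA₀, X₀, f₀, g, F₀, hf₀, hlfp₀, hF₀, hflat₀, sq, ⟨eF⟩⟩ :=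
    Groth.L17.Approx.exists_noetherian_model f G hG hfl
  haveI := hA₀
  haveI := hf₀
  haveI := hlfp₀
  let h : Spec (CommRingCat.of A) ⟶ Spec (CommRingCat.of ↥A₀) := Spec.map (CommRingCat.ofHom (algebraMap (↥A₀) A))
  haveI : IsAffineHom g := MorphismProperty.of_isPullback (P := @IsAffineHom) sq.flip inferInstance
  haveI := fun {Y Z : Scheme.{u}} (k : Y ⟶ Z) => RpushQC.hasRpush k
  haveI := fun {Y Z : Scheme.{u}} (k : Y ⟶ Z) => KFlat.hasLpull k
  haveI := fun {Y : Scheme.{u}} (M : Y.Modules) => DerivedApi.hasLTensorMod M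
  haveI : X₀.IsSeparated := ⟨by rw [← terminal.comp_from f₀]; infer_instance⟩
  haveI : CompactSpace X₀ := QuasiCompact.compactSpace_of_compactSpace f₀
  haveI : X.IsSeparated := ⟨by rw [← terminal.comp_from f]; infer_instance⟩
  haveI : CompactSpace X := QuasiCompact.compactSpace_of_compactSpace f
  have hs₀ : ClSub.IsProperOver f₀ (CohB1.support F₀) := isProperOver_support f₀ hF₀
  obtain ⟨G₀, hG₀, hgen₀⟩ := Gen.exists_perfect_generator X₀
  let Gg := (DCoh.Lpull g).obj G₀
  have hGg : DCoh.IsPerfect Gg := Groth.Agent.S0921.result g G₀ hG₀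
  have hpush : DCoh.IsPerfect ((DCoh.Rpush f).obj ((DCoh.LTensorMod G).obj Gg)) := by
    haveI := Groth.Lead.FlatBC.isIso_Φ (G := F₀) sq hF₀.1 hflat₀ (PCQCoh.isQCohD_of_perfect hG₀)
    obtain ⟨c⟩ := nonempty_LTMod_congr eF
    refine isPerfect_of_iso (asIso ((Groth.Lead.FlatBC.Φ sq.w F₀).app G₀) ≪≫ (DCoh.Rpush f).mapIso (c.app Gg))
      (Groth.Agent.S0921.result h _ ?_)
    exact PerfectTensor.isPerfect_Rpush_LTensorMod f₀ G₀ hG₀ F₀ hF₀ hflat₀ hs₀
  have hgen : ∀ F : DCoh.D X, DCoh.IsQCohD F → Gen.Ortho Gg F → IsZero F := fun F hF ho => by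
    refine RpushQC.isZero_of_isZero_Rpush g F hF (hgen₀ _ (RpushQC.isQCohD_Rpush g F hF) fun n φ => ?_)
    letI := commShiftLpull g
    haveI := RpushColim.additive_Rpush g
    haveI : (DCoh.Lpull g).Additive := (adj g).left_adjoint_additive
    apply ((adj g).homEquiv _ _).symm.injective
    rw [← cancel_epi (((DCoh.Lpull g).commShiftIso n).app G₀).inv]
    exact (ho n _).trans (by simp [Adjunction.homEquiv_counit])
  obtain ⟨Y, hY, ⟨r⟩⟩ := Gen.exists_retract_of_generator hGg hgen hE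
  haveI := LTMod.additive G
  haveI := KFlat.hasLTensorCx (LTMod.S0 G)
  letI := Gen.commShiftRpush f
  haveI := Gen.isTriangulated_Rpush f
  haveI := RpushColim.additive_Rpush f
  refine isPerfect_of_retract (r.map (DCoh.LTensorMod G ⋙ DCoh.Rpush f)) ?_
  clear r
  suffices H : ∀ n : ℤ, DCoh.IsPerfect ((DCoh.Rpush f).obj ((DCoh.LTensorMod G).obj (Y⟦n⟧))) from
    isPerfect_of_iso ((DCoh.LTensorMod G ⋙ DCoh.Rpush f).mapIso ((shiftFunctorZero (DCoh.D X) ℤ).app Y)) (H 0)
  have shiftGen : ∀ n : ℤ, DCoh.IsPerfect ((DCoh.Rpush f).obj ((DCoh.LTensorMod G).obj (Gg⟦n⟧))) := fun n => by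
    obtain ⟨s⟩ := nonempty_shift G Gg n
    exact isPerfect_of_iso ((DCoh.Rpush f).mapIso s.symm)
      (isPerfect_of_iso (((DCoh.Rpush f).commShiftIso n).app _).symm (perfect_shift hpush n))
  induction hY with
  | gen m =>
    exact fun n => isPerfect_of_iso ((DCoh.LTensorMod G ⋙ DCoh.Rpush f).mapIso
      ((shiftFunctorAdd (DCoh.D X) m n).app Gg)) (shiftGen (m + n))
  | zero h =>
    exact fun n => EvalMain.isPerfect_of_isZero
      ((DCoh.LTensorMod G ⋙ DCoh.Rpush f).map_isZero ((shiftFunctor (DCoh.D X) n).map_isZero h))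
  | ext T hT _ _ h₁ h₃ =>
    intro n
    obtain ⟨c, hd⟩ := LTExact.exists_distinguished (LTMod.S0 G) ((Triangle.shiftFunctor _ n).obj T)
      (T.shift_distinguished hT n)
    have hd' := (DCoh.Rpush f).map_distinguished _ hd
    let I := LTMod.iso G
    have e₁ : DCoh.IsPerfect ((DCoh.Rpush f).obj ((DCoh.LTensorCx (LTMod.S0 G)).obj ((T.obj₁⟦n⟧)⟦(1 : ℤ)⟧))) :=
      isPerfect_of_iso ((DCoh.LTensorMod G ⋙ DCoh.Rpush f).mapIso ((shiftFunctorAdd (DCoh.D X) n 1).app T.obj₁) ≪≫
        (DCoh.Rpush f).mapIso (I.app _)) (h₁ (n + 1))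
    have e₃ := isPerfect_of_iso ((DCoh.Rpush f).mapIso (I.app _)) (h₃ n)
    exact isPerfect_of_iso ((DCoh.Rpush f).mapIso (I.app _).symm)
      ((perfect_two_out_of_three hd').2.2 e₃ e₁)
  | iso e _ h =>
    exact fun n => isPerfect_of_iso ((DCoh.LTensorMod G ⋙ DCoh.Rpush f).mapIso
      ((shiftFunctor (DCoh.D X) n).mapIso e)) (h n)

/-- the finitely presented support subscheme -/
theorem exists_fp_subscheme (f : X ⟶ S) [LocallyOfFinitePresentation f] (G : X.Modules) [Coh.IsQCoh G]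
    (hG : CohB1.IsFP G) (hsupp : ClSub.IsProperOver f (CohB1.support G)) :
    ∃ (Z : Scheme.{u}) (i : Z ⟶ X), IsClosedImmersion i ∧ IsProper (i ≫ f) ∧ LocallyOfFinitePresentation (i ≫ f) ∧
      IsIso ((Scheme.Modules.pullbackPushforwardAdjunction i).unit.app G) := by
  have hft : CohB1.IsFT G := Groth.L19.LimMod.isFT_of_isFP hG
  let J := Fitt.sheafIdeal G 0
  have hJ : ∀ U : X.affineOpens, J.ideal U = Fitt.ideal Γ(X, U.1) Γ(G, U.1) 0 :=
    Groth.L15.FittSheaf.sheafIdeal_ideal G hft 0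
  have hfg : ∀ U : X.affineOpens, (J.ideal U).FG := fun U => by
    haveI := Groth.L20.ModStalk.finitePresentation_sections G hG U.2
    rw [hJ]
    exact Groth.L13.Fitting.ideal_fg_of_finitePresentation 0
  haveI : LocallyOfFinitePresentation J.subschemeι := Groth.L19.Approx.lfp_subschemeι (fun U _ => hfg U)
  have hk : ClSub.KilledByIdeal J.subschemeι.ker G := by
    rw [Scheme.IdealSheafData.ker_subschemeι]
    intro U a ha m
    haveI := Groth.L20.ModStalk.finite_sections G ⟨inferInstance, hft⟩ U.2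
    rw [hJ] at ha
    exact Module.mem_annihilator.1 (Groth.L13.Fitting.ideal_zero_le_annihilator ha) m
  have hsup : Set.range J.subschemeι = CohB1.support G := by
    have hcoh : Coh.IsCoh G := ⟨inferInstance, hft⟩
    rw [Scheme.IdealSheafData.range_subschemeι, ← Groth.L16.SchSupport.coe_support_annIdeal hcoh]
    ext x
    obtain ⟨_, ⟨V, hV, rfl⟩, hxV, -⟩ := X.isBasis_affineOpens.exists_subset_of_mem_open (Set.mem_univ x) isOpen_univ
    haveI := Groth.L20.ModStalk.finite_sections G hcoh hV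
    rw [SetLike.mem_coe, SetLike.mem_coe, ← not_iff_not, Groth.L15.FittSheaf.notMem_support_iff G hft 0 (U := ⟨V, hV⟩) hxV]
    rw [Scheme.IdealSheafData.mem_support_iff_of_mem (U := ⟨V, hV⟩) hxV, Groth.L16.SchSupport.annIdeal_ideal]
    have key := congrArg (fun C => (hV.primeIdealOf ⟨x, hxV⟩) ∈ C)
      (Groth.L13.Fitting.zeroLocus_ideal_zero (R := Γ(X, V)) (M := Γ(G, V)))
    simp only [Module.support_eq_zeroLocus, PrimeSpectrum.mem_zeroLocus, SetLike.coe_subset_coe, eq_iff_iff] at key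
    refine (not_congr key).trans (not_congr ⟨fun h => ?_, fun h => ?_⟩)
    · have h1 : x ∈ hV.fromSpec '' PrimeSpectrum.zeroLocus (Module.annihilator Γ(X, V) Γ(G, V) : Set Γ(X, V)) :=
        ⟨_, h, hV.fromSpec_primeIdealOf ⟨x, hxV⟩⟩
      rw [hV.fromSpec_image_zeroLocus] at h1
      exact h1.1
    · have h1 : hV.fromSpec (hV.primeIdealOf ⟨x, hxV⟩) ∈
          hV.fromSpec '' PrimeSpectrum.zeroLocus (Module.annihilator Γ(X, V) Γ(G, V) : Set Γ(X, V)) := by
        rw [hV.fromSpec_image_zeroLocus, hV.fromSpec_primeIdealOf]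
        exact ⟨h, hxV⟩
      obtain ⟨q, hq, hqx⟩ := h1
      rw [← hV.fromSpec.isOpenEmbedding.injective hqx]
      exact hq
  exact ⟨J.subscheme, J.subschemeι, inferInstance, Groth.L16.SchSupport.isProper_of_isProperOver f hsupp _ hsup,
    inferInstance, Groth.L17.KilledUnit.isIso_of_killed J.subschemeι G hk⟩

/-- `Ri_*` of a quasi-coherent module in degree `0` for affine `i` -/
theorem nonempty_Rpush_single {Z : Scheme.{u}} (i : Z ⟶ X) [IsAffineHom i] [DCoh.HasRpush i] (M : Z.Modules)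
    [hM : Coh.IsQCoh M] :
    Nonempty ((DCoh.Rpush i).obj (DCoh.inD Z M) ≅ DCoh.inD X ((Scheme.Modules.pushforward i).obj M)) := by
  haveI := Groth.L17.PushQCoh.additive_push i
  let N := (HomologicalComplex.single Z.Modules up 0).obj M
  haveI := isIso_ηR_affine i N fun k => by
    by_cases hk : k = 0
    · subst hk
      exact isQCoh_of_iso' (HomologicalComplex.singleObjXSelf up 0 M).symm hM
    · exact isQCoh_of_isZero (HomologicalComplex.isZero_single_obj_X up 0 M k hk)
  exact ⟨(DCoh.Rpush i).mapIso ((DerivedCategory.singleFunctorIsoCompQ Z.Modules 0).app M ≪≫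
      ((DerivedCategory.quotientCompQhIso _).app N).symm) ≪≫
    (asIso ((ηR i).app ((HomotopyCategory.quotient Z.Modules up).obj N))).symm ≪≫
    (DerivedCategory.quotientCompQhIso _).app _ ≪≫
    DerivedCategory.Q.mapIso ((HomologicalComplex.singleMapHomologicalComplex (Scheme.Modules.pushforward i) up 0).app M) ≪≫
    ((DerivedCategory.singleFunctorIsoCompQ X.Modules 0).app _).symm⟩

/-- the statement over an affine base -/
theorem isPerfect_affine {A : Type u} [CommRing A] (f : X ⟶ Spec (CommRingCat.of A)) [LocallyOfFinitePresentation f]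
    [QuasiCompact f] [QuasiSeparated f] [DCoh.HasRpush f] (G : X.Modules) (hG : CohB1.IsFP G) (hGq : Coh.IsQCoh G)
    (hfl : FlatMod.IsFlatOver f G) (hsupp : ClSub.IsProperOver f (CohB1.support G)) [DCoh.HasLTensorMod G]
    {E : DCoh.D X} (hE : DCoh.IsPerfect E) :
    DCoh.IsPerfect ((DCoh.Rpush f).obj ((DCoh.LTensorMod G).obj E)) := by
  haveI := hGq
  obtain ⟨Z, i, hi, hp, hlfp, hu⟩ := exists_fp_subscheme f G hG hsupp
  haveI := hu
  haveI := hlfp
  haveI := hp
  let GZ := (Scheme.Modules.pullback i).obj G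
  haveI hGZq : Coh.IsQCoh GZ := Groth.L16.AffineBC.isQCoh_pullback i G
  have hGZ : CohB1.IsFP GZ := Groth.L19.LimMod.isFP_pullback' i G hG
  let eG : G ≅ (Scheme.Modules.pushforward i).obj GZ := asIso ((Scheme.Modules.pullbackPushforwardAdjunction i).unit.app G)
  have hflZ : FlatMod.IsFlatOver (i ≫ f) GZ :=
    (Groth.Agent.S9349.result i f GZ hGZq).2 (RelBC.isFlatOver_of_iso f eG hfl)
  haveI := fun {Y Z : Scheme.{u}} (k : Y ⟶ Z) => RpushQC.hasRpush k
  haveI := fun {Y Z : Scheme.{u}} (k : Y ⟶ Z) => KFlat.hasLpull k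
  haveI := fun {Y : Scheme.{u}} (M : Y.Modules) => DerivedApi.hasLTensorMod M
  haveI := fun {Y : Scheme.{u}} (D : CochainComplex Y.Modules ℤ) => KFlat.hasLTensorCx D
  -- representatives
  obtain ⟨D, q, hD, -, hq, -⟩ := KFlat.exists_resolution (DerivedCategory.Q.objPreimage E)
  haveI := (DerivedCategory.isIso_Q_map_iff_quasiIso _ q).2 hq
  let eD : DCoh.toD X D ≅ E := asIso (DerivedCategory.Q.map q) ≪≫ DerivedCategory.Q.objObjPreimageIso E
  let M := ((Scheme.Modules.pullback i).mapHomologicalComplex up).obj D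
  have hM : DCoh.IsKFlat M := KFlat.pullback_kflat i D hD
  let eM : DCoh.toD Z M ≅ (DCoh.Lpull i).obj (DCoh.toD X D) :=
    (DerivedApi.objIso (DerivedApi.acyclicKFlat_pullback i) D hD).symm
  obtain ⟨a⟩ := nonempty_swap G D hD
  obtain ⟨b⟩ := nonempty_swap GZ M hM
  obtain ⟨c⟩ := nonempty_Rpush_single i GZ
  obtain ⟨d⟩ := ProjQC.nonempty_projection i (DCoh.inD Z GZ) (LTMod.isQCohD_inD_of hGZq) D
    (isQCohD_of_iso eD.symm (PCQCoh.isQCohD_of_perfect hE)) M ⟨eM⟩
  have hP := isPerfect_affineBase (i ≫ f) GZ hGZ hGZq hflZ (E := DCoh.toD Z M)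
    (isPerfect_of_iso eM.symm (Groth.Agent.S0921.result i _ (isPerfect_of_iso eD.symm hE)))
  exact isPerfect_of_iso
    ((DCoh.Rpush (i ≫ f)).mapIso b ≪≫ ((cR (g := i) (f := f) (h := i ≫ f) rfl).app _).symm ≪≫
      (DCoh.Rpush f).mapIso (d.symm ≪≫ (DCoh.LTensorCx D).mapIso (c ≪≫
        (DerivedCategory.singleFunctor X.Modules 0).mapIso eG.symm) ≪≫ a.symm ≪≫ (DCoh.LTensorMod G).mapIso eD)) hP

set_option maxHeartbeats 800000 in
/-- the general statement -/
theorem isPerfect_Rpush_LTensorMod (f : X ⟶ S) [LocallyOfFinitePresentation f] [QuasiCompact f] [QuasiSeparated f]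
    {E : DCoh.D X} (hE : DCoh.IsPerfect E) (G : X.Modules) (hG : CohB1.IsFP G) (hGq : Coh.IsQCoh G)
    (hfl : FlatMod.IsFlatOver f G) (hsupp : ClSub.IsProperOver f (CohB1.support G)) [DCoh.HasLTensorMod G]
    [DCoh.HasRpush f] : DCoh.IsPerfect ((DCoh.Rpush f).obj ((DCoh.LTensorMod G).obj E)) := by
  refine EvalMain.isPerfect_of_local fun s => ?_
  obtain ⟨_, ⟨V, hV, rfl⟩, hsV, -⟩ := S.isBasis_affineOpens.exists_subset_of_mem_open (Set.mem_univ s) isOpen_univ
  have sq := isPullback_chart f hV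
  let g₁ := f ∣_ V ≫ hV.isoSpec.hom
  let ι := (f ⁻¹ᵁ V).ι
  haveI := fun {Y Z : Scheme.{u}} (k : Y ⟶ Z) => RpushQC.hasRpush k
  haveI := fun {Y Z : Scheme.{u}} (k : Y ⟶ Z) => KFlat.hasLpull k
  haveI := fun {Y : Scheme.{u}} (M : Y.Modules) => DerivedApi.hasLTensorMod M
  haveI := hGq
  haveI : QuasiCompact g₁ := MorphismProperty.of_isPullback sq inferInstance
  haveI : QuasiSeparated g₁ := MorphismProperty.of_isPullback sq inferInstance
  haveI : LocallyOfFinitePresentation g₁ := MorphismProperty.of_isPullback sq inferInstance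
  let G₁ := (Scheme.Modules.pullback ι).obj G
  have hs₁ : ClSub.IsProperOver g₁ (CohB1.support G₁) := by
    rw [Groth.L19.SupportPullback.support_pullback ι G (Groth.L19.LimMod.isFT_of_isFP hG)]
    exact Groth.L27.Supp.isProperOver_preimage sq hsupp
  have h := isPerfect_affine (A := Γ(S, V)) g₁ G₁ (Groth.L19.LimMod.isFP_pullback' ι G hG)
    (Groth.L16.AffineBC.isQCoh_pullback ι G) (RelBC.isFlatOver_pullback sq hfl) hs₁
    (Groth.Agent.S0921.result ι E hE)
  haveI := Groth.Lead.FlatBC.isIso_Φ (G := G) sq hGq hfl (PCQCoh.isQCohD_of_perfect hE)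
  have h1 : DCoh.IsPerfect ((DCoh.Lpull hV.fromSpec).obj ((DCoh.Rpush f).obj ((DCoh.LTensorMod G).obj E))) :=
    isPerfect_of_iso (asIso ((Groth.Lead.FlatBC.Φ sq.w G).app E)).symm h
  obtain ⟨e₁⟩ := nonempty_Lpull_iso_restrictD hV.fromSpec ((DCoh.Rpush f).obj ((DCoh.LTensorMod G).obj E))
  have h' := EvalMain.isPerfect_restrictD hV.isoSpec.hom (isPerfect_of_iso e₁ h1)
  exact ⟨V, hsV, isPerfect_of_iso
    ((resTransD hV.fromSpec hV.isoSpec.hom (Scheme.Opens.ι V) hV.isoSpec_hom_fromSpec).app _) h'⟩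

end Groth.Lead.FlatPerfect
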