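import Groth.Agent.Lead.FlatPerfect
import Groth.Agent.L29.DCoh.TensorAssoc
import Groth.Agent.L29.BC.LTExact
import Groth.Agent.L22.Inter.FlatTwist

/-!
`Rq_*(N ⊗^L K)` is perfect for a bounded complex `K` of finitely presented modules, flat over the base,
with proper supports, and perfect `N`.
-/

set_option autoImplicit false
set_option linter.style.haveILetI false
set_option backward.defeqAttrib.useBackward true
set_option backward.isDefEq.respectTransparency false
set_option backward.isDefEq.respectTransparency.types false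

universe u

open CategoryTheory CategoryTheory.Limits CategoryTheory.Pretriangulated AlgebraicGeometry

attribute [local instance] HasDerivedCategory.standard

namespace Groth.Lead.FlatPerfect

open Groth.L00 Groth.L29.DC Groth.L29.BC

local notation "up" => ComplexShape.up ℤ

variable {X S : Scheme.{u}}

/-- `toD` of a shifted complex tensored with K-flat `D` -/
theorem nonempty_LTensorCx_shift (D : CochainComplex X.Modules ℤ) (hD : DCoh.IsKFlat D) [DCoh.HasLTensorCx D]
    (P : CochainComplex X.Modules ℤ) (m : ℤ) :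
    Nonempty ((DCoh.LTensorCx D).obj (DCoh.toD X (P⟦m⟧)) ≅ ((DCoh.LTensorCx D).obj (DCoh.toD X P))⟦m⟧) :=
  ⟨(Assoc.allIso D hD).app _ ≪≫
    DerivedCategory.Q.mapIso (CochainComplex.mapBifunctorShift₁Iso P D (DCoh.tensorBi (X := X)) m) ≪≫
    (DerivedCategory.Q.commShiftIso m).app _ ≪≫
    (shiftFunctor _ m).mapIso ((Assoc.allIso D hD).app P).symm⟩

/-- `K ⊗^L D ≅ D ⊗^L K` -/
theorem nonempty_LTensorCx_comm (K D : CochainComplex X.Modules ℤ) (hD : DCoh.IsKFlat D) [DCoh.HasLTensorCx D]
    [DCoh.HasLTensorCx K] :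
    Nonempty ((DCoh.LTensorCx K).obj (DCoh.toD X D) ≅ (DCoh.LTensorCx D).obj (DCoh.toD X K)) := by
  haveI := LTExact.isIso_cnt K hD
  exact ⟨asIso (LTExact.cnt K D) ≪≫ ((Assoc.allIso D hD).app K).symm⟩

set_option maxHeartbeats 800000 in
/-- induction over the terms -/
theorem isPerfect_Rpush_terms (f : X ⟶ S) [LocallyOfFinitePresentation f] [QuasiCompact f] [QuasiSeparated f]
    [DCoh.HasRpush f] (D : CochainComplex X.Modules ℤ) (hD : DCoh.IsKFlat D) [DCoh.HasLTensorCx D]
    (hDp : DCoh.IsPerfect (DCoh.toD X D)) (a : ℤ) : ∀ (k : ℕ) (F : CochainComplex X.Modules ℤ),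
    (∀ i, i < a ∨ a + (k : ℤ) ≤ i → IsZero (F.X i)) →
    (∀ i, i < a ∨ a + (k : ℤ) ≤ i ∨ (CohB1.IsFP (F.X i) ∧ Coh.IsQCoh (F.X i) ∧ FlatMod.IsFlatOver f (F.X i) ∧
      ClSub.IsProperOver f (CohB1.support (F.X i)))) →
    DCoh.IsPerfect ((DCoh.Rpush f).obj ((DCoh.LTensorCx D).obj (DCoh.toD X F))) := by
  haveI := RpushColim.additive_Rpush f
  letI := Gen.commShiftRpush f
  haveI := Gen.isTriangulated_Rpush f
  intro k
  induction k with
  | zero =>
    intro F hF _
    have hz : IsZero ((DCoh.tensorCx.obj F).obj D) :=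
      ((DCoh.tensorCx (X := X)).flip.obj D).map_isZero ((IsZero.iff_id_eq_zero _).2
        (HomologicalComplex.hom_ext _ _ fun i => (hF i ((lt_or_ge i a).imp id fun h => by push_cast; omega)).eq_of_src _ _))
    exact EvalMain.isPerfect_of_isZero ((DCoh.Rpush f).map_isZero
      ((DerivedCategory.Q.map_isZero hz).of_iso ((Assoc.allIso D hD).app F)))
  | succ k ih =>
    intro F hF h
    let b : ℤ := a + k
    obtain ⟨hfp, hqc, hfl, hs⟩ := ((h b).resolve_left (by simp only [b]; omega)).resolve_left
      (by simp only [b]; push_cast; omega)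
    haveI := DerivedApi.hasLTensorMod (F.X b)
    have h₀ : ∀ m : ℤ, DCoh.IsPerfect ((DCoh.Rpush f).obj ((DCoh.LTensorCx D).obj
        (DCoh.toD X (((HomologicalComplex.single X.Modules up 0).obj (F.X b))⟦m⟧)))) := fun m => by
      obtain ⟨e⟩ := nonempty_LTensorCx_shift D hD ((HomologicalComplex.single X.Modules up 0).obj (F.X b)) m
      obtain ⟨c⟩ := nonempty_swap (F.X b) D hD
      have hp := isPerfect_Rpush_LTensorMod f hDp (F.X b) hfp hqc hfl hs
      exact isPerfect_of_iso (((DCoh.Rpush f).commShiftIso m).app _).symm (perfect_shift (isPerfect_of_iso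
        ((DCoh.Rpush f).mapIso (c ≪≫ (DCoh.LTensorCx D).mapIso
          ((DerivedCategory.singleFunctorIsoCompQ X.Modules 0).app (F.X b)))) hp) m) |> fun hh =>
        isPerfect_of_iso ((DCoh.Rpush f).mapIso e.symm) hh
    let S₁ := (HomologicalComplex.single X.Modules up b).obj (F.X b)
    let s : S₁ ⟶ F := HomologicalComplex.mkHomFromSingle (𝟙 _) fun j hj => by
      obtain rfl : b + 1 = j := hj
      exact (hF (b + 1) (Or.inr (by simp only [b]; push_cast; omega))).eq_of_tgt _ _
    haveI : ∀ i, Mono (s.f i) := fun i => by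
      by_cases hi : i = b
      · subst hi
        rw [HomologicalComplex.mkHomFromSingle_f]
        infer_instance
      · exact (HomologicalComplex.isZero_single_obj_X _ _ _ _ hi).mono _
    haveI : Mono s := HomologicalComplex.mono_of_mono_f s inferInstance
    let T : ShortComplex (CochainComplex X.Modules ℤ) := ShortComplex.mk s (cokernel.π s) (cokernel.condition s)
    have hT : T.ShortExact := ShortComplex.ShortExact.mk (ShortComplex.exact_of_g_is_cokernel _ (cokernelIsCokernel s))
    have hTi : ∀ i, (T.map (HomologicalComplex.eval X.Modules up i)).ShortExact := fun i => hT.map_of_exact _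
    have hb : IsZero (T.X₃.X b) := by
      haveI : IsIso (s.f b) := by
        rw [HomologicalComplex.mkHomFromSingle_f]; infer_instance
      haveI : Epi (T.map (HomologicalComplex.eval X.Modules up b)).f := inferInstanceAs (Epi (s.f b))
      haveI := (hTi b).epi_g
      exact IsZero.of_epi_eq_zero (T.map (HomologicalComplex.eval X.Modules up b)).g
        ((cancel_epi (T.map (HomologicalComplex.eval X.Modules up b)).f).1 (by
          rw [comp_zero]; exact (T.map _).zero))
    have hne : ∀ i, i ≠ b → IsIso ((cokernel.π s).f i) := fun i hi =>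
      (hTi i).isIso_g_iff.2 (HomologicalComplex.isZero_single_obj_X up b (F.X b) i hi)
    obtain ⟨w, hd⟩ := LTExact.exists_distinguished D _ (DerivedCategory.triangleOfSES_distinguished hT)
    refine (perfect_two_out_of_three ((DCoh.Rpush f).map_distinguished _ hd)).2.2 (ih T.X₃ ?_ ?_) ?_ |> fun hh => hh
    · intro i hi
      by_cases hib : i = b
      · subst hib; exact hb
      · haveI := hne i hib
        exact (hF i (hi.imp id fun h' => by simp only [b] at hib; push_cast; omega)).of_iso (asIso ((cokernel.π s).f i)).symm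
    · intro i
      by_cases hib : i = b
      · exact Or.inr (Or.inl (by simp only [b] at hib; omega))
      · haveI := hne i hib
        let e : F.X i ≅ T.X₃.X i := asIso ((cokernel.π s).f i)
        rcases h i with h' | h' | ⟨h1, h2, h3, h4⟩
        · exact Or.inl h'
        · exact Or.inr (Or.inl (by push_cast at h'; omega))
        · exact Or.inr (Or.inr ⟨Groth.L22.Inter.FlatTwist.isFP_of_iso e h1, isQCoh_of_iso' e h2, RelBC.isFlatOver_of_iso f e h3,
            Groth.L17.KilledUnit.support_congr e ▸ h4⟩)
    · exact isPerfect_of_iso ((DCoh.Rpush f).mapIso ((DCoh.LTensorCx D).mapIso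
        (DerivedCategory.Q.mapIso ((shiftFunctorAdd' (CochainComplex X.Modules ℤ) (-b) 1 (-b + 1) rfl).app _ ≪≫
          (shiftFunctor _ (1 : ℤ)).mapIso ((((CochainComplex.singleFunctors X.Modules).shiftIso (-b) b 0 (by omega)).app
            (F.X b)).symm).symm) ≪≫ (DerivedCategory.Q.commShiftIso (1 : ℤ)).app S₁))) (h₀ (-b + 1))

end Groth.Lead.FlatPerfect
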