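import Groth.Agent.L00.DerivedApi
import Groth.Agent.L29.DCoh.TensorAssoc
import Groth.Agent.L29.DCoh.QCohTensor
import Groth.Agent.L29.DCoh.Gen.Loc
import Groth.Agent.L29.BC.LTExact
import Groth.Agent.L29.RelPC.SrcScheme
import Groth.Agent.L29.BC.AdjTensorGlobal

/-!
The derived tensor product with a module as a derived tensor product with a complex.
-/

set_option autoImplicit false
set_option linter.style.haveILetI false
set_option backward.defeqAttrib.useBackward true
set_option backward.isDefEq.respectTransparency false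
set_option backward.isDefEq.respectTransparency.types false

universe u

open CategoryTheory CategoryTheory.Limits CategoryTheory.Pretriangulated MonoidalCategory AlgebraicGeometry

attribute [local instance] HasDerivedCategory.standard

namespace Groth.Lead.LTMod

open Groth.L00 Groth.L29.DC

variable {X : Scheme.{u}} (G : X.Modules)

local notation "up" => ComplexShape.up ℤ
local notation "qX" => HomotopyCategory.quotient (Scheme.Modules X) (ComplexShape.up ℤ)

/-- `G` in degree zero -/
noncomputable abbrev S0 : CochainComplex X.Modules ℤ := (HomologicalComplex.single X.Modules up 0).obj G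

theorem singleTotal_natural {P Q : CochainComplex X.Modules ℤ} (φ : P ⟶ Q) :
    (((DCoh.tensorBi (X := X)).obj G).mapHomologicalComplex up).map φ ≫
        (SingleTotal.iso (DCoh.tensorBi (X := X)) G Q).hom =
      (SingleTotal.iso (DCoh.tensorBi (X := X)) G P).hom ≫ (KFlat.T (S0 G)).map φ := by
  ext n : 1
  simp only [SingleTotal.iso, SingleTotal.XIso, HomologicalComplex.comp_f,
    HomologicalComplex.Hom.isoOfComponents_hom_f, Category.assoc]
  change _ = _ ≫ _ ≫ (HomologicalComplex.mapBifunctorMap (𝟙 (S0 G)) φ (DCoh.tensorBi (X := X)) up).f n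
  rw [HomologicalComplex.ι_mapBifunctorMap]
  simp

/-- termwise tensoring as a total complex, naturally -/
noncomputable def cxIso :
    (DCoh.tensorRightMod G).mapHomologicalComplex up ≅ (DCoh.tensorCx (X := X)).flip.obj (S0 G) :=
  NatIso.ofComponents (fun P => DerivedApi.tensorModCxIso G P ≪≫ KFlat.commIso P (S0 G)) fun {P Q} φ => by
    have h₁ := (NatIso.mapHomologicalComplex (DerivedApi.tensorRightModIso G) up).hom.naturality φ
    have h₂ := singleTotal_natural G φ
    have h₃ := KFlat.commIso_natural φ (S0 G)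
    simp only [Iso.trans_hom, DerivedApi.tensorModCxIso, Iso.app_hom, Category.assoc]
    erw [reassoc_of% h₁, reassoc_of% h₂, h₃]
    rfl

theorem isQCohD_inD_of {G : X.Modules} (hG : Coh.IsQCoh G) : DCoh.IsQCohD (DCoh.inD X G) := fun i => by
  by_cases hi : i = 0
  · subst hi
    obtain ⟨a⟩ := Groth.L29.RelPC.nonempty_HD0_inD G
    exact isQCoh_of_iso' a.symm hG
  · exact Groth.L29.DC.isQCoh_of_isZero (Groth.L29.RelPC.isZero_HD_inD hi)

variable [DCoh.HasLTensorMod G]

/-- the counit at the level of complexes -/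
noncomputable def cnt : DerivedCategory.Q ⋙ DCoh.LTensorMod G ⟶ DCoh.tensorCxQ (S0 G) :=
  Functor.whiskerRight (DerivedCategory.quotientCompQhIso X.Modules).inv (DCoh.LTensorMod G) ≫
    DerivedApi.counit (DCoh.tensorRightMod G) ≫ (DerivedApi.cxqIso (DCoh.tensorRightMod G)).hom ≫
    Functor.whiskerRight (cxIso G).hom DerivedCategory.Q

theorem isIso_cnt {P : CochainComplex X.Modules ℤ} (hP : DCoh.IsKFlat P) : IsIso ((cnt G).app P) := by
  haveI := DerivedApi.isIso_counit (DerivedApi.acyclicKFlat_tensorMod G) P hP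
  simp only [cnt, NatTrans.comp_app, Functor.whiskerRight_app]
  infer_instance

/-- the comparison -/
noncomputable def cmp [DCoh.HasLTensorCx (S0 G)] : DCoh.LTensorMod G ⟶ DCoh.LTensorCx (S0 G) :=
  (DCoh.LTensorCx (S0 G)).leftDerivedLift
    ((DCoh.tensorCxQ (S0 G)).totalLeftDerivedCounit DerivedCategory.Q (HomologicalComplex.quasiIso X.Modules up))
    (HomologicalComplex.quasiIso X.Modules up) (DCoh.LTensorMod G) (cnt G)

instance isIso_cmp [DCoh.HasLTensorCx (S0 G)] : IsIso (cmp G) := by
  refine @NatIso.isIso_of_isIso_app _ _ _ _ _ _ (cmp G) fun K => ?_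
  obtain ⟨P, q, hP, -, hq, -⟩ := KFlat.exists_resolution (DerivedCategory.Q.objPreimage K)
  haveI := (DerivedCategory.isIso_Q_map_iff_quasiIso _ q).2 hq
  refine (NatTrans.isIso_app_iff_of_iso (cmp G)
    (asIso (DerivedCategory.Q.map q) ≪≫ DerivedCategory.Q.objObjPreimageIso K)).1 ?_
  haveI := isIso_cnt G hP
  haveI := Assoc.isIso_counit (S0 G) P hP
  exact IsIso.of_isIso_fac_right ((DCoh.LTensorCx (S0 G)).leftDerived_fac_app
    ((DCoh.tensorCxQ (S0 G)).totalLeftDerivedCounit DerivedCategory.Q (HomologicalComplex.quasiIso X.Modules up))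
    (HomologicalComplex.quasiIso X.Modules up) (DCoh.LTensorMod G) (cnt G) P)

/-- `- ⊗^L G` as a derived tensor product with a complex -/
noncomputable def iso [DCoh.HasLTensorCx (S0 G)] : DCoh.LTensorMod G ≅ DCoh.LTensorCx (S0 G) :=
  haveI := isIso_cmp G
  asIso (cmp G)

theorem isLeftAdjoint : (DCoh.LTensorMod G).IsLeftAdjoint := by
  haveI := KFlat.hasLTensorCx (S0 G)
  haveI := RHom.hasRSheafHom (S0 G)
  haveI : (DCoh.LTensorCx (S0 G)).IsLeftAdjoint := ⟨_, ⟨DCoh.RSheafHomAdj (S0 G)⟩⟩
  exact Functor.isLeftAdjoint_of_iso (iso G).symm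

theorem additive : (DCoh.LTensorMod G).Additive := by
  haveI := isLeftAdjoint G
  haveI := preservesBinaryBiproducts_of_preservesBinaryCoproducts (DCoh.LTensorMod G)
  exact Functor.additive_of_preservesBinaryBiproducts _

/-- exactness -/
theorem exact₂ (T : Triangle (DCoh.D X)) (hT : T ∈ distTriang _) {Z : DCoh.D X}
    (a : Z ⟶ (DCoh.LTensorMod G).obj T.obj₂) (ha : a ≫ (DCoh.LTensorMod G).map T.mor₂ = 0) :
    ∃ b, a = b ≫ (DCoh.LTensorMod G).map T.mor₁ := by
  haveI := KFlat.hasLTensorCx (S0 G)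
  obtain ⟨b, hb⟩ := Groth.L29.BC.LTExact.exact₂ (S0 G) T hT (a ≫ (iso G).hom.app T.obj₂) (by
    rw [Category.assoc, ← (iso G).hom.naturality, reassoc_of% ha, zero_comp])
  refine ⟨b ≫ (iso G).inv.app T.obj₁, ?_⟩
  rw [← cancel_mono ((iso G).hom.app T.obj₂), hb, Category.assoc, Category.assoc, (iso G).hom.naturality,
    Iso.inv_hom_id_app_assoc]

theorem isQCohD (hG : Coh.IsQCoh G) {E : DCoh.D X} (hE : DCoh.IsQCohD E) :
    DCoh.IsQCohD ((DCoh.LTensorMod G).obj E) := by
  haveI := KFlat.hasLTensorCx (S0 G)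
  exact isQCohD_of_iso ((iso G).app E).symm (isQCohD_LTensorCx (S0 G)
    (isQCohD_of_iso ((DerivedCategory.singleFunctorIsoCompQ X.Modules 0).app G) (isQCohD_inD_of hG)) hE)

end Groth.Lead.LTMod
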