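import Groth.Agent.L29.DCoh.Gen.Main
import Groth.Agent.L29.DCoh.TildeD
import Groth.Agent.L16.QCohSections
import Groth.Agent.L18.Frame
import Mathlib.Algebra.Homology.DerivedCategory.SingleTriangle

/-!
Objects of `D_QCoh` orthogonal to a family of modules in which powers of a section kill vanish where it generates.
-/

set_option autoImplicit false
set_option linter.style.haveILetI false
set_option backward.defeqAttrib.useBackward true
set_option backward.isDefEq.respectTransparency false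
set_option backward.isDefEq.respectTransparency.types false

universe u

open CategoryTheory CategoryTheory.Limits CategoryTheory.Pretriangulated AlgebraicGeometry ZeroObject TopologicalSpace Opposite

attribute [local instance] HasDerivedCategory.standard

noncomputable section

namespace Groth.Lead.TwistGen

open Groth.L29.DC Groth.L29.DC.Gen

local notation "cls" => Groth.L10.LocalDetect.cls

variable {X : Scheme.{u}}

/-! ### closure properties of orthogonality of modules -/

section Closure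

variable {K : DCoh.D X}

theorem ortho_of_isZero {M : X.Modules} (h : IsZero M) : Ortho (DCoh.inD X M) K := fun n φ =>
  ((shiftFunctor (DCoh.D X) n).map_isZero ((DerivedCategory.singleFunctor X.Modules 0).map_isZero h)).eq_of_src _ _

theorem ortho_of_iso_mod {M M' : X.Modules} (e : M ≅ M') (h : Ortho (DCoh.inD X M) K) : Ortho (DCoh.inD X M') K :=
  ortho_of_iso ((DerivedCategory.singleFunctor X.Modules 0).mapIso e) (Iso.refl K) h

attribute [local instance] HasFiniteBiproducts.of_hasFiniteProducts in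
theorem ortho_biproduct {k : ℕ} {M : X.Modules} (h : Ortho (DCoh.inD X M) K) :
    Ortho (DCoh.inD X (⨁ fun _ : Fin k => M)) K := fun n φ => by
  let G := DerivedCategory.singleFunctor X.Modules 0 ⋙ shiftFunctor (DCoh.D X) n
  change G.obj (⨁ fun _ : Fin k => M) ⟶ K at φ
  rw [← Category.id_comp φ, ← G.map_id, ← biproduct.total, Functor.map_sum, Preadditive.sum_comp]
  refine Finset.sum_eq_zero fun i _ => ?_
  rw [G.map_comp, Category.assoc, show G.map (biproduct.ι (fun _ : Fin k => M) i) ≫ φ = 0 from h n _, comp_zero]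

variable {S : ShortComplex X.Modules} (hS : S.ShortExact)

include hS

theorem ortho_third (h₁ : Ortho (DCoh.inD X S.X₁) K) (h₂ : Ortho (DCoh.inD X S.X₂) K) :
    Ortho (DCoh.inD X S.X₃) K := fun n φ => by
  have key : ∀ (m : ℤ) (ψ : DCoh.inD X S.X₃ ⟶ K⟦m⟧), ψ = 0 := fun m ψ => by
    obtain ⟨g, hg⟩ := Triangle.yoneda_exact₃ _ hS.singleTriangle_distinguished ψ (hom_zero_of_ortho h₂ m _)
    rw [hg, ortho_shift h₁ m 1 g, comp_zero]
  refine (shiftFunctor (DCoh.D X) (-n)).map_injective ?_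
  rw [Functor.map_zero, ← cancel_epi ((shiftFunctorCompIsoId (DCoh.D X) n (-n) (by omega)).app (DCoh.inD X S.X₃)).inv,
    comp_zero]
  exact key _ _

theorem ortho_first (h₂ : Ortho (DCoh.inD X S.X₂) K) (h₃ : Ortho (DCoh.inD X S.X₃) K) :
    Ortho (DCoh.inD X S.X₁) K := fun n φ => by
  have key : ∀ (m : ℤ) (ψ : DCoh.inD X S.X₁ ⟶ K⟦m⟧), ψ = 0 := fun m ψ => by
    obtain ⟨g, hg⟩ := Triangle.yoneda_exact₂ _ (inv_rot_of_distTriang _ hS.singleTriangle_distinguished) ψ
      (ortho_shift h₃ m (-1) _)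
    refine hg.trans ?_
    rw [hom_zero_of_ortho h₂ m g]
    exact comp_zero
  refine (shiftFunctor (DCoh.D X) (-n)).map_injective ?_
  rw [Functor.map_zero, ← cancel_epi ((shiftFunctorCompIsoId (DCoh.D X) n (-n) (by omega)).app (DCoh.inD X S.X₁)).inv,
    comp_zero]
  exact key _ _

theorem ortho_middle (h₁ : Ortho (DCoh.inD X S.X₁) K) (h₃ : Ortho (DCoh.inD X S.X₃) K) :
    Ortho (DCoh.inD X S.X₂) K := fun n φ => by
  have key : ∀ (m : ℤ) (ψ : DCoh.inD X S.X₂ ⟶ K⟦m⟧), ψ = 0 := fun m ψ => by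
    obtain ⟨g, hg⟩ := Triangle.yoneda_exact₂ _ hS.singleTriangle_distinguished ψ (hom_zero_of_ortho h₁ m _)
    rw [hg, hom_zero_of_ortho h₃ m g, comp_zero]
  refine (shiftFunctor (DCoh.D X) (-n)).map_injective ?_
  rw [Functor.map_zero, ← cancel_epi ((shiftFunctorCompIsoId (DCoh.D X) n (-n) (by omega)).app (DCoh.inD X S.X₂)).inv,
    comp_zero]
  exact key _ _

end Closure

/-! ### exact complexes -/

theorem exists_ses (C : CochainComplex X.Modules ℤ) (hC : ∀ i, C.ExactAt i) (i j : ℤ) (hij : i + 1 = j) :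
    ∃ S : ShortComplex X.Modules, S.ShortExact ∧ S.X₁ = C.cycles i ∧ S.X₂ = C.X i ∧ S.X₃ = C.cycles j := by
  let S := ShortComplex.mk (C.iCycles i) (C.toCycles i j)
    (by rw [← cancel_mono (C.iCycles j), Category.assoc, HomologicalComplex.toCycles_i,
      HomologicalComplex.iCycles_d, zero_comp])
  let S' := ShortComplex.mk (C.iCycles i) (C.d i j) (C.iCycles_d i j)
  let φ : S ⟶ S' :=
    { τ₁ := 𝟙 _, τ₂ := 𝟙 _, τ₃ := C.iCycles j, comm₁₂ := by simp [S, S'], comm₂₃ := by simp [S, S'] }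
  haveI : Epi φ.τ₁ := by change Epi (𝟙 _); infer_instance
  haveI : IsIso φ.τ₂ := by change IsIso (𝟙 _); infer_instance
  haveI : Mono φ.τ₃ := by change Mono (C.iCycles j); infer_instance
  have hS' : S'.Exact := ShortComplex.exact_of_f_is_kernel _ (C.cyclesIsKernel i j (by simp [← hij]))
  refine ⟨S, ShortComplex.ShortExact.mk' ((ShortComplex.exact_iff_of_epi_of_isIso_of_mono φ).2 hS')
    (inferInstanceAs (Mono (C.iCycles i))) ?_, rfl, rfl, rfl⟩
  exact Preadditive.epi_of_isZero_cokernel' _ (C.homologyIsCokernel i j (by simp [← hij]))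
    ((hC j).isZero_homology)

theorem ortho_top (C : CochainComplex X.Modules ℤ) (hC : ∀ i, C.ExactAt i) (a N : ℤ)
    (hlo : ∀ i, i < a → IsZero (C.X i)) (hhi : ∀ i, N < i → IsZero (C.X i)) {K : DCoh.D X}
    (h : ∀ i, i < N → Ortho (DCoh.inD X (C.X i)) K) (haN : a ≤ N) : Ortho (DCoh.inD X (C.X N)) K := by
  have hz : ∀ d : ℕ, a + d ≤ N → Ortho (DCoh.inD X (C.cycles (a + d))) K := by
    intro d
    induction d with
    | zero =>
      intro _
      obtain ⟨S, hS, h₁, h₂, h₃⟩ := exists_ses C hC (a - 1) (a + (0 : ℕ)) (by push_cast; omega)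
      rw [← h₃]
      refine ortho_of_isZero ?_
      haveI := hS.epi_g
      exact IsZero.of_epi S.g (h₂ ▸ hlo _ (by omega))
    | succ d ih =>
      intro hd
      obtain ⟨S, hS, h₁, h₂, h₃⟩ := exists_ses C hC (a + d) (a + (d + 1 : ℕ)) (by push_cast; omega)
      rw [← h₃]
      refine ortho_third hS ?_ ?_
      · rw [h₁]; exact ih (by omega)
      · rw [h₂]; exact h _ (by omega)
  obtain ⟨d, hd⟩ : ∃ d : ℕ, N = a + d := ⟨(N - a).toNat, by omega⟩
  haveI : IsIso (C.iCycles N) :=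
    C.isIso_iCycles N (N + 1) (by simp) ((hhi _ (by omega)).eq_of_tgt _ _)
  refine ortho_of_iso_mod (asIso (C.iCycles N)) ?_
  rw [hd]
  exact hz d (by omega)

theorem ortho_bot (C : CochainComplex X.Modules ℤ) (hC : ∀ i, C.ExactAt i) (a N : ℤ)
    (hlo : ∀ i, i < a → IsZero (C.X i)) (hhi : ∀ i, N < i → IsZero (C.X i)) {K : DCoh.D X}
    (h : ∀ i, a < i → Ortho (DCoh.inD X (C.X i)) K) (haN : a ≤ N) : Ortho (DCoh.inD X (C.X a)) K := by
  have hz : ∀ d : ℕ, a + 1 ≤ N + 1 - d → Ortho (DCoh.inD X (C.cycles (N + 1 - d))) K := by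
    intro d
    induction d with
    | zero =>
      intro _
      refine ortho_of_isZero (IsZero.of_mono (C.iCycles (N + 1 - (0 : ℕ))) (hhi _ (by push_cast; omega)))
    | succ d ih =>
      intro hd
      obtain ⟨S, hS, h₁, h₂, h₃⟩ := exists_ses C hC (N + 1 - (d + 1 : ℕ)) (N + 1 - d) (by push_cast; omega)
      rw [← h₁]
      refine ortho_first hS ?_ ?_
      · rw [h₂]; exact h _ (by omega)
      · rw [h₃]; exact ih (by omega)
  obtain ⟨S, hS, h₁, h₂, h₃⟩ := exists_ses C hC a (a + 1) rfl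
  rw [← h₂]
  refine ortho_middle hS ?_ ?_
  · refine ortho_of_isZero ?_
    obtain ⟨S', hS', h₁', h₂', h₃'⟩ := exists_ses C hC (a - 1) a (by omega)
    rw [h₁, ← h₃']
    haveI := hS'.epi_g
    exact IsZero.of_epi S'.g (h₂' ▸ hlo _ (by omega))
  · rw [h₃, show a + 1 = N + 1 - (((N - a).toNat : ℕ) : ℤ) by omega]
    exact hz _ (by omega)

/-! ### classes of morphisms out of free modules -/

theorem cls_injective {E : DCoh.D X} (hE : DCoh.IsQCohD E) {A : X.Opens} (hA : IsAffineOpen A) :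
    Function.Bijective (cls : ((DerivedCategory.singleFunctor X.Modules 0).obj (QRlim.free X A) ⟶ E) → _) := by
  haveI := QRlim.enoughKInj X
  haveI := TildeD.hasProducts X fun n : ℕ =>
    ((DerivedCategory.TStructure.t : Triangulated.TStructure (DCoh.D X)).truncGE (-(n : ℤ))).obj E
  exact QRlim.bijective_cls (QRlim.isRlimVia hE) _ fun i => QRlim.small_free (hE i) hA

/-- sections over an open of a module without stalks there -/
theorem hom_free_eq_zero {A : X.Opens} {M : X.Modules} (h : ∀ x ∈ A, IsZero ((Groth.L00.Stk.F X x).obj M))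
    (a : QRlim.free X A ⟶ M) : a = 0 := by
  apply (Groth.L10.SiteCover.sec X.sheaf A M).injective
  refine TopCat.Presheaf.section_ext ((Groth.L21.Mod.toAbSh X).obj M) _ _ _ fun x hx => ?_
  haveI : Subsingleton ((Groth.L00.Stk.F X x).obj M) := ModuleCat.subsingleton_of_isZero (h x hx)
  exact Subsingleton.elim (α := (Groth.L00.Stk.F X x).obj M) _ _

theorem isIso_res_single (j : X.Opens) {M N : X.Modules} (f : M ⟶ N)
    (h : IsIso ((Scheme.Modules.restrictFunctor j.ι).map f)) :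
    IsIso ((res j).map ((DerivedCategory.singleFunctor X.Modules 0).map f)) := by
  haveI := h
  exact (NatIso.isIso_map_iff
    ((Scheme.Modules.restrictFunctor j.ι).mapDerivedCategorySingleFunctor 0) f).2
    (Functor.map_isIso (DerivedCategory.singleFunctor (j : Scheme.{u}).Modules 0) _)

/-- a module trivial on `A` receives the free module on `A` -/
theorem exists_free_map (A : X.Opens) {P : X.Modules}
    (h : Nonempty (P.restrict A.ι ≅ Coh.structureModule (A : Scheme.{u}))) :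
    ∃ ψ : QRlim.free X A ⟶ P, IsIso ((Scheme.Modules.restrictFunctor A.ι).map ψ) := by
  obtain ⟨α⟩ := h
  obtain ⟨e⟩ := Cpt.nonempty_free_iso A
  rw [Scheme.Hom.image_top_eq_opensRange, Scheme.Opens.opensRange_ι] at e
  let adjA := CxOX.extZeroAdj A.ι
  refine ⟨e.hom ≫ (CxOX.extZero A.ι).map ((Scheme.Modules.restrictUnitIso A.ι).hom ≫ α.inv) ≫ adjA.counit.app P, ?_⟩
  haveI : IsIso ((Scheme.Modules.restrictFunctor A.ι).map (adjA.counit.app P)) :=
    IsIso.of_isIso_fac_left (hh := IsIso.id _) (adjA.right_triangle_components P)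
  simp only [Functor.map_comp]
  infer_instance

theorem isIso_restrict_of_stalk (V : X.Opens) {M N : X.Modules} (f : M ⟶ N)
    (h : ∀ x ∈ V, IsIso ((Groth.L00.Stk.F X x).map f)) : IsIso ((Scheme.Modules.restrictFunctor V.ι).map f) := by
  rw [Groth.L21.Mod.isIso_iff_stalk]
  intro y
  haveI := h (V.ι y) y.2
  haveI : IsIso ((Groth.L21.Mod.stalkF X (V.ι y)).map f) :=
    (NatIso.isIso_map_iff (Groth.L00.Stk.forgetIso (V.ι y)) f).1
      (inferInstanceAs (IsIso ((forget₂ _ AddCommGrpCat.{u}).map ((Groth.L00.Stk.F X (V.ι y)).map f))))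
  exact (NatIso.isIso_map_iff (Scheme.Modules.restrictStalkNatIso V.ι y) f).2 inferInstance

/-! ### the cascade -/

variable (Fam : X.Modules → Prop) (V : X.Opens)

/-- powers of the section kill, in the family -/
def Kills : Prop :=
  ∀ (P : X.Modules), Fam P → ∀ (F : X.Modules), Coh.IsQCoh F →
    (∀ x ∈ V, IsZero ((Groth.L00.Stk.F X x).obj F)) → ∀ g : P ⟶ F,
      ∃ (P' : X.Modules) (h : P' ⟶ P), Fam P' ∧ IsIso ((Scheme.Modules.restrictFunctor V.ι).map h) ∧ h ≫ g = 0

variable {Fam} {V}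

theorem exists_kill_derived [QuasiSeparatedSpace X] (hk : Kills Fam V) {ι : Type*} (A : ι → X.Opens)
    (hA : ∀ i, IsAffineOpen (A i))
    (htriv : ∀ P, Fam P → ∀ i, Nonempty (P.restrict (A i).ι ≅ Coh.structureModule (A i : Scheme.{u}))) :
    ∀ (l : List ι) (W : X.Opens), (∀ x : X, x ∈ W ∨ ∃ i ∈ l, x ∈ A i) →
      ∀ (E : DCoh.D X), DCoh.IsQCohD E → ZOn E V → ZOn E W → ∀ (P : X.Modules), Fam P →
        ∀ e : DCoh.inD X P ⟶ E, ∃ (P' : X.Modules) (h : P' ⟶ P), Fam P' ∧
          IsIso ((Scheme.Modules.restrictFunctor V.ι).map h) ∧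
          (DerivedCategory.singleFunctor X.Modules 0).map h ≫ e = 0
  | [], W, hW, E, _, _, hEW, P, hP, e => by
    refine ⟨P, 𝟙 P, hP, inferInstance, IsZero.eq_of_tgt (isZero_of_cover fun x => ⟨W, ?_, (isZero_res_iff W E).2 hEW⟩) _ _⟩
    rcases hW x with h | ⟨i, hi, -⟩
    · exact h
    · simp at hi
  | i :: l, W, hW, E, hE, hEV, hEW, P, hP, e => by
    let S₀ := DerivedCategory.singleFunctor X.Modules 0
    obtain ⟨P₁, h₁, hP₁, hi₁, hk₁⟩ := hk P hP _ (hE 0) (hEV 0) (cls e)
    have hres : (res (A i)).map (S₀.map h₁ ≫ e) = 0 := by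
      obtain ⟨ψ, hψ⟩ := exists_free_map (A i) (htriv P₁ hP₁ i)
      haveI := isIso_res_single (A i) ψ hψ
      have h0 : S₀.map ψ ≫ S₀.map h₁ ≫ e = 0 := (cls_injective hE (hA i)).1 (by
        rw [Groth.L10.LocalDetect.cls_map, Groth.L10.LocalDetect.cls_map, Groth.L10.LocalDetect.cls_zero]
        exact (congrArg (ψ ≫ ·) hk₁).trans comp_zero)
      rw [← cancel_epi ((res (A i)).map (S₀.map ψ)), comp_zero, ← Functor.map_comp, h0, Functor.map_zero]
    obtain ⟨F, p, d, hT⟩ := distinguished_cocone_triangle₁ ((adj (A i)).unit.app E)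
    have h2 : (S₀.map h₁ ≫ e) ≫ (adj (A i)).unit.app E = 0 :=
      ((adj (A i)).unit.naturality (S₀.map h₁ ≫ e)).trans (by
        rw [Functor.comp_map, hres, Functor.map_zero, comp_zero])
    obtain ⟨z, hz⟩ := Triangle.coyoneda_exact₂ _ hT (S₀.map h₁ ≫ e) h2
    have hFA : ZOn F (A i : Set X) := (isZero_res_iff (A i) F).1
      ((Triangle.isZero₁_iff_isIso₂ _ ((res (A i)).map_distinguished _ hT)).2 (isIso_res_unit (A i) E))
    have hsub : ∀ Ω : X.Opens, ZOn E Ω → ZOn F Ω := fun Ω hΩ =>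
      zOn_first hT Ω hΩ (zOn_push _ Ω ((zOn_restrictD (A i).ι E _).2 (hΩ.mono (by
        rintro _ ⟨y, hy, rfl⟩
        exact hy))))
    obtain ⟨P₂, h₂, hP₂, hi₂, hk₂⟩ := exists_kill_derived hk A hA htriv l (W ⊔ A i) (fun x => by
        rcases hW x with h | ⟨j, hj, hx⟩
        · exact Or.inl (Or.inl h)
        · rcases List.mem_cons.1 hj with rfl | hj'
          · exact Or.inl (Or.inr hx)
          · exact Or.inr ⟨j, hj', hx⟩)
      F (isQCohD_first _ hT hE (isQCohD_push (hA i).isCompact (isQCohD_restrictD (A i).ι hE)))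
      (hsub V hEV) (by rw [TopologicalSpace.Opens.coe_sup]; exact (hsub W hEW).union hFA) P₁ hP₁ z
    refine ⟨P₂, h₂ ≫ h₁, hP₂, ?_, ?_⟩
    · rw [Functor.map_comp]; infer_instance
    · rw [Functor.map_comp, Category.assoc, hz]
      exact (Category.assoc _ _ _).symm.trans ((congrArg (· ≫ p) hk₂).trans zero_comp)

/-- vanishing of morphisms from the family in one degree gives vanishing on `V` in that degree -/
theorem isZero_stalk_of_hom_zero [QuasiSeparatedSpace X] (hk : Kills Fam V) {ι : Type*} (A : ι → X.Opens)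
    (hA : ∀ i, IsAffineOpen (A i))
    (htriv : ∀ P, Fam P → ∀ i, Nonempty (P.restrict (A i).ι ≅ Coh.structureModule (A i : Scheme.{u})))
    (l : List ι) (hl : ∀ x : X, ∃ i ∈ l, x ∈ A i) (hV : IsAffineOpen V) {P : X.Modules} (hP : Fam P)
    (hPV : Nonempty (P.restrict V.ι ≅ Coh.structureModule (V : Scheme.{u})))
    {K : DCoh.D X} (hK : DCoh.IsQCohD K) (j : ℤ) (ho : ∀ P, Fam P → ∀ φ : DCoh.inD X P ⟶ K⟦j⟧, φ = 0)
    (x : X) (hx : x ∈ V) : IsZero ((Groth.L00.Stk.F X x).obj (DCoh.HD K j)) := by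
  let S₀ := DerivedCategory.singleFunctor X.Modules 0
  let K' := K⟦j⟧
  have hK' : DCoh.IsQCohD K' := isQCohD_shift hK j
  obtain ⟨ψ, hψ⟩ := exists_free_map V hPV
  haveI := isIso_res_single V ψ hψ
  obtain ⟨F, p, d, hT⟩ := distinguished_cocone_triangle₁ ((adj V).unit.app K')
  have hFV : ZOn F (V : Set X) := (isZero_res_iff V F).1
    ((Triangle.isZero₁_iff_isIso₂ _ ((res V).map_distinguished _ hT)).2 (isIso_res_unit V K'))
  have hF : DCoh.IsQCohD F := isQCohD_first _ hT hK' (isQCohD_push hV.isCompact (isQCohD_restrictD V.ι hK'))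
  have hres : ∀ ξ : S₀.obj (QRlim.free X V) ⟶ K', (res V).map ξ = 0 := by
    intro ξ
    let φ' := inv ((res V).map (S₀.map ψ)) ≫ (res V).map ξ
    let b : DCoh.inD X P ⟶ (push V).obj ((res V).obj K') := (adj V).homEquiv _ _ φ'
    obtain ⟨P', h, hP', hi, hk'⟩ := exists_kill_derived hk A hA htriv l ⊥
      (fun x => Or.inr (hl x)) (F⟦(1 : ℤ)⟧) (isQCohD_shift hF 1) (zOn_shift V hFV 1)
      (fun i x hx => absurd hx (by simp)) P hP (b ≫ d)
    obtain ⟨z, hz⟩ := Triangle.coyoneda_exact₃ _ hT (S₀.map h ≫ b) ((Category.assoc _ _ _).trans hk')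
    change DCoh.inD X P' ⟶ K' at z
    have hb0 : S₀.map h ≫ b = 0 := by
      rw [hz, ho P' hP' z]
      exact zero_comp
    haveI := isIso_res_single V h hi
    have h3 : (res V).map (S₀.map h) ≫ φ' = 0 := by
      apply ((adj V).homEquiv _ _).injective
      rw [(adj V).homEquiv_naturality_left]
      refine hb0.trans ?_
      rw [Adjunction.homEquiv_unit, Functor.map_zero, comp_zero]
    have h4 : φ' = 0 := (cancel_epi ((res V).map (S₀.map h))).1 (h3.trans comp_zero.symm)
    exact (IsIso.inv_comp_eq _).1 h4 |>.trans comp_zero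
  haveI : Coh.IsQCoh (DCoh.HD K' 0) := hK' 0
  have hsec : ∀ σ : QRlim.free X V ⟶ DCoh.HD K' 0, σ = 0 := by
    intro σ
    obtain ⟨ξ, rfl⟩ := (cls_injective hK' hV).2 σ
    have h2 : ξ ≫ (adj V).unit.app K' = 0 :=
      ((adj V).unit.naturality ξ).trans (by rw [Functor.comp_map, hres ξ, Functor.map_zero, comp_zero])
    obtain ⟨z, hz⟩ := Triangle.coyoneda_exact₂ _ hT ξ h2
    rw [hz, Groth.L10.LocalDetect.cls_comp]
    exact (congrArg (· ≫ _) (hom_free_eq_zero (hFV 0) (cls z))).trans zero_comp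
  have hz0 : IsZero ((Groth.L00.Stk.F X x).obj (DCoh.HD K' 0)) := by
    suffices hs : Subsingleton ((Groth.L00.Stk.F X x).obj (DCoh.HD K' 0)) from ModuleCat.isZero_of_subsingleton _
    refine subsingleton_of_forall_eq 0 fun t => ?_
    obtain ⟨U, hxU, t', rfl⟩ := (DCoh.HD K' 0).presheaf.exists_germ_eq (x := x) t
    obtain ⟨f, hfU, hxf⟩ := hV.exists_basicOpen_le ⟨x, hxU⟩ hx
    obtain ⟨k, c, hc⟩ := Groth.L16.QCohSect.exists_pow_smul_eq_res hV (DCoh.HD K' 0) f
      (Groth.L18.Frame.rs (DCoh.HD K' 0) hfU t')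
    have hc0 : c = 0 := by
      have h1 := hsec ((Groth.L10.SiteCover.sec X.sheaf V (DCoh.HD K' 0)).symm c)
      have h2 := hsec ((Groth.L10.SiteCover.sec X.sheaf V (DCoh.HD K' 0)).symm 0)
      exact (Groth.L10.SiteCover.sec X.sheaf V (DCoh.HD K' 0)).symm.injective (h1.trans h2.symm)
    rw [hc0] at hc
    replace hc := hc.symm.trans (map_zero _)
    rw [← (DCoh.HD K' 0).presheaf.germ_res_apply (homOfLE hfU) x hxf t']
    refine (congrArg ((DCoh.HD K' 0).presheaf.germ (X.basicOpen f) x hxf) ?_).trans (map_zero _)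
    have hu : IsUnit (Groth.L18.Frame.ro (X.basicOpen_le f) (f ^ k) : Γ(X, X.basicOpen f)) := by
      change IsUnit ((X.presheaf.map (homOfLE (X.basicOpen_le f)).op).hom (f ^ k))
      rw [map_pow]
      exact (RingedSpace.isUnit_res_basicOpen X.toRingedSpace f).pow k
    exact (IsUnit.smul_eq_zero hu).1 hc
  exact hz0.of_iso ((Groth.L00.Stk.F X x).mapIso
    (((DerivedCategory.homologyFunctor X.Modules 0).shiftIso j 0 j (by simp)).app K).symm)

/-- orthogonality to the family gives vanishing on `V` -/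
theorem zOn_of_ortho [QuasiSeparatedSpace X] (hk : Kills Fam V) {ι : Type*} (A : ι → X.Opens)
    (hA : ∀ i, IsAffineOpen (A i))
    (htriv : ∀ P, Fam P → ∀ i, Nonempty (P.restrict (A i).ι ≅ Coh.structureModule (A i : Scheme.{u})))
    (l : List ι) (hl : ∀ x : X, ∃ i ∈ l, x ∈ A i) (hV : IsAffineOpen V) {P : X.Modules} (hP : Fam P)
    (hPV : Nonempty (P.restrict V.ι ≅ Coh.structureModule (V : Scheme.{u})))
    {K : DCoh.D X} (hK : DCoh.IsQCohD K) (ho : ∀ P, Fam P → Ortho (DCoh.inD X P) K) : ZOn K V :=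
  fun j x hx => isZero_stalk_of_hom_zero hk A hA htriv l hl hV hP hPV hK j
    (fun P' hP' φ => hom_zero_of_ortho (ho P' hP') j φ) x hx

end Groth.Lead.TwistGen
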