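import Groth.Agent.Lead.TwistKill
import Groth.Agent.Lead.TwistGen
import Groth.Agent.Lead.TwistEquiv
import Groth.Agent.Lead.GammaHom
import Groth.Agent.L00.TensorQCoh
import Groth.Agent.L00.TensorRestrict
import Groth.Agent.L08.Cube.Inverse
import Groth.Agent.L18.AmpleLocal

/-!
Twists by powers of an ample invertible module detect nonvanishing of hypercohomology.
-/

set_option autoImplicit false
set_option linter.style.haveILetI false
set_option backward.defeqAttrib.useBackward true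
set_option backward.isDefEq.respectTransparency false
set_option backward.isDefEq.respectTransparency.types false

universe u

open CategoryTheory CategoryTheory.Limits AlgebraicGeometry MonoidalCategory

attribute [local instance] HasDerivedCategory.standard

noncomputable section

namespace Groth.Lead.AmpleGen

open Groth.L00.Tensor Groth.L29.DC Groth.L29.DC.Gen Groth.Lead.KoszulTwist

variable {X : Scheme.{u}} {L N : X.Modules}

theorem nonempty_step (e : CohB1.tensorMod N L ≅ Coh.structureModule X) (m : ℕ) :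
    ∀ k : ℕ, Nonempty (CohB1.tensorMod (CohB1.tensorPow N (m + k)) (CohB1.tensorPow L k) ≅ CohB1.tensorPow N m)
  | 0 => ⟨tensorUnitRight _⟩
  | k + 1 => by
    obtain ⟨i⟩ := nonempty_step e m k
    exact ⟨tensorMiddleFour (CohB1.tensorPow N (m + k)) N (CohB1.tensorPow L k) L ≪≫ tensorIso i e ≪≫
      tensorUnitRight _⟩

theorem nonempty_tpow (e : CohB1.tensorMod N L ≅ Coh.structureModule X) (k : ℕ) : ∀ (i m : ℕ),
    Nonempty (Tpow (CohB1.tensorPow L k) (CohB1.tensorPow N (m + k * i)) i ≅ CohB1.tensorPow N m)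
  | 0, m => ⟨eqToIso (by simp [Tpow])⟩
  | i + 1, m => by
    obtain ⟨j⟩ := nonempty_tpow e k i (m + k)
    obtain ⟨s⟩ := nonempty_step e m k
    exact ⟨(DCoh.tensorRightMod (CohB1.tensorPow L k)).mapIso
      (eqToIso (by rw [show m + k * (i + 1) = m + k + k * i by ring]) ≪≫ j) ≪≫ s⟩

theorem nonempty_restrict_pow (A : X.Opens)
    (h : Nonempty (N.restrict A.ι ≅ Coh.structureModule (A : Scheme.{u}))) :
    ∀ m : ℕ, Nonempty ((CohB1.tensorPow N m).restrict A.ι ≅ Coh.structureModule (A : Scheme.{u}))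
  | 0 => ⟨Scheme.Modules.restrictUnitIso A.ι⟩
  | m + 1 => by
    obtain ⟨i⟩ := nonempty_restrict_pow A h m
    obtain ⟨e⟩ := h
    exact ⟨(tensorRestrict A.ι (CohB1.tensorPow N m) N).symm ≪≫ tensorIso i e ≪≫ tensorUnitRight _⟩

theorem exists_affine_trivial (hN : PicF.IsInvertible N) (x : X) :
    ∃ A : X.Opens, x ∈ A ∧ IsAffineOpen A ∧ Nonempty (N.restrict A.ι ≅ Coh.structureModule (A : Scheme.{u})) := by
  obtain ⟨A, e, hA, hx, he⟩ := Groth.L18.GenLoc.exists_affine_frame hN x
  have ht : A.ι ''ᵁ (⊤ : (A : Scheme.{u}).Opens) = A := A.ι_image_top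
  let σ : Γ(N.restrict A.ι, ⊤) := Groth.L18.Frame.rs N ht.le e
  have hσ : Groth.L18.Frame.IsFrame (N.restrict A.ι) ⊤ σ :=
    (Groth.L18.Ample.isFrame_restrict_iff N A ⊤ σ).2 (he.mono ht.le)
  exact ⟨A, hx, hA, ⟨(@asIso _ _ _ _ (Groth.L16.homOfSection _ σ)
    (Groth.L16.isIso_homOfSection _ _ fun V => hσ V le_top)).symm⟩⟩

theorem isQCohD_T (A : X.Modules) (hA : FlatMod.IsFinLocFree A) [Coh.IsQCoh A] {E : DCoh.D X}
    (hE : DCoh.IsQCohD E) : DCoh.IsQCohD ((TwistEquiv.T A hA).obj E) := fun i => by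
  haveI := (Groth.L16.Rees.PushExact.exact_instances hA).1
  haveI := (Groth.L16.Rees.PushExact.exact_instances hA).2
  let C := DerivedCategory.Q.objPreimage E
  let e := DerivedCategory.Q.objObjPreimageIso E
  let R := DCoh.tensorRightMod A
  let i' : DCoh.HD ((TwistEquiv.T A hA).obj E) i ≅ R.obj (DCoh.HD E i) :=
    (DerivedCategory.homologyFunctor _ i).mapIso
      ((TwistEquiv.T A hA).mapIso e.symm ≪≫ (TwistEquiv.TFactors A hA).app C) ≪≫
    (DerivedCategory.homologyFunctorFactors _ i).app ((R.mapHomologicalComplex (ComplexShape.up ℤ)).obj C) ≪≫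
    (C.sc i).mapHomologyIso R ≪≫
    R.mapIso (((DerivedCategory.homologyFunctorFactors _ i).app C).symm ≪≫
      (DerivedCategory.homologyFunctor _ i).mapIso e)
  haveI := hE i
  exact Groth.L29.DC.isQCoh_of_iso' i'.symm (Groth.L00.Tensor.isQCoh_tensorMod (DCoh.HD E i) A)

/-- the vanishing of all twisted hypercohomology forces vanishing -/
theorem isZero_of_RΓ (hL : CohB1.IsAmple L) [DCoh.HasRΓ X]
    [∀ n : ℕ, DCoh.HasLTensorMod (CohB1.tensorPow L n)] (K : DCoh.D X) (hK : DCoh.IsQCohD K)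
    (h : ∀ (n : ℕ) (p : ℤ), IsZero ((DerivedCategory.homologyFunctor AddCommGrpCat.{u} p).obj
      ((DCoh.RΓ X).obj ((DCoh.LTensorMod (CohB1.tensorPow L n)).obj K)))) : IsZero K := by
  haveI := Groth.L18.Ample.isSeparated_of_isAmple hL
  obtain ⟨hinv, hc, haff⟩ := hL
  haveI := hc
  obtain ⟨N', hN', ⟨e₀⟩⟩ := Groth.L08.Cube.exists_inverse hinv
  let e : CohB1.tensorMod N' L ≅ Coh.structureModule X := tensorComm _ _ ≪≫ e₀
  choose A hxA hA htA using exists_affine_trivial hN'
  obtain ⟨t, ht⟩ := isCompact_univ.elim_finite_subcover (fun x : X => (A x : Set X)) (fun x => (A x).2)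
    (fun x _ => Set.mem_iUnion.2 ⟨x, hxA x⟩)
  let Fam : X.Modules → Prop := fun P => ∃ a : ℕ, P = CohB1.tensorPow N' a
  have hzero : ∀ (j : ℤ) (P : X.Modules), Fam P → ∀ φ : DCoh.inD X P ⟶ K⟦j⟧, φ = 0 := by
    rintro j P ⟨a, rfl⟩ φ
    have hfa := Groth.L16.Existence.isFinLocFree_of_isInvertible (Groth.L18.Ample.isInvertible_tensorPow hinv a)
    haveI : Coh.IsQCoh (CohB1.tensorPow L a) := Groth.L21.Extend.isQCoh_of_isInvertible (Groth.L18.Ample.isInvertible_tensorPow hinv a)
    obtain ⟨s⟩ := nonempty_step e 0 a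
    rw [Nat.zero_add] at s
    let T := TwistEquiv.T (CohB1.tensorPow L a) hfa
    haveI : T.IsEquivalence :=
      TwistEquiv.isEquivalence hfa (Groth.L16.Existence.isFinLocFree_of_isInvertible (Groth.L18.Ample.isInvertible_tensorPow hN' a))
        (tensorComm _ _ ≪≫ s) s
    let E := (T.obj K)⟦j⟧
    letI := GammaHom.commShiftRΓ (X := X)
    have hz : IsZero ((DerivedCategory.homologyFunctor AddCommGrpCat.{u} 0).obj ((DCoh.RΓ X).obj E)) :=
      (h a j).of_iso ((DerivedCategory.homologyFunctor AddCommGrpCat.{u} 0).mapIso (((DCoh.RΓ X).commShiftIso j).app (T.obj K)) ≪≫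
        ((DerivedCategory.homologyFunctor AddCommGrpCat.{u} 0).shiftIso j 0 j (by simp)).app _ ≪≫
        (DerivedCategory.homologyFunctor AddCommGrpCat.{u} j).mapIso ((DCoh.RΓ X).mapIso
          ((TwistEquiv.ltIso (CohB1.tensorPow L a) hfa).app K).symm))
    let eP : DCoh.inD X (Coh.structureModule X) ≅ T.obj (DCoh.inD X (CohB1.tensorPow N' a)) :=
      (DerivedCategory.singleFunctor X.Modules 0).mapIso s.symm ≪≫ (TwistEquiv.TSingle _ hfa _).symm
    have h0 := GammaHom.hom_eq_zero E hz (eP.hom ≫ T.map φ ≫ (T.commShiftIso j).hom.app K)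
    apply T.map_injective
    rw [Functor.map_zero, ← cancel_mono ((T.commShiftIso j).hom.app K), ← cancel_epi eP.hom, zero_comp, comp_zero]
    exact h0
  refine isZero_of_cover fun x => ?_
  obtain ⟨k, s, hxs, hsaff⟩ := haff x
  let V := CohB1.genLocus (CohB1.tensorPow L (k + 1)) s
  have hinvk := Groth.L18.Ample.isInvertible_tensorPow hinv (k + 1)
  have hkill : TwistGen.Kills Fam V := by
    rintro P ⟨a, rfl⟩ F hF hF0 g
    haveI := hF
    obtain ⟨i, hi⟩ := TwistKill.exists_kill hinvk s (Groth.L18.Ample.isInvertible_tensorPow hN' a) F g hF0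
    obtain ⟨f⟩ := nonempty_tpow e (k + 1) i a
    refine ⟨_, TwistKill.muPow s _ i ≫ f.hom, ⟨a + (k + 1) * i, rfl⟩, ?_, ?_⟩
    · refine TwistGen.isIso_restrict_of_stalk _ _ fun y hy => ?_
      haveI := TwistKill.isIso_stalk_muPow s (CohB1.tensorPow N' (a + (k + 1) * i)) hy i
      rw [Functor.map_comp]
      infer_instance
    · rw [Category.assoc]
      exact hi _ f
  refine ⟨V, hxs, (isZero_res_iff V K).2 fun j y hy => ?_⟩
  exact TwistGen.isZero_stalk_of_hom_zero hkill (fun i : t => A i.1) (fun i => hA i.1)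
    (by rintro P ⟨a, rfl⟩ i; exact nonempty_restrict_pow _ (htA i.1) a)
    t.attach.toList (fun z => by
      obtain ⟨w, hw, hzw⟩ := Set.mem_iUnion₂.1 (ht (Set.mem_univ z))
      exact ⟨⟨w, hw⟩, Finset.mem_toList.2 (Finset.mem_attach _ _), hzw⟩)
    hsaff (P := CohB1.tensorPow N' 0) ⟨0, rfl⟩ ⟨Scheme.Modules.restrictUnitIso V.ι⟩ hK j (hzero j) y hy

end Groth.Lead.AmpleGen
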