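import Groth.Agent.Lead.RelFinTor
import Groth.Agent.L29.DCoh.RelTor
import Groth.Agent.L29.DCoh.RelBC
import Groth.Prelude.Def_DCoh3

/-!
# Relative tor dimension on stalks

For a flat morphism, the existence of locally bounded models flat over the base is the same as
locally finite stalkwise tor amplitude.
-/

set_option autoImplicit false
set_option linter.style.haveILetI false
set_option backward.isDefEq.respectTransparency false
set_option backward.isDefEq.respectTransparency.types false
set_option backward.defeqAttrib.useBackward true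

universe u

open CategoryTheory CategoryTheory.Limits AlgebraicGeometry

noncomputable section

attribute [local instance] HasDerivedCategory.standard

namespace Groth.Lead.RelTorStalk

open Groth.Lead.SmoothStalk

variable {X S : Scheme.{u}} (f : X ⟶ S)

theorem isLE_of_ampAt {b : ℤ} (G : CochainComplex X.Modules ℤ)
    (h : ∀ x : X, ∃ a : ℤ, DerSch.HasTorAmplitudeAt f a b G x) : (DCoh.toD X G).IsLE b := by
  refine (DerivedCategory.isLE_iff _ b).2 fun i hi => ?_
  refine IsZero.of_iso ?_ ((DerivedCategory.homologyFunctorFactors X.Modules i).app G)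
  refine (Groth.L00.Stk.acyclic_iff G i).2 fun x => ?_
  obtain ⟨a, ha⟩ := h x
  letI : Algebra (S.presheaf.stalk (f x)) (X.presheaf.stalk x) := (f.stalkMap x).hom.toAlgebra
  exact Groth.Lead.SmoothAmp.isZero_homology_of_amp_res (A := S.presheaf.stalk (f x)) (stk x G) ha i (Or.inr hi)

theorem isZero_HD_of_ampAt {a b : ℤ} (G : CochainComplex X.Modules ℤ)
    (h : ∀ x : X, DerSch.HasTorAmplitudeAt f a b G x) (i : ℤ) (hi : i < a ∨ b < i) :
    IsZero (DCoh.HD (DCoh.toD X G) i) := by
  refine IsZero.of_iso ?_ ((DerivedCategory.homologyFunctorFactors X.Modules i).app G)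
  refine (Groth.L00.Stk.acyclic_iff G i).2 fun x => ?_
  letI : Algebra (S.presheaf.stalk (f x)) (X.presheaf.stalk x) := (f.stalkMap x).hom.toAlgebra
  exact Groth.Lead.SmoothAmp.isZero_homology_of_amp_res (A := S.presheaf.stalk (f x)) (stk x G) (h x) i hi

variable [Flat f]

/-- a bounded model flat over the base from stalkwise amplitudes -/
theorem relFlatAmp_of_ampAt {a b : ℤ} (G : CochainComplex X.Modules ℤ)
    (h : ∀ x : X, DerSch.HasTorAmplitudeAt f a b G x) :
    DCoh.HasRelFlatAmplitudeIn f a b (DCoh.toD X G) := by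
  have hz := isZero_HD_of_ampAt f G h
  obtain ⟨P, hP, -, hf, ⟨eP⟩⟩ :=
    Groth.L29.DC.exists_flat_representative_le (DCoh.toD X G) b fun i hi => hz i (Or.inr hi)
  haveI := hP
  haveI : P.IsGE a := (CochainComplex.isGE_iff P a).2 fun i hi =>
    (HomologicalComplex.exactAt_iff_isZero_homology _ _).2 ((hz i (Or.inl hi)).of_iso
      (((DerivedCategory.homologyFunctorFactors X.Modules i).app P).symm ≪≫
        (DerivedCategory.homologyFunctor X.Modules i).mapIso eP))
  haveI : IsIso (DerivedCategory.Q.map (P.πTruncGE a)) :=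
    (DerivedCategory.isIso_Q_map_iff_quasiIso _ _).2 inferInstance
  refine ⟨P.truncGE a, fun i hi => ?_, fun i => ?_, ⟨(asIso (DerivedCategory.Q.map (P.πTruncGE a))).symm ≪≫ eP⟩⟩
  · rcases hi with hi | hi
    · exact CochainComplex.isZero_of_isStrictlyGE (P.truncGE a) a i hi
    · by_cases hia : i < a
      · exact CochainComplex.isZero_of_isStrictlyGE (P.truncGE a) a i hia
      rcases (not_lt.1 hia).lt_or_eq with hlt | rfl
      · exact (CochainComplex.isZero_of_isStrictlyLE P b i hi).of_iso (P.truncGEXIso a i hlt)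
      · have h0 : IsZero (P.X a) := CochainComplex.isZero_of_isStrictlyLE P b a hi
        exact (IsZero.of_epi (P.pOpcycles a) h0).of_iso (P.truncGEXIsoOpcycles a)
  · rcases lt_trichotomy i a with hi | rfl | hi
    · exact Groth.L29.DC.RelBC.isFlatOver_zero f (CochainComplex.isZero_of_isStrictlyGE (P.truncGE a) a i hi)
    · refine Groth.L29.DC.RelBC.isFlatOver_of_iso f ((P.truncGEXIsoOpcycles i) ≪≫ (IsColimit.coconePointUniqueUpToIso
          (P.opcyclesIsCokernel (i - 1) i (by simp)) (cokernelIsCokernel (P.d (i - 1) i)))).symm (fun x => ?_)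
      haveI : PreservesFiniteLimits (DerSch.stalkFunctor X x) := Groth.L00.Stk.preservesFiniteLimits (X := X) x
      haveI : PreservesFiniteColimits (DerSch.stalkFunctor X x) := Groth.L00.Stk.preservesFiniteColimits (X := X) x
      haveI : PreservesFiniteColimits (ModuleCat.restrictScalars.{u} (f.stalkMap x).hom) := inferInstance
      let R := DerSch.stalkOver f x
      let Px := (DerSch.stalkCxOver f x).obj P
      obtain ⟨E, hEv, hE, ⟨e⟩⟩ := Groth.Lead.RelFinTor.amp_congr f eP.symm x i b (h x)
      have hPx : DRing.TermwiseFlat Px := fun n => Groth.L29.DC.RelTor.isFlatOver_of_isFlat f (hf n) x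
      have hfl : Module.Flat (S.presheaf.stalk (f x)) (Groth.L20.TorAmp.O Px (i - 1) i) :=
        Groth.L20.TorAmp.flat_O_of_iso hPx
          (fun n hn => R.map_isZero (CochainComplex.isZero_of_isStrictlyLE P b n hn)) hE hEv e.symm
      haveI : Module.Flat (S.presheaf.stalk (f x)) (ModuleCat.of (S.presheaf.stalk (f x))
          ((R.obj (P.X i) : Type u) ⧸ LinearMap.range (R.map (P.d (i - 1) i)).hom)) := hfl
      exact (Module.Flat.of_linearEquiv (PreservesCokernel.iso R (P.d (i - 1) i) ≪≫
        ModuleCat.cokernelIsoRangeQuotient (R.map (P.d (i - 1) i))).toLinearEquiv :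
          Module.Flat (S.presheaf.stalk (f x)) (R.obj (cokernel (P.d (i - 1) i))))
    · exact Groth.L29.DC.RelBC.isFlatOver_of_iso f (P.truncGEXIso a i hi).symm
        (Groth.L29.DC.RelTor.isFlatOver_of_isFlat f (hf i))

omit [Flat f] in
/-- stalkwise amplitudes from a bounded model flat over the base -/
theorem ampAt_of_relFlatAmp {a b : ℤ} (G : CochainComplex X.Modules ℤ)
    (h : DCoh.HasRelFlatAmplitudeIn f a b (DCoh.toD X G)) (x : X) : DerSch.HasTorAmplitudeAt f a b G x := by
  obtain ⟨E, hv, hf, ⟨e⟩⟩ := h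
  exact Groth.Lead.RelFinTor.amp_congr f e x a b
    ⟨(DerSch.stalkCxOver f x).obj E, fun n hn => (DerSch.stalkOver f x).map_isZero (hv n hn),
      fun n => hf n x, ⟨Iso.refl _⟩⟩

/-- for flat morphisms the two notions of finite relative tor dimension agree -/
theorem locRel_iff (K : DCoh.D X) (G : CochainComplex X.Modules ℤ) (e : DCoh.toD X G ≅ K) :
    DCoh.LocHasFiniteRelTorDim f K ↔ DerSch.LocFiniteTorAmplitude f G := by
  constructor
  · intro h x
    obtain ⟨V, a, b, hx, hV⟩ := h x
    refine ⟨V, a, b, hx, fun x' hx' => ?_⟩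
    exact (amp_restrict_iff f V.ι ⟨x', hx'⟩ G a b).1 (ampAt_of_relFlatAmp (V.ι ≫ f) _ (hV G ⟨e⟩) ⟨x', hx'⟩)
  · intro h x
    obtain ⟨V, a, b, hx, hV⟩ := h x
    refine ⟨V, a, b, hx, fun F' ⟨e'⟩ => ?_⟩
    exact relFlatAmp_of_ampAt (V.ι ≫ f) _ fun y => (amp_restrict_iff f V.ι y F' a b).2
      (Groth.Lead.RelFinTor.amp_congr f (e ≪≫ e'.symm) _ a b (hV _ y.2))

end Groth.Lead.RelTorStalk
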