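import Groth.Agent.Lead.SmoothStalk
import Groth.Agent.S6200
import Groth.Agent.L29.DCoh.PerfectIff

/-!
# Tor dimension over a smooth scheme in terms of the base
-/

set_option autoImplicit false
set_option linter.style.haveILetI false
set_option backward.isDefEq.respectTransparency false
set_option backward.isDefEq.respectTransparency.types false
set_option backward.defeqAttrib.useBackward true

universe u

open CategoryTheory CategoryTheory.Limits AlgebraicGeometry Opposite TopologicalSpace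

noncomputable section

attribute [local instance] HasDerivedCategory.standard

namespace Groth.Lead.SmoothPerf

open Groth.Lead.SmoothStalk

variable {X Y : Scheme.{u}} (f : X ⟶ Y)

theorem exists_relDim [Smooth f] (x : X) :
    ∃ (W : X.Opens) (n : ℕ), x ∈ W ∧ SmoothOfRelativeDimension n (W.ι ≫ f) := by
  obtain ⟨U, hU, V, hV, hxV, e, hsm⟩ := Smooth.exists_isStandardSmooth f x
  algebraize [(f.appLE U V e).hom]
  obtain ⟨ι, τ, _, _, ⟨Pr⟩⟩ := ‹Algebra.IsStandardSmooth Γ(Y, U) Γ(X, V)›.out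
  haveI : IsAffine (V : X.Opens).toScheme := hV
  refine ⟨V, Pr.dimension, hxV, ⟨fun y => ⟨U, hU, ⊤, isAffineOpen_top _, trivial, fun z _ => e z.2, ?_⟩⟩⟩
  have hn : RingHom.IsStandardSmoothOfRelativeDimension Pr.dimension (f.appLE U V e).hom := by
    rw [RingHom.IsStandardSmoothOfRelativeDimension]
    exact ⟨ι, τ, inferInstance, inferInstance, Pr, rfl⟩
  have hcomp : (V.ι ≫ f).appLE U ⊤ (fun z _ => e z.2) = f.appLE U V e ≫ V.topIso.inv := by
    rw [Scheme.Hom.comp_appLE, Scheme.Hom.app_eq_appLE, Scheme.Opens.topIso_inv]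
    simp [Scheme.Hom.appLE]
    rw [← Functor.map_comp, ← Functor.map_comp]
    congr 2
  rw [hcomp]
  exact RingHom.isStandardSmoothOfRelativeDimension_respectsIso.1 _ V.topIso.symm.commRingCatIsoToRingEquiv hn

theorem isLE_of_amp {b : ℤ} (G : CochainComplex X.Modules ℤ)
    (h : ∀ x : X, ∃ a : ℤ, DRing.HasTorAmplitudeIn (X.presheaf.stalk x) a b (DRing.toD (stk x G))) :
    (DCoh.toD X G).IsLE b := by
  refine (DerivedCategory.isLE_iff _ b).2 fun i hi => ?_
  refine IsZero.of_iso ?_ ((DerivedCategory.homologyFunctorFactors X.Modules i).app G)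
  refine (Groth.L00.Stk.acyclic_iff G i).2 fun x => ?_
  obtain ⟨a, E, hE, -, ⟨eE⟩⟩ := h x
  refine IsZero.of_iso (ShortComplex.isZero_homology_of_isZero_X₂ (E.sc i) (hE i (Or.inr hi))) ?_
  exact ((DerivedCategory.homologyFunctorFactors _ i).app _).symm ≪≫
    (DerivedCategory.homologyFunctor _ i).mapIso eE.symm ≪≫ (DerivedCategory.homologyFunctorFactors _ i).app E

/-- Flat amplitude from the amplitudes of the stalks. -/
theorem flatAmp_of_stk {a b : ℤ} (G : CochainComplex X.Modules ℤ)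
    (h : ∀ x : X, DRing.HasTorAmplitudeIn (X.presheaf.stalk x) a b (DRing.toD (stk x G))) :
    DCoh.HasFlatAmplitudeIn a b (DCoh.toD X G) := by
  haveI := isLE_of_amp G fun x => ⟨a, h x⟩
  exact (Groth.Agent.S6200.result G b a b).2 fun x => amp_stalk_base (𝟙 X) x a b G (h x)

/-- Amplitudes of the stalks from flat amplitude. -/
theorem stk_of_flatAmp {a b : ℤ} (G : CochainComplex X.Modules ℤ)
    (h : DCoh.HasFlatAmplitudeIn a b (DCoh.toD X G)) (x : X) :
    DRing.HasTorAmplitudeIn (X.presheaf.stalk x) a b (DRing.toD (stk x G)) := by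
  haveI : (DCoh.toD X G).IsLE b :=
    (DerivedCategory.isLE_iff _ b).2 fun i hi => Groth.L29.DC.isZero_HD_of_flatAmp h (Or.inr hi)
  haveI : SmoothOfRelativeDimension 0 ((⊤ : X.Opens).ι ≫ 𝟙 X) := by rw [Category.comp_id]; infer_instance
  exact Groth.L10.DR.amp_mono
    (amp_stalk (𝟙 X) (n := 0) (V := ⊤) (x := x) trivial a b G ((Groth.Agent.S6200.result G b a b).1 h x))
    (by simp) le_rfl

theorem flatAmp_smooth (d : ℕ)
    (hd : ∀ x : X, ∃ (n : ℕ) (V : X.Opens), n ≤ d ∧ x ∈ V ∧ SmoothOfRelativeDimension n (V.ι ≫ f))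
    (G : CochainComplex X.Modules ℤ) (a b : ℤ) (hG : DerSch.HasTorAmplitude f a b G) :
    DCoh.HasFlatAmplitudeIn (a - d) b (DCoh.toD X G) := by
  refine flatAmp_of_stk G fun x => ?_
  obtain ⟨n, V, hn, hx, hV⟩ := hd x
  exact Groth.L10.DR.amp_mono (amp_stalk f (n := n) hx a b G (hG x)) (by omega) le_rfl

theorem locFinite_iff [Smooth f] (G : CochainComplex X.Modules ℤ) :
    DerSch.LocFiniteTorAmplitude f G ↔ DCoh.LocHasFiniteTorDim (DCoh.toD X G) := by
  constructor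
  · intro h x
    obtain ⟨W, a, b, hxW, hW⟩ := h x
    obtain ⟨V, n, hxV, hV⟩ := exists_relDim f x
    refine ⟨W ⊓ V, a - n, b, ⟨hxW, hxV⟩, fun F' ⟨e⟩ => ?_⟩
    refine Groth.L29.DC.flatAmp_of_iso ((Groth.L29.DC.resQIso (W ⊓ V) G).symm ≪≫
      (Groth.L29.DC.resD (W ⊓ V)).mapIso e.symm ≪≫ Groth.L29.DC.resQIso (W ⊓ V) F') ?_
    refine flatAmp_of_stk _ fun y => ?_
    haveI : SmoothOfRelativeDimension 0 ((⊤ : (W ⊓ V : X.Opens).toScheme.Opens).ι ≫ (W ⊓ V).ι ≫ 𝟙 X) := by
      rw [Category.comp_id]; infer_instance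
    have h1 : DerSch.HasTorAmplitudeAt (𝟙 X) (a - n) b G ((W ⊓ V).ι y) :=
      amp_stalk_base (𝟙 X) _ _ _ G (amp_stalk f (n := n) (V := V) y.2.2 a b G (hW _ y.2.1))
    exact Groth.L10.DR.amp_mono
      (amp_stalk ((W ⊓ V).ι ≫ 𝟙 X) (n := 0) (V := ⊤) (x := y) trivial (a - n) b _
        ((amp_restrict_iff (𝟙 X) (W ⊓ V).ι y G (a - n) b).2 h1)) (by simp) le_rfl
  · intro h x
    obtain ⟨V, a, b, hxV, hV⟩ := h x
    refine ⟨V, a, b, hxV, fun x' hx' => ?_⟩
    have h1 := amp_stalk_base (V.ι ≫ f) ⟨x', hx'⟩ a b _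
      (stk_of_flatAmp _ (hV G ⟨Iso.refl _⟩) ⟨x', hx'⟩)
    exact (amp_restrict_iff f V.ι ⟨x', hx'⟩ G a b).1 h1

end Groth.Lead.SmoothPerf
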