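import Groth.Agent.Lead.RelRpushProj
import Groth.Agent.Lead.SmoothPerf
import Groth.Agent.L16.ProjSpace.Basic
import Groth.Agent.L29.BC.PerfectPush

/-!
# Finite tor amplitude of direct images from projective space
-/

set_option autoImplicit false
set_option linter.style.haveILetI false
set_option backward.isDefEq.respectTransparency false
set_option backward.isDefEq.respectTransparency.types false
set_option backward.defeqAttrib.useBackward true

universe u

open CategoryTheory CategoryTheory.Limits AlgebraicGeometry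

noncomputable section

attribute [local instance] HasDerivedCategory.standard

namespace Groth.Lead.RelFinTor

open Groth.L29.DC Groth.L29.DC.ClosedPC Groth.L29.RelPC Groth.Lead.ClosedRpush Groth.Lead.SmoothStalk

attribute [local instance] ClosedPC.additive ClosedPC.exactLeft ClosedPC.exactRight

variable {X Y : Scheme.{u}} (g : X ⟶ Y)

theorem amp_congr {G G' : CochainComplex X.Modules ℤ} (e : DCoh.toD X G ≅ DCoh.toD X G') (x : X) (a b : ℤ)
    (h : DerSch.HasTorAmplitudeAt g a b G x) : DerSch.HasTorAmplitudeAt g a b G' x := by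
  haveI : PreservesFiniteLimits (DerSch.stalkFunctor X x) := Groth.L00.Stk.preservesFiniteLimits (X := X) x
  haveI : PreservesFiniteColimits (DerSch.stalkFunctor X x) := Groth.L00.Stk.preservesFiniteColimits (X := X) x
  haveI : PreservesFiniteColimits (ModuleCat.restrictScalars.{u} (g.stalkMap x).hom) := inferInstance
  let R := DerSch.stalkOver g x
  exact Groth.L10.DR.amp_of_iso ((R.mapDerivedCategoryFactors.app G).symm ≪≫ R.mapDerivedCategory.mapIso e ≪≫
    R.mapDerivedCategoryFactors.app G') h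

theorem locFinite_congr {G G' : CochainComplex X.Modules ℤ} (e : DCoh.toD X G ≅ DCoh.toD X G')
    (h : DerSch.LocFiniteTorAmplitude g G) : DerSch.LocFiniteTorAmplitude g G' := fun x => by
  obtain ⟨V, a, b, hx, hV⟩ := h x
  exact ⟨V, a, b, hx, fun x' hx' => amp_congr g e x' a b (hV x' hx')⟩

theorem locFinite_restrict {U : Scheme.{u}} (j : U ⟶ X) [IsOpenImmersion j] {G : CochainComplex X.Modules ℤ}
    (h : DerSch.LocFiniteTorAmplitude g G) :
    DerSch.LocFiniteTorAmplitude (j ≫ g)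
      (((Scheme.Modules.restrictFunctor j).mapHomologicalComplex (ComplexShape.up ℤ)).obj G) := fun y => by
  obtain ⟨V, a, b, hx, hV⟩ := h (j y)
  exact ⟨j ⁻¹ᵁ V, a, b, hx, fun y' hy' => (amp_restrict_iff g j y' G a b).2 (hV _ hy')⟩

/-- a complex representing an object of `D` of finite tor amplitude, through a closed immersion -/
theorem locFinite_closed_iff {Z : Scheme.{u}} (i : Z ⟶ X) [IsClosedImmersion i] [Smooth g]
    (F : CochainComplex Z.Modules ℤ) :
    DerSch.LocFiniteTorAmplitude (i ≫ g) F ↔ DCoh.LocHasFiniteTorDim ((pD i).obj (DCoh.toD Z F)) := by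
  rw [← locFinite_push_iff, Groth.Lead.SmoothPerf.locFinite_iff]
  let e := (Scheme.Modules.pushforward i).mapDerivedCategoryFactors.app F
  constructor <;> intro h x
  · obtain ⟨V, a, b, hx, hV⟩ := h x
    exact ⟨V, a, b, hx, fun F' ⟨e'⟩ => hV F' ⟨e' ≪≫ e⟩⟩
  · obtain ⟨V, a, b, hx, hV⟩ := h x
    exact ⟨V, a, b, hx, fun F' ⟨e'⟩ => hV F' ⟨e' ≪≫ e.symm⟩⟩

set_option maxHeartbeats 1000000 in
/-- a direct image from projective space of a relatively perfect object is locally of finite tor amplitude -/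
theorem locFinite_Rpush_projSpace {Y S : Scheme.{u}} (r : ℕ) (q : Y ⟶ S) [LocallyOfFiniteType q]
    [DCoh.HasRpush (CohB1.ProjSpaceOver.toBase r Y)] (G : CochainComplex (CohB1.ProjSpaceOver r Y).Modules ℤ)
    (hpc : ∀ k : ℤ, DerSch.IsPseudoCoherentRel (CohB1.ProjSpaceOver.toBase r Y ≫ q) k (DCoh.toD _ G))
    (hG : DerSch.LocFiniteTorAmplitude (CohB1.ProjSpaceOver.toBase r Y ≫ q) G)
    (F : CochainComplex Y.Modules ℤ)
    (eF : DCoh.toD Y F ≅ (DCoh.Rpush (CohB1.ProjSpaceOver.toBase r Y)).obj (DCoh.toD _ G)) :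
    DerSch.LocFiniteTorAmplitude q F := by
  intro y
  obtain ⟨U, V, hle, hU, hV, hy⟩ := exists_affine y q
  obtain ⟨n, φ, hφs, hφc⟩ : ∃ (n : ℕ) (φ : MvPolynomial (Fin n) Γ(S, V) →+* Γ(Y, U)),
      Function.Surjective φ ∧ φ.comp MvPolynomial.C = (q.appLE V U hle).hom := by
    letI := (q.appLE V U hle).hom.toAlgebra
    haveI : Algebra.FiniteType Γ(S, V) Γ(Y, U) := LocallyOfFiniteType.finiteType_appLE q hV hU hle
    obtain ⟨n, α, hα⟩ := Algebra.FiniteType.iff_quotient_mvPolynomial''.1 ‹Algebra.FiniteType Γ(S, V) Γ(Y, U)›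
    exact ⟨n, α.toRingHom, hα, α.comp_algebraMap⟩
  let p := CohB1.ProjSpaceOver.toBase r Y
  let A := Spec (CommRingCat.of (MvPolynomial (Fin n) Γ(S, V)))
  let j : (U : Scheme.{u}) ⟶ A := chartI U φ
  haveI : IsClosedImmersion j := isClosedImmersion_chartI hU hφs
  let pA := CohB1.ProjSpaceOver.toBase r A
  let pU := p ∣_ U
  let e := (p ⁻¹ᵁ U).ι
  let t := CohB1.ProjSpace.toSpec r (ULift.{u} ℤ)
  have hbig : IsPullback (e ≫ pullback.fst t (specULiftZIsTerminal.from Y)) pU t (specULiftZIsTerminal.from (U : Scheme.{u})) := by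
    have := (isPullback_morphismRestrict p U).flip.paste_horiz
      (IsPullback.of_hasPullback t (specULiftZIsTerminal.from Y))
    rwa [specULiftZIsTerminal.hom_ext (U.ι ≫ specULiftZIsTerminal.from Y) (specULiftZIsTerminal.from _)] at this
  let j' : (p ⁻¹ᵁ U : Scheme.{u}) ⟶ CohB1.ProjSpaceOver r A :=
    pullback.lift (e ≫ pullback.fst t (specULiftZIsTerminal.from Y)) (pU ≫ j) (specULiftZIsTerminal.hom_ext _ _)
  have hj'1 : j' ≫ pA = pU ≫ j := pullback.lift_snd _ _ _
  have hsq : IsPullback j' pU pA j := by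
    refine IsPullback.of_right (h₂₁ := j) (h₂₂ := specULiftZIsTerminal.from A) (v₁₃ := t)
      (h₁₂ := pullback.fst t (specULiftZIsTerminal.from A)) ?_ hj'1 (IsPullback.of_hasPullback _ _)
    rw [specULiftZIsTerminal.hom_ext (j ≫ specULiftZIsTerminal.from A) (specULiftZIsTerminal.from _),
      show j' ≫ pullback.fst t (specULiftZIsTerminal.from A) = e ≫ pullback.fst t (specULiftZIsTerminal.from Y)
        from pullback.lift_fst _ _ _]
    exact hbig
  haveI : IsClosedImmersion j' := MorphismProperty.of_isPullback (P := @IsClosedImmersion) hsq.flip inferInstance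
  let c := Spec.map (CommRingCat.ofHom (MvPolynomial.C : Γ(S, V) →+* MvPolynomial (Fin n) Γ(S, V)))
  haveI : Smooth c := (HasRingHomProperty.Spec_iff (P := @Smooth)).2
    (RingHom.smooth_algebraMap.2 (⟨inferInstance, inferInstance⟩ : Algebra.Smooth Γ(S, V) (MvPolynomial (Fin n) Γ(S, V))))
  let a : A ⟶ S := c ≫ hV.fromSpec
  haveI : Smooth a := inferInstance
  have hja : j ≫ a = U.ι ≫ q := by
    have h1 : CommRingCat.ofHom MvPolynomial.C ≫ CommRingCat.ofHom φ = q.appLE V U hle := by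
      ext x
      exact RingHom.congr_fun hφc x
    simp only [j, a, c, chartI, Category.assoc, ← Spec.map_comp_assoc, h1]
    rw [Scheme.Opens.toSpecΓ_SpecMap_appLE_assoc, hV.toSpecΓ_fromSpec, Scheme.Hom.resLE_comp_ι]
  let g := pA ≫ a
  haveI : Smooth g := inferInstance
  have hw : j' ≫ g = e ≫ p ≫ q := by
    rw [← Category.assoc, hj'1, Category.assoc, hja, ← Category.assoc, morphismRestrict_ι, Category.assoc]
  let K' := (DCoh.restrictD e).obj (DCoh.toD _ G)
  let G' := ((Scheme.Modules.restrictFunctor e).mapHomologicalComplex (ComplexShape.up ℤ)).obj G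
  let eG : K' ≅ DCoh.toD _ G' := (Scheme.Modules.restrictFunctor e).mapDerivedCategoryFactors.app G
  haveI := RpushQC.hasRpush j'
  haveI := RpushQC.hasRpush pA
  haveI := RpushQC.hasRpush pU
  haveI := RpushQC.hasRpush j
  haveI := RpushQC.hasRpush (pU ≫ j)
  obtain ⟨e1⟩ := nonempty_Rpush_iso_pD j' K'
  have hperf : DCoh.IsPerfect ((DCoh.Rpush j').obj K') := by
    refine (isPerfect_iff_pc_finiteTorDim _).2 ⟨fun k => ?_, ?_⟩
    · have hr : DerSch.IsPseudoCoherentRel (j' ≫ g) k K' := hw ▸ rel_restrict e (hpc k)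
      exact isPseudoCoherentD_of_iso e1.symm ((pc_iff_rel (nPC_of_flat g) k _).2 ((rel_closed_iff j' g k K').1 hr))
    · have h1 : DerSch.LocFiniteTorAmplitude (j' ≫ g) G' := hw ▸ locFinite_restrict _ e hG
      have h2 := (locFinite_closed_iff g j' G').1 h1
      intro x
      obtain ⟨W, c₀, d₀, hx, hW⟩ := h2 x
      exact ⟨W, c₀, d₀, hx, fun F' ⟨e'⟩ => hW F' ⟨e' ≪≫ e1 ≪≫ (pD j').mapIso eG⟩⟩
  have hA := Groth.L29.BC.isPerfect_Rpush pA hperf
  let e2 := (Groth.L29.BC.cR (g := j') (f := pA) (h := pU ≫ j) hj'1).app K' ≪≫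
    ((Groth.L29.BC.cR (g := pU) (f := j) (h := pU ≫ j) rfl).app K').symm
  obtain ⟨e3⟩ := nonempty_Rpush_iso_pD j ((DCoh.Rpush pU).obj K')
  obtain ⟨eV⟩ := RpushRes.nonempty_iso p U.ι e pU (by simp [e]) (morphismRestrict_ι p U)
  let FU := (DCoh.restrictCx U).obj F
  let eFU : (DCoh.Rpush pA).obj ((DCoh.Rpush j').obj K') ≅ (pD j).obj (DCoh.toD _ FU) :=
    e2 ≪≫ e3 ≪≫ (pD j).mapIso ((eV.app (DCoh.toD _ G)).symm ≪≫
      (DCoh.restrictD U.ι).mapIso eF.symm ≪≫ resQIso U F)
  have h3 : DerSch.LocFiniteTorAmplitude (j ≫ a) FU := by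
    refine (locFinite_closed_iff a j FU).2 ?_
    have h4 := locFiniteTorDim_of_perfect hA
    intro x
    obtain ⟨W, c₀, d₀, hx, hW⟩ := h4 x
    exact ⟨W, c₀, d₀, hx, fun F' ⟨e'⟩ => hW F' ⟨e' ≪≫ eFU.symm⟩⟩
  rw [hja] at h3
  obtain ⟨W, c₀, d₀, hyW, hW⟩ := h3 ⟨y, hy⟩
  refine ⟨U.ι ''ᵁ W, c₀, d₀, ⟨⟨y, hy⟩, hyW, rfl⟩, ?_⟩
  rintro _ ⟨y', hy', rfl⟩
  exact (amp_restrict_iff q U.ι y' F c₀ d₀).1 (hW y' hy')

end Groth.Lead.RelFinTor
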