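import Groth.Agent.Lead.ClosedRpush
import Groth.Agent.L29.RelPC.Open
import Groth.Agent.L29.RelPC.Basic

/-!
Relative pseudo-coherence of direct images from projective space.
-/

set_option autoImplicit false
set_option linter.style.haveILetI false
set_option backward.defeqAttrib.useBackward true
set_option backward.isDefEq.respectTransparency false
set_option backward.isDefEq.respectTransparency.types false

universe u

open CategoryTheory CategoryTheory.Limits AlgebraicGeometry

attribute [local instance] HasDerivedCategory.standard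

namespace Groth.Lead.RelRpushProj

open Groth.L29.DC Groth.L29.DC.ClosedPC Groth.L29.RelPC Groth.Lead.ClosedRpush

attribute [local instance] ClosedPC.additive ClosedPC.exactLeft ClosedPC.exactRight

set_option maxHeartbeats 800000 in
/-- a direct image from projective space of a relatively pseudo-coherent object is relatively pseudo-coherent -/
theorem rel_Rpush_projSpace {Y S : Scheme.{u}} (r : ℕ) (q : Y ⟶ S) [LocallyOfFiniteType q]
    [DCoh.HasRpush (CohB1.ProjSpaceOver.toBase r Y)] {K : DCoh.D (CohB1.ProjSpaceOver r Y)}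
    (h : ∀ k : ℤ, DerSch.IsPseudoCoherentRel (CohB1.ProjSpaceOver.toBase r Y ≫ q) k K) (m : ℤ) :
    DerSch.IsPseudoCoherentRel q m ((DCoh.Rpush (CohB1.ProjSpaceOver.toBase r Y)).obj K) := by
  let p := CohB1.ProjSpaceOver.toBase r Y
  refine rel_of_imp fun U n V φ hU hV hφ hle _ => ?_
  let A := Spec (CommRingCat.of (MvPolynomial (Fin n) Γ(S, V)))
  let j : (U : Scheme.{u}) ⟶ A := chartI U φ
  let pA := CohB1.ProjSpaceOver.toBase r A
  let pU := p ∣_ U
  let e := (p ⁻¹ᵁ U).ι
  let t := CohB1.ProjSpace.toSpec r (ULift.{u} ℤ)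
  have hbig : IsPullback (e ≫ pullback.fst t (specULiftZIsTerminal.from Y)) pU t (specULiftZIsTerminal.from (U : Scheme.{u})) := by
    have := (isPullback_morphismRestrict p U).flip.paste_horiz
      (IsPullback.of_hasPullback t (specULiftZIsTerminal.from Y))
    rwa [specULiftZIsTerminal.hom_ext (U.ι ≫ specULiftZIsTerminal.from Y) (specULiftZIsTerminal.from _)] at this
  let j' : (p ⁻¹ᵁ U : Scheme.{u}) ⟶ CohB1.ProjSpaceOver r A :=
    pullback.lift (e ≫ pullback.fst t (specULiftZIsTerminal.from Y)) (pU ≫ j) (specULiftZIsTerminal.hom_ext _ _)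
  have hj'1 : j' ≫ pA = pU ≫ j := pullback.lift_snd _ _ _
  have hsq : IsPullback j' pU pA j := by
    refine IsPullback.of_right (h₂₁ := j) (h₂₂ := specULiftZIsTerminal.from A) (v₁₃ := t)
      (h₁₂ := pullback.fst t (specULiftZIsTerminal.from A)) ?_ hj'1 (IsPullback.of_hasPullback _ _)
    rw [specULiftZIsTerminal.hom_ext (j ≫ specULiftZIsTerminal.from A) (specULiftZIsTerminal.from _),
      show j' ≫ pullback.fst t (specULiftZIsTerminal.from A) = e ≫ pullback.fst t (specULiftZIsTerminal.from Y)
        from pullback.lift_fst _ _ _]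
    exact hbig
  haveI : IsClosedImmersion j' := MorphismProperty.of_isPullback (P := @IsClosedImmersion) hsq.flip inferInstance
  let c := Spec.map (CommRingCat.ofHom (MvPolynomial.C : Γ(S, V) →+* MvPolynomial (Fin n) Γ(S, V)))
  haveI : Flat c := (HasRingHomProperty.Spec_iff (P := @Flat)).2
    (RingHom.flat_algebraMap_iff.2 (inferInstance : Module.Flat Γ(S, V) (MvPolynomial (Fin n) Γ(S, V))))
  haveI : LocallyOfFinitePresentation c := (HasRingHomProperty.Spec_iff (P := @LocallyOfFinitePresentation)).2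
    (RingHom.finitePresentation_algebraMap.2
      (inferInstance : Algebra.FinitePresentation Γ(S, V) (MvPolynomial (Fin n) Γ(S, V))))
  let a : A ⟶ S := c ≫ hV.fromSpec
  have hja : j ≫ a = U.ι ≫ q := by
    have h1 : CommRingCat.ofHom MvPolynomial.C ≫ CommRingCat.ofHom φ = q.appLE V U hle := by
      ext x
      exact RingHom.congr_fun (hφ hle).2 x
    simp only [j, a, c, chartI, Category.assoc, ← Spec.map_comp_assoc, h1]
    rw [Scheme.Opens.toSpecΓ_SpecMap_appLE_assoc, hV.toSpecΓ_fromSpec, Scheme.Hom.resLE_comp_ι]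
  let g := pA ≫ a
  haveI : Flat g := inferInstance
  haveI : LocallyOfFinitePresentation g := inferInstance
  have hw : j' ≫ g = e ≫ p ≫ q := by
    rw [← Category.assoc, hj'1, Category.assoc, hja, ← Category.assoc, morphismRestrict_ι, Category.assoc]
  let K' := (DCoh.restrictD e).obj K
  haveI := RpushQC.hasRpush j'
  haveI := RpushQC.hasRpush pA
  haveI := RpushQC.hasRpush pU
  haveI := RpushQC.hasRpush j
  haveI := RpushQC.hasRpush (pU ≫ j)
  have hpc : ∀ k : ℤ, DCoh.IsPseudoCoherentD k ((DCoh.Rpush j').obj K') := fun k => by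
    have hr : DerSch.IsPseudoCoherentRel (j' ≫ g) k K' := hw ▸ rel_restrict e (h k)
    obtain ⟨e1⟩ := nonempty_Rpush_iso_pD j' K'
    exact isPseudoCoherentD_of_iso e1.symm ((pc_iff_rel (nPC_of_flat g) k _).2 ((rel_closed_iff j' g k K').1 hr))
  have h1 := Groth.L29.BC.pc_Rpush pA hpc m
  let e2 := (Groth.L29.BC.cR (g := j') (f := pA) (h := pU ≫ j) hj'1).app K' ≪≫
    ((Groth.L29.BC.cR (g := pU) (f := j) (h := pU ≫ j) rfl).app K').symm
  obtain ⟨e3⟩ := nonempty_Rpush_iso_pD j ((DCoh.Rpush pU).obj K')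
  obtain ⟨eV⟩ := RpushRes.nonempty_iso p U.ι e pU (by simp [e]) (morphismRestrict_ι p U)
  exact isPseudoCoherentD_of_iso (e2 ≪≫ e3 ≪≫ (pD j).mapIso (eV.app K).symm) h1

end Groth.Lead.RelRpushProj
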