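import Groth.Agent.Lead.FlatPerfect
import Groth.Agent.Lead.PCProj
import Groth.Agent.Lead.RelRpushProj
import Groth.Agent.Lead.ClosedRpush
import Groth.Agent.L29.BC.OpenBC
import Groth.Agent.L29.BC.ProjQC
import Groth.Agent.L29.BC.PerfectPush
import Groth.Agent.L29.RelPC.PerfPush
import Groth.Agent.L29.DCoh.Gen.Lift
import Groth.Agent.L29.DCoh.QCohTensor
import Groth.Agent.L29.DCoh.RHomQCoh
import Groth.Agent.L16.ProjSpace.Basic
import Groth.Agent.S1510
import Groth.Agent.L20.FibreScheme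
import Groth.Agent.L19.ConormalAffine
import Groth.Agent.L19.Approx.UnivHomeo
import Groth.Agent.S7172

/-!
Relative pseudo-coherence from pseudo-coherence of `Rπ_*(E ⊗ K)` for all perfect `E`.
-/

set_option autoImplicit false
set_option linter.style.haveILetI false
set_option backward.defeqAttrib.useBackward true
set_option backward.isDefEq.respectTransparency false
set_option backward.isDefEq.respectTransparency.types false

universe u

open CategoryTheory CategoryTheory.Limits CategoryTheory.Pretriangulated AlgebraicGeometry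

attribute [local instance] HasDerivedCategory.standard

namespace Groth.Lead.RelPCTest

open Groth.L00 Groth.L29.DC Groth.L29.BC

local notation "up" => ComplexShape.up ℤ

variable {X Y : Scheme.{u}}

/-- direct summands of pseudo-coherent objects -/
theorem pc_of_retract {K L : DCoh.D X} (r : Retract K L) {m : ℤ} (h : DCoh.IsPseudoCoherentD m L) :
    DCoh.IsPseudoCoherentD m K := by
  obtain ⟨C, p, d, hT⟩ := distinguished_cocone_triangle r.i
  have hd : d = 0 := by
    have h31 : d ≫ r.i⟦(1 : ℤ)⟧' = 0 := comp_distTriang_mor_zero₃₁ _ hT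
    have := congrArg (· ≫ r.r⟦(1 : ℤ)⟧') h31
    simp only [Category.assoc, ← Functor.map_comp, r.retract, CategoryTheory.Functor.map_id, Category.comp_id,
      zero_comp] at this
    exact this
  obtain ⟨e, -⟩ := Pretriangulated.exists_iso_binaryBiproduct_of_distTriang _ hT hd
  exact (pc_of_biprod K C (isPseudoCoherentD_of_iso e h)).1

/-- regrouping a triple tensor product of complexes -/
theorem nonempty_assoc_swap (D P O : CochainComplex X.Modules ℤ) :
    Nonempty ((DCoh.tensorCx.obj ((DCoh.tensorCx.obj D).obj P)).obj O ≅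
      (DCoh.tensorCx.obj ((DCoh.tensorCx.obj D).obj O)).obj P) :=
  ⟨Assoc.assocCx D P O ≪≫ (DCoh.tensorCx.obj D).mapIso (KFlat.commIso P O).symm ≪≫ (Assoc.assocCx D O P).symm⟩

/-- tensoring the direct image with a pulled back complex -/
theorem nonempty_projection_swap (f : X ⟶ Y) [QuasiCompact f] [QuasiSeparated f] [DCoh.HasRpush f]
    (D : CochainComplex X.Modules ℤ) (PK : CochainComplex X.Modules ℤ) (hPK : DCoh.IsKFlat PK)
    (O : CochainComplex Y.Modules ℤ) (hO : DCoh.IsKFlat O) (hOq : DCoh.IsQCohD (DCoh.toD Y O))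
    (hM : DCoh.IsQCohD (DerivedCategory.Q.obj ((DCoh.tensorCx.obj D).obj PK)))
    [(Scheme.Modules.pullback f).Additive] [DCoh.HasLTensorCx O] [DCoh.HasLTensorCx PK] :
    Nonempty ((DCoh.LTensorCx O).obj ((DCoh.Rpush f).obj (DerivedCategory.Q.obj ((DCoh.tensorCx.obj D).obj PK))) ≅
      (DCoh.Rpush f).obj ((DCoh.LTensorCx PK).obj (DerivedCategory.Q.obj ((DCoh.tensorCx.obj D).obj
        (((Scheme.Modules.pullback f).mapHomologicalComplex up).obj O))))) := by
  haveI := KFlat.hasLpull f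
  let O' := ((Scheme.Modules.pullback f).mapHomologicalComplex up).obj O
  have hO' : DCoh.IsKFlat O' := KFlat.pullback_kflat f O hO
  haveI := KFlat.hasLTensorCx O'
  obtain ⟨p⟩ := ProjQC.nonempty_projection f (DerivedCategory.Q.obj ((DCoh.tensorCx.obj D).obj PK)) hM O hOq O'
    ⟨(DerivedApi.objIso (DerivedApi.acyclicKFlat_pullback f) O hO).symm⟩
  obtain ⟨w⟩ := nonempty_assoc_swap D PK O'
  exact ⟨p ≪≫ (DCoh.Rpush f).mapIso ((Assoc.allIso O' hO').app _ ≪≫ DerivedCategory.Q.mapIso w ≪≫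
    ((Assoc.allIso PK hPK).app _).symm)⟩

end Groth.Lead.RelPCTest

namespace Groth.Lead.RelPCTest

open Groth.L00 Groth.L29.DC Groth.L29.BC
open Groth.L16.ProjSpace (ChartVar chart chart_toSpec)

local notation "up" => ComplexShape.up ℤ

variable {A : Type u} [CommRing A] {X : Scheme.{u}}

/-- `O ⊗^L M ≅ M` -/
theorem nonempty_LTensorCx_unit {Y : Scheme.{u}} (M : CochainComplex Y.Modules ℤ) (hM : DCoh.IsKFlat M)
    [DCoh.HasLTensorCx M] :
    Nonempty ((DCoh.LTensorCx M).obj (DCoh.inD Y (Coh.structureModule Y)) ≅ DCoh.toD Y M) :=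
  ⟨(DCoh.LTensorCx M).mapIso ((DerivedCategory.singleFunctorIsoCompQ Y.Modules 0).app _) ≪≫
    (Assoc.allIso M hM).app _ ≪≫ DerivedCategory.Q.mapIso (KFlat.commIso M (RHom.O0 Y) ≪≫ RHom.unitCxIso.app M)⟩

/-- the graph of a chart in `X ×_A 𝔸ⁿ`: retract and compactness data -/
theorem exists_extension {W Z U : Scheme.{u}} (a' : W ⟶ Z) [IsOpenImmersion a'] [CompactSpace W] [CompactSpace Z]
    [QuasiSeparatedSpace Z] (γ : U ⟶ W) [IsClosedImmersion γ] [LocallyOfFinitePresentation γ]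
    (hγ : MoreMor.IsPerfectMor γ) :
    ∃ R : DCoh.D Z, DCoh.IsPerfect R ∧ Nonempty (Retract
      (DCoh.inD W ((Coh.push γ).obj (Coh.structureModule U))) ((DCoh.restrictD a').obj R)) := by
  let M := (Coh.push γ).obj (Coh.structureModule U)
  let O : W.Opens := ⟨(Set.range γ)ᶜ, γ.isClosedEmbedding.isClosed_range.isOpen_compl⟩
  let Ω : Z.Opens := a' ''ᵁ O
  have hΩ : IsCompact (Ω : Set Z) := by
    have hc : IsCompact (γ.ker.support : Set W)ᶜ :=
      Groth.L19.Approx.isCompact_compl_support (Groth.L19.Approx.fgOn_ker γ)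
    have hr : (γ.ker.support : Set W) = Set.range γ := by
      rw [Scheme.Hom.support_ker]
      exact γ.isClosedEmbedding.isClosed_range.closure_eq
    rw [hr] at hc
    exact hc.image a'.continuous
  have hz : Gen.ZOn (DCoh.inD W M) (a' ⁻¹' (Ω : Set Z)) := by
    rw [Gen.zOn_iff_support]
    intro i x hx hxΩ
    by_cases hi : i = 0
    · subst hi
      obtain ⟨e⟩ := Groth.L29.RelPC.nonempty_HD0_inD M
      rw [Groth.L17.KilledUnit.support_congr e] at hx
      obtain ⟨y, hy, hyx⟩ := hxΩ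
      exact hy (a'.isOpenEmbedding.injective hyx ▸ Groth.L16.CohClosedPush.support_push_subset γ _ hx)
    · have hzero : IsZero (DCoh.HD (DCoh.inD W M) i) := by
        rcases lt_or_gt_of_ne hi with h | h
        · exact DerivedCategory.isZero_of_isGE _ 0 i h
        · exact DerivedCategory.isZero_of_isLE _ 0 i h
      rw [Groth.L29.CohSupp.support_of_isZero hzero] at hx
      exact hx
  obtain ⟨Z0, hZ0⟩ := Limits.HasZeroObject.zero (C := DCoh.D Z)
  obtain ⟨R, β, i, p, hR, -, hip, -⟩ := Gen.lift_of_compact a' Ω hΩ Z0 (isQCohD_of_isZero hZ0) (DCoh.inD W M)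
    (Groth.L29.RelPC.perfect_push γ hγ) hz 0
  exact ⟨R, hR, ⟨⟨i, p, hip⟩⟩⟩

set_option maxHeartbeats 3200000 in
/-- a chart of `K` has any property detected by twists on projective space and stable by restriction and retracts -/
theorem chart_of_test {P : ∀ Y : Scheme.{u}, DCoh.D Y → Prop}
    (Piso : ∀ {Y : Scheme.{u}} {E F : DCoh.D Y}, (E ≅ F) → P Y E → P Y F)
    (Pret : ∀ {Y : Scheme.{u}} {E F : DCoh.D Y}, Retract E F → P Y F → P Y E)
    (Pres : ∀ {Y Z : Scheme.{u}} (k : Y ⟶ Z) [IsOpenImmersion k] {E : DCoh.D Z}, P Z E → P Y ((DCoh.restrictD k).obj E))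
    (n : ℕ) (π : X ⟶ Spec (CommRingCat.of A)) [IsSeparated π] [QuasiCompact π]
    [LocallyOfFinitePresentation π] [DCoh.HasRpush π] (K : CochainComplex X.Modules ℤ) [DCoh.HasLTensorCx K]
    (Ptw : ∀ [DCoh.HasRpush (CohB1.ProjSpace.toSpec n A)] (V : DCoh.D (CohB1.ProjSpace n A)), DCoh.IsQCohD V →
      (∀ d : ℕ, d ≤ n → P _ ((Groth.Lead.PCProj.NF n A d).obj V)) → P _ V)
    (hK : DCoh.IsQCohD (DCoh.toD X K))
    (h : ∀ E : DCoh.D X, DCoh.IsPerfect E → P _ ((DCoh.Rpush π).obj ((DCoh.LTensorCx K).obj E)))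
    (U : X.Opens) (j : (U : Scheme.{u}) ⟶ Spec (CommRingCat.of (MvPolynomial (ChartVar n 0) A))) [IsClosedImmersion j]
    (hj : j ≫ Spec.map (CommRingCat.ofHom MvPolynomial.C) = U.ι ≫ π) :
    P _ ((ClosedPC.pD j).obj ((resD U).obj (DCoh.toD X K))) := by
  let π' := CohB1.ProjSpace.toSpec n A
  let c := chart n A 0
  haveI : IsProper π' := Groth.L16.ProjSpace.isProper_toSpec n A
  let pr := pullback.fst π π'
  let q := pullback.snd π π'
  let a' := pullback.fst q c
  let q₀ := pullback.snd q c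
  have sq : IsPullback a' q₀ q c := IsPullback.of_hasPullback q c
  haveI : IsProper pr := inferInstanceAs (IsProper (pullback.fst π π'))
  haveI : Flat pr := inferInstanceAs (Flat (pullback.fst π π'))
  haveI : Smooth pr := inferInstanceAs (Smooth (pullback.fst π π'))
  haveI : LocallyOfFinitePresentation pr := inferInstanceAs (LocallyOfFinitePresentation (pullback.fst π π'))
  haveI : QuasiCompact q := inferInstanceAs (QuasiCompact (pullback.snd π π'))
  haveI : IsSeparated q := inferInstanceAs (IsSeparated (pullback.snd π π'))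
  haveI : IsOpenImmersion a' := inferInstanceAs (IsOpenImmersion (pullback.fst q c))
  haveI : IsSeparated q₀ := inferInstanceAs (IsSeparated (pullback.snd q c))
  haveI : QuasiCompact q₀ := inferInstanceAs (QuasiCompact (pullback.snd q c))
  haveI : CompactSpace X := QuasiCompact.compactSpace_of_compactSpace π
  haveI : QuasiSeparatedSpace X := quasiSeparatedSpace_of_quasiSeparated π
  haveI : CompactSpace ↥(pullback π π') := QuasiCompact.compactSpace_of_compactSpace pr
  haveI : QuasiSeparatedSpace ↥(pullback π π') := quasiSeparatedSpace_of_quasiSeparated pr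
  haveI : CompactSpace ↥(pullback q c) := QuasiCompact.compactSpace_of_compactSpace q₀
  -- the graph
  let γ₁ : (U : Scheme.{u}) ⟶ pullback π π' := pullback.lift U.ι (j ≫ c) (by rw [Category.assoc, chart_toSpec, hj])
  let γ : (U : Scheme.{u}) ⟶ pullback q c := pullback.lift γ₁ j (pullback.lift_snd _ _ _)
  have hγq : γ ≫ q₀ = j := pullback.lift_snd _ _ _
  have hγp : γ ≫ a' ≫ pr = U.ι := by rw [pullback.lift_fst_assoc]; exact pullback.lift_fst _ _ _
  haveI : IsClosedImmersion (γ ≫ q₀) := hγq ▸ inferInstance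
  haveI : IsClosedImmersion γ := IsClosedImmersion.of_comp γ q₀
  haveI : LocallyOfFinitePresentation γ := by
    haveI : LocallyOfFinitePresentation (γ ≫ a' ≫ pr) := hγp ▸ inferInstance
    exact Groth.L20.locallyOfFinitePresentation_of_comp γ (a' ≫ pr)
  have hγ : MoreMor.IsPerfectMor γ :=
    Groth.Agent.S1510.result γ (a' ≫ pr) (hγp ▸ Groth.Agent.S7172.result U.ι)
  obtain ⟨R, hR, ⟨ret⟩⟩ := exists_extension a' γ hγ
  -- representatives
  haveI := fun {Y Z : Scheme.{u}} (k : Y ⟶ Z) => RpushQC.hasRpush k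
  haveI := fun {Y Z : Scheme.{u}} (k : Y ⟶ Z) => KFlat.hasLpull k
  haveI := fun {Y : Scheme.{u}} (D : CochainComplex Y.Modules ℤ) => KFlat.hasLTensorCx D
  haveI := fun {Y : Scheme.{u}} (M : Y.Modules) => DerivedApi.hasLTensorMod M
  haveI := fun {Y Z : Scheme.{u}} (k : Y ⟶ Z) => Groth.L29.RelPC.additive_pullback k
  obtain ⟨D, r, hD, -, hr, -⟩ := KFlat.exists_resolution (DerivedCategory.Q.objPreimage R)
  haveI := (DerivedCategory.isIso_Q_map_iff_quasiIso _ r).2 hr
  let eD : DCoh.toD _ D ≅ R := asIso (DerivedCategory.Q.map r) ≪≫ DerivedCategory.Q.objObjPreimageIso R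
  have hDp : DCoh.IsPerfect (DCoh.toD _ D) := isPerfect_of_iso eD.symm hR
  obtain ⟨Pk, rk, hPk, -, hrk, -⟩ := KFlat.exists_resolution K
  haveI := (DerivedCategory.isIso_Q_map_iff_quasiIso _ rk).2 hrk
  let PK := ((Scheme.Modules.pullback pr).mapHomologicalComplex up).obj Pk
  have hPK : DCoh.IsKFlat PK := KFlat.pullback_kflat pr Pk hPk
  let ePK : DCoh.toD _ PK ≅ (DCoh.Lpull pr).obj (DCoh.toD X K) :=
    (DerivedApi.objIso (DerivedApi.acyclicKFlat_pullback pr) Pk hPk).symm ≪≫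
      (DCoh.Lpull pr).mapIso (asIso (DerivedCategory.Q.map rk))
  have hPKq : DCoh.IsQCohD (DCoh.toD _ PK) := isQCohD_of_iso ePK.symm (isQCohD_Lpull pr hK)
  let M0 := DerivedCategory.Q.obj ((DCoh.tensorCx.obj D).obj PK)
  have hM0 : DCoh.IsQCohD M0 := isQCohD_of_iso ((Assoc.allIso PK hPK).app D)
    (isQCohD_LTensorCx PK hPKq (PCQCoh.isQCohD_of_perfect hDp))
  -- pseudo-coherence on projective space
  have hV : P _ ((DCoh.Rpush q).obj M0) := by
    refine Ptw _ (RpushQC.isQCohD_Rpush q M0 hM0) (fun d _ => ?_)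
    let L := Twist.twistProjSpace n A (d : ℤ)
    have hL := Groth.Lead.PCProj.hfl n A (d : ℤ)
    let O := Groth.Lead.LTMod.S0 L
    have hO : DCoh.IsKFlat O := KFlat.single _ (isFlat_of_isFinLocFree hL) 0
    have hOp : DCoh.IsPerfect (DCoh.toD _ O) :=
      isPerfect_of_iso ((DerivedCategory.singleFunctorIsoCompQ _ 0).app L) (Groth.Lead.PCProj.isPerfect_inD hL)
    obtain ⟨w⟩ := nonempty_projection_swap q D PK hPK O hO (PCQCoh.isQCohD_of_perfect hOp) hM0
    let O' := ((Scheme.Modules.pullback q).mapHomologicalComplex up).obj O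
    have hO' : DCoh.IsKFlat O' := KFlat.pullback_kflat q O hO
    let P' := DerivedCategory.Q.obj ((DCoh.tensorCx.obj D).obj O')
    have hP' : DCoh.IsPerfect P' := isPerfect_of_iso ((Assoc.allIso O' hO').app D)
      (isPerfect_LTensorCx O' hO' (isPerfect_of_iso (DerivedApi.objIso (DerivedApi.acyclicKFlat_pullback q) O hO)
        (Groth.L29.DC.isPerfect_Lpull q hOp)) _ hDp)
    obtain ⟨v⟩ := ProjQC.nonempty_projection pr P' (PCQCoh.isQCohD_of_perfect hP') K hK PK ⟨ePK⟩
    exact Piso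
      ((DCoh.Rpush π).mapIso v ≪≫ (cR (g := pr) (f := π) (h := pr ≫ π) rfl).app _ ≪≫
        ((cR (g := q) (f := π') (h := pr ≫ π) pullback.condition.symm).app _).symm ≪≫
        (DCoh.Rpush π').mapIso (w.symm ≪≫ (Groth.Lead.LTMod.iso L).symm.app _ ≪≫
          (Groth.Lead.TwistEquiv.ltIso L hL).app _))
      (h _ (Groth.L29.BC.isPerfect_Rpush pr hP'))
  -- restriction to the chart
  let rs := (Scheme.Modules.restrictFunctor a').mapHomologicalComplex up
  have hrPK : DCoh.IsKFlat (rs.obj PK) := isKFlat_restrict a' hPK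
  let fac := fun N : CochainComplex (pullback π π').Modules ℤ =>
    (Scheme.Modules.restrictFunctor a').mapDerivedCategoryFactors.app N
  obtain ⟨e₁⟩ := nonempty_Lpull_iso_restrictD c ((DCoh.Rpush q).obj M0)
  obtain ⟨e₂⟩ := nonempty_Lpull_iso_restrictD a' M0
  haveI := isIso_β_open sq M0
  have h₁ : P _ ((DCoh.Rpush q₀).obj ((DCoh.LTensorCx (rs.obj PK)).obj ((DCoh.restrictD a').obj R))) :=
    Piso (e₁.symm ≪≫ asIso (DCoh.baseChangeApp (adj c) (adj a') (e sq.w) M0) ≪≫
        (DCoh.Rpush q₀).mapIso (e₂ ≪≫ fac _ ≪≫ DerivedCategory.Q.mapIso (restrictTensorCxIso a' D PK).symm ≪≫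
          ((Assoc.allIso (rs.obj PK) hrPK).app (rs.obj D)).symm ≪≫
          (DCoh.LTensorCx (rs.obj PK)).mapIso ((fac D).symm ≪≫ (DCoh.restrictD a').mapIso eD)))
      (Pres c hV)
  have h₂ := Pret (ret.map (DCoh.LTensorCx (rs.obj PK) ⋙ DCoh.Rpush q₀)) h₁
  -- the graph
  let M' := ((Scheme.Modules.pullback γ).mapHomologicalComplex up).obj (rs.obj PK)
  have hM' : DCoh.IsKFlat M' := KFlat.pullback_kflat γ _ hrPK
  obtain ⟨s⟩ := Groth.Lead.FlatPerfect.nonempty_Rpush_single γ (Coh.structureModule (U : Scheme.{u}))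
    (hM := Groth.L19.Conormal.isQCoh_structureModule _)
  obtain ⟨pγ⟩ := ProjQC.nonempty_projection γ (DCoh.inD _ (Coh.structureModule (U : Scheme.{u})))
    (Groth.L29.RelPC.isQCohD_unit _) (rs.obj PK) (isQCohD_of_iso (fac PK) (isQCohD_restrictD a' hPKq)) M'
    ⟨(DerivedApi.objIso (DerivedApi.acyclicKFlat_pullback γ) (rs.obj PK) hrPK).symm⟩
  obtain ⟨u⟩ := nonempty_LTensorCx_unit M' hM'
  let F : X.Modules ⥤ (U : Scheme.{u}).Modules :=
    Scheme.Modules.pullback pr ⋙ Scheme.Modules.restrictFunctor a' ⋙ Scheme.Modules.pullback γ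
  let eF : F ≅ Scheme.Modules.restrictFunctor U.ι :=
    Functor.isoWhiskerLeft _ (Functor.isoWhiskerRight (Scheme.Modules.restrictFunctorIsoPullback a') _ ≪≫
      Scheme.Modules.pullbackComp γ a') ≪≫ Scheme.Modules.pullbackComp (γ ≫ a') pr ≪≫
      Scheme.Modules.pullbackCongr (by rw [Category.assoc]; exact hγp) ≪≫
      (Scheme.Modules.restrictFunctorIsoPullback U.ι).symm
  let eM : DCoh.toD _ M' ≅ (resD U).obj (DCoh.toD X K) :=
    DerivedCategory.Q.mapIso ((NatIso.mapHomologicalComplex eF up).app Pk) ≪≫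
      ((Scheme.Modules.restrictFunctor U.ι).mapDerivedCategoryFactors.app Pk).symm ≪≫
      (resD U).mapIso (asIso (DerivedCategory.Q.map rk))
  obtain ⟨ej⟩ := Groth.Lead.ClosedRpush.nonempty_Rpush_iso_pD j ((resD U).obj (DCoh.toD X K))
  exact Piso
    ((DCoh.Rpush q₀).mapIso ((DCoh.LTensorCx (rs.obj PK)).mapIso s.symm ≪≫ pγ ≪≫
        (DCoh.Rpush γ).mapIso (u ≪≫ eM)) ≪≫
      (cR (g := γ) (f := q₀) (h := j) hγq).app _ ≪≫ ej) h₂

/-- pseudo-coherence of a chart of `K` -/
theorem pc_chart_of_test (n : ℕ) (π : X ⟶ Spec (CommRingCat.of A)) [IsSeparated π] [QuasiCompact π]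
    [LocallyOfFinitePresentation π] [DCoh.HasRpush π] (K : CochainComplex X.Modules ℤ) [DCoh.HasLTensorCx K]
    (hK : DCoh.IsQCohD (DCoh.toD X K))
    (h : ∀ E : DCoh.D X, DCoh.IsPerfect E →
      ∀ m : ℤ, DCoh.IsPseudoCoherentD m ((DCoh.Rpush π).obj ((DCoh.LTensorCx K).obj E)))
    (U : X.Opens) (j : (U : Scheme.{u}) ⟶ Spec (CommRingCat.of (MvPolynomial (ChartVar n 0) A))) [IsClosedImmersion j]
    (hj : j ≫ Spec.map (CommRingCat.ofHom MvPolynomial.C) = U.ι ≫ π) (m : ℤ) :
    DCoh.IsPseudoCoherentD m ((ClosedPC.pD j).obj ((resD U).obj (DCoh.toD X K))) :=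
  chart_of_test (P := fun _ E => ∀ k, DCoh.IsPseudoCoherentD k E) (fun e hE k => isPseudoCoherentD_of_iso e (hE k))
    (fun r hE k => pc_of_retract r (hE k)) (fun c _ _ hE k => PCStalk.pc_res c (hE k)) n π K
    (fun V hV hd => Groth.Lead.PCProj.pc_of_twists (n := n) (A := A) V hV hd) hK h U j hj m

end Groth.Lead.RelPCTest

namespace Groth.Lead.RelPCTest

open Groth.L29.DC Groth.L29.RelPC
open Groth.L16.ProjSpace (ChartVar)

variable {A : Type u} [CommRing A] {X : Scheme.{u}}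

set_option maxHeartbeats 800000 in
/-- relative pseudo-coherence from the test -/
theorem rel_of_test (π : X ⟶ Spec (CommRingCat.of A)) [IsSeparated π] [QuasiCompact π]
    [LocallyOfFinitePresentation π] [DCoh.HasRpush π] (K : CochainComplex X.Modules ℤ) [DCoh.HasLTensorCx K]
    (hK : DCoh.IsQCohD (DCoh.toD X K))
    (h : ∀ E : DCoh.D X, DCoh.IsPerfect E →
      ∀ m : ℤ, DCoh.IsPseudoCoherentD m ((DCoh.Rpush π).obj ((DCoh.LTensorCx K).obj E))) (m : ℤ) :
    DerSch.IsPseudoCoherentRel π m (DCoh.toD X K) := by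
  refine rel_of_local fun x => ?_
  obtain ⟨_, ⟨U, hU, rfl⟩, hxU, -⟩ := X.isBasis_affineOpens.exists_subset_of_mem_open (Set.mem_univ x) isOpen_univ
  have hT := isAffineOpen_top (Spec (CommRingCat.of A))
  have hle : U ≤ π ⁻¹ᵁ (⊤ : (Spec (CommRingCat.of A)).Opens) := by simp
  obtain ⟨n, φ, hφ⟩ := exists_isChart π hU hT hle
  refine ⟨U, ⊤, hxU, hU, hT, hle, good_of_chart π hU (h := hle) hφ ?_⟩
  let e₀ : A ≃+* Γ(Spec (CommRingCat.of A), (⊤ : (Spec (CommRingCat.of A)).Opens)) :=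
    (Scheme.ΓSpecIso (CommRingCat.of A)).symm.commRingCatIsoToRingEquiv
  let e : MvPolynomial (ChartVar n 0) A ≃+*
      MvPolynomial (Fin n) Γ(Spec (CommRingCat.of A), (⊤ : (Spec (CommRingCat.of A)).Opens)) :=
    (MvPolynomial.renameEquiv A ((finSuccAboveEquiv (0 : Fin (n + 1))).symm : ChartVar n 0 ≃ Fin n)).toRingEquiv.trans
      (MvPolynomial.mapEquiv (Fin n) e₀)
  let ψ : MvPolynomial (ChartVar n 0) A →+* Γ(X, U) := φ.comp e.toRingHom
  have hψ : Function.Surjective ψ := hφ.1.comp e.surjective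
  haveI := isClosedImmersion_chartI hU hψ
  have hC : ψ.comp MvPolynomial.C = (π.appLE ⊤ U hle).hom.comp (Scheme.ΓSpecIso (CommRingCat.of A)).inv.hom := by
    rw [← hφ.2]
    refine RingHom.ext fun r => ?_
    simp [ψ, e, e₀]
    rfl
  have hj : chartI U ψ ≫ Spec.map (CommRingCat.ofHom MvPolynomial.C) = (Scheme.Opens.ι U) ≫ π := by
    have h1 : CommRingCat.ofHom MvPolynomial.C ≫ CommRingCat.ofHom ψ =
        (Scheme.ΓSpecIso (CommRingCat.of A)).inv ≫ π.appLE ⊤ U hle := by
      ext r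
      exact RingHom.congr_fun hC r
    rw [chartI, Category.assoc, ← Spec.map_comp, h1, Spec.map_comp, ← Scheme.isoSpec_Spec_inv,
      ← IsAffineOpen.fromSpec_top, Scheme.Opens.toSpecΓ_SpecMap_appLE_assoc, hT.toSpecΓ_fromSpec,
      Scheme.Hom.resLE_comp_ι]
  have hCP : CP U ψ m (DCoh.toD X K) := ⟨inferInstance, pc_chart_of_test n π K hK h U (chartI U ψ) hj m⟩
  exact (CP.comp_iff hU φ hφ.1 e.toRingHom e.surjective (Groth.L10.RelPC.PCHom.ringEquiv e) rfl m _).1 hCP

end Groth.Lead.RelPCTest
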