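import Groth.Agent.Lead.FibreGlobal
import Groth.Agent.L18.FiberStalk
import Groth.Agent.L10.DRing.FlatFibre
import Groth.Agent.L00.KFlatPull
import Groth.Agent.L00.KFlatRes
import Groth.Agent.L00.DerivedApi

/-!
# Relative finite tor amplitude from fibres bounded below
-/

set_option autoImplicit false
set_option linter.style.haveILetI false
set_option linter.unusedSectionVars false
set_option backward.isDefEq.respectTransparency false
set_option backward.isDefEq.respectTransparency.types false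
set_option backward.defeqAttrib.useBackward true

universe u

open CategoryTheory CategoryTheory.Limits AlgebraicGeometry TensorProduct

noncomputable section

attribute [local instance] HasDerivedCategory.standard

namespace Groth.Lead.FibreBounded

open Groth.Lead.SmoothStalk Groth.Lead.FibreLocal Groth.Lead.FibreGlobal Groth.L14.Quot Groth.L02.PC
open Groth.L29.DC Groth.L29.DC.ClosedPC Groth.L29.RelPC Groth.L10.DR

section Ring

/-- homology after a surjective base change depends only on the kernel -/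
theorem isZero_bc_congr {A B B' : Type u} [CommRing A] [CommRing B] [CommRing B'] (φ : A →+* B) (φ' : A →+* B')
    (hφ : Function.Surjective φ) (hφ' : Function.Surjective φ') (hk : RingHom.ker φ = RingHom.ker φ')
    (P : DRing.Cx A) (i : ℤ) (h : IsZero (((bcCx φ).obj P).homology i)) :
    IsZero (((bcCx φ').obj P).homology i) := by
  let e : B ≃+* B' := (RingHom.quotientKerEquivOfSurjective hφ).symm.trans
    ((Ideal.quotEquivOfEq hk).trans (RingHom.quotientKerEquivOfSurjective hφ'))
  have he : ∀ a, e (φ a) = φ' a := fun a => by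
    show RingHom.quotientKerEquivOfSurjective hφ' (Ideal.quotEquivOfEq hk
      ((RingHom.quotientKerEquivOfSurjective hφ).symm (φ a))) = _
    rw [show φ a = RingHom.quotientKerEquivOfSurjective hφ (Ideal.Quotient.mk _ a) from rfl,
      RingEquiv.symm_apply_apply]
    rfl
  letI : Algebra A B := φ.toAlgebra
  letI : Algebra A B' := φ'.toAlgebra
  let el : B ≃ₗ[A] B' := e.toAddEquiv.toLinearEquiv fun c x => by
    show e (φ c * x) = φ' c * e x
    rw [map_mul, he]
  rw [isZero_homology_iff_exact _ (i - 1) i (i + 1) (by omega) rfl] at h ⊢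
  have h' : Function.Exact ((P.d (i - 1) i).hom.lTensor B) ((P.d i (i + 1)).hom.lTensor B) := fun x => h x
  have h2 := (Function.Exact.iff_of_ladder_addEquiv (el.rTensor (P.X (i - 1))).toAddEquiv
    (el.rTensor (P.X i)).toAddEquiv (el.rTensor (P.X (i + 1))).toAddEquiv
    (f₁₂ := ((P.d (i - 1) i).hom.lTensor B).toAddMonoidHom)
    (f₂₃ := ((P.d i (i + 1)).hom.lTensor B).toAddMonoidHom)
    (g₁₂ := ((P.d (i - 1) i).hom.lTensor B').toAddMonoidHom)
    (g₂₃ := ((P.d i (i + 1)).hom.lTensor B').toAddMonoidHom) ?_ ?_).2 h'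
  · exact fun x => h2 x
  all_goals
    ext x
    induction x using TensorProduct.induction_on with
    | zero => simp
    | add u v hu hv => simp_all
    | tmul u v => rfl

/-- base change in stages -/
theorem isZero_bc_bc_iff {A B C : Type u} [CommRing A] [CommRing B] [CommRing C] (φ : A →+* B) (ψ : B →+* C)
    (P : DRing.Cx A) (i : ℤ) :
    IsZero (((bcCx ψ).obj ((bcCx φ).obj P)).homology i) ↔ IsZero (((bcCx (ψ.comp φ)).obj P).homology i) :=
  (((HomologicalComplex.homologyFunctor (ModuleCat.{u} C) (ComplexShape.up ℤ) i).mapIso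
    (((NatIso.mapHomologicalComplex (ModuleCat.extendScalarsComp.{u, u} φ ψ) (ComplexShape.up ℤ)).app P)))).isZero_iff.symm

/-- K-flat models have the same base change -/
theorem isZero_bc_iso {A B : Type u} [CommRing A] [CommRing B] (φ : A →+* B) {P Q : DRing.Cx A}
    (hP : DRing.IsKFlat A P) (hQ : DRing.IsKFlat A Q) (e : DRing.toD P ≅ DRing.toD Q) (i : ℤ)
    (h : IsZero (((bcCx φ).obj P).homology i)) : IsZero (((bcCx φ).obj Q).homology i) := by
  haveI := Groth.L10.KFlatLBC.hasLBaseChange φ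
  refine (Groth.L10.DR.HH_iso_zero ((Groth.L10.KFlatLBC.lbcKF φ Q hQ).symm) i).1 ?_
  exact (Groth.L10.DR.HH_iso_zero ((Groth.L10.KFlatLBC.lbcKF φ P hP).symm ≪≫
    (DRing.LBaseChange φ).mapIso e) i).2 h

theorem isKFlat_of_KF {A : Type u} [CommRing A] {K : DRing.Cx A} (h : Groth.L00.KFlatAlg.KF K) :
    DRing.IsKFlat A K := fun M hM i =>
  (h M hM i).of_iso ((HomologicalComplex.homologyFunctor _ _ i).mapIso (Groth.L00.KFlatAlg.commIso M K).symm)

/-- K-flat complexes stay K-flat over a ring over which the algebra is flat -/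
theorem isKFlat_restrict_of_flat {T A : Type u} [CommRing T] [CommRing A] (φ : T →+* A) (hφ : φ.Flat)
    (P : DRing.Cx A) (h : DRing.IsKFlat A P) :
    DRing.IsKFlat T (((ModuleCat.restrictScalars.{u} φ).mapHomologicalComplex (ComplexShape.up ℤ)).obj P) := by
  intro M hM i
  letI : Algebra T A := φ.toAlgebra
  haveI : Module.Flat T A := hφ
  have hac : ∀ j, IsZero (((bcCx φ).obj M).homology j) := fun j => by
    rw [isZero_homology_iff_exact _ (j - 1) j (j + 1) (by omega) rfl]
    have h0 := (isZero_homology_iff_exact M (j - 1) j (j + 1) (by omega) rfl).1 (hM j)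
    have h1 : Function.Exact ((M.d (j - 1) j).hom.lTensor A) ((M.d j (j + 1)).hom.lTensor A) :=
      Module.Flat.lTensor_exact A h0
    exact fun x => h1 x
  exact ((Groth.L00.KFlatAlg.acyclic_restrictScalars φ _ i).2 (h _ hac i)).of_iso
    ((HomologicalComplex.homologyFunctor _ _ i).mapIso (Groth.L00.BaseChangeTensor.tensorIso φ M P))

end Ring

variable {X S : Scheme.{u}}

/-- the ideal of the fibre at a point -/
abbrev J (f : X ⟶ S) (x : X) : Ideal (X.presheaf.stalk x) :=
  (IsLocalRing.maximalIdeal (S.presheaf.stalk (f x))).map (f.stalkMap x).hom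

theorem isKFlat_stk {P : CochainComplex X.Modules ℤ} (h : DCoh.IsKFlat P) (x : X) :
    DRing.IsKFlat (X.presheaf.stalk x) (stk x P) :=
  isKFlat_of_KF (Groth.L00.KFlat.stalk_KF P h x)

/-- the derived fibre at a point has no cohomology below `a` -/
def Fib (f : X ⟶ S) (G : CochainComplex X.Modules ℤ) (x : X) (a : ℤ) : Prop :=
  ∀ P : CochainComplex X.Modules ℤ, DCoh.IsKFlat P → Nonempty (DCoh.toD X P ≅ DCoh.toD X G) →
    ∀ i < a, IsZero (((bcCx (Ideal.Quotient.mk (J f x))).obj (stk x P)).homology i)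

theorem fib_of_rep (f : X ⟶ S) (G : CochainComplex X.Modules ℤ) (x : X) (a : ℤ) {P : CochainComplex X.Modules ℤ}
    (hP : DCoh.IsKFlat P) (e : DCoh.toD X P ≅ DCoh.toD X G)
    (h : ∀ i < a, IsZero (((bcCx (Ideal.Quotient.mk (J f x))).obj (stk x P)).homology i)) : Fib f G x a := by
  intro Q hQ ⟨eQ⟩ i hi
  let F := Groth.L00.Stk.F X x
  exact isZero_bc_iso _ (isKFlat_stk hP x) (isKFlat_stk hQ x)
    ((F.mapDerivedCategoryFactors.app P).symm ≪≫ F.mapDerivedCategory.mapIso (e ≪≫ eQ.symm) ≪≫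
      F.mapDerivedCategoryFactors.app Q) i (h i hi)

/-- restriction to an open subscheme -/
theorem fib_restrict (f : X ⟶ S) {U : Scheme.{u}} (j : U ⟶ X) [IsOpenImmersion j] (G : CochainComplex X.Modules ℤ)
    (y : U) (a : ℤ) (h : Fib f G (j y) a) :
    Fib (j ≫ f) (((Scheme.Modules.restrictFunctor j).mapHomologicalComplex (ComplexShape.up ℤ)).obj G) y a := by
  obtain ⟨P, r, hP, -, hr, -⟩ := Groth.L00.KFlat.exists_resolution G
  haveI : IsIso (DerivedCategory.Q.map r) := (DerivedCategory.isIso_Q_map_iff_quasiIso _ _).2 hr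
  let PU := ((Scheme.Modules.pullback j).mapHomologicalComplex (ComplexShape.up ℤ)).obj P
  let e : DCoh.toD X P ≅ DCoh.toD X G := asIso (DerivedCategory.Q.map r)
  let R' := Scheme.Modules.restrictFunctor j
  refine fib_of_rep _ _ y a (P := PU) (Groth.L00.KFlat.pullback_kflat j P hP)
    (DerivedCategory.Q.mapIso ((NatIso.mapHomologicalComplex (Scheme.Modules.restrictFunctorIsoPullback j).symm
      (ComplexShape.up ℤ)).app P) ≪≫ (R'.mapDerivedCategoryFactors.app P).symm ≪≫
        R'.mapDerivedCategory.mapIso e ≪≫ R'.mapDerivedCategoryFactors.app G) fun i hi => ?_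
  let φ := Groth.L00.PullStalk.φ j y
  have hφ : Function.Bijective φ := (asIso (j.stalkMap y)).commRingCatIsoToRingEquiv.bijective
  have hJ : J (j ≫ f) y = (J f (j y)).map φ := by
    show Ideal.map ((j ≫ f).stalkMap y).hom _ = _
    rw [Scheme.Hom.stalkMap_comp, CommRingCat.hom_comp, ← Ideal.map_map]
    rfl
  refine IsZero.of_iso ?_ ((HomologicalComplex.homologyFunctor _ _ i).mapIso
    ((bcCx (Ideal.Quotient.mk (J (j ≫ f) y))).mapIso (Groth.L00.KFlat.pullCxIso j P y)))
  let q := Ideal.Quotient.mk (J (j ≫ f) y)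
  have hker : RingHom.ker (Ideal.Quotient.mk (J f (j y))) = RingHom.ker (q.comp φ) := by
    rw [← RingHom.comap_ker, Ideal.mk_ker, Ideal.mk_ker, hJ, Ideal.comap_map_of_bijective φ hφ]
  have h2 : IsZero (((bcCx (q.comp φ)).obj (stk (j y) P)).homology i) :=
    isZero_bc_congr (Ideal.Quotient.mk (J f (j y))) (q.comp φ) Ideal.Quotient.mk_surjective
      (Ideal.Quotient.mk_surjective.comp hφ.2) hker (stk (j y) P) i (h P hP ⟨e⟩ i hi)
  exact (isZero_bc_bc_iff φ q (stk (j y) P) i).2 h2

/-- a change of the morphism -/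
theorem J_congr {f f' : X ⟶ S} (h : f = f') (x : X) : J f x = J f' x := by subst h; rfl

theorem fib_congr {f f' : X ⟶ S} (h : f = f') {G : CochainComplex X.Modules ℤ} {x : X} {a : ℤ}
    (hf : Fib f G x a) : Fib f' G x a := h ▸ hf

/-- an open immersion of bases does not change the fibre -/
theorem fib_base {T : Scheme.{u}} (g : X ⟶ S) (φ₀ : S ⟶ T) [IsOpenImmersion φ₀] {G : CochainComplex X.Modules ℤ}
    {x : X} {a : ℤ} (h : Fib (g ≫ φ₀) G x a) : Fib g G x a := by
  have hJ : J (g ≫ φ₀) x = J g x := by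
    show Ideal.map ((g ≫ φ₀).stalkMap x).hom _ = _
    rw [Scheme.Hom.stalkMap_comp, CommRingCat.hom_comp, ← Ideal.map_map]
    congr 1
    refine le_antisymm (IsLocalRing.le_maximalIdeal fun htop => ?_) fun t ht => ?_
    · exact (IsLocalRing.maximalIdeal.isMaximal _).ne_top (eq_top_iff.2 (htop ▸
        (Ideal.map_le_iff_le_comap.2 fun z hz => by
          rw [Ideal.mem_comap, IsLocalRing.mem_maximalIdeal, mem_nonunits_iff]
          exact fun hu => hz (isUnit_of_map_unit (φ₀.stalkMap (g x)).hom z hu))))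
    · obtain ⟨z, rfl⟩ := (asIso (φ₀.stalkMap (g x))).commRingCatIsoToRingEquiv.surjective t
      refine Ideal.mem_map_of_mem _ ?_
      rw [IsLocalRing.mem_maximalIdeal, mem_nonunits_iff] at ht ⊢
      exact fun hu => ht (hu.map _)
  intro P hP e i hi
  have := h P hP e i hi
  exact isZero_bc_congr _ _ Ideal.Quotient.mk_surjective Ideal.Quotient.mk_surjective
    (by rw [Ideal.mk_ker, Ideal.mk_ker, hJ]) _ i this

theorem ampAt_base {T : Scheme.{u}} (g : X ⟶ S) (φ₀ : S ⟶ T) [IsOpenImmersion φ₀] (G : CochainComplex X.Modules ℤ)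
    (x : X) (a b : ℤ) (h : DerSch.HasTorAmplitudeAt g a b G x) :
    DerSch.HasTorAmplitudeAt (g ≫ φ₀) a b G x := by
  letI : Algebra (T.presheaf.stalk ((g ≫ φ₀) x)) (S.presheaf.stalk (g x)) := (φ₀.stalkMap (g x)).hom.toAlgebra
  haveI : Module.Flat (T.presheaf.stalk ((g ≫ φ₀) x)) (S.presheaf.stalk (g x)) := Flat.stalkMap φ₀ (g x)
  obtain ⟨E, hEv, hE, ⟨e⟩⟩ := h
  let e' : Groth.L20.TorAmp.res (A := T.presheaf.stalk ((g ≫ φ₀) x)) ((DerSch.stalkCxOver g x).obj G) ≅
      (DerSch.stalkCxOver (g ≫ φ₀) x).obj G :=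
    ((NatIso.mapHomologicalComplex (Functor.isoWhiskerLeft (DerSch.stalkFunctor X x)
      (((ModuleCat.restrictScalarsComp.{u} (φ₀.stalkMap (g x)).hom (g.stalkMap x).hom).symm ≪≫
        ModuleCat.restrictScalarsCongr (by rw [Scheme.Hom.stalkMap_comp]; rfl))))
      (ComplexShape.up ℤ)).app G)
  exact ⟨Groth.L20.TorAmp.res E, fun i hi => Functor.map_isZero (ModuleCat.restrictScalars.{u} _) (hEv i hi),
    fun i => (haveI := hE i; Groth.L20.TorAmp.flat_restrict (E.X i)),
    ⟨(Groth.L20.TorAmp.resIso E).symm ≪≫ (DRing.restrictD _).mapIso e ≪≫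
      Groth.L20.TorAmp.resIso ((DerSch.stalkCxOver g x).obj G) ≪≫ DerivedCategory.Q.mapIso e'⟩⟩

/-- the cohomology of the derived restriction to a fibre -/
theorem fib_fiber_iff (f : X ⟶ S) (s : S) (y : ↥(f.fiber s)) [DCoh.HasLpull (f.fiberι s)]
    (G : CochainComplex X.Modules ℤ) (a : ℤ) :
    (∀ i < a, IsZero ((Groth.L00.Stk.F _ y).obj (DCoh.HD ((DCoh.Lpull (f.fiberι s)).obj (DCoh.toD X G)) i))) ↔
      Fib f G (f.fiberι s y) a := by
  obtain ⟨P, r, hP, -, hr, -⟩ := Groth.L00.KFlat.exists_resolution G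
  haveI : IsIso (DerivedCategory.Q.map r) := (DerivedCategory.isIso_Q_map_iff_quasiIso _ _).2 hr
  let e : DCoh.toD X P ≅ DCoh.toD X G := asIso (DerivedCategory.Q.map r)
  let ι := f.fiberι s
  let PY := ((Scheme.Modules.pullback ι).mapHomologicalComplex (ComplexShape.up ℤ)).obj P
  let eY : (DCoh.Lpull ι).obj (DCoh.toD X G) ≅ DCoh.toD _ PY := (DCoh.Lpull ι).mapIso e.symm ≪≫
    Groth.L00.DerivedApi.objIso (Groth.L00.DerivedApi.acyclicKFlat_pullback ι) P hP
  have key : ∀ i, IsZero ((Groth.L00.Stk.F _ y).obj (DCoh.HD ((DCoh.Lpull ι).obj (DCoh.toD X G)) i)) ↔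
      IsZero (((bcCx (Ideal.Quotient.mk (J f (ι y)))).obj (stk (ι y) P)).homology i) := by
    intro i
    refine (((Groth.L00.Stk.F _ y).mapIso ((DerivedCategory.homologyFunctor _ i).mapIso eY)) ≪≫
      Groth.L29.DC.PerfDesc.stkQIso PY i y ≪≫ (HomologicalComplex.homologyFunctor _ _ i).mapIso
        (Groth.L00.KFlat.pullCxIso ι P y)).isZero_iff.trans ?_
    obtain ⟨hs, hk⟩ := Groth.L18.stalkMap_fiberι f s y
    exact ⟨isZero_bc_congr _ _ hs Ideal.Quotient.mk_surjective (by rw [Ideal.mk_ker]; exact hk) _ i,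
      isZero_bc_congr _ _ Ideal.Quotient.mk_surjective hs (by rw [Ideal.mk_ker]; exact hk.symm) _ i⟩
  exact ⟨fun h => fib_of_rep f G _ a hP e fun i hi => (key i).1 (h i hi),
    fun h i hi => (key i).2 (h P hP ⟨e⟩ i hi)⟩

/-- tor amplitude bounds the fibre -/
theorem fib_of_amp (f : X ⟶ S) [Flat f] (G : CochainComplex X.Modules ℤ) (x : X) (a b : ℤ)
    (h : DerSch.HasTorAmplitudeAt f a b G x) : Fib f G x a := by
  obtain ⟨P, r, hk, -, hr, -⟩ := Groth.L00.KFlat.exists_resolution G
  haveI : IsIso (DerivedCategory.Q.map r) := (DerivedCategory.isIso_Q_map_iff_quasiIso _ _).2 hr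
  let eP : DCoh.toD X P ≅ DCoh.toD X G := asIso (DerivedCategory.Q.map r)
  refine fib_of_rep f G x a hk eP fun i hi => ?_
  let T := S.presheaf.stalk (f x)
  let m := IsLocalRing.maximalIdeal T
  let A := X.presheaf.stalk x
  letI : Algebra T A := (f.stalkMap x).hom.toAlgebra
  letI : Algebra (T ⧸ m) (A ⧸ J f x) := (Ideal.quotientMap (J f x) (algebraMap T A) Ideal.le_comap_map).toAlgebra
  haveI : IsScalarTower T (T ⧸ m) (A ⧸ J f x) := IsScalarTower.of_algebraMap_eq fun _ => rfl
  haveI : Algebra.IsPushout T A T A := ⟨IsBaseChange.linearMap T A⟩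
  haveI : Algebra.IsPushout T A (T ⧸ m) (A ⧸ J f x) :=
    Groth.L20.FibreCrit.isPushout_of_surjective (P₀ := T) (P := A) Ideal.Quotient.mk_surjective Ideal.Quotient.mk_surjective
      (by rw [Ideal.Quotient.algebraMap_eq, Ideal.Quotient.algebraMap_eq, Ideal.mk_ker, Ideal.mk_ker]; rfl)
  haveI : Algebra.IsPushout T (T ⧸ m) A (A ⧸ J f x) := .symm inferInstance
  let PT := (DerSch.stalkCxOver f x).obj P
  obtain ⟨E, hEv, hE, ⟨eE⟩⟩ := Groth.Lead.RelFinTor.amp_congr f eP.symm x a b h
  have hPT : DRing.IsKFlat T PT := isKFlat_restrict_of_flat (f.stalkMap x).hom (Flat.stalkMap f x) (stk x P) (isKFlat_stk hk x)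
  have h1 : IsZero (((bcCx (Ideal.Quotient.mk m)).obj PT).homology i) :=
    isZero_bc_iso _ (Groth.L10.KFlat.of_bounded E b (fun n hn => hEv n (Or.inr hn)) hE) hPT eE i
      ((HomologicalComplex.exactAt_iff_isZero_homology _ i).1 (HomologicalComplex.ExactAt.of_isZero
        ((ModuleCat.extendScalars.{u, u, u} (Ideal.Quotient.mk m)).map_isZero (hEv i (Or.inl hi)))))
  refine (Groth.L00.KFlatAlg.acyclic_restrictScalars (algebraMap (T ⧸ m) (A ⧸ J f x)) _ i).1 ?_
  exact h1.of_iso ((HomologicalComplex.homologyFunctor _ _ i).mapIso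
    (((NatIso.mapHomologicalComplex (Groth.L10.RelPC.extResNat T (T ⧸ m) A (A ⧸ J f x))
          (ComplexShape.up ℤ)).app (stk x P)).symm))

/-- amplitude modulo a prime of the affine base from the fibre -/
theorem ampQ_of_fib {R : CommRingCat.{u}} (g : X ⟶ Spec R) [Flat g] (G : CochainComplex X.Modules ℤ) {N : ℤ}
    (hN : ∀ i, N < i → IsZero (DCoh.HD (DCoh.toD X G) i)) (x : X) (a : ℤ) (h : Fib g G x a) :
    AmpQ (g x).asIdeal g G x a N := by
  intro _
  obtain ⟨P, hP, hk, hf, ⟨eP⟩⟩ := Groth.L29.DC.exists_flat_representative_le (DCoh.toD X G) N hN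
  haveI := hP
  let p := (g x).asIdeal
  let A := X.presheaf.stalk x
  letI : Algebra R A := (β g x).toAlgebra
  have hJ : J g x = p.map (algebraMap R A) := by
    letI : Algebra R ((Spec R).presheaf.stalk (g x)) := (StructureSheaf.toStalk R (g x)).hom.toAlgebra
    haveI : IsLocalization.AtPrime ((Spec R).presheaf.stalk (g x)) (g x).asIdeal :=
      StructureSheaf.IsLocalization.to_stalk _ (g x)
    show Ideal.map _ (IsLocalRing.maximalIdeal _) = Ideal.map ((g.stalkMap x).hom.comp _) _
    rw [← Ideal.map_map, ← IsLocalization.AtPrime.map_eq_maximalIdeal (g x).asIdeal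
      ((Spec R).presheaf.stalk (g x))]
    rfl
  let Q := A ⧸ J g x
  letI : Algebra (R ⧸ p) Q :=
    (Ideal.quotientMap (J g x) (algebraMap R A) (hJ ▸ Ideal.le_comap_map)).toAlgebra
  haveI : IsScalarTower R (R ⧸ p) Q := IsScalarTower.of_algebraMap_eq fun _ => rfl
  haveI : Algebra.IsPushout R A R A := ⟨IsBaseChange.linearMap R A⟩
  haveI : Algebra.IsPushout R A (R ⧸ p) Q :=
    Groth.L20.FibreCrit.isPushout_of_surjective (P₀ := R) (P := A) Ideal.Quotient.mk_surjective Ideal.Quotient.mk_surjective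
      (by rw [Ideal.Quotient.algebraMap_eq, Ideal.Quotient.algebraMap_eq, Ideal.mk_ker, Ideal.mk_ker, hJ])
  haveI : Algebra.IsPushout R (R ⧸ p) A Q := .symm inferInstance
  let k := p.ResidueField
  let σ : k →ₐ[R] Q := Ideal.ResidueField.liftₐ p (Algebra.ofId R Q)
    (fun r hr => Ideal.Quotient.eq_zero_iff_mem.2 (hJ ▸ Ideal.mem_map_of_mem _ hr))
    (fun r hr => by
      refine IsUnit.map (algebraMap A Q) ?_
      letI : Algebra R ((Spec R).presheaf.stalk (g x)) := (StructureSheaf.toStalk R (g x)).hom.toAlgebra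
      haveI : IsLocalization.AtPrime ((Spec R).presheaf.stalk (g x)) (g x).asIdeal :=
        StructureSheaf.IsLocalization.to_stalk _ (g x)
      exact (IsLocalization.map_units ((Spec R).presheaf.stalk (g x)) (⟨r, hr⟩ : p.primeCompl)).map (g.stalkMap x).hom)
  letI : Algebra k Q := σ.toRingHom.toAlgebra
  haveI : IsScalarTower (R ⧸ p) k Q := IsScalarTower.of_algebraMap_eq fun r => by
    obtain ⟨r, rfl⟩ := Ideal.Quotient.mk_surjective r
    exact (σ.commutes r).symm
  haveI : Module.Flat (R ⧸ p) k := IsLocalization.flat k (nonZeroDivisors (R ⧸ p))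
  let W := (bcCx (Ideal.Quotient.mk (J g x))).obj (stk x P)
  have hW : ∀ i, i < a ∨ N < i → IsZero (W.homology i) := fun i hi => hi.elim (h P hk ⟨eP⟩ i) fun hi =>
    (HomologicalComplex.exactAt_iff_isZero_homology _ i).1 (HomologicalComplex.ExactAt.of_isZero
      ((ModuleCat.extendScalars.{u, u, u} _).map_isZero
        ((Groth.L00.Stk.F X x).map_isZero (CochainComplex.isZero_of_isStrictlyLE P N i hi))))
  have hk1 : DRing.HasTorAmplitudeIn k a N (DRing.toD (Groth.L20.TorAmp.res (A := k) W)) := by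
    have := Groth.L10.DR.amp_of_homology 0 (fun M => inferInstance)
      (DRing.toD (Groth.L20.TorAmp.res (A := k) W)) a N fun i hi =>
        (Groth.L02.PC.isZero_HH_Q_iff _ i).2 ((Groth.L00.KFlatAlg.acyclic_restrictScalars (algebraMap k Q) W i).2 (hW i hi))
    simpa using this
  have h2 : DRing.HasTorAmplitudeIn (R ⧸ p) a N (DRing.toD (Groth.L20.TorAmp.res (A := R ⧸ p) W)) := by
    obtain ⟨E, hEv, hE, ⟨e⟩⟩ := hk1
    exact ⟨Groth.L20.TorAmp.res E, fun i hi => Functor.map_isZero (ModuleCat.restrictScalars.{u} _) (hEv i hi),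
      fun i => (haveI := hE i; Groth.L20.TorAmp.flat_restrict (E.X i)),
      ⟨(Groth.L20.TorAmp.resIso E).symm ≪≫ (DRing.restrictD _).mapIso e ≪≫
        Groth.L20.TorAmp.resIso (Groth.L20.TorAmp.res (A := k) W) ≪≫
        DerivedCategory.Q.mapIso ((NatIso.mapHomologicalComplex
          ((ModuleCat.restrictScalarsComp.{u} (algebraMap (R ⧸ p) k) (algebraMap k Q)).symm ≪≫
            ModuleCat.restrictScalarsCongr (IsScalarTower.algebraMap_eq (R ⧸ p) k Q).symm)
          (ComplexShape.up ℤ)).app W)⟩⟩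
  haveI : PreservesFiniteLimits (DerSch.stalkFunctor X x) := Groth.L00.Stk.preservesFiniteLimits (X := X) x
  haveI : PreservesFiniteColimits (DerSch.stalkFunctor X x) := Groth.L00.Stk.preservesFiniteColimits (X := X) x
  haveI : PreservesFiniteColimits (ModuleCat.restrictScalars.{u} (g.stalkMap x).hom) := inferInstance
  haveI : PreservesFiniteColimits (ModuleCat.restrictScalars.{u} (StructureSheaf.toStalk R (g x)).hom) := inferInstance
  let Rf := ρ g x
  have hkR : DRing.IsKFlat R ((ρCx g x).obj P) := by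
    refine Groth.L10.KFlat.of_bounded _ N
      (fun n hn => Rf.map_isZero (CochainComplex.isZero_of_isStrictlyLE P N n hn)) fun n => ?_
    letI : Algebra R ((Spec R).presheaf.stalk (g x)) := (StructureSheaf.toStalk R (g x)).hom.toAlgebra
    haveI : IsLocalization.AtPrime ((Spec R).presheaf.stalk (g x)) (g x).asIdeal :=
      StructureSheaf.IsLocalization.to_stalk _ (g x)
    haveI : Module.Flat R ((Spec R).presheaf.stalk (g x)) := IsLocalization.flat _ (g x).asIdeal.primeCompl
    haveI : Module.Flat ((Spec R).presheaf.stalk (g x)) ((DerSch.stalkOver g x).obj (P.X n)) :=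
      Groth.L29.DC.RelTor.isFlatOver_of_isFlat g (hf n) x
    exact Groth.L20.TorAmp.flat_restrict ((DerSch.stalkOver g x).obj (P.X n))
  refine Groth.L10.DR.amp_of_iso ((Groth.L10.KFlatLBC.lbcKF _ _ hkR).symm ≪≫
    (DRing.LBaseChange (Ideal.Quotient.mk p)).mapIso
      ((Rf.mapDerivedCategoryFactors.app P).symm ≪≫ Rf.mapDerivedCategory.mapIso eP ≪≫
        Rf.mapDerivedCategoryFactors.app G)) ?_
  exact Groth.L10.DR.amp_of_iso (DerivedCategory.Q.mapIso
    (((NatIso.mapHomologicalComplex (Groth.L10.RelPC.extResNat R (R ⧸ p) A Q) (ComplexShape.up ℤ)).app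
      (stk x P)).symm)) h2

end Groth.Lead.FibreBounded
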