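import Groth.Agent.L17.AcyclicCx
import Groth.Agent.L10.KInjDerived
import Groth.Agent.L29.DCoh.RpushQC

/-!
The cohomology sheaves of `Rf_*` of a module in degree zero are the higher direct images.
-/

set_option autoImplicit false
set_option linter.style.haveILetI false
set_option backward.defeqAttrib.useBackward true
set_option backward.isDefEq.respectTransparency false
set_option backward.isDefEq.respectTransparency.types false

universe u

open CategoryTheory CategoryTheory.Limits AlgebraicGeometry

attribute [local instance] HasDerivedCategory.standard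

namespace Groth.Lead.RpushHD

local notation "up" => ComplexShape.up ℤ

variable {X S : Scheme.{u}}

/-- `H^n(Rf_* M) ≅ R^n f_* M` -/
theorem nonempty_HD_Rpush_inD (f : X ⟶ S) [DCoh.HasRpush f] [HasInjectiveResolutions X.Modules] (M : X.Modules)
    (n : ℕ) : Nonempty (DCoh.HD ((DCoh.Rpush f).obj (DCoh.inD X M)) (n : ℤ) ≅ (Coh.Rpush f n).obj M) := by
  haveI := Groth.L17.PushQCoh.additive_push f
  let R := injectiveResolution M
  let I := R.cochainComplex
  haveI : I.IsKInjective := CochainComplex.isKInjective_of_injective I 0
  haveI : IsIso (DerivedCategory.Q.map R.ι') := (DerivedCategory.isIso_Q_map_iff_quasiIso _ _).2 inferInstance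
  let η := (DCoh.pushKh f).totalRightDerivedUnit DerivedCategory.Qh (HomotopyCategory.quasiIso X.Modules up)
  haveI := Groth.L29.DC.QRlim.enoughKInj X
  haveI : IsIso (η.app ((HomotopyCategory.quotient X.Modules up).obj I)) :=
    Groth.L10.KInjDerived.isIso_app_quotient (RF := DCoh.Rpush f) η I
  exact ⟨(DerivedCategory.homologyFunctor S.Modules (n : ℤ)).mapIso
      ((DCoh.Rpush f).mapIso ((DerivedCategory.singleFunctorIsoCompQ X.Modules 0).app M ≪≫
        asIso (DerivedCategory.Q.map R.ι') ≪≫ ((DerivedCategory.quotientCompQhIso X.Modules).app I).symm) ≪≫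
      (asIso (η.app ((HomotopyCategory.quotient X.Modules up).obj I))).symm ≪≫
      (DerivedCategory.quotientCompQhIso S.Modules).app
        (((Scheme.Modules.pushforward f).mapHomologicalComplex up).obj I)) ≪≫
    (DerivedCategory.homologyFunctorFactors S.Modules (n : ℤ)).app _ ≪≫
    Groth.L17.GrothSS.homologyMapCochainIso (Scheme.Modules.pushforward f) R n⟩

end Groth.Lead.RpushHD
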