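import Groth.Agent.S0238
import Groth.Prelude.Def_FSch4

/-!
# Étale covers of a formal scheme and of its smallest level
-/

set_option autoImplicit false
set_option linter.style.haveILetI false
set_option backward.isDefEq.respectTransparency.types false

universe u

open CategoryTheory CategoryTheory.Limits AlgebraicGeometry

noncomputable section

namespace Groth.Lead.EtCovLevel

variable {𝔛 : FSch.Sys.{u}} (h𝔛 : 𝔛.IsFormal)

include h𝔛 in
theorem isEquivalence (n : ℕ) : (FEt.restrict (𝔛.ι n)).IsEquivalence := by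
  haveI := (h𝔛 n).1
  haveI : Surjective (𝔛.ι n) := ⟨(h𝔛 n).2⟩
  exact Groth.Agent.S0238.result (𝔛.ι n)

theorem restrict_map_fst {X Y : Scheme.{u}} (g : X ⟶ Y) {V W : FEt.Cat Y} (φ : V ⟶ W) :
    ((FEt.restrict g).map φ).left ≫ pullback.fst W.hom g = pullback.fst V.hom g ≫ φ.left :=
  pullback.lift_fst _ _ _

/-- `b` and `a` are compatible along the transition maps. -/
def Compat {R R' : FSch.EtCov 𝔛} (n : ℕ)
    (b : (FSch.EtCov.level 𝔛 n).obj R ⟶ (FSch.EtCov.level 𝔛 n).obj R')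
    (a : (FSch.EtCov.level 𝔛 (n + 1)).obj R ⟶ (FSch.EtCov.level 𝔛 (n + 1)).obj R') : Prop :=
  b.left ≫ R'.obj.left.ι n = R.obj.left.ι n ≫ a.left

theorem hw {R R' : FSch.EtCov 𝔛} (n : ℕ)
    (b : (FSch.EtCov.level 𝔛 n).obj R ⟶ (FSch.EtCov.level 𝔛 n).obj R') :
    b.left ≫ (R'.obj.hom : FSch.Hom _ _).app n = (R.obj.hom : FSch.Hom _ _).app n :=
  MorphismProperty.Over.w b

include h𝔛 in
theorem compat_unique {R R' : FSch.EtCov 𝔛} {n : ℕ}
    {b : (FSch.EtCov.level 𝔛 n).obj R ⟶ (FSch.EtCov.level 𝔛 n).obj R'}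
    {a a' : (FSch.EtCov.level 𝔛 (n + 1)).obj R ⟶ (FSch.EtCov.level 𝔛 (n + 1)).obj R'}
    (ha : Compat n b a) (ha' : Compat n b a') : a = a' := by
  haveI := isEquivalence h𝔛 n
  apply (FEt.restrict (𝔛.ι n)).map_injective
  let sq := R.property.1 n
  apply MorphismProperty.Over.Hom.ext
  let m : pullback ((R.obj.hom : FSch.Hom _ _).app (n + 1)) (𝔛.ι n) ⟶
      pullback ((R'.obj.hom : FSch.Hom _ _).app (n + 1)) (𝔛.ι n) := ((FEt.restrict (𝔛.ι n)).map a).left
  let m' : pullback ((R.obj.hom : FSch.Hom _ _).app (n + 1)) (𝔛.ι n) ⟶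
      pullback ((R'.obj.hom : FSch.Hom _ _).app (n + 1)) (𝔛.ι n) := ((FEt.restrict (𝔛.ι n)).map a').left
  have h1 : m ≫ pullback.fst _ _ = pullback.fst _ _ ≫ a.left := restrict_map_fst (𝔛.ι n) a
  have h1' : m' ≫ pullback.fst _ _ = pullback.fst _ _ ≫ a'.left := restrict_map_fst (𝔛.ι n) a'
  have h2 : m ≫ pullback.snd _ _ = pullback.snd _ _ := MorphismProperty.Over.w ((FEt.restrict (𝔛.ι n)).map a)
  have h2' : m' ≫ pullback.snd _ _ = pullback.snd _ _ := MorphismProperty.Over.w ((FEt.restrict (𝔛.ι n)).map a')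
  show m = m'
  refine pullback.hom_ext ?_ (h2.trans h2'.symm)
  rw [h1, h1']
  refine (cancel_epi sq.isoPullback.hom).1 ?_
  erw [sq.isoPullback_hom_fst_assoc, sq.isoPullback_hom_fst_assoc]
  exact ha.symm.trans ha'

include h𝔛 in
theorem compat_exists {R R' : FSch.EtCov 𝔛} (n : ℕ)
    (b : (FSch.EtCov.level 𝔛 n).obj R ⟶ (FSch.EtCov.level 𝔛 n).obj R') :
    ∃ a : (FSch.EtCov.level 𝔛 (n + 1)).obj R ⟶ (FSch.EtCov.level 𝔛 (n + 1)).obj R', Compat n b a := by
  haveI := isEquivalence h𝔛 n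
  let sq := R.property.1 n
  let sq' := R'.property.1 n
  let ψ : (FEt.restrict (𝔛.ι n)).obj ((FSch.EtCov.level 𝔛 (n + 1)).obj R) ⟶
      (FEt.restrict (𝔛.ι n)).obj ((FSch.EtCov.level 𝔛 (n + 1)).obj R') :=
    MorphismProperty.Over.homMk (sq.isoPullback.inv ≫ b.left ≫ sq'.isoPullback.hom) (by
      change (sq.isoPullback.inv ≫ b.left ≫ sq'.isoPullback.hom) ≫ pullback.snd _ _ = pullback.snd _ _
      rw [Category.assoc, Category.assoc]
      erw [sq'.isoPullback_hom_snd, hw n b]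
      exact sq.isoPullback_inv_snd)
  obtain ⟨a, ha⟩ := (FEt.restrict (𝔛.ι n)).map_surjective ψ
  refine ⟨a, ?_⟩
  have h1 := restrict_map_fst (𝔛.ι n) a
  rw [ha] at h1
  change (sq.isoPullback.inv ≫ b.left ≫ sq'.isoPullback.hom) ≫ pullback.fst _ _ = pullback.fst _ _ ≫ a.left at h1
  rw [Category.assoc, Category.assoc] at h1
  erw [sq'.isoPullback_hom_fst] at h1
  rw [Iso.inv_comp_eq] at h1
  erw [← Category.assoc, sq.isoPullback_hom_fst] at h1
  exact h1

include h𝔛 in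
theorem faithful : (FSch.EtCov.level 𝔛 0).Faithful := ⟨fun {R R'} f g h => by
  have key : ∀ n, (FSch.EtCov.level 𝔛 n).map f = (FSch.EtCov.level 𝔛 n).map g := fun n => by
    induction n with
    | zero => exact h
    | succ n ih =>
      refine compat_unique h𝔛 (b := (FSch.EtCov.level 𝔛 n).map f) ((f.hom.left : FSch.Hom _ _).comm n) ?_
      rw [ih]
      exact (g.hom.left : FSch.Hom _ _).comm n
  refine ObjectProperty.hom_ext _ (Over.OverMorphism.ext (FSch.Hom.ext (funext fun n => ?_)))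
  exact congrArg (fun m => m.left) (key n)⟩

include h𝔛 in
theorem full : (FSch.EtCov.level 𝔛 0).Full := ⟨fun {R R'} b => by
  choose next hnext using fun n => compat_exists h𝔛 (R := R) (R' := R') n
  let a : ∀ n, (FSch.EtCov.level 𝔛 n).obj R ⟶ (FSch.EtCov.level 𝔛 n).obj R' :=
    fun n => Nat.rec (motive := fun n => (FSch.EtCov.level 𝔛 n).obj R ⟶ (FSch.EtCov.level 𝔛 n).obj R') b next n
  let F : R.obj.left ⟶ R'.obj.left := ⟨fun n => (a n).left, fun n => hnext n (a n)⟩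
  refine ⟨ObjectProperty.homMk (Over.homMk F (FSch.Hom.ext (funext fun n => ?_))), ?_⟩
  · exact hw n (a n)
  · exact MorphismProperty.Over.Hom.ext rfl⟩

include h𝔛 in
theorem essSurj : (FSch.EtCov.level 𝔛 0).EssSurj := ⟨fun Y₀ => by
  have hex : ∀ n (Y : FEt.Cat (𝔛.X n)), ∃ Y' : FEt.Cat (𝔛.X (n + 1)),
      Nonempty ((FEt.restrict (𝔛.ι n)).obj Y' ≅ Y) := fun n Y => by
    haveI := isEquivalence h𝔛 n
    exact ⟨_, ⟨(FEt.restrict (𝔛.ι n)).objObjPreimageIso Y⟩⟩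
  choose next hnext using hex
  let Y : ∀ n, FEt.Cat (𝔛.X n) := fun n => Nat.rec (motive := fun n => FEt.Cat (𝔛.X n)) Y₀ next n
  let e : ∀ n, (FEt.restrict (𝔛.ι n)).obj (Y (n + 1)) ≅ Y n := fun n => (hnext n (Y n)).some
  let t : ∀ n, (Y n).left ⟶ (Y (n + 1)).left := fun n =>
    (e n).inv.left ≫ pullback.fst (Y (n + 1)).hom (𝔛.ι n)
  let S : FSch.Sys.{u} := ⟨fun n => (Y n).left, t⟩
  have hsq : ∀ n, IsPullback (t n) (Y n).hom (Y (n + 1)).hom (𝔛.ι n) := fun n => by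
    let ε : pullback ((Y (n + 1)).hom : (Y (n + 1)).left ⟶ _) (𝔛.ι n) ≅ (Y n).left :=
      (MorphismProperty.Over.forget _ ⊤ (𝔛.X n) ⋙ CategoryTheory.Over.forget (𝔛.X n)).mapIso (e n)
    have hw : ε.hom ≫ (Y n).hom = pullback.snd _ _ := MorphismProperty.Over.w (e n).hom
    refine (IsPullback.of_hasPullback (Y (n + 1)).hom (𝔛.ι n)).of_iso ε (Iso.refl _) (Iso.refl _) (Iso.refl _)
      ?_ ?_ (by simp) (by simp)
    · rw [show t n = ε.inv ≫ pullback.fst _ _ from rfl]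
      exact (Category.comp_id _).trans (ε.hom_inv_id_assoc _).symm
    · exact (Category.comp_id _).trans hw.symm
  let p : S ⟶ 𝔛 := ⟨fun n => (Y n).hom, fun n => ((hsq n).w).symm⟩
  let R : FSch.EtCov 𝔛 := ⟨Over.mk p, hsq, fun n => ⟨(Y n).prop.1, (Y n).prop.2⟩⟩
  exact ⟨R, ⟨MorphismProperty.Over.isoMk (Iso.refl _) (by exact Category.id_comp _)⟩⟩⟩

include h𝔛 in
theorem isEquivalence_level : (FSch.EtCov.level 𝔛 0).IsEquivalence :=
  { faithful := faithful h𝔛, full := full h𝔛, essSurj := essSurj h𝔛 }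

end Groth.Lead.EtCovLevel
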