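import Groth.Agent.L08.Basic
import Mathlib.LinearAlgebra.TensorProduct.RightExactness
import Mathlib.RingTheory.Flat.Basic
import Mathlib.RingTheory.Noetherian.Basic

/-!
# Subcomodules generated by a submodule
-/

set_option autoImplicit false
universe u
open TensorProduct

namespace Groth.Lead.Subcomod

variable {A : Type u} [CommRing A] {C : Type u} [AddCommGroup C] [Module A C]
variable {V : Type u} [AddCommGroup V] [Module A V]

/-- A dual basis of a projective module resolves every tensor. -/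
theorem exists_resolution [Module.Projective A C] :
    ∃ (φ : C → (C →ₗ[A] A)), ∀ y : V ⊗[A] C, ∃ F : Finset C,
      y = ∑ b ∈ F, TensorProduct.rid A V ((φ b).lTensor V y) ⊗ₜ[A] b := by
  classical
  obtain ⟨s, hs⟩ := (Module.projective_def (R := A) (P := C)).1 inferInstance
  refine ⟨fun b => Finsupp.lapply b ∘ₗ s, fun y => ?_⟩
  have key : ∀ y : V ⊗[A] C, ∃ F : Finset C, ∀ F' : Finset C, F ⊆ F' →
      y = ∑ b ∈ F', TensorProduct.rid A V ((Finsupp.lapply b ∘ₗ s).lTensor V y) ⊗ₜ[A] b := by
    intro y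
    induction y with
    | zero => exact ⟨∅, fun F' _ => by simp⟩
    | add x z hx hz =>
      obtain ⟨F, hF⟩ := hx; obtain ⟨F₂, hF₂⟩ := hz
      refine ⟨F ∪ F₂, fun F' hF' => ?_⟩
      conv_lhs => rw [hF F' (Finset.subset_union_left.trans hF'), hF₂ F' (Finset.subset_union_right.trans hF')]
      rw [← Finset.sum_add_distrib]
      exact Finset.sum_congr rfl fun b _ => by rw [map_add, map_add, add_tmul]
    | tmul v c =>
      refine ⟨(s c).support, fun F' hF' => ?_⟩
      have hc : c = ∑ b ∈ F', (s c) b • b := by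
        conv_lhs => rw [← hs c, Finsupp.linearCombination_apply]
        exact Finset.sum_subset hF' fun b _ hb => by simp [Finsupp.notMem_support_iff.1 hb]
      conv_lhs => rw [hc, tmul_sum]
      exact Finset.sum_congr rfl fun b _ => by simp [smul_tmul]
  obtain ⟨F, hF⟩ := key y
  exact ⟨F, hF F subset_rfl⟩

variable [Coalgebra A C] [HopfRep.Comod A C V]

theorem fAct_mem {W : Submodule A V} (hW : HopfRep.IsSubcomod (k := A) (A := C) W) {w : V} (hw : w ∈ W)
    (φ : C →ₗ[A] A) : Groth.L08.fAct V φ w ∈ W := by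
  obtain ⟨y, hy⟩ := hW w hw
  rw [Groth.L08.fAct_apply, ← hy]
  clear hy
  induction y using TensorProduct.induction_on with
  | zero => simp
  | add a b ha hb => simp only [map_add]; exact W.add_mem ha hb
  | tmul x a =>
    rw [LinearMap.rTensor_tmul, LinearMap.lTensor_tmul, TensorProduct.rid_tmul]
    exact W.smul_mem _ x.2

theorem isSubcomod_of_fAct_mem [Module.Projective A C] {W : Submodule A V}
    (hW : ∀ φ : C →ₗ[A] A, ∀ w ∈ W, Groth.L08.fAct V φ w ∈ W) : HopfRep.IsSubcomod (k := A) (A := C) W := by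
  intro w hw
  obtain ⟨φ, hφ⟩ := exists_resolution (A := A) (C := C) (V := V)
  obtain ⟨F, hF⟩ := hφ (HopfRep.Comod.coact (k := A) (A := C) w)
  rw [hF]
  refine Submodule.sum_mem _ fun b _ => ⟨(⟨_, hW (φ b) w hw⟩ : W) ⊗ₜ b, ?_⟩
  rfl

end Groth.Lead.Subcomod
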