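import Groth.Prelude.Def_DerSch
import Groth.Prelude.Def_FlatMod2
import Groth.Agent.L10.DRing.TorDim
import Groth.Agent.L10.DRing.Amp
import Groth.Agent.L22.WeakAssPoints

/-!
Tor amplitude `[0, 0]` of a module placed in degree zero is flatness over the base.
-/

set_option autoImplicit false
set_option linter.style.haveILetI false
set_option backward.isDefEq.respectTransparency false
set_option backward.isDefEq.respectTransparency.types false
set_option backward.defeqAttrib.useBackward true

universe u

open CategoryTheory CategoryTheory.Limits AlgebraicGeometry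

attribute [local instance] HasDerivedCategory.standard

namespace Groth.Lead.AmpZero

variable {X Y : Scheme.{u}} (f : X ⟶ Y)

/-- the stalk of a single complex -/
noncomputable def singleIso (M : X.Modules) (x : X) :
    DRing.toD ((DerSch.stalkCxOver f x).obj ((HomologicalComplex.single _ (ComplexShape.up ℤ) 0).obj M)) ≅
      (DerivedCategory.singleFunctor _ 0).obj ((DerSch.stalkOver f x).obj M) :=
  DerivedCategory.Q.mapIso ((HomologicalComplex.singleMapHomologicalComplex (DerSch.stalkOver f x) (ComplexShape.up ℤ) 0).app M) ≪≫
    (DerivedCategory.singleFunctorIsoCompQ _ 0).symm.app _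

theorem ampAt_single_iff (M : X.Modules) (x : X) :
    DerSch.HasTorAmplitudeAt f 0 0 ((HomologicalComplex.single _ (ComplexShape.up ℤ) 0).obj M) x ↔
      Module.Flat (Y.presheaf.stalk (f x)) ((DerSch.stalkOver f x).obj M) := by
  rw [← Groth.L10.DR.hasTorDimLE_zero_iff, Groth.L10.DR.hasTorDimLE_iff_amp 0]
  simp only [Nat.cast_zero, neg_zero]
  exact ⟨fun h => Groth.L10.DR.amp_of_iso (singleIso f M x) h,
    fun h => Groth.L10.DR.amp_of_iso (singleIso f M x).symm h⟩

theorem amp_single_iff (M : X.Modules) :
    DerSch.HasTorAmplitude f 0 0 ((HomologicalComplex.single _ (ComplexShape.up ℤ) 0).obj M) ↔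
      FlatMod.IsFlatOver f M :=
  forall_congr' fun x => ampAt_single_iff f M x

/-- flatness of the structure module over the base is flatness of the morphism -/
theorem isFlatOver_structureModule_iff :
    FlatMod.IsFlatOver f (Coh.structureModule X) ↔ Flat f := by
  have key : ∀ x : X, Module.Flat (Y.presheaf.stalk (f x)) ((DerSch.stalkOver f x).obj (Coh.structureModule X)) ↔
      (f.stalkMap x).hom.Flat := fun x => by
    letI : Algebra (Y.presheaf.stalk (f x)) (X.presheaf.stalk x) := (f.stalkMap x).hom.toAlgebra
    let σ : X.presheaf.stalk x ≃ₗ[X.presheaf.stalk x] (Coh.structureModule X).presheaf.stalk x := LinearEquiv.ofBijective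
      (LinearMap.toSpanSingleton (X.presheaf.stalk x) ((Coh.structureModule X).presheaf.stalk x)
        (Groth.L22.oneGerm x))
      ⟨(injective_iff_map_eq_zero _).2 fun a ha => Groth.L22.eq_zero_of_smul_oneGerm ha,
        Groth.L22.stalk_smul_oneGerm_surjective x⟩
    let e : ((DerSch.stalkOver f x).obj (Coh.structureModule X) : Type u) ≃ₗ[Y.presheaf.stalk (f x)]
        (X.presheaf.stalk x : Type u) :=
      { σ.symm.toAddEquiv with
        map_smul' := fun a m => σ.symm.map_smul ((f.stalkMap x).hom a) (show (Coh.structureModule X).presheaf.stalk x from m) }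
    exact ⟨fun h => @Module.Flat.of_linearEquiv _ _ _ _ _ _ _ _ h e.symm, fun h => @Module.Flat.of_linearEquiv _ _ _ _ _ _ _ _ h e⟩
  rw [Flat.iff_flat_stalkMap]
  exact forall_congr' key

end Groth.Lead.AmpZero
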