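import Groth.Agent.Lead.PCProj
import Groth.Agent.Lead.RpushHD
import Groth.Agent.L16.ProjSpace.Sections
import Groth.Agent.L17.FSheaf.AffineIso
import Groth.Agent.L17.PushQCoh
import Groth.Agent.S0921
import Groth.Agent.L29.RelPC.Module
import Mathlib.CategoryTheory.Shift.Adjunction
import Mathlib.CategoryTheory.Triangulated.Adjunction

/-!
Perfectness on projective space is detected by the direct images of the first `n + 1` twists.
-/

set_option autoImplicit false
set_option linter.style.haveILetI false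
set_option backward.defeqAttrib.useBackward true
set_option backward.isDefEq.respectTransparency false
set_option backward.isDefEq.respectTransparency.types false

universe u

open CategoryTheory CategoryTheory.Limits CategoryTheory.Pretriangulated AlgebraicGeometry Opposite

attribute [local instance] HasDerivedCategory.standard

noncomputable section

namespace Groth.Lead.PerfProj

open Groth.L00 Groth.L29.DC Groth.L29.DC.Gen Groth.L16.ProjSpace Groth.Lead.PCProj

variable (n : ℕ) (A : Type u) [CommRing A]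

local notation "O" => Twist.twistProjSpace n A
local notation "X'" => CohB1.ProjSpace n A
local notation "π'" => CohB1.ProjSpace.toSpec n A

omit [CommRing A] in
/-- an object of the derived category without cohomology is zero -/
theorem isZero_D_of_HD {S : Scheme.{u}} {K : DCoh.D S} (h : ∀ i, IsZero (DCoh.HD K i)) : IsZero K := by
  obtain ⟨Z, hZ⟩ := Limits.HasZeroObject.zero (C := DCoh.D S)
  haveI : IsIso (0 : K ⟶ Z) := (DerivedCategory.isIso_iff S.Modules _).2 fun i =>
    isIso_of_source_target_iso_zero _ (h i).isoZero ((DerivedCategory.homologyFunctor _ i).map_isZero hZ).isoZero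
  exact hZ.of_iso (asIso (0 : K ⟶ Z))

/-- `π_* O = O` -/
theorem nonempty_push_structure :
    Nonempty ((Scheme.Modules.pushforward π').obj (Coh.structureModule X') ≅
      Coh.structureModule (Spec (CommRingCat.of A))) := by
  haveI : IsProper π' := Groth.L16.ProjSpace.isProper_toSpec n A
  let θ : Coh.structureModule (Spec (CommRingCat.of A)) ⟶
      (Scheme.Modules.pushforward π').obj (Coh.structureModule X') :=
    ⟨PresheafOfModules.homMk
      { app := fun U => AddCommGrpCat.ofHom (show Γ(Spec (CommRingCat.of A), U.unop) →+ Γ(X', π' ⁻¹ᵁ U.unop)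
          from ((π').app U.unop).hom.toAddMonoidHom)
        naturality := fun U V i => by
          ext a
          exact congr($((π').naturality i) a) }
      fun U r a => map_mul ((π').app U.unop).hom r a⟩
  haveI : Coh.IsQCoh (Coh.structureModule X') := Groth.L19.Conormal.isQCoh_structureModule _
  haveI : Coh.IsQCoh (Coh.structureModule (Spec (CommRingCat.of A))) := Groth.L19.Conormal.isQCoh_structureModule _
  haveI := Groth.L17.PushQCoh.hasInjectiveResolutions X'
  haveI := Groth.L17.PushQCoh.additive_push π'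
  haveI : Coh.IsQCoh ((Scheme.Modules.pushforward π').obj (Coh.structureModule X')) :=
    Groth.L29.DC.isQCoh_of_iso' ((Scheme.Modules.pushforward π').rightDerivedZeroIsoSelf.app _)
      (Groth.L17.PushQCoh.isQCoh_Rpush π' (Coh.structureModule X') 0)
  haveI := isIso_toSpec_appTop n A
  haveI : IsIso θ := Groth.L17.FSheaf.isIso_of_bijective_top θ (ConcreteCategory.bijective_of_isIso (π').appTop)
  exact ⟨(asIso θ).symm⟩

variable [DCoh.HasRpush (CohB1.ProjSpace.toSpec n A)]

/-- the higher direct images of the first twists below zero -/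
theorem isZero_HD_twist (t : ℤ) (ht : -(n : ℤ) ≤ t) (i : ℤ) (h : i ≠ 0 ∨ t < 0) :
    IsZero (DCoh.HD ((DCoh.Rpush π').obj (DCoh.inD X' (O t))) i) := by
  haveI : IsProper π' := Groth.L16.ProjSpace.isProper_toSpec n A
  haveI := Groth.L17.PushQCoh.hasInjectiveResolutions X'
  haveI : Coh.IsQCoh (O t) := Groth.L21.Extend.isQCoh_of_isInvertible (Groth.L16.ProjTwist.isInvertible_twistProjSpace n A t)
  rcases lt_trichotomy i 0 with hi | rfl | hi
  · haveI : (DCoh.inD X' (O t)).IsGE 0 := inferInstance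
    haveI := RpushQC.isGE_Rpush π' (DCoh.inD X' (O t)) 0
    exact DerivedCategory.isZero_of_isGE _ 0 i hi
  · obtain ⟨e⟩ := Groth.Lead.RpushHD.nonempty_HD_Rpush_inD π' (O t) 0
    refine IsZero.of_iso ?_ e
    exact (Groth.Agent.Pic0.subsingleton_HH_iff π' (O t) 0).1
      (subsingleton_HH_twist n A t 0 (by rintro ⟨-, hc⟩; rcases h with h | h <;> omega)
        (by rintro ⟨h₀, hc⟩; omega))
  · exact isZero_HH_twist n A t ht i hi

/-- `Rπ_* O = O` -/
theorem nonempty_Rpush_structure :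
    Nonempty ((DCoh.Rpush π').obj (DCoh.inD X' (Coh.structureModule X')) ≅ OS A) := by
  haveI := Groth.L17.PushQCoh.hasInjectiveResolutions X'
  obtain ⟨e₀⟩ := Groth.L16.ProjTwist.nonempty_twist_zero_iso (CohB1.polyGrading n A)
  let T := (DCoh.Rpush π').obj (DCoh.inD X' (Coh.structureModule X'))
  let eT : (DCoh.Rpush π').obj (DCoh.inD X' (O 0)) ≅ T :=
    (DCoh.Rpush π').mapIso ((DerivedCategory.singleFunctor _ 0).mapIso e₀)
  have hz : ∀ i, i ≠ 0 → IsZero (DCoh.HD T i) := fun i hi =>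
    (isZero_HD_twist n A 0 (by omega) i (Or.inl hi)).of_iso ((DerivedCategory.homologyFunctor _ i).mapIso eT.symm)
  haveI : T.IsGE 0 := (DerivedCategory.isGE_iff _ _).2 fun i hi => hz i (by omega)
  haveI : T.IsLE 0 := (DerivedCategory.isLE_iff _ _).2 fun i hi => hz i (by omega)
  obtain ⟨Y, ⟨eY⟩⟩ := DerivedCategory.exists_iso_singleFunctor_obj_of_isGE_of_isLE T 0
  obtain ⟨a⟩ := Groth.L29.RelPC.nonempty_HD0_inD Y
  obtain ⟨b⟩ := Groth.Lead.RpushHD.nonempty_HD_Rpush_inD π' (Coh.structureModule X') 0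
  obtain ⟨c⟩ := nonempty_push_structure n A
  exact ⟨eY ≪≫ (DerivedCategory.singleFunctor _ 0).mapIso (a.symm ≪≫
    (DerivedCategory.homologyFunctor _ 0).mapIso eY.symm ≪≫ b ≪≫
    (Scheme.Modules.pushforward π').rightDerivedZeroIsoSelf.app (Coh.structureModule X') ≪≫ c)⟩

instance : (DCoh.Rpush (CohB1.ProjSpace.toSpec n A)).CommShift ℤ := commShiftRpush _

instance : (DCoh.Rpush (CohB1.ProjSpace.toSpec n A)).IsTriangulated := isTriangulated_Rpush _

/-- endomorphisms of the structure sheaf of the base commute -/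
theorem comp_comm_OS (a b : OS A ⟶ OS A) : a ≫ b = b ≫ a := by
  obtain ⟨a', rfl⟩ := (DerivedCategory.singleFunctor (Spec (CommRingCat.of A)).Modules 0).map_surjective a
  obtain ⟨b', rfl⟩ := (DerivedCategory.singleFunctor (Spec (CommRingCat.of A)).Modules 0).map_surjective b
  rw [← Functor.map_comp, ← Functor.map_comp]
  refine congrArg _ ?_
  rw [← Groth.L18.GenLoc.homOfSection_secOf (a' ≫ b'), ← Groth.L18.GenLoc.homOfSection_secOf (b' ≫ a')]
  refine congrArg _ ?_
  change b'.app ⊤ (Groth.L18.GenLoc.secOf a') = a'.app ⊤ (Groth.L18.GenLoc.secOf b')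
  rw [Groth.L18.GenLoc.app_eq b' ⊤, Groth.L18.GenLoc.app_eq a' ⊤, Groth.L18.Frame.rs_self, Groth.L18.Frame.rs_self]
  exact mul_comm (G := Γ(Spec (CommRingCat.of A), ⊤)) _ _

/-- the perfect objects generated by the structure sheaf of the base -/
theorem orth_OS {F : DCoh.D (Spec (CommRingCat.of A))} (hF : DCoh.IsQCohD F) (h : Gen.Ortho (OS A) F) : IsZero F := by
  refine isZero_D_of_HD fun j => ?_
  have hq := isQCohD_shift hF j
  haveI : Coh.IsQCoh (DCoh.HD (F⟦j⟧) 0) := hq 0
  have hz : IsZero (DCoh.HD (F⟦j⟧) 0) := by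
    refine Groth.Agent.Pic0.isZero_of_subsingleton_Γ_spec _ (subsingleton_of_forall_eq 0 fun σ => ?_)
    obtain ⟨ξ, hξ⟩ := (cls_bij A hq).2 (Groth.L16.homOfSection _ σ)
    have hξ0 : ξ = 0 := by
      refine (shiftFunctor _ (-j)).map_injective ?_
      rw [Functor.map_zero, ← cancel_mono ((shiftFunctorCompIsoId _ j (-j) (add_neg_cancel j)).hom.app F), zero_comp]
      exact h (-j) _
    have h0 : Groth.L10.LocalDetect.cls (0 : OS A ⟶ F⟦j⟧) = 0 := by
      simp [Groth.L10.LocalDetect.cls]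
    rw [← Groth.L18.GenLoc.secOf_homOfSection σ, ← hξ, hξ0, h0]
    rfl
  exact hz.of_iso (((DerivedCategory.homologyFunctor _ 0).shiftIso j 0 j (by omega)).app F).symm

set_option maxHeartbeats 1600000 in
/-- one step of the semiorthogonal decomposition -/
theorem exists_step (e : ℕ) (he : e ≤ n) {K : DCoh.D X'} (hK : DCoh.IsQCohD K)
    (hp : DCoh.IsPerfect ((NF n A e).obj K)) (h0 : ∀ d : ℕ, d < e → IsZero ((NF n A d).obj K)) :
    ∃ (M C : DCoh.D X') (a : M ⟶ K) (g : K ⟶ C) (δ : C ⟶ M⟦(1 : ℤ)⟧),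
      Triangle.mk a g δ ∈ distTriang (DCoh.D X') ∧ DCoh.IsPerfect M ∧
      ∀ d : ℕ, d < e + 1 → IsZero ((NF n A d).obj C) := by
  haveI : IsProper π' := Groth.L16.ProjSpace.isProper_toSpec n A
  haveI : QuasiSeparatedSpace (Spec (CommRingCat.of A)) := inferInstance
  haveI := KFlat.hasLpull π'
  obtain ⟨eT⟩ := nonempty_Tw_neg n A (e : ℤ)
  obtain ⟨eP⟩ := Groth.L29.RelPC.nonempty_Lpull_unit π'
  obtain ⟨G, ad, ⟨eG⟩⟩ : ∃ (G : DCoh.D (Spec (CommRingCat.of A)) ⥤ DCoh.D X') (_ : G ⊣ NF n A (e : ℤ)),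
      Nonempty (G.obj (OS A) ≅ DCoh.inD X' (O (-(e : ℤ)))) :=
    ⟨DCoh.Lpull π' ⋙ (Tw n A (e : ℤ)).asEquivalence.inverse,
      (Groth.L29.BC.adj π').comp (Tw n A (e : ℤ)).asEquivalence.symm.toAdjunction,
      ⟨(Tw n A (e : ℤ)).asEquivalence.inverse.mapIso (eP ≪≫ eT.symm) ≪≫
        ((Tw n A (e : ℤ)).asEquivalence.unitIso.app _).symm⟩⟩
  letI : G.CommShift ℤ := ad.leftAdjointCommShift ℤ
  haveI : ad.CommShift ℤ := ad.commShift_of_rightAdjoint ℤ
  haveI : G.IsTriangulated := ad.isTriangulated_leftAdjoint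
  have hG1 : DCoh.IsPerfect (G.obj (OS A)) := isPerfect_of_iso eG.symm (PCProj.isPerfect_inD (hfl n A _))
  have hG2 : IsIso (ad.unit.app (OS A)) := by
    obtain ⟨eR⟩ := nonempty_Rpush_structure n A
    let θ : (NF n A (e : ℤ)).obj (G.obj (OS A)) ≅ OS A :=
      (DCoh.Rpush π').mapIso ((Tw n A (e : ℤ)).mapIso eG ≪≫ eT) ≪≫ eR
    let φ := (ad.homEquiv _ _).symm θ.inv
    have hφ : ad.unit.app (OS A) ≫ (NF n A (e : ℤ)).map φ = θ.inv := by
      exact ((ad.homEquiv_unit (f := φ)).symm).trans (Equiv.apply_symm_apply _ _)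
    let η₀ : OS A ⟶ OS A := ad.unit.app (OS A) ≫ θ.hom
    let ρ : OS A ⟶ OS A := θ.inv ≫ (NF n A (e : ℤ)).map φ ≫ θ.hom
    have h1 : η₀ ≫ ρ = 𝟙 _ := by
      simp only [η₀, ρ, Category.assoc, Iso.hom_inv_id_assoc]
      rw [← Category.assoc, hφ, Iso.inv_hom_id]
    haveI : IsIso η₀ := ⟨ρ, h1, (comp_comm_OS A ρ η₀).trans h1⟩
    have : ad.unit.app (OS A) = η₀ ≫ θ.inv := by simp [η₀]
    rw [this]
    infer_instance
  have hG3 : ∀ d : ℕ, d < e → IsZero ((NF n A (d : ℤ)).obj (G.obj (OS A))) := fun d hd => by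
    obtain ⟨et⟩ := Groth.L16.ProjTwist.nonempty_tensor_twist_iso_one (CohB1.polyGrading n A) (fun x => by
      obtain ⟨k, hk⟩ := exists_mem_basicOpen_X n A x
      exact ⟨Xd n A k, hk⟩) (-(e : ℤ)) d
    refine IsZero.of_iso ?_ ((DCoh.Rpush π').mapIso ((Tw n A (d : ℤ)).mapIso eG ≪≫
      TwistEquiv.TSingle (O d) (hfl n A d) _ ≪≫ (DerivedCategory.singleFunctor _ 0).mapIso et))
    exact isZero_D_of_HD fun i => isZero_HD_twist n A (-(e : ℤ) + d) (by omega) i (Or.inr (by omega))
  let P : DCoh.D (Spec (CommRingCat.of A)) → Prop := fun Q =>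
    DCoh.IsPerfect (G.obj Q) ∧ IsIso (ad.unit.app Q) ∧ ∀ d : ℕ, d < e → IsZero ((NF n A (d : ℤ)).obj (G.obj Q))
  have hbuilt : ∀ {Y}, Groth.L29.Thick.Built (OS A) Y → P Y := by
    intro Y hY
    induction hY with
    | gen i =>
      refine ⟨isPerfect_of_iso ((G.commShiftIso i).app (OS A)).symm (perfect_shift hG1 i), ?_, fun d hd =>
        IsZero.of_iso ((shiftFunctor _ i).map_isZero (hG3 d hd))
          (((G ⋙ NF n A (d : ℤ)).commShiftIso i).app (OS A))⟩
      rw [← ad.unit_app_shift_commShiftIso_inv_app]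
      infer_instance
    | zero h => exact ⟨EvalMain.isPerfect_of_isZero (G.map_isZero h),
        isIso_of_source_target_iso_zero _ h.isoZero ((G ⋙ NF n A (e : ℤ)).map_isZero h).isoZero,
        fun d _ => (G ⋙ NF n A (d : ℤ)).map_isZero h⟩
    | ext T hT _ _ h₁ h₃ =>
      refine ⟨(perfect_two_out_of_three (G.map_distinguished _ hT)).2.1 h₁.1 h₃.1, ?_, fun d hd =>
        Pretriangulated.Triangle.isZero₂_of_isZero₁₃ _ ((G ⋙ NF n A (d : ℤ)).map_distinguished _ hT) (h₁.2.2 d hd) (h₃.2.2 d hd)⟩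
      let Φ : T ⟶ (G ⋙ NF n A (e : ℤ)).mapTriangle.obj T :=
        Triangle.homMk _ _ (ad.unit.app _) (ad.unit.app _) (ad.unit.app _)
          (ad.unit.naturality T.mor₁) (ad.unit.naturality T.mor₂) (by
            have := ad.unit.naturality T.mor₃
            dsimp at this ⊢
            rw [← reassoc_of% this]
            exact congrArg (_ ≫ ·) (ad.unit_app_commShiftIso_hom_app (A := ℤ) (1 : ℤ) _).symm)
      exact Pretriangulated.isIso₂_of_isIso₁₃ Φ hT ((G ⋙ NF n A (e : ℤ)).map_distinguished _ hT) h₁.2.1 h₃.2.1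
    | iso e' _ h =>
      refine ⟨isPerfect_of_iso (G.mapIso e') h.1, ?_, fun d hd => IsZero.of_iso (h.2.2 d hd) ((G ⋙ NF n A (d : ℤ)).mapIso e').symm⟩
      exact (NatTrans.isIso_app_iff_of_iso ad.unit e').1 h.2.1
  have hOS : DCoh.IsPerfect (OS A) := by
    obtain ⟨eR⟩ := nonempty_Rpush_structure n A
    obtain ⟨e₀⟩ := Groth.L16.ProjTwist.nonempty_twist_zero_iso (CohB1.polyGrading n A)
    exact isPerfect_of_iso eR (Groth.L29.BC.isPerfect_Rpush π'
      (isPerfect_of_iso ((DerivedCategory.singleFunctor _ 0).mapIso e₀) (PCProj.isPerfect_inD (hfl n A 0))))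
  obtain ⟨Y, hY, ⟨r⟩⟩ := exists_retract_of_generator
    hOS (fun F hF ho => orth_OS A hF ho) hp
  obtain ⟨hY1, hY2, hY3⟩ := hbuilt hY
  let Q := (NF n A (e : ℤ)).obj K
  have hQ1 : DCoh.IsPerfect (G.obj Q) := Groth.L29.BC.isPerfect_of_retract (r.map G) hY1
  have hQ2 : IsIso (ad.unit.app Q) := by
    haveI := hY2
    refine ⟨(G ⋙ NF n A (e : ℤ)).map r.i ≫ inv (ad.unit.app Y) ≫ r.r, ?_, ?_⟩
    · rw [← ad.unit.naturality_assoc r.i, IsIso.hom_inv_id_assoc]
      exact r.retract
    · rw [Category.assoc, Category.assoc]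
      erw [ad.unit.naturality r.r]
      rw [IsIso.inv_hom_id_assoc, ← Functor.map_comp, r.retract, CategoryTheory.Functor.map_id]
  have hQ3 : ∀ d : ℕ, d < e → IsZero ((NF n A (d : ℤ)).obj (G.obj Q)) := fun d hd =>
    IsZero.of_mono ((G ⋙ NF n A (d : ℤ)).map r.i) (hY3 d hd)
  obtain ⟨C, g, δ, hT⟩ := distinguished_cocone_triangle (ad.counit.app K)
  refine ⟨_, C, ad.counit.app K, g, δ, hT, hQ1, fun d hd => ?_⟩
  rcases Nat.lt_succ_iff_lt_or_eq.1 hd with hd' | rfl
  · exact Pretriangulated.Triangle.isZero₃_of_isZero₁₂ _ ((NF n A (d : ℤ)).map_distinguished _ hT) (hQ3 d hd') (h0 d hd')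
  · haveI := hQ2
    haveI : IsIso ((NF n A (d : ℤ)).map (ad.counit.app K)) := by
      have : (NF n A (d : ℤ)).map (ad.counit.app K) = inv (ad.unit.app Q) := by
        rw [← cancel_epi (ad.unit.app Q), IsIso.hom_inv_id]
        exact ad.right_triangle_components K
      rw [this]
      infer_instance
    exact (Triangle.isZero₃_iff_isIso₁ _ ((NF n A (d : ℤ)).map_distinguished _ hT)).2 this

/-- twisted direct images detect perfectness -/
theorem perfect_of_twists {K : DCoh.D X'} (hK : DCoh.IsQCohD K)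
    (h : ∀ d : ℕ, d ≤ n → DCoh.IsPerfect ((NF n A d).obj K)) : DCoh.IsPerfect K := by
  haveI : IsProper π' := Groth.L16.ProjSpace.isProper_toSpec n A
  suffices H : ∀ k e : ℕ, e + k = n + 1 → ∀ K : DCoh.D X', DCoh.IsQCohD K →
      (∀ d : ℕ, d ≤ n → DCoh.IsPerfect ((NF n A d).obj K)) →
      (∀ d : ℕ, d < e → IsZero ((NF n A d).obj K)) → DCoh.IsPerfect K from
    H (n + 1) 0 (by omega) K hK h (by intro d hd; omega)
  intro k
  induction k with
  | zero =>
    intro e he K hK _ h0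
    refine EvalMain.isPerfect_of_isZero (isZero_D_of_HD fun j => ?_)
    obtain ⟨e'⟩ : Nonempty (DCoh.HD (K⟦j - 1⟧) 1 ≅ DCoh.HD K j) :=
      ⟨((DerivedCategory.homologyFunctor _ 0).shiftIso (j - 1) 1 j (by omega)).app K⟩
    exact IsZero.of_iso (isZero_HD_pos (isQCohD_shift hK _) (fun d hd i _ =>
      (DerivedCategory.homologyFunctor _ i).map_isZero (((shiftFunctor _ (j - 1)).map_isZero (h0 d (by omega))).of_iso
        (((NF n A (d : ℤ)).commShiftIso (j - 1)).app K))) 1 one_pos) e'.symm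
  | succ k ih =>
    intro e he K hK hp h0
    obtain ⟨M, C, a, g, δ, hT, hM, hC⟩ := exists_step n A e (by omega) hK (hp e (by omega)) h0
    refine (perfect_two_out_of_three hT).2.1 hM (ih (e + 1) (by omega) C
      (isQCohD_third _ hT (PCQCoh.isQCohD_of_perfect hM) hK) (fun d hd => ?_) hC)
    exact (perfect_two_out_of_three ((NF n A (d : ℤ)).map_distinguished _ hT)).1
      (Groth.L29.BC.isPerfect_Rpush π' (isPerfect_Tw (n := n) (A := A) d hM)) (hp d hd)

end Groth.Lead.PerfProj
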