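import Groth.Agent.Lead.ResKD
import Groth.Agent.L29.DCoh.Gen.QCohTri
import Groth.Agent.L29.DCoh.Cpt.QCoh
import Mathlib.Algebra.Homology.HomotopyCategory.MappingCocone

/-!
Perfect objects on schemes with the resolution property: strictly perfect models, roofs for morphisms and
homotopies after quasi-isomorphisms.
-/

set_option autoImplicit false
set_option linter.style.haveILetI false
set_option backward.defeqAttrib.useBackward true
set_option backward.isDefEq.respectTransparency false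

universe u

open CategoryTheory CategoryTheory.Limits AlgebraicGeometry CochainComplex
  CategoryTheory.Pretriangulated TopologicalSpace

attribute [local instance] HasDerivedCategory.standard

noncomputable section

namespace Groth.Lead.ResD

open Groth.L29.DC Groth.Lead.ResInj Groth.Lead.ResKD
open scoped ZeroObject

variable {X : Scheme.{u}}

local notation "tt" => DerivedCategory.TStructure.t

theorem affineHom_ι [CompactSpace X] [QuasiSeparatedSpace X] (hX : PerfAux.HasResolutionProperty X)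
    (U : X.Opens) (hU : IsAffineOpen U) : IsAffineHom U.ι :=
  Groth.L12.ResAffDiag.isAffineHom_ι hX hU

/-- `K` and `D` as a statement about chain maps -/
theorem exists_chainMap {J : CochainComplex X.Modules ℤ} {a : ℤ} [J.IsStrictlyGE a] (hJ : ∀ i, RI (J.X i))
    {M : CochainComplex X.Modules ℤ} (hM : BQ X M) (f : DCoh.toD X M ⟶ DCoh.toD X J) :
    ∃ g : M ⟶ J, DerivedCategory.Q.map g = f := by
  let q := DerivedCategory.quotientCompQhIso X.Modules
  obtain ⟨g, hg⟩ := (kd_bijective J a hJ M hM).2 (q.hom.app M ≫ f ≫ q.inv.app J)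
  obtain ⟨g', rfl⟩ := (HomotopyCategory.quotient _ _).map_surjective g
  refine ⟨g', ?_⟩
  have h := q.hom.naturality g'
  dsimp at h hg
  rw [hg] at h
  simp only [Category.assoc, Iso.inv_hom_id_app] at h
  rw [← cancel_epi (q.hom.app M), ← h]
  exact congrArg (q.hom.app M ≫ ·) (Category.comp_id f)

theorem nonempty_homotopy {J : CochainComplex X.Modules ℤ} {a : ℤ} [J.IsStrictlyGE a] (hJ : ∀ i, RI (J.X i))
    {M : CochainComplex X.Modules ℤ} (hM : BQ X M) {f g : M ⟶ J}
    (h : DerivedCategory.Q.map f = DerivedCategory.Q.map g) : Nonempty (Homotopy f g) := by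
  refine ⟨HomotopyCategory.homotopyOfEq _ _ ((kd_bijective J a hJ M hM).1 ?_)⟩
  let q := DerivedCategory.quotientCompQhIso X.Modules
  have hf := q.hom.naturality f
  have hg := q.hom.naturality g
  dsimp at hf hg
  rw [h] at hf
  exact (cancel_mono (q.hom.app J)).1 (hf.trans hg.symm)

theorem cocone_triangleh_distinguished {E F : CochainComplex X.Modules ℤ} (φ : E ⟶ F) :
    (HomotopyCategory.quotient X.Modules (ComplexShape.up ℤ)).mapTriangle.obj (mappingCocone.triangle φ) ∈
      distTriang _ := by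
  rw [rotate_distinguished_triangle]
  exact isomorphic_distinguished _ (HomotopyCategory.mappingCone_triangleh_distinguished φ) _
    ((HomotopyCategory.quotient X.Modules (ComplexShape.up ℤ)).mapTriangleRotateIso.app _ ≪≫
      (HomotopyCategory.quotient X.Modules (ComplexShape.up ℤ)).mapTriangle.mapIso (mappingCocone.rotateTriangleIso φ))

theorem bq_of_strictlyPerfect {E : CochainComplex X.Modules ℤ} (hE : DCoh.IsStrictlyPerfect E) : BQ X E :=
  ⟨hE.1, fun i => PCQCoh.isQCoh_of_isFinLocFree (hE.2 i)⟩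

theorem isQCoh_cocone {E F : CochainComplex X.Modules ℤ} (φ : E ⟶ F) (hE : ∀ i, Coh.IsQCoh (E.X i))
    (hF : ∀ i, Coh.IsQCoh (F.X i)) (i : ℤ) : Coh.IsQCoh ((mappingCocone φ).X i) :=
  ResProp.isQCoh_cone φ hE hF _

theorem isZero_cocone_X {E F : CochainComplex X.Modules ℤ} (φ : E ⟶ F) (a : ℤ) (hE : ∀ i, i < a → IsZero (E.X i))
    (hF : ∀ i, i < a → IsZero (F.X i)) (i : ℤ) (hi : i < a) : IsZero ((mappingCocone φ).X i) :=
  ((biprod_isZero_iff _ _).2 ⟨hE (i + -1 + 1) (by omega), hF (i + -1) (by omega)⟩).of_iso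
    (HomologicalComplex.homotopyCofiber.XIsoBiprod φ (i + -1) (i + -1 + 1) rfl)

/-- objects of `D_QCoh` with bounded cohomology have bounded below quasi-coherent models -/
theorem exists_qcoh_rep [CompactSpace X] (hd : ∀ U : X.Opens, IsAffineOpen U → IsAffineHom U.ι) (a : ℤ) :
    ∀ (k : ℕ) (K : DCoh.D X), DCoh.IsQCohD K → K.IsGE a → K.IsLE (a - 1 + k) →
      ∃ (F : CochainComplex X.Modules ℤ), (∀ i, i < a → IsZero (F.X i)) ∧ (∀ i, Coh.IsQCoh (F.X i)) ∧
        Nonempty (DCoh.toD X F ≅ K) := by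
  intro k
  induction k with
  | zero =>
    intro K _ hge hle
    have hz : IsZero K := ResProp.isZero_of_hd fun i => by
      rcases lt_or_ge i a with h | h
      · exact (DerivedCategory.isGE_iff K a).1 hge i h
      · exact (DerivedCategory.isLE_iff K (a - 1 + ((0 : ℕ) : ℤ))).1 hle i (by simp; omega)
    exact ⟨0, fun i _ => (HomologicalComplex.eval _ _ i).map_isZero (isZero_zero _),
      fun i => Groth.L29.DC.isQCoh_of_isZero ((HomologicalComplex.eval _ _ i).map_isZero (isZero_zero _)),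
      ⟨(DerivedCategory.Q.map_isZero (isZero_zero _)).iso hz⟩⟩
  | succ k ih =>
    intro K hK hge hle
    let b : ℤ := a + k
    haveI : K.IsGE a := hge
    haveI : K.IsLE b := by rwa [show a - 1 + ((k + 1 : ℕ) : ℤ) = b by push_cast; ring] at hle
    let A := ((tt).truncLT b).obj K
    let B := ((tt).truncGE b).obj K
    have hA : DCoh.IsQCohD A := Groth.L29.DC.Cpt.isQCohD_truncLT hK b
    have hT := (tt).triangleLTGE_distinguished b K
    have hB : DCoh.IsQCohD B := Groth.L29.DC.Gen.isQCohD_third _ hT hA hK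
    have hAle : A.IsLE (a - 1 + k) := (tt).isLE_truncLT_obj K b _ (by omega)
    have hAge : A.IsGE a := inferInstanceAs ((tt).IsGE (((tt).truncLT b).obj K) a)
    haveI : B.IsGE b := inferInstanceAs ((tt).IsGE (((tt).truncGE b).obj K) b)
    haveI : B.IsLE b := inferInstanceAs ((tt).IsLE (((tt).truncGE b).obj K) b)
    obtain ⟨F₀, hF₀z, hF₀q, ⟨e₀⟩⟩ := ih A hA hAge hAle
    haveI : F₀.IsStrictlyGE a := (CochainComplex.isStrictlyGE_iff _ _).2 hF₀z
    obtain ⟨J, ι, hJge, hJq, hJ, hι⟩ := ResInj.exists_res hd F₀ a hF₀q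
    haveI : IsIso (DerivedCategory.Q.map ι) := (DerivedCategory.isIso_Q_map_iff_quasiIso _ _).2 hι
    obtain ⟨H, ⟨eB⟩⟩ := DerivedCategory.exists_iso_singleFunctor_obj_of_isGE_of_isLE B b
    let M := (CochainComplex.singleFunctor X.Modules b).obj H
    let eM : B ≅ DCoh.toD X M := eB ≪≫
      ((SingleFunctors.evaluation _ _ b).mapIso (DerivedCategory.singleFunctorsPostcompQIso X.Modules)).app H
    have hHq : Coh.IsQCoh H :=
      isQCoh_of_iso' ((DerivedCategory.homologyFunctor _ b).mapIso eM ≪≫ ResProp.hdIso M b ≪≫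
        ((HomologicalComplex.homologyFunctorSingleIso X.Modules (ComplexShape.up ℤ) b).app H)) (hB b)
    have hMX : ∀ i, i ≠ b → IsZero (M.X i) := fun i hi =>
      HomologicalComplex.isZero_single_obj_X (ComplexShape.up ℤ) b H i hi
    have hMq : ∀ i, Coh.IsQCoh (M.X i) := fun i => by
      by_cases hi : i = b
      · subst hi
        exact isQCoh_of_iso' (HomologicalComplex.singleObjXSelf (ComplexShape.up ℤ) b H).symm hHq
      · exact Groth.L29.DC.isQCoh_of_isZero (hMX i hi)
    haveI : (J⟦(1 : ℤ)⟧).IsStrictlyGE (a - 1) := (CochainComplex.isStrictlyGE_iff _ _).2 fun i hi =>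
      J.isZero_of_isStrictlyGE a (i + 1) (by omega)
    let eA : A ≅ DCoh.toD X J := e₀.symm ≪≫ asIso (DerivedCategory.Q.map ι)
    let eA1 : A⟦(1 : ℤ)⟧ ≅ DCoh.toD X (J⟦(1 : ℤ)⟧) :=
      (CategoryTheory.shiftFunctor (DCoh.D X) (1 : ℤ)).mapIso eA ≪≫
        ((DerivedCategory.Q.commShiftIso (1 : ℤ)).app J).symm
    let δ := ((tt).triangleLTGE b).obj K
    obtain ⟨g, hg⟩ := exists_chainMap (J := J⟦(1 : ℤ)⟧) (a := a - 1) (fun i => hJ (i + 1))
      (M := M) ⟨⟨b, b, fun i hi => hMX i (by omega)⟩, hMq⟩ (eM.inv ≫ δ.mor₃ ≫ eA1.hom)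
    obtain ⟨eT, -, -⟩ := exists_iso_of_arrow_iso δ.rotate.rotate _ (rot_of_distTriang _ (rot_of_distTriang _ hT))
      (DerivedCategory.mappingCone_triangle_distinguished g) (Arrow.isoMk eM eA1 (by
        change eM.hom ≫ DerivedCategory.Q.map g = δ.mor₃ ≫ eA1.hom
        rw [hg, Iso.hom_inv_id_assoc]))
    let eK : K⟦(1 : ℤ)⟧ ≅ DCoh.toD X (mappingCone g) := Triangle.π₃.mapIso eT
    refine ⟨(mappingCone g)⟦(-1 : ℤ)⟧, fun i hi => ?_, fun i => ResProp.isQCoh_cone g hMq (fun j => hJq (j + 1)) _,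
      ⟨(DerivedCategory.Q.commShiftIso (-1 : ℤ)).app (mappingCone g) ≪≫
        (CategoryTheory.shiftFunctor (DCoh.D X) (-1 : ℤ)).mapIso eK.symm ≪≫
        (shiftFunctorCompIsoId (DCoh.D X) (1 : ℤ) (-1) (by omega)).app K⟩⟩
    exact ((biprod_isZero_iff _ _).2 ⟨hMX (i + -1 + 1) (by omega),
      J.isZero_of_isStrictlyGE a (i + -1 + 1) (by omega)⟩).of_iso
        (HomologicalComplex.homotopyCofiber.XIsoBiprod g (i + -1) (i + -1 + 1) rfl)

theorem exists_cohBounds [CompactSpace X] {K : DCoh.D X} (hK : DCoh.IsPerfect K) :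
    ∃ a b : ℤ, K.IsGE a ∧ K.IsLE b := by
  classical
  choose V hxV P hP e using (Groth.L29.DC.isPerfect_iff K).1 hK
  choose a b hv using fun x => (hP x).1
  obtain ⟨S, hS⟩ := isCompact_univ.elim_finite_subcover (fun x : X => (V x : Set X)) (fun x => (V x).2)
    fun x _ => Set.mem_iUnion.2 ⟨x, hxV x⟩
  obtain ⟨a₀, ha'⟩ := (S.image a).bddBelow
  obtain ⟨b₀, hb'⟩ := (S.image b).bddAbove
  have key : ∀ i, (∀ y ∈ S, i < a y ∨ b y < i) → IsZero (DCoh.HD K i) := fun i h =>
    Groth.L29.DC.isZero_HD_of_local K i fun x => by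
      obtain ⟨y, hy, hxy⟩ := Set.mem_iUnion₂.1 (hS (Set.mem_univ x))
      refine ⟨V y, hxy, IsZero.of_iso ?_ ((DerivedCategory.homologyFunctor _ i).mapIso (e y).some)⟩
      refine IsZero.of_iso ?_ (ResProp.hdIso (P y) i)
      rw [← HomologicalComplex.exactAt_iff_isZero_homology]
      exact HomologicalComplex.ExactAt.of_isZero (hv y i (h y hy))
  refine ⟨a₀, b₀, (DerivedCategory.isGE_iff K a₀).2 fun i hi => key i fun y hy => Or.inl ?_,
    (DerivedCategory.isLE_iff K b₀).2 fun i hi => key i fun y hy => Or.inr ?_⟩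
  · exact lt_of_lt_of_le hi (ha' (Finset.mem_image_of_mem a hy))
  · exact lt_of_le_of_lt (hb' (Finset.mem_image_of_mem b hy)) hi

variable [CompactSpace X] [QuasiSeparatedSpace X] (hX : PerfAux.HasResolutionProperty X)

include hX in
/-- perfect objects are strictly perfect -/
theorem exists_strictlyPerfect (K : DCoh.D X) (hK : DCoh.IsPerfect K) :
    ∃ E : CochainComplex X.Modules ℤ, DCoh.IsStrictlyPerfect E ∧ Nonempty (DCoh.toD X E ≅ K) := by
  obtain ⟨a, b, hge, hle⟩ := exists_cohBounds hK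
  obtain ⟨F, hFz, hFq, ⟨e⟩⟩ := exists_qcoh_rep (affineHom_ι hX) a (b - (a - 1)).toNat K
    (PCQCoh.isQCohD_of_perfect hK) hge ((tt).isLE_of_le K b _ (by omega))
  obtain ⟨E, φ, hE, hφ⟩ := ResProp.exists_strictlyPerfect_quasiIso F hX hFq
    (isPerfect_of_iso e.symm hK) a hFz
  haveI : IsIso (DerivedCategory.Q.map φ) := (DerivedCategory.isIso_Q_map_iff_quasiIso _ _).2 hφ
  exact ⟨E, hE, ⟨asIso (DerivedCategory.Q.map φ) ≪≫ e⟩⟩

include hX in
/-- morphisms are roofs of chain maps -/
theorem exists_roof (E F : CochainComplex X.Modules ℤ) (hE : DCoh.IsStrictlyPerfect E)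
    (hF : DCoh.IsStrictlyPerfect F) (α : DCoh.toD X E ⟶ DCoh.toD X F) :
    ∃ (G : CochainComplex X.Modules ℤ) (g : G ⟶ E) (h : G ⟶ F), DCoh.IsStrictlyPerfect G ∧ QuasiIso g ∧
      DerivedCategory.Q.map g ≫ α = DerivedCategory.Q.map h := by
  obtain ⟨⟨aE, bE, hvE⟩, hEf⟩ := id hE
  obtain ⟨⟨aF, bF, hvF⟩, hFf⟩ := id hF
  let a := min aE aF
  haveI : F.IsStrictlyGE a := (CochainComplex.isStrictlyGE_iff _ _).2 fun i hi => hvF i (Or.inl (by omega))
  obtain ⟨J, ι, hJge, hJq, hJ, hι⟩ := ResInj.exists_res (affineHom_ι hX) F a (bq_of_strictlyPerfect hF).2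
  haveI hι' : IsIso (DerivedCategory.Q.map ι) := (DerivedCategory.isIso_Q_map_iff_quasiIso _ _).2 hι
  obtain ⟨c, hc⟩ := exists_chainMap (a := a) hJ (bq_of_strictlyPerfect hE) (α ≫ DerivedCategory.Q.map ι)
  let φ : E ⊞ F ⟶ J := biprod.desc c (-ι)
  let W := mappingCocone φ
  let g : W ⟶ E := mappingCocone.fst φ ≫ biprod.fst
  let h : W ⟶ F := mappingCocone.fst φ ≫ biprod.snd
  have hbz : ∀ i, i < a → IsZero ((E ⊞ F).X i) := fun i hi =>
    ((biprod_isZero_iff _ _).2 ⟨hvE i (Or.inl (by omega)), hvF i (Or.inl (by omega))⟩).of_iso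
      ((HomologicalComplex.eval _ _ i).mapBiprod E F)
  have hbq : ∀ i, Coh.IsQCoh ((E ⊞ F).X i) := fun i =>
    isQCoh_of_iso' ((HomologicalComplex.eval _ _ i).mapBiprod E F).symm
      (Groth.L17.HTorRG.Acyc.isQCoh_biprod ((bq_of_strictlyPerfect hE).2 i) ((bq_of_strictlyPerfect hF).2 i))
  have hT := DerivedCategory.mappingCocone_triangle_distinguished φ
  let s : DCoh.toD X J ⟶ DCoh.toD X (E ⊞ F) := -(inv (DerivedCategory.Q.map ι) ≫ DerivedCategory.Q.map biprod.inr)
  have hQι : DerivedCategory.Q.map (biprod.inr : F ⟶ E ⊞ F) ≫ DerivedCategory.Q.map φ =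
      -DerivedCategory.Q.map ι := by
    rw [← Functor.map_comp, biprod.inr_desc, Functor.map_neg]
  have hs : s ≫ DerivedCategory.Q.map φ = 𝟙 _ := by
    simp only [s, Preadditive.neg_comp, Category.assoc, hQι, Preadditive.comp_neg, neg_neg, IsIso.inv_hom_id]
  have hp0 : DerivedCategory.Q.map (mappingCocone.fst φ) ≫ DerivedCategory.Q.map φ = 0 :=
    comp_distTriang_mor_zero₁₂ _ hT
  have hgh : DerivedCategory.Q.map g ≫ α = DerivedCategory.Q.map h := by
    rw [← cancel_mono (DerivedCategory.Q.map ι), Category.assoc, ← hc, ← sub_eq_zero, ← hp0]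
    have h1 : φ = biprod.fst ≫ c - biprod.snd ≫ ι := by
      refine biprod.hom_ext' _ _ ?_ ?_ <;> simp [φ, Preadditive.comp_sub]
    simp only [h1, g, h, Functor.map_sub, Functor.map_comp, Preadditive.comp_sub, Category.assoc]
  haveI hmono : Mono (DerivedCategory.Q.map (mappingCocone.fst φ)) := by
    refine (Triangle.mor₃_eq_zero_iff_mono₁ _ hT).1 ?_
    haveI : Epi (DerivedCategory.Q.map φ) := SplitEpi.epi ⟨s, hs⟩
    exact (Triangle.mor₃_eq_zero_iff_epi₂ _ hT).2 this
  have hg : IsIso (DerivedCategory.Q.map g) := by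
    let t : DCoh.toD X E ⟶ DCoh.toD X (E ⊞ F) :=
      DerivedCategory.Q.map biprod.inl - DerivedCategory.Q.map (biprod.inl ≫ φ) ≫ s
    obtain ⟨r, hr⟩ := Triangle.coyoneda_exact₂ _ hT t (by
      change t ≫ DerivedCategory.Q.map φ = 0
      simp only [t, Preadditive.sub_comp, Category.assoc, hs, Category.comp_id, Functor.map_comp, sub_self])
    replace hr : t = r ≫ DerivedCategory.Q.map (mappingCocone.fst φ) := hr
    have h1 : r ≫ DerivedCategory.Q.map g = 𝟙 _ := by
      rw [show DerivedCategory.Q.map g = DerivedCategory.Q.map (mappingCocone.fst φ) ≫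
        DerivedCategory.Q.map biprod.fst from Functor.map_comp _ _ _, ← Category.assoc, ← hr]
      simp only [t, s, Preadditive.sub_comp, Preadditive.comp_neg, Preadditive.neg_comp, Category.assoc,
        ← Functor.map_comp, biprod.inl_fst, biprod.inr_fst, Functor.map_zero, comp_zero, neg_zero, sub_zero,
        CategoryTheory.Functor.map_id]
    refine ⟨r, ?_, h1⟩
    rw [← cancel_mono (DerivedCategory.Q.map (mappingCocone.fst φ)), Category.assoc, ← hr, Category.id_comp]
    let p := DerivedCategory.Q.map (mappingCocone.fst φ)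
    have h2 : p ≫ DerivedCategory.Q.map (biprod.fst ≫ biprod.inl + biprod.snd ≫ (biprod.inr : F ⟶ E ⊞ F)) = p := by
      rw [biprod.total, CategoryTheory.Functor.map_id, Category.comp_id]
    have h3 : DerivedCategory.Q.map φ =
        DerivedCategory.Q.map biprod.fst ≫ DerivedCategory.Q.map (biprod.inl ≫ φ) -
          DerivedCategory.Q.map biprod.snd ≫ DerivedCategory.Q.map ι := by
      rw [← Functor.map_comp, ← Functor.map_comp, ← Functor.map_sub]
      congr 1
      refine biprod.hom_ext' _ _ ?_ ?_ <;> simp [φ, Preadditive.comp_sub]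
    have h4 : p ≫ DerivedCategory.Q.map biprod.fst ≫ DerivedCategory.Q.map (biprod.inl ≫ φ) =
        p ≫ DerivedCategory.Q.map biprod.snd ≫ DerivedCategory.Q.map ι := by
      rw [← sub_eq_zero, ← Preadditive.comp_sub, ← h3]
      exact hp0
    change DerivedCategory.Q.map g ≫ t = p
    rw [show DerivedCategory.Q.map g = p ≫ DerivedCategory.Q.map biprod.fst from Functor.map_comp _ _ _]
    simp only [t, Preadditive.comp_sub, Preadditive.comp_add, Category.assoc, s, Preadditive.comp_neg, sub_neg_eq_add]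
    rw [reassoc_of% h4, IsIso.hom_inv_id_assoc]
    conv_rhs => rw [← h2]
    simp only [Functor.map_add, Functor.map_comp, Preadditive.comp_add]
  have hWq : ∀ i, Coh.IsQCoh (W.X i) := isQCoh_cocone φ hbq hJq
  have hWz : ∀ i, i < a → IsZero (W.X i) := isZero_cocone_X φ a hbz fun i hi => J.isZero_of_isStrictlyGE a i hi
  obtain ⟨G, σ, hG, hσ⟩ := ResProp.exists_strictlyPerfect_quasiIso W hX hWq
    (isPerfect_of_iso (asIso (DerivedCategory.Q.map g)).symm (Groth.L29.DC.PushPerfect.isPerfect_of_strictly hE)) a hWz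
  haveI : QuasiIso σ := hσ
  haveI : QuasiIso g := (DerivedCategory.isIso_Q_map_iff_quasiIso _ _).1 hg
  exact ⟨G, σ ≫ g, σ ≫ h, hG, inferInstance, by rw [Functor.map_comp, Category.assoc, hgh]; exact (Functor.map_comp _ _ _).symm⟩

include hX in
/-- maps equal in `D` are homotopic after a quasi-isomorphism -/
theorem exists_homotopy (E F : CochainComplex X.Modules ℤ) (hE : DCoh.IsStrictlyPerfect E)
    (hF : DCoh.IsStrictlyPerfect F) (α β : E ⟶ F) (hαβ : DerivedCategory.Q.map α = DerivedCategory.Q.map β) :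
    ∃ (G : CochainComplex X.Modules ℤ) (γ : G ⟶ E), DCoh.IsStrictlyPerfect G ∧ QuasiIso γ ∧
      Nonempty (Homotopy (γ ≫ α) (γ ≫ β)) := by
  obtain ⟨⟨aE, bE, hvE⟩, hEf⟩ := id hE
  obtain ⟨⟨aF, bF, hvF⟩, hFf⟩ := id hF
  let a := min aE aF
  haveI : F.IsStrictlyGE a := (CochainComplex.isStrictlyGE_iff _ _).2 fun i hi => hvF i (Or.inl (by omega))
  obtain ⟨J, ι, hJge, hJq, hJ, hι⟩ := ResInj.exists_res (affineHom_ι hX) F a (bq_of_strictlyPerfect hF).2
  haveI hι' : IsIso (DerivedCategory.Q.map ι) := (DerivedCategory.isIso_Q_map_iff_quasiIso _ _).2 hι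
  obtain ⟨H⟩ := nonempty_homotopy (a := a) hJ (bq_of_strictlyPerfect hE) (f := (α - β) ≫ ι) (g := 0)
    (by rw [Functor.map_comp, Functor.map_sub, hαβ, sub_self, zero_comp, Functor.map_zero])
  let q := HomotopyCategory.quotient X.Modules (ComplexShape.up ℤ)
  let N := mappingCocone ι
  have hTK : (HomotopyCategory.quotient X.Modules (ComplexShape.up ℤ)).map (mappingCocone.fst ι) ≫ q.map ι = 0 ∧
      ∀ x : q.obj E ⟶ q.obj F, x ≫ q.map ι = 0 → ∃ y : q.obj E ⟶ q.obj N, x = y ≫ q.map (mappingCocone.fst ι) := by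
    have hT := cocone_triangleh_distinguished ι
    exact ⟨comp_distTriang_mor_zero₁₂ _ hT, fun x hx => Triangle.coyoneda_exact₂ _ hT x hx⟩
  obtain ⟨y, hy⟩ := hTK.2 (q.map (α - β)) (by
    rw [← Functor.map_comp, HomotopyCategory.eq_of_homotopy _ _ H, Functor.map_zero])
  obtain ⟨e, rfl⟩ := q.map_surjective y
  have hNz : IsZero (DCoh.toD X N) :=
    (Triangle.isZero₁_iff_isIso₂ _ (DerivedCategory.mappingCocone_triangle_distinguished ι)).2 hι'
  let W := mappingCocone e
  have hg : IsIso (DerivedCategory.Q.map (mappingCocone.fst e)) :=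
    (Triangle.isZero₃_iff_isIso₁ _ (DerivedCategory.mappingCocone_triangle_distinguished e)).1 hNz
  have hNq : ∀ i, Coh.IsQCoh (N.X i) := isQCoh_cocone ι (bq_of_strictlyPerfect hF).2 hJq
  have hNz' : ∀ i, i < a → IsZero (N.X i) := isZero_cocone_X ι a (fun i hi => F.isZero_of_isStrictlyGE a i hi)
    fun i hi => J.isZero_of_isStrictlyGE a i hi
  obtain ⟨G, σ, hG, hσ⟩ := ResProp.exists_strictlyPerfect_quasiIso W hX
    (isQCoh_cocone e (bq_of_strictlyPerfect hE).2 hNq)
    (isPerfect_of_iso (asIso (DerivedCategory.Q.map (mappingCocone.fst e))).symm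
      (Groth.L29.DC.PushPerfect.isPerfect_of_strictly hE)) a
    (isZero_cocone_X e a (fun i hi => hvE i (Or.inl (by omega))) hNz')
  haveI : QuasiIso σ := hσ
  haveI : QuasiIso (mappingCocone.fst e) := (DerivedCategory.isIso_Q_map_iff_quasiIso _ _).1 hg
  refine ⟨G, σ ≫ mappingCocone.fst e, hG, inferInstance, ⟨HomotopyCategory.homotopyOfEq _ _ ?_⟩⟩
  have h0 : q.map (mappingCocone.fst e) ≫ q.map e = 0 :=
    comp_distTriang_mor_zero₁₂ _ (cocone_triangleh_distinguished e)
  rw [← sub_eq_zero, ← Functor.map_sub, ← Preadditive.comp_sub, Functor.map_comp, Functor.map_comp, hy,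
    Category.assoc, reassoc_of% h0, zero_comp, comp_zero]

end Groth.Lead.ResD
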