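import Groth.Agent.L29.BC.RelPerfPush
import Groth.Agent.L29.BC.PCPush
import Groth.Agent.L29.BC.Comp
import Groth.Agent.L29.DCoh.RelBC
import Groth.Agent.L29.DCoh.Amplitude
import Groth.Agent.L29.DCoh.TildeAlg

/-!
Amplitude of direct images of flat complexes along proper flat morphisms.
-/

set_option autoImplicit false
set_option linter.style.haveILetI false
set_option backward.defeqAttrib.useBackward true
set_option backward.isDefEq.respectTransparency false
set_option backward.isDefEq.respectTransparency.types false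

universe u

open CategoryTheory CategoryTheory.Limits AlgebraicGeometry

attribute [local instance] HasDerivedCategory.standard

namespace Groth.Lead.AmpRpush

open Groth.L00 Groth.L29.DC Groth.L29.BC

variable {X S : Scheme.{u}}

theorem flatAmp_res {U : Scheme.{u}} (j : U ⟶ X) [IsOpenImmersion j] {a b : ℤ} {K : DCoh.D X}
    (h : DCoh.HasFlatAmplitudeIn a b K) : DCoh.HasFlatAmplitudeIn a b ((DCoh.restrictD j).obj K) := by
  obtain ⟨C, hv, hf, ⟨e⟩⟩ := h
  let R := Scheme.Modules.restrictFunctor j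
  exact ⟨(R.mapHomologicalComplex (ComplexShape.up ℤ)).obj C, fun i hi => R.map_isZero (hv i hi),
    fun i => Groth.L00.KFlat.isFlat_of_iso ((Scheme.Modules.restrictFunctorIsoPullback j).app _).symm
      (Groth.L00.TorAmp.isFlat_pullback j (hf i)),
    ⟨(R.mapDerivedCategoryFactors.app C).symm ≪≫ (DCoh.restrictD j).mapIso e⟩⟩

set_option maxHeartbeats 1600000 in
theorem flatAmp_Rpush_spec {A : Type u} [CommRing A] (f : X ⟶ Spec (CommRingCat.of A))
    [IsProper f] [Flat f] [LocallyOfFinitePresentation f] [DCoh.HasRpush f] {E : DCoh.D X} {a b B : ℤ}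
    (hE : DCoh.HasFlatAmplitudeIn a b E) (hpc : ∀ m, DCoh.IsPseudoCoherentD m E)
    (hB : ∀ i, B < i → IsZero (DCoh.HD ((DCoh.Rpush f).obj E) i)) :
    DCoh.HasFlatAmplitudeIn a B ((DCoh.Rpush f).obj E) := by
  let R := CommRingCat.of A
  haveI : CompactSpace X := QuasiCompact.compactSpace_of_compactSpace f
  haveI : X.IsSeparated := ⟨by rw [← terminal.comp_from f]; infer_instance⟩
  haveI := Groth.L18.TildeF.tilde_preservesFiniteLimits (R := R)
  have hEq := PCQCoh.isQCohD_of_pc hpc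
  obtain ⟨K₀, ⟨e₀⟩⟩ := (TildeD.isQCohD_iff _).1 (RpushQC.isQCohD_Rpush f E hEq)
  have hK₀ : ∀ m, DRing.IsPseudoCoherent A m K₀ := fun m =>
    TildeAlg.pc_of_tilde (R := CommRingCat.of A) (K := K₀) (isPseudoCoherentD_of_iso e₀.symm (pc_Rpush f hpc m))
  obtain ⟨P, B₀, hPb, hP, ⟨eP⟩⟩ := Groth.L02.PC.pc'_of_forall hK₀
  haveI : P.IsKProjective := Groth.L02.PC.isKProjective_of_vanishesAbove hPb fun i => haveI := (hP i).2; inferInstance
  refine flatAmp_of_iso e₀ (TildeAlg.flatAmp_tilde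
    (Groth.L10.DR.perfect_and_amp_of_exMod eP hPb hP a B (fun i hi m hm => ?_) fun i hi => ?_).2)
  swap
  · exact (Groth.L10.DR.HH_iso_zero eP i).1 ((TildeAlg.isZero_hd_iff K₀ i).1
      ((hB i hi).of_iso ((DerivedCategory.homologyFunctor _ i).mapIso e₀)))
  let φ : R ⟶ CommRingCat.of (A ⧸ m) := CommRingCat.ofHom (Ideal.Quotient.mk m)
  let g := Spec.map φ
  let g' := pullback.fst f g
  let f' := pullback.snd f g
  have hc : IsPullback g' f' f g := IsPullback.of_hasPullback f g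
  haveI := Groth.L18.TildeF.tilde_preservesFiniteLimits (R := CommRingCat.of (A ⧸ m))
  haveI : DRing.HasLBaseChange (Ideal.Quotient.mk m) := LBC.hasLBaseChange φ
  haveI := KFlat.hasLpull g
  haveI := KFlat.hasLpull g'
  haveI := RpushQC.hasRpush g
  haveI := RpushQC.hasRpush g'
  haveI := RpushQC.hasRpush f'
  haveI := Groth.L17.PushQCoh.hasInjectiveResolutions (pullback f g)
  haveI : ((DCoh.Lpull g').obj E).IsGE a := by
    obtain ⟨C, hCv, hCf, ⟨eC⟩⟩ := hE
    obtain ⟨e''⟩ := RelBC.nonempty_Lpull_iso hc (b := b) (fun j hj => hCv j (Or.inr hj))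
      fun j => RelTor.isFlatOver_of_isFlat f (hCf j)
    refine (DerivedCategory.isGE_iff _ _).2 fun j hj => IsZero.of_iso ?_
      ((DerivedCategory.homologyFunctor _ j).mapIso ((DCoh.Lpull g').mapIso eC.symm ≪≫ e'') ≪≫
        (DerivedCategory.homologyFunctorFactors _ j).app _)
    exact ShortComplex.isZero_homology_of_isZero_X₂ _
      ((Scheme.Modules.pullback g').map_isZero (hCv j (Or.inl hj)))
  haveI := RpushQC.isGE_Rpush f' ((DCoh.Lpull g').obj E) a
  haveI := (P_of_flat hc hEq).isIso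
  obtain ⟨eL⟩ := LBC.nonempty_tildeDIso φ
  have hz : IsZero (DCoh.HD ((DCoh.tildeD (CommRingCat.of (A ⧸ m))).obj
      ((DRing.LBaseChange (Ideal.Quotient.mk m)).obj (DRing.toD P))) i) :=
    (DerivedCategory.isZero_of_isGE ((DCoh.Rpush f').obj ((DCoh.Lpull g').obj E)) a i hi).of_iso
      ((DerivedCategory.homologyFunctor _ i).mapIso
        (eL.app (DRing.toD P) ≪≫ (DCoh.Lpull g).mapIso ((DCoh.tildeD R).mapIso eP ≪≫ e₀) ≪≫ asIso (β hc.w E)))
  have := Groth.L10.DR.exMod_of_isZero_bcCx (Ideal.Quotient.mk m) Ideal.Quotient.mk_surjective P i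
    ((Groth.L10.DR.HH_iso_zero (Groth.L02.PC.lbcIso _ P).symm i).1 ((TildeAlg.isZero_hd_iff _ i).1 hz))
  rwa [Ideal.mk_ker] at this

set_option maxHeartbeats 800000 in
theorem flatAmp_Rpush [IsAffine S] (f : X ⟶ S) [IsProper f] [Flat f] [LocallyOfFinitePresentation f]
    [DCoh.HasRpush f] {E : DCoh.D X} {a b B : ℤ} (haB : a ≤ B)
    (hE : DCoh.HasFlatAmplitudeIn a b E) (hpc : ∀ m, DCoh.IsPseudoCoherentD m E)
    (hB : ∀ i, B < i → IsZero (DCoh.HD ((DCoh.Rpush f).obj E) i)) :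
    DCoh.HasFlatAmplitudeIn a B ((DCoh.Rpush f).obj E) := by
  let e := S.isoSpec
  let g := f ≫ e.hom
  haveI := RpushQC.hasRpush g
  obtain ⟨eV⟩ := RpushRes.nonempty_iso f e.inv (𝟙 X) g
    (by rw [Scheme.Hom.opensRange_of_isIso, Scheme.Hom.opensRange_of_isIso]; exact le_top) (by simp [g])
  let k : ((⊤ : S.Opens) : Scheme.{u}) ⟶ Spec Γ(S, ⊤) := (⊤ : S.Opens).ι ≫ e.hom
  have hamp := flatAmp_res k (flatAmp_of_iso (eV.app E).symm (flatAmp_Rpush_spec g (E := (DCoh.restrictD (𝟙 X)).obj E)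
    (flatAmp_res (𝟙 X) hE) (fun n => PCStalk.pc_res (𝟙 X) (hpc n))
    fun i hi => ((Scheme.Modules.restrictFunctor e.inv).map_isZero (hB i hi)).of_iso
      ((DerivedCategory.homologyFunctor _ i).mapIso (eV.app E).symm ≪≫ HDResIso e.inv _ i)))
  exact flatAmp_of_local haB _ fun s => ⟨⊤, trivial,
    flatAmp_of_iso ((resTransD e.inv k (Scheme.Opens.ι ⊤) (by simp [k])).app _) hamp⟩

end Groth.Lead.AmpRpush
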