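import Groth.Agent.Lead.SplitH0Alg
import Groth.Agent.Lead.AmpRpush
import Groth.Agent.L20.DescLocus.AppIsoH0
import Groth.Agent.L10.DRing.Perfect
import Groth.Agent.L29.RelPC.SrcScheme
import Groth.Agent.L29.BC.AdjTensor
import Groth.Agent.L18.LocFreeTilde

/-!
The direct image of the structure sheaf splits off the functions, over an affine base.
-/

set_option autoImplicit false
set_option linter.style.haveILetI false
set_option backward.defeqAttrib.useBackward true
set_option backward.isDefEq.respectTransparency false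
set_option backward.isDefEq.respectTransparency.types false

universe u

open CategoryTheory CategoryTheory.Limits AlgebraicGeometry

noncomputable section

attribute [local instance] HasDerivedCategory.standard

namespace Groth.Lead.SplitH0

open Groth.L00 Groth.L29.DC Groth.L29.BC

theorem hd0 {Z : Scheme.{u}} {B : CommRingCat.{u}} (q : Z ⟶ Spec B) [QuasiCompact q] [QuasiSeparated q]
    [DCoh.HasRpush q] (h : ∀ U, IsIso (q.app U)) :
    Nonempty (DCoh.HD ((DCoh.Rpush q).obj (DCoh.inD Z (Coh.structureModule Z))) 0 ≅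
      (tilde.functor B).obj (ModuleCat.of B B)) := by
  haveI := Groth.L17.PushQCoh.hasInjectiveResolutions Z
  haveI : HasInjectiveResolutions (ModSite.Mod Z.sheaf) := ‹HasInjectiveResolutions Z.Modules›
  haveI : EnoughInjectives Z.Modules := (Groth.L10.ModRDer.insts Z.sheaf).1
  haveI := Groth.L17.PushQCoh.additive_push q
  obtain ⟨N, hN⟩ := RpushQC.exists_bound q
  haveI hq : Coh.IsQCoh (Coh.structureModule Z) := Groth.L19.Conormal.isQCoh_structureModule Z
  obtain ⟨-, -, h3⟩ := Groth.L10.RDerBound.single_H (F := Scheme.Modules.pushforward q)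
    ((DCoh.pushKh q).totalRightDerivedUnit DerivedCategory.Qh
      (HomotopyCategory.quasiIso Z.Modules (ComplexShape.up ℤ)))
    0 (Coh.structureModule Z) N (fun p hp => hN _ hq p (by omega))
  haveI := Groth.L20.DescLocus.isIso_unitToPush q h
  exact ⟨(h3 0).some ≪≫ (Scheme.Modules.pushforward q).rightDerivedZeroIsoSelf.app (Coh.structureModule Z) ≪≫
    (asIso (ClSub.unitToPush q)).symm ≪≫ tildeSelf.symm⟩

theorem hh0 {Z : Scheme.{u}} {B : CommRingCat.{u}} (q : Z ⟶ Spec B) [QuasiCompact q] [QuasiSeparated q]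
    [DCoh.HasRpush q] [PreservesFiniteLimits (tilde.functor B)] (h : ∀ U, IsIso (q.app U)) (K : Dual.D B)
    (e : (DCoh.tildeD B).obj K ≅ (DCoh.Rpush q).obj (DCoh.inD Z (Coh.structureModule Z))) :
    Nonempty ((Groth.L02.PC.HH 0).obj K ≅ ModuleCat.of B B) := by
  obtain ⟨i⟩ := hd0 q h
  let j : (tilde.functor B).obj ((Groth.L02.PC.HH 0).obj K) ≅ (tilde.functor B).obj (ModuleCat.of B B) :=
    (TildeAlg.hdIso K 0).symm ≪≫ (DerivedCategory.homologyFunctor _ 0).mapIso e ≪≫ i
  exact ⟨tilde.toTildeΓNatIso.app _ ≪≫ (moduleSpecΓFunctor (R := B)).mapIso j ≪≫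
    (tilde.toTildeΓNatIso.app (ModuleCat.of B B)).symm⟩

theorem ker_equiv_of_homology {B : Type u} [CommRing B] (P : DRing.Cx B) (hP : IsZero (P.X (-1)))
    (e : P.homology 0 ≅ ModuleCat.of B B) : Nonempty (B ≃ₗ[B] LinearMap.ker (P.d 0 1).hom) := by
  haveI : IsIso (P.homologyπ 0) := P.isIso_homologyπ (-1) 0 (by simp) (hP.eq_of_src _ _)
  exact ⟨(e.symm ≪≫ (asIso (P.homologyπ 0)).symm ≪≫
    IsLimit.conePointUniqueUpToIso (P.cyclesIsKernel 0 1 (by simp)) (kernelIsKernel (P.d 0 1)) ≪≫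
    ModuleCat.kernelIsoKer (P.d 0 1)).toLinearEquiv⟩

theorem ker_bc {A C : Type u} [CommRing A] [CommRing C] (φ : A →+* C) (P : DRing.Cx A)
    (h : C ≃ₗ[C] LinearMap.ker (((Groth.L02.PC.bcCx φ).obj P).d 0 1).hom) :
    letI := φ.toAlgebra
    Nonempty (C ≃ₗ[C] LinearMap.ker ((P.d 0 1).hom.baseChange C)) := ⟨h⟩

variable {Z : Scheme.{u}} {R : CommRingCat.{u}} (f : Z ⟶ Spec R) [IsProper f] [Flat f]
  [LocallyOfFinitePresentation f] [DCoh.HasRpush f]

set_option maxHeartbeats 1600000 in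
theorem univRankOne (hq : ∀ {Z' T : Scheme.{u}} (g' : Z' ⟶ Z) (q' : Z' ⟶ T) (g : T ⟶ Spec R),
      IsPullback g' q' f g → ∀ U, IsIso (q'.app U))
    [PreservesFiniteLimits (tilde.functor R)]
    (P : DRing.Cx R) {b : ℤ} (hPv : DRing.VanishesOutside P 0 b) (hPp : DRing.TermwiseFiniteProjective P)
    (e₀ : (DCoh.tildeD R).obj (DRing.toD P) ≅ (DCoh.Rpush f).obj (DCoh.inD Z (Coh.structureModule Z))) :
    UnivRankOne (P.d 0 1).hom := by
  intro C _ _
  let ψ : (R : Type u) →+* C := algebraMap R C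
  let φ : R ⟶ CommRingCat.of C := CommRingCat.ofHom ψ
  let g := Spec.map φ
  let g' := pullback.fst f g
  let f' := pullback.snd f g
  have hc : IsPullback g' f' f g := IsPullback.of_hasPullback f g
  haveI : CompactSpace Z := QuasiCompact.compactSpace_of_compactSpace f
  haveI : Z.IsSeparated := ⟨by rw [← terminal.comp_from f]; infer_instance⟩
  haveI := Groth.L18.TildeF.tilde_preservesFiniteLimits (R := CommRingCat.of C)
  haveI : DRing.HasLBaseChange ψ := LBC.hasLBaseChange φ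
  haveI := KFlat.hasLpull g
  haveI := KFlat.hasLpull g'
  haveI := RpushQC.hasRpush g
  haveI := RpushQC.hasRpush g'
  haveI := RpushQC.hasRpush f'
  let O := Coh.structureModule Z
  let S₀ := (HomologicalComplex.single Z.Modules (ComplexShape.up ℤ) 0).obj O
  have hz : ∀ i, i ≠ 0 → IsZero (S₀.X i) := fun i hi =>
    HomologicalComplex.isZero_single_obj_X (ComplexShape.up ℤ) 0 O i hi
  obtain ⟨eP⟩ : Nonempty ((DCoh.Lpull g').obj (DCoh.inD Z O) ≅ DCoh.inD (pullback f g) (Coh.structureModule _)) := by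
    haveI := Groth.L29.RelPC.additive_pullback g'
    obtain ⟨e''⟩ := RelBC.nonempty_Lpull_iso hc (E := S₀) (b := 0) (fun i hi => hz i (by omega)) (fun i => by
      by_cases hi : i = 0
      · subst hi
        exact RelBC.isFlatOver_of_iso f (HomologicalComplex.singleObjXSelf (ComplexShape.up ℤ) 0 O).symm
          (RelTor.isFlatOver_of_isFlat f (isFlat_structureModule Z))
      · exact RelBC.isFlatOver_zero f (hz i hi))
    exact ⟨(DCoh.Lpull g').mapIso ((DerivedCategory.singleFunctorIsoCompQ Z.Modules 0).app O) ≪≫ e'' ≪≫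
      DerivedCategory.Q.mapIso ((HomologicalComplex.singleMapHomologicalComplex (Scheme.Modules.pullback g')
        (ComplexShape.up ℤ) 0).app O) ≪≫
      ((DerivedCategory.singleFunctorIsoCompQ _ 0).app _).symm ≪≫
      (DerivedCategory.singleFunctor _ 0).mapIso (Groth.L29.LocFree.pullbackUnitIso g')⟩
  have hEq : DCoh.IsQCohD (DCoh.inD Z O) := Groth.L29.RelPC.isQCohD_unit Z
  haveI := (P_of_flat hc hEq).isIso
  obtain ⟨eL⟩ := LBC.nonempty_tildeDIso φ
  haveI : P.IsKProjective := Groth.L02.PC.isKProjective_of_vanishesAbove (b := b)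
    (fun i hi => hPv i (Or.inr hi)) fun i => (hPp i).2
  obtain ⟨eH⟩ := hh0 (B := CommRingCat.of C) f' (hq g' f' g hc) ((DRing.LBaseChange ψ).obj (DRing.toD P))
    (eL.app (DRing.toD P) ≪≫ (DCoh.Lpull g).mapIso e₀ ≪≫ asIso (β hc.w _) ≪≫ (DCoh.Rpush f').mapIso eP)
  let P' := (Groth.L02.PC.bcCx ψ).obj P
  obtain ⟨eK⟩ := ker_equiv_of_homology P' ((ModuleCat.extendScalars.{u, u, u} ψ).map_isZero (hPv (-1) (Or.inl (by norm_num))))
    (((DerivedCategory.homologyFunctorFactors _ 0).app P').symm ≪≫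
      (Groth.L02.PC.HH 0).mapIso (Groth.L02.PC.lbcIso ψ P).symm ≪≫ eH)
  have halg : ψ.toAlgebra = (inferInstance : Algebra R C) := Algebra.algebra_ext _ _ fun _ => rfl
  have h := ker_bc ψ P eK
  rw [halg] at h
  exact h

theorem inv_lift {A : Type*} [Category A] [Preadditive A] [HasBinaryBiproducts A] {B : Type*} [Category B] [Preadditive B]
    (H : A ⥤ B) [H.Additive] {P X Y : A} (ρ : P ⟶ X) (π : P ⟶ Y) (h : IsIso (H.map ρ) ∧ IsZero (H.obj Y) ∨
      IsIso (H.map π) ∧ IsZero (H.obj X)) : IsIso (H.map (biprod.lift ρ π)) := by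
  have hadd : 𝟙 (H.obj (X ⊞ Y)) = H.map biprod.fst ≫ H.map biprod.inl + H.map biprod.snd ≫ H.map biprod.inr := by
    rw [← H.map_comp, ← H.map_comp, ← H.map_add, biprod.total, H.map_id]
  rcases h with ⟨h1, h2⟩ | ⟨h1, h2⟩
  · haveI := h1
    haveI : IsIso (H.map (biprod.fst : X ⊞ Y ⟶ X)) := ⟨H.map biprod.inl, by
      rw [hadd, h2.eq_of_tgt (H.map biprod.snd) 0]; simp, by rw [← H.map_comp, biprod.inl_fst, H.map_id]⟩
    haveI : IsIso (H.map (biprod.lift ρ π) ≫ H.map (biprod.fst : X ⊞ Y ⟶ X)) := by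
      rw [← H.map_comp, biprod.lift_fst]; exact h1
    exact IsIso.of_isIso_comp_right _ (H.map (biprod.fst : X ⊞ Y ⟶ X))
  · haveI := h1
    haveI : IsIso (H.map (biprod.snd : X ⊞ Y ⟶ Y)) := ⟨H.map biprod.inr, by
      rw [hadd, h2.eq_of_tgt (H.map biprod.fst) 0]; simp, by rw [← H.map_comp, biprod.inr_snd, H.map_id]⟩
    haveI : IsIso (H.map (biprod.lift ρ π) ≫ H.map (biprod.snd : X ⊞ Y ⟶ Y)) := by
      rw [← H.map_comp, biprod.lift_snd]; exact h1
    exact IsIso.of_isIso_comp_right _ (H.map (biprod.snd : X ⊞ Y ⟶ Y))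

theorem qis_split {A : Type u} [CommRing A] (P : DRing.Cx A) {b : ℤ} (hPv : DRing.VanishesOutside P 0 b)
    (hPp : DRing.TermwiseFiniteProjective P) (h : UnivRankOne (P.d 0 1).hom) :
    ∃ C : DRing.Cx A, DRing.VanishesOutside C 1 b ∧ DRing.TermwiseFiniteProjective C ∧
      ∃ φ : P ⟶ (HomologicalComplex.single (ModuleCat.{u} A) (ComplexShape.up ℤ) 0).obj (ModuleCat.of A A) ⊞ C,
        QuasiIso φ := by
  haveI := (hPp 0).1; haveI := (hPp 0).2; haveI := (hPp 1).1; haveI := (hPp 1).2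
  obtain ⟨e, r, hfe, hre, hker, hcok⟩ := splitting (P.d 0 1).hom h
  have hm1 : IsZero (P.X (-1)) := hPv _ (Or.inl (by norm_num))
  let S₀ := (HomologicalComplex.single (ModuleCat.{u} A) (ComplexShape.up ℤ) 0).obj (ModuleCat.of A A)
  let ρ : P ⟶ S₀ := HomologicalComplex.mkHomToSingle (ModuleCat.ofHom r) fun i hi =>
    (hPv i (Or.inl (by simp at hi; omega))).eq_of_src _ _
  haveI : IsIso (P.homologyπ 0) := P.isIso_homologyπ (-1) 0 (by simp) (hm1.eq_of_src _ _)
  haveI : IsIso (S₀.homologyπ 0) := S₀.isIso_homologyπ (-1) 0 (by simp)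
    ((HomologicalComplex.isZero_single_obj_X (ComplexShape.up ℤ) 0 _ (-1) (by norm_num)).eq_of_src _ _)
  haveI : IsIso (S₀.iCycles 0) := S₀.isIso_iCycles 0 1 (by simp)
    ((HomologicalComplex.isZero_single_obj_X (ComplexShape.up ℤ) 0 _ 1 (by norm_num)).eq_of_tgt _ _)
  let t : ModuleCat.of A A ⟶ P.X 0 := ModuleCat.ofHom (LinearMap.toSpanSingleton A (P.X 0) e)
  let σ : ModuleCat.of A A ⟶ P.cycles 0 := P.liftCycles t 1 (by simp) (by
    ext
    simpa [t] using hfe)
  have h1 : σ ≫ P.iCycles 0 = t := P.liftCycles_i _ _ _ _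
  have h2 : ρ.f 0 = ModuleCat.ofHom r ≫ (HomologicalComplex.singleObjXSelf (ComplexShape.up ℤ) 0 (ModuleCat.of A A)).inv :=
    HomologicalComplex.mkHomToSingle_f _ _
  haveI : IsIso (P.iCycles 0 ≫ ModuleCat.ofHom r) := ⟨σ, by
      rw [← cancel_mono (P.iCycles 0), Category.assoc, h1, Category.id_comp]
      ext z
      refine hker _ ?_
      exact LinearMap.congr_fun (congrArg ModuleCat.Hom.hom (P.iCycles_d 0 1)) z, by
      rw [reassoc_of% h1]
      ext
      simpa [t] using hre⟩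
  haveI : IsIso (HomologicalComplex.cyclesMap ρ 0) := by
    haveI : IsIso (HomologicalComplex.cyclesMap ρ 0 ≫ S₀.iCycles 0) := by
      rw [HomologicalComplex.cyclesMap_i, h2, ← Category.assoc]
      infer_instance
    exact IsIso.of_isIso_comp_right _ (S₀.iCycles 0)
  haveI : IsIso (HomologicalComplex.homologyMap ρ 0) := by
    haveI : IsIso (P.homologyπ 0 ≫ HomologicalComplex.homologyMap ρ 0) := by
      rw [HomologicalComplex.homologyπ_naturality]
      infer_instance
    exact IsIso.of_isIso_comp_left (P.homologyπ 0) _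
  refine ⟨P.truncGE 1, Groth.L10.DR.vanishesOutside_truncGE 1 b fun i hi => hPv i (Or.inr hi), fun i => ?_,
    biprod.lift ρ (P.πTruncGE 1), ⟨fun i => ?_⟩⟩
  · rcases lt_trichotomy i 1 with hi | rfl | hi
    · haveI := ModuleCat.subsingleton_of_isZero (CochainComplex.isZero_of_isStrictlyGE (P.truncGE 1) 1 i hi)
      exact ⟨inferInstance, inferInstance⟩
    · obtain ⟨q⟩ := Groth.L10.DR.truncGE_X_iso P 1
      have hc : Module.Projective A (P.X 1 ⧸ LinearMap.range (P.d (1 - 1) 1).hom) := by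
        rw [show (1 : ℤ) - 1 = 0 by norm_num]; exact hcok
      haveI := hc
      exact ⟨Module.Finite.equiv q.toLinearEquiv.symm, Module.Projective.of_equiv q.toLinearEquiv.symm⟩
    · haveI := (hPp i).1; haveI := (hPp i).2
      exact ⟨Module.Finite.equiv (CochainComplex.truncGEXIso P 1 i hi).toLinearEquiv.symm,
        Module.Projective.of_equiv (CochainComplex.truncGEXIso P 1 i hi).toLinearEquiv.symm⟩
  · rw [quasiIsoAt_iff_isIso_homologyMap]
    refine inv_lift (HomologicalComplex.homologyFunctor (ModuleCat.{u} A) (ComplexShape.up ℤ) i) ρ (P.πTruncGE 1) ?_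
    rcases lt_trichotomy i 0 with hi | rfl | hi
    · refine Or.inl ⟨?_, ShortComplex.isZero_homology_of_isZero_X₂ _
        (CochainComplex.isZero_of_isStrictlyGE (P.truncGE 1) 1 i (by omega))⟩
      exact ⟨0, (ShortComplex.isZero_homology_of_isZero_X₂ _ (hPv i (Or.inl hi))).eq_of_src _ _,
        (ShortComplex.isZero_homology_of_isZero_X₂ _
          (HomologicalComplex.isZero_single_obj_X (ComplexShape.up ℤ) 0 _ i (by omega))).eq_of_src _ _⟩
    · exact Or.inl ⟨‹IsIso (HomologicalComplex.homologyMap ρ 0)›, ShortComplex.isZero_homology_of_isZero_X₂ _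
        (CochainComplex.isZero_of_isStrictlyGE (P.truncGE 1) 1 0 (by omega))⟩
    · refine Or.inr ⟨?_, ShortComplex.isZero_homology_of_isZero_X₂ _
        (HomologicalComplex.isZero_single_obj_X (ComplexShape.up ℤ) 0 _ i (by omega))⟩
      haveI := CochainComplex.quasiIsoAt_πTruncGE (K := P) 1 i (by omega)
      exact (quasiIsoAt_iff_isIso_homologyMap (P.πTruncGE 1) i).1 inferInstance

set_option maxHeartbeats 1600000 in
/-- the splitting over an affine base -/
theorem exists_split (hq : ∀ {Z' T : Scheme.{u}} (g' : Z' ⟶ Z) (q' : Z' ⟶ T) (g : T ⟶ Spec R),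
      IsPullback g' q' f g → ∀ U, IsIso (q'.app U))
    [∀ A B : DCoh.D (Spec R), HasBinaryBiproduct A B] :
    ∃ (C : DCoh.D (Spec R)) (b : ℤ), DCoh.IsPerfect C ∧ DCoh.HasFlatAmplitudeIn 1 b C ∧
      Nonempty ((DCoh.Rpush f).obj (DCoh.inD Z (Coh.structureModule Z)) ≅
        DCoh.inD (Spec R) (Coh.structureModule (Spec R)) ⊞ C) := by
  haveI := Groth.L18.TildeF.tilde_preservesFiniteLimits (R := R)
  haveI : CompactSpace Z := QuasiCompact.compactSpace_of_compactSpace f
  haveI := Groth.L17.PushQCoh.hasInjectiveResolutions Z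
  let O := Coh.structureModule Z
  have hEq : DCoh.IsQCohD (DCoh.inD Z O) := Groth.L29.RelPC.isQCohD_unit Z
  have hperf : DCoh.IsPerfect (DCoh.inD Z O) :=
    isPerfect_of_iso ((DerivedCategory.singleFunctorIsoCompQ Z.Modules 0).app O).symm AdjTensor.isPerfect_O0
  have hamp : DCoh.HasFlatAmplitudeIn 0 0 (DCoh.inD Z O) := by
    refine ⟨(HomologicalComplex.single Z.Modules (ComplexShape.up ℤ) 0).obj O, fun i hi =>
      HomologicalComplex.isZero_single_obj_X (ComplexShape.up ℤ) 0 O i (by omega), fun i => ?_,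
      ⟨((DerivedCategory.singleFunctorIsoCompQ Z.Modules 0).app O).symm⟩⟩
    by_cases hi : i = 0
    · subst hi
      exact Groth.L00.KFlat.isFlat_of_iso (HomologicalComplex.singleObjXSelf (ComplexShape.up ℤ) 0 O).symm
        (isFlat_structureModule Z)
    · exact Groth.L00.KFlat.isFlat_zero (HomologicalComplex.isZero_single_obj_X (ComplexShape.up ℤ) 0 O i hi)
  obtain ⟨N, hN⟩ := RpushQC.exists_bound f
  haveI : (DCoh.inD Z O).IsLE 0 := inferInstance
  have hB : ∀ i, (N : ℤ) < i → IsZero (DCoh.HD ((DCoh.Rpush f).obj (DCoh.inD Z O)) i) := fun i hi =>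
    RpushQC.isZero_HD_Rpush f N hN _ hEq inferInstance i (by omega)
  have hpc : ∀ m, DCoh.IsPseudoCoherentD m (DCoh.inD Z O) := pc_of_perfect hperf
  have hamp' := Groth.Lead.AmpRpush.flatAmp_Rpush_spec (A := R) f hamp hpc hB
  have hRp := Groth.L29.BC.isPerfect_Rpush f hperf
  obtain ⟨K₀, ⟨e₀⟩⟩ := (TildeD.isQCohD_iff _).1 (RpushQC.isQCohD_Rpush f _ hEq)
  have hpc₀ : DRing.IsPseudoCoherent' R K₀ := Groth.L02.PC.pc'_of_forall fun m =>
    TildeAlg.pc_of_tilde (isPseudoCoherentD_of_iso e₀.symm (pc_of_perfect hRp m))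
  have hamp₀ : DRing.HasTorAmplitudeIn R 0 N K₀ := TildeAlg.amp_of_tilde (flatAmp_of_iso e₀.symm hamp')
  obtain ⟨P, hPv, hPp, ⟨eP⟩⟩ := Groth.L10.DR.exists_finiteProjective hpc₀ hamp₀
  have hu := univRankOne f hq P hPv hPp ((DCoh.tildeD R).mapIso eP ≪≫ e₀)
  obtain ⟨C, hCv, hCp, φ, hφ⟩ := qis_split P hPv hPp hu
  haveI := hφ
  haveI : IsIso (DerivedCategory.Q.map φ) := (DerivedCategory.isIso_Q_map_iff_quasiIso _ _).2 hφ
  haveI : (DCoh.tildeD R).Additive := inferInstance
  let F : DRing.Cx R ⥤ DCoh.D (Spec R) := DerivedCategory.Q ⋙ DCoh.tildeD R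
  haveI : PreservesBinaryBiproducts F := preservesBinaryBiproducts_of_preservesBiproducts F
  let e1 : (DCoh.Rpush f).obj (DCoh.inD Z O) ≅
      (DCoh.tildeD R).obj (DRing.toD ((HomologicalComplex.single (ModuleCat.{u} R) (ComplexShape.up ℤ) 0).obj
        (ModuleCat.of R R) ⊞ C)) :=
    e₀.symm ≪≫ (DCoh.tildeD R).mapIso (eP.symm ≪≫ asIso (DerivedCategory.Q.map φ))
  let eO : F.obj ((HomologicalComplex.single (ModuleCat.{u} R) (ComplexShape.up ℤ) 0).obj (ModuleCat.of R R)) ≅
      DCoh.inD (Spec R) (Coh.structureModule (Spec R)) :=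
    TildeAlg.qIso _ ≪≫ DerivedCategory.Q.mapIso ((HomologicalComplex.singleMapHomologicalComplex (tilde.functor R)
      (ComplexShape.up ℤ) 0).app (ModuleCat.of R R)) ≪≫
      ((DerivedCategory.singleFunctorIsoCompQ _ 0).app _).symm ≪≫
      (DerivedCategory.singleFunctor _ 0).mapIso tildeSelf
  refine ⟨(DCoh.tildeD R).obj (DRing.toD C), N, TildeAlg.perfect_tilde ⟨C, 1, N, hCv, hCp, ⟨Iso.refl _⟩⟩,
    TildeAlg.flatAmp_tilde ⟨C, hCv, fun i => haveI := (hCp i).2; (inferInstance : Module.Flat R (C.X i)), ⟨Iso.refl _⟩⟩, ⟨?_⟩⟩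
  exact e1 ≪≫ F.mapBiprod _ C ≪≫ biprod.mapIso eO (Iso.refl _)

end Groth.Lead.SplitH0
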