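import Groth.Agent.L00.TorFlat
import Groth.Agent.L00.ConeTransfer
import Groth.Agent.L16.ProjSpace.CoordSect
import Groth.Agent.L16.ProjSpace.TwistMul
import Groth.Agent.L21.Mod.Stalks

/-!
The Koszul complex of sections of a module, tensored with a module, and its exactness.
-/

set_option autoImplicit false
set_option linter.style.haveILetI false
set_option backward.defeqAttrib.useBackward true
set_option backward.isDefEq.respectTransparency false
set_option backward.isDefEq.respectTransparency.types false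

universe u

open CategoryTheory CategoryTheory.Limits AlgebraicGeometry MonoidalCategory

noncomputable section

namespace Groth.Lead.KoszulTwist

open Groth.L00.Tensor

local notation "ρM" => Groth.L00.Tensor.tensorUnitRight

attribute [local instance] HasFiniteBiproducts.of_hasFiniteProducts

variable {X : Scheme.{u}} {L : X.Modules}

theorem tensorUnitRight_natural {M M' : X.Modules} (f : M ⟶ M') :
    tensorMap f (𝟙 (Coh.structureModule X)) ≫ (ρM M').hom = (ρM M).hom ≫ f := by
  refine (Category.assoc _ _ _).symm.trans ((congrArg (· ≫ (counitIso M').hom)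
    (((shf X).map_comp _ _).symm.trans ((congrArg (shf X).map ?_).trans
      ((shf X).map_comp (ρ_ (pre M)).hom ((preF X).map f))))).trans ?_)
  · exact (congrArg (fun k => ((preF X).map f ⊗ₘ k) ≫ (ρ_ (pre M')).hom) ((preF X).map_id _)).trans
      ((congrArg (· ≫ (ρ_ (pre M')).hom) (MonoidalCategory.tensorHom_id _ _)).trans
        (MonoidalCategory.rightUnitor_naturality ((preF X).map f)))
  · refine (Category.assoc _ _ _).trans (Eq.trans ?_ (Category.assoc _ _ _).symm)
    exact congrArg ((shf X).map (ρ_ (pre M)).hom ≫ ·)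
      ((asIso (PresheafOfModules.sheafificationAdjunction (𝟙 X.ringCatSheaf.obj)).counit).hom.naturality f)

theorem rightMod_map (N : X.Modules) {M M' : X.Modules} (f : M ⟶ M') :
    (DCoh.tensorRightMod N).map f = tensorMap f (𝟙 N) :=
  congrArg (shf X).map ((congrArg (fun k => (preF X).map f ⊗ₘ k) ((preF X).map_id N)).trans
    (MonoidalCategory.tensorHom_id _ _)).symm

theorem inv_natural {M M' : X.Modules} (f : M ⟶ M') :
    f ≫ (ρM M').inv = (ρM M).inv ≫ tensorMap f (𝟙 (Coh.structureModule X)) := by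
  rw [Iso.eq_inv_comp, ← Category.assoc, ← tensorUnitRight_natural, Category.assoc, Iso.hom_inv_id,
    Category.comp_id]

/-- multiplication by a section -/
def μ (s : Coh.structureModule X ⟶ L) : 𝟭 X.Modules ⟶ DCoh.tensorRightMod L where
  app M := (ρM M).inv ≫ tensorMap (𝟙 M) s
  naturality M M' f := by
    have h : tensorMap f (𝟙 (Coh.structureModule X)) ≫ tensorMap (𝟙 M') s =
        tensorMap (𝟙 M) s ≫ tensorMap f (𝟙 L) := by
      rw [← tensorMap_comp, ← tensorMap_comp, Category.id_comp, Category.comp_id, Category.id_comp,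
        Category.comp_id]
    refine Eq.trans ?_ (congrArg (((ρM M).inv ≫ tensorMap (𝟙 M) s) ≫ ·) (rightMod_map L f)).symm
    exact ((Category.assoc _ _ _).symm.trans (congrArg (· ≫ tensorMap (𝟙 M') s) (inv_natural f))).trans
      ((Category.assoc _ _ _).trans ((congrArg ((ρM M).inv ≫ ·) h).trans (Category.assoc _ _ _).symm))

theorem isIso_stalk_μ (s : Coh.structureModule X ⟶ L) (x : X) (h : IsIso ((Groth.L00.Stk.F X x).map s))
    (M : X.Modules) : IsIso ((Groth.L00.Stk.F X x).map ((μ s).app M)) := by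
  haveI := h
  have h1 : ((DCoh.tensorBi (X := X)).flip.map s).app M = tensorMap (𝟙 M) s := by
    refine congrArg (shf X).map ?_
    rw [CategoryTheory.Functor.map_id]
    exact (MonoidalCategory.id_tensorHom _ _).symm
  have h2 := Groth.L00.Stk.β_natural₁ x s M
  rw [h1] at h2
  haveI : IsIso ((Groth.L00.Stk.F X x).map (tensorMap (𝟙 M) s)) :=
    IsIso.of_isIso_fac_left h2.symm
  change IsIso ((Groth.L00.Stk.F X x).map ((ρM M).inv ≫ tensorMap (𝟙 M) s))
  rw [Functor.map_comp]
  infer_instance

/-- `M ⊗ L^{⊗ i}` -/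
def Tpow (L M : X.Modules) : ℕ → X.Modules
  | 0 => M
  | i + 1 => (DCoh.tensorRightMod L).obj (Tpow L M i)

/-- the Koszul complex -/
def kos : List (Coh.structureModule X ⟶ L) → X.Modules → CochainComplex X.Modules ℤ
  | [], M => (HomologicalComplex.single X.Modules (ComplexShape.up ℤ) 0).obj M
  | s :: l, M =>
    (CochainComplex.mappingCone ((NatTrans.mapHomologicalComplex (μ s) (ComplexShape.up ℤ)).app (kos l M)))⟦(-1 : ℤ)⟧

/-- terms of the cone -/
def termIso (s : Coh.structureModule X ⟶ L) (l : List (Coh.structureModule X ⟶ L)) (M : X.Modules) (i j : ℤ)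
    (h : j + 1 = i) : (kos (s :: l) M).X i ≅ (kos l M).X i ⊞ (DCoh.tensorRightMod L).obj ((kos l M).X j) :=
  eqToIso (congrArg (CochainComplex.mappingCone ((NatTrans.mapHomologicalComplex (μ s)
      (ComplexShape.up ℤ)).app (kos l M))).X (show i + (-1) = j by omega)) ≪≫
    HomologicalComplex.homotopyCofiber.XIsoBiprod
      ((NatTrans.mapHomologicalComplex (μ s) (ComplexShape.up ℤ)).app (kos l M)) j i (by simpa using h)

theorem isZero_kos (l : List (Coh.structureModule X ⟶ L)) (M : X.Modules) :
    ∀ i : ℤ, i < 0 ∨ (l.length : ℤ) < i → IsZero ((kos l M).X i) := by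
  induction l with
  | nil =>
    intro i hi
    exact HomologicalComplex.isZero_single_obj_X (ComplexShape.up ℤ) 0 M i (by simp at hi; omega)
  | cons s l ih =>
    intro i hi
    refine IsZero.of_iso ?_ (termIso s l M i (i - 1) (by omega))
    simp only [List.length_cons, Nat.cast_add, Nat.cast_one] at hi
    exact (biprod_isZero_iff _ _).2 ⟨ih i (by omega), Functor.map_isZero _ (ih (i - 1) (by omega))⟩

/-- biproducts over `Fin (a + b)` -/
def finAddIso {C : Type*} [Category C] [Preadditive C] [HasFiniteBiproducts C] [HasBinaryBiproducts C]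
    (N : C) (a b : ℕ) :
    (⨁ fun _ : Fin a => N) ⊞ (⨁ fun _ : Fin b => N) ≅ ⨁ fun _ : Fin (a + b) => N where
  hom := biprod.desc (biproduct.desc fun i => biproduct.ι (fun _ : Fin (a + b) => N) (Fin.castAdd b i))
    (biproduct.desc fun i => biproduct.ι (fun _ : Fin (a + b) => N) (Fin.natAdd a i))
  inv := biproduct.desc fun k => Fin.addCases (fun i => biproduct.ι (fun _ : Fin a => N) i ≫ biprod.inl)
    (fun i => biproduct.ι (fun _ : Fin b => N) i ≫ biprod.inr) k
  hom_inv_id := by
    apply biprod.hom_ext' <;> apply biproduct.hom_ext' <;> intro i <;> simp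
  inv_hom_id := by
    apply biproduct.hom_ext'
    intro k
    induction k using Fin.addCases with
    | left i => simp
    | right i => simp

set_option maxHeartbeats 1000000 in
theorem nonempty_term_iso (l : List (Coh.structureModule X ⟶ L)) (M : X.Modules) :
    ∀ i : ℕ, Nonempty ((kos l M).X (i : ℤ) ≅ ⨁ fun _ : Fin (l.length.choose i) => Tpow L M i) := by
  induction l with
  | nil =>
    rintro (_ | i)
    · exact ⟨HomologicalComplex.singleObjXSelf (ComplexShape.up ℤ) 0 M ≪≫
        (biproductUniqueIso (fun _ : Fin 1 => M)).symm⟩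
    · refine ⟨(HomologicalComplex.isZero_single_obj_X (ComplexShape.up ℤ) 0 M _ (by omega)).iso ?_⟩
      rw [IsZero.iff_id_eq_zero]
      exact biproduct.hom_ext' _ _ fun k => (Fin.elim0 k)
  | cons s l ih =>
    rintro (_ | i)
    · obtain ⟨e⟩ := ih 0
      have hz : IsZero ((DCoh.tensorRightMod L).obj ((kos l M).X (-1))) :=
        Functor.map_isZero _ (isZero_kos l M (-1) (Or.inl (by norm_num)))
      refine ⟨termIso s l M _ (-1) (by norm_num) ≪≫ (isoBiprodZero hz).symm ≪≫ e ≪≫ eqToIso ?_⟩
      rw [Nat.choose_zero_right, Nat.choose_zero_right]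
    · obtain ⟨e⟩ := ih (i + 1)
      obtain ⟨e'⟩ := ih i
      refine ⟨termIso s l M _ (i : ℤ) (by push_cast; ring) ≪≫
        biprod.mapIso e ((DCoh.tensorRightMod L).mapIso e' ≪≫ (DCoh.tensorRightMod L).mapBiproduct _) ≪≫
        finAddIso (Tpow L M (i + 1)) _ _ ≪≫ eqToIso ?_⟩
      rw [List.length_cons, Nat.choose_succ_succ, Nat.add_comm (Nat.choose _ i)]

open Groth.L00.Stk in
set_option maxHeartbeats 1000000 in
theorem stalk_acyclic (l : List (Coh.structureModule X ⟶ L)) (M : X.Modules) (x : X) :
    (∃ s ∈ l, IsIso ((F X x).map s)) → ∀ i, IsZero (((S X x).obj (kos l M)).homology i) := by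
  haveI := Groth.L00.Stk.preservesFiniteLimits (X := X) x
  haveI := Groth.L00.Stk.preservesFiniteColimits (X := X) x
  induction l with
  | nil => rintro ⟨s, hs, -⟩; simp at hs
  | cons s l ih =>
    rintro ⟨t, ht, hti⟩ i
    let φ := (NatTrans.mapHomologicalComplex (μ s) (ComplexShape.up ℤ)).app (kos l M)
    have hiso : ∀ (r : Coh.structureModule X ⟶ L), IsIso ((F X x).map r) →
        IsIso ((S X x).map ((NatTrans.mapHomologicalComplex (μ r) (ComplexShape.up ℤ)).app (kos l M))) := by
      intro r hr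
      haveI : ∀ n, IsIso (((S X x).map ((NatTrans.mapHomologicalComplex (μ r) (ComplexShape.up ℤ)).app
          (kos l M))).f n) := fun n => isIso_stalk_μ r x hr _
      exact HomologicalComplex.Hom.isIso_of_components _
    haveI : QuasiIso ((S X x).map φ) := by
      rcases List.mem_cons.1 ht with rfl | ht'
      · haveI := hiso _ hti
        infer_instance
      · have h1 := ih ⟨t, ht', hti⟩
        haveI := hiso t hti
        refine ⟨fun n => ?_⟩
        rw [quasiIsoAt_iff_isIso_homologyMap]
        refine ⟨0, (h1 n).eq_of_src _ _, IsZero.eq_of_src ?_ _ _⟩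
        exact (h1 n).of_iso ((HomologicalComplex.homologyFunctor _ _ n).mapIso
          (asIso ((S X x).map ((NatTrans.mapHomologicalComplex (μ t) (ComplexShape.up ℤ)).app (kos l M))))).symm
    have hc : IsZero ((CochainComplex.mappingCone ((S X x).map φ)).homology (-1 + i)) :=
      Groth.L00.ConeTransfer.acyclic_cone _ _
    have hc' : IsZero (((S X x).obj (CochainComplex.mappingCone φ)).homology (-1 + i)) :=
      hc.of_iso ((HomologicalComplex.homologyFunctor _ _ _).mapIso
        (CochainComplex.mappingCone.mapHomologicalComplexIso φ (F X x)))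
    exact hc'.of_iso ((HomologicalComplex.homologyFunctor _ _ i).mapIso
        (((S X x).commShiftIso (-1 : ℤ)).app (CochainComplex.mappingCone φ)) ≪≫
      ((HomologicalComplex.homologyFunctor (ModuleCat.{u} (X.presheaf.stalk x)) (ComplexShape.up ℤ) 0).shiftIso
        (-1) i (-1 + i) rfl).app _)

theorem exact_kos (l : List (Coh.structureModule X ⟶ L)) (M : X.Modules)
    (h : ∀ x : X, ∃ s ∈ l, IsIso ((Groth.L00.Stk.F X x).map s)) (i : ℤ) : (kos l M).ExactAt i := by
  rw [HomologicalComplex.exactAt_iff_isZero_homology, Groth.L00.Stk.acyclic_iff]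
  exact fun x => stalk_acyclic l M x (h x) i

/-- a frame gives a stalk isomorphism -/
theorem isIso_stalk_of_frame (e : Γ(L, ⊤)) (W : X.Opens)
    (he : Groth.L18.Frame.IsFrame L W (Groth.L18.Frame.rs L le_top e)) (x : X) (hx : x ∈ W) :
    IsIso ((Groth.L00.Stk.F X x).map (Groth.L16.homOfSection L e)) := by
  rw [ConcreteCategory.isIso_iff_bijective]
  let φ := Groth.L16.homOfSection L e
  have hb : ∀ V : X.Opens, V ≤ W → Function.Bijective (φ.app V) := fun V hV => by
    have := he V hV
    simp only [Groth.L18.Frame.rs_rs] at this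
    exact this
  change Function.Bijective ((Groth.L21.Mod.stalkF X x).map φ)
  constructor
  · intro a b hab
    obtain ⟨U, hxU, a', rfl⟩ := (Coh.structureModule X).presheaf.germ_exist a
    obtain ⟨U', hxU', b', rfl⟩ := (Coh.structureModule X).presheaf.germ_exist b
    rw [Groth.L21.Mod.stalkF_map_germ, Groth.L21.Mod.stalkF_map_germ] at hab
    obtain ⟨V, hxV, i₁, i₂, heq⟩ := L.presheaf.germ_eq x hxU hxU' _ _ hab
    let V' := V ⊓ W
    have hxV' : x ∈ V' := ⟨hxV, hx⟩
    rw [← (Coh.structureModule X).presheaf.germ_res_apply (homOfLE (inf_le_left.trans i₁.le : V' ≤ U)) x hxV',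
      ← (Coh.structureModule X).presheaf.germ_res_apply (homOfLE (inf_le_left.trans i₂.le : V' ≤ U')) x hxV']
    refine congrArg _ ((hb V' inf_le_right).1 ?_)
    have n1 := ConcreteCategory.congr_hom (φ.mapPresheaf.naturality (homOfLE (inf_le_left.trans i₁.le : V' ≤ U)).op) a'
    have n2 := ConcreteCategory.congr_hom (φ.mapPresheaf.naturality (homOfLE (inf_le_left.trans i₂.le : V' ≤ U')).op) b'
    refine n1.trans (Eq.trans ?_ n2.symm)
    have h3 := congrArg (Groth.L18.Frame.rs L (inf_le_left : V' ≤ V)) heq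
    change Groth.L18.Frame.rs L _ (Groth.L18.Frame.rs L i₁.le _) =
      Groth.L18.Frame.rs L _ (Groth.L18.Frame.rs L i₂.le _) at h3
    rw [Groth.L18.Frame.rs_rs, Groth.L18.Frame.rs_rs] at h3
    exact h3
  · intro t
    obtain ⟨U, hxU, t', rfl⟩ := L.presheaf.germ_exist t
    have hxV : x ∈ U ⊓ W := ⟨hxU, hx⟩
    obtain ⟨c, hc⟩ := (hb (U ⊓ W) inf_le_right).2 (L.presheaf.map (homOfLE (inf_le_left : U ⊓ W ≤ U)).op t')
    refine ⟨(Coh.structureModule X).presheaf.germ (U ⊓ W) x hxV c, ?_⟩
    rw [Groth.L21.Mod.stalkF_map_germ, hc, L.presheaf.germ_res_apply]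

open Groth.L16.ProjSpace

theorem tpow_twist (n : ℕ) (A : Type u) [CommRing A] (a : ℤ) : ∀ i : ℕ,
    Nonempty (Tpow (Twist.twistProjSpace n A 1) (Twist.twistProjSpace n A a) i ≅ Twist.twistProjSpace n A (a + i))
  | 0 => ⟨eqToIso (by simp [Tpow])⟩
  | i + 1 => by
    obtain ⟨e⟩ := tpow_twist n A a i
    obtain ⟨e'⟩ := Groth.L16.ProjTwist.nonempty_tensor_twist_iso_one (CohB1.polyGrading n A) (fun x => by
      obtain ⟨k, hk⟩ := exists_mem_basicOpen_X n A x
      exact ⟨Xd n A k, hk⟩) (a + i) 1
    exact ⟨(DCoh.tensorRightMod (Twist.twistProjSpace n A 1)).mapIso e ≪≫ e' ≪≫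
      eqToIso (by rw [show a + ((i + 1 : ℕ) : ℤ) = a + i + 1 by push_cast; ring]; rfl)⟩

/-- the coordinate sections -/
def coords (n : ℕ) (A : Type u) [CommRing A] :
    List (Coh.structureModule (CohB1.ProjSpace n A) ⟶ Twist.twistProjSpace n A 1) :=
  List.ofFn fun i : Fin (n + 1) => Groth.L16.homOfSection (Twist.twistProjSpace n A 1) (xsec n A i)

theorem coords_iso (n : ℕ) (A : Type u) [CommRing A] (x : CohB1.ProjSpace n A) :
    ∃ s ∈ coords n A, IsIso ((Groth.L00.Stk.F (CohB1.ProjSpace n A) x).map s) := by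
  obtain ⟨k, hk⟩ := exists_mem_basicOpen_X n A x
  exact ⟨_, List.mem_ofFn.2 ⟨k, rfl⟩, isIso_stalk_of_frame _ _ (isFrame_xsec n A k) x hk⟩

end Groth.Lead.KoszulTwist
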