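import Groth.Agent.Lead.FlatBC
import Groth.Agent.L17.Kun.AffinePush
import Groth.Agent.L00.TensorMod
import Groth.Agent.L02.FibFlat.Pointwise
import Groth.Agent.L17.FlatBase.CxIso

/-!
Base change for `Rf_*(E ⊗^L G)` over affine bases, for separated sources.
-/

set_option autoImplicit false
set_option linter.style.haveILetI false
set_option backward.defeqAttrib.useBackward true
set_option backward.isDefEq.respectTransparency false
set_option backward.isDefEq.respectTransparency.types false

universe u

open CategoryTheory CategoryTheory.Limits CategoryTheory.Pretriangulated AlgebraicGeometry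

attribute [local instance] HasDerivedCategory.standard

namespace Groth.Lead.FlatBC

open Groth.L00 Groth.L29.DC Groth.L29.BC

local notation "up" => ComplexShape.up ℤ

/-- `j_*O ⊗ G ≅ j_*j^*G` for an affine morphism -/
noncomputable def pushTensorIso {V X : Scheme.{u}} (j : V ⟶ X) [IsAffineHom j] (G : X.Modules) (hG : Coh.IsQCoh G) :
    (DCoh.tensorRightMod G).obj ((Scheme.Modules.pushforward j).obj (Coh.structureModule V)) ≅
      (Scheme.Modules.pushforward j).obj ((Scheme.Modules.pullback j).obj G) :=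
  haveI := hG
  haveI := Groth.L19.Conormal.isQCoh_structureModule V
  let hc : IsPullback (𝟙 V) j j (𝟙 X) := IsPullback.of_horiz_isIso ⟨by simp⟩
  haveI := Groth.L17.Kun.isIso_θc j (𝟙 X) (𝟙 V) j hc G (Coh.structureModule V)
  Groth.L00.Tensor.tensorComm _ _ ≪≫
    Groth.L00.Tensor.tensorIso (Iso.refl G) ((Scheme.Modules.pullbackId X).app _).symm ≪≫
    asIso (Groth.L17.FlatPair.θc j (𝟙 X) (𝟙 V) j hc.w G (Coh.structureModule V)) ≪≫
    (Scheme.Modules.pushforward j).mapIso
      (Groth.L00.Tensor.tensorIso (Iso.refl _) ((Scheme.Modules.pullbackId V).app _) ≪≫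
        Groth.L00.Tensor.tensorUnitRight _)

variable {X X' S S' : Scheme.{u}} {f : X ⟶ S} {g : S' ⟶ S} {g' : X' ⟶ X} {f' : X' ⟶ S'}
  [DCoh.HasRpush f] [DCoh.HasRpush g] [DCoh.HasRpush f'] [DCoh.HasRpush g'] [DCoh.HasLpull g] [DCoh.HasLpull g']
  {G : X.Modules} [DCoh.HasLTensorMod G] [DCoh.HasLTensorMod (G' g' G)]

theorem isIso_bc₀_of_iso (w : g' ≫ f = f' ≫ g) {M N : X.Modules} (e : M ≅ N) (h : IsIso (bc₀ w M)) :
    IsIso (bc₀ w N) := by
  let l := (Scheme.Modules.pullback g).map ((Scheme.Modules.pushforward f).map e.hom)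
  let r := (Scheme.Modules.pushforward f').map ((Scheme.Modules.pullback g').map e.hom)
  have key : l ≫ bc₀ w N = bc₀ w M ≫ r := by
    apply ((Scheme.Modules.pullbackPushforwardAdjunction g).homEquiv _ _).injective
    rw [Adjunction.homEquiv_naturality_left, Adjunction.homEquiv_naturality_right]
    simp only [bc₀, Equiv.apply_symm_apply]
    exact Groth.L17.CxIso.vMap_naturality f g g' f' w e.hom
  haveI := h
  haveI : IsIso (l ≫ bc₀ w N) := by rw [key]; infer_instance
  exact IsIso.of_isIso_comp_left l _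

theorem isIso_Φ_generator (hc : IsPullback g' f' f g) (hG : Coh.IsQCoh G) (hfl : FlatMod.IsFlatOver f G)
    [IsAffine S] [X.IsSeparated] {V : X.Opens} (hV : IsAffineOpen V) (k : ℤ) :
    IsIso ((Φ hc.w G).app ((Gen.push V).obj
      (((DerivedCategory.singleFunctor (V : Scheme.{u}).Modules 0).obj (Coh.structureModule (V : Scheme.{u})))⟦k⟧))) := by
  haveI : IsAffine (V : Scheme.{u}) := hV
  haveI := RpushQC.hasRpush V.ι
  haveI : IsAffineHom V.ι := isAffineHom_ι hV
  haveI : IsAffineHom (V.ι ≫ f) := inferInstance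
  let O := Coh.structureModule (V : Scheme.{u})
  have hO : Coh.IsQCoh O := Groth.L19.Conormal.isQCoh_structureModule _
  let P := ((Scheme.Modules.pushforward V.ι).mapHomologicalComplex up).obj
    ((HomologicalComplex.single (V : Scheme.{u}).Modules up (-k)).obj O)
  have hP : DCoh.IsKFlat P := isKFlat_push_single V.ι hO (isFlat_structureModule _) (-k)
  -- the tensor product is a direct image
  let N := (Scheme.Modules.pullback V.ι).obj G
  haveI := hG
  have hN : Coh.IsQCoh N := Groth.L16.AffineBC.isQCoh_pullback V.ι G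
  let C := (HomologicalComplex.single (V : Scheme.{u}).Modules up (-k)).obj N
  have hC : ∀ i, Coh.IsQCoh (C.X i) := fun i => by
    by_cases hi : i = -k
    · subst hi
      exact isQCoh_of_iso' (HomologicalComplex.singleObjXSelf up (-k) N).symm hN
    · exact isQCoh_of_isZero (HomologicalComplex.isZero_single_obj_X up (-k) N i hi)
  let eP : ((DCoh.tensorRightMod G).mapHomologicalComplex up).obj P ≅
      ((Scheme.Modules.pushforward V.ι).mapHomologicalComplex up).obj C :=
    ((DCoh.tensorRightMod G).mapHomologicalComplex up).mapIso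
        ((HomologicalComplex.singleMapHomologicalComplex (Scheme.Modules.pushforward V.ι) up (-k)).app O) ≪≫
      (HomologicalComplex.singleMapHomologicalComplex (DCoh.tensorRightMod G) up (-k)).app _ ≪≫
      (HomologicalComplex.single X.Modules up (-k)).mapIso (pushTensorIso V.ι G hG) ≪≫
      ((HomologicalComplex.singleMapHomologicalComplex (Scheme.Modules.pushforward V.ι) up (-k)).app N).symm
  let q := HomotopyCategory.quotient X.Modules up
  let eT : ((DCoh.tensorRightMod G).mapHomotopyCategory up).obj (q.obj P) ≅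
      (RpushComp.push V.ι).obj ((HomotopyCategory.quotient (V : Scheme.{u}).Modules up).obj C) :=
    q.mapIso eP
  let V' : X'.Opens := g' ⁻¹ᵁ V
  have hp : IsPullback (g' ∣_ V) V'.ι V.ι g' := isPullback_morphismRestrict g' V
  have hVS := hp.paste_vert hc
  haveI : IsAffineHom V'.ι := MorphismProperty.of_isPullback hp inferInstance
  haveI : IsAffineHom (V'.ι ≫ f') := MorphismProperty.of_isPullback hVS inferInstance
  let CV := (HomotopyCategory.quotient (V : Scheme.{u}).Modules up).obj C
  let T := ((DCoh.tensorRightMod G).mapHomotopyCategory up).obj (q.obj P)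
  have h₁ : IsIso ((ηR f).app T) :=
    (NatTrans.isIso_app_iff_of_iso (ηR f) eT).2 (isIso_ηR_push V.ι f C hC)
  have h₃ : IsIso ((αL g).app ((RpushComp.push f).obj T)) := by
    have hflV : FlatMod.IsFlatOver ((V.ι ≫ f) ≫ 𝟙 S) N := by
      rw [Category.comp_id]
      exact fun x => (Groth.L02.FibFlat.isFlatOverAt_comp_iff V.ι f G x).2 (hfl _)
    have hflat : FlatMod.IsFlat ((Scheme.Modules.pushforward (V.ι ≫ f)).obj N) :=
      (isFlat_iff_isFlatOver_id _).1 ((Groth.Agent.S9349.result (V.ι ≫ f) (𝟙 S) N hN).1 hflV)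
    have hK : DCoh.IsKFlat (((Scheme.Modules.pushforward f).mapHomologicalComplex up).obj
        (((Scheme.Modules.pushforward V.ι).mapHomologicalComplex up).obj C)) :=
      KFlat.of_iso ((HomologicalComplex.singleMapHomologicalComplex (Scheme.Modules.pushforward (V.ι ≫ f)) up (-k)).app N ≪≫
        (HomologicalComplex.single S.Modules up (-k)).mapIso ((Scheme.Modules.pushforwardComp V.ι f).app N).symm ≪≫
        ((HomologicalComplex.singleMapHomologicalComplex (Scheme.Modules.pushforward f) up (-k)).app _).symm ≪≫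
        ((Scheme.Modules.pushforward f).mapHomologicalComplex up).mapIso
          ((HomologicalComplex.singleMapHomologicalComplex (Scheme.Modules.pushforward V.ι) up (-k)).app N).symm)
        (KFlat.of_iso ((HomologicalComplex.singleMapHomologicalComplex (Scheme.Modules.pushforward (V.ι ≫ f)) up (-k)).app N).symm
          (KFlat.single _ hflat (-k)))
    exact (NatTrans.isIso_app_iff_of_iso (αL g) ((RpushComp.push f).mapIso eT)).2 (isIso_αL g _ hK)
  have h₄ : IsIso ((ηR f').app (((Scheme.Modules.pullback g').mapHomotopyCategory up).obj T)) := by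
    let t := bCx hp.w C
    haveI : ∀ i, IsIso (t.f i) := fun i => by
      haveI := hC i
      rw [bCx_f]
      exact Groth.L17.DegZero.isIso_of_isAffineHom V.ι g' (g' ∣_ V) V'.ι (C.X i) hp
    haveI : IsIso t := HomologicalComplex.Hom.isIso_of_components t
    have h := isIso_ηR_push V'.ι f' (((Scheme.Modules.pullback (g' ∣_ V)).mapHomologicalComplex up).obj C) fun i =>
      haveI := hC i; Groth.L16.AffineBC.isQCoh_pullback (g' ∣_ V) (C.X i)
    exact (NatTrans.isIso_app_iff_of_iso (ηR f') (((Scheme.Modules.pullback g').mapHomotopyCategory up).mapIso eT ≪≫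
      (HomotopyCategory.quotient X'.Modules up).mapIso (asIso t))).2 h
  have h₅ : IsIso (DerivedCategory.Qh.map (bK hc.w T)) := by
    have hT : T = q.obj (((DCoh.tensorRightMod G).mapHomologicalComplex up).obj P) := rfl
    haveI : ∀ i, IsIso ((bCx hc.w (((DCoh.tensorRightMod G).mapHomologicalComplex up).obj P)).f i) := fun i => by
      haveI := hC i
      rw [bCx_f]
      exact isIso_bc₀_of_iso hc.w ((HomologicalComplex.eval X.Modules up i).mapIso eP).symm (isIso_bc₀_push hc hp (C.X i))
    haveI : IsIso (bCx hc.w (((DCoh.tensorRightMod G).mapHomologicalComplex up).obj P)) :=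
      HomologicalComplex.Hom.isIso_of_components _
    rw [hT, bK_quotient]
    infer_instance
  have h := isIso_Φ_of_rep hc.w G P hP T rfl h₁ h₃ h₄ h₅
  haveI := isIso_ηR_affine V.ι ((HomologicalComplex.single (V : Scheme.{u}).Modules up (-k)).obj O)
    fun i => (single_props hO (isFlat_structureModule _) (-k) i).1
  refine (NatTrans.isIso_app_iff_of_iso (Φ hc.w G) ?_).1 h
  exact asIso ((ηR V.ι).app ((HomotopyCategory.quotient (V : Scheme.{u}).Modules up).obj
      ((HomologicalComplex.single (V : Scheme.{u}).Modules up (-k)).obj O))) ≪≫ (Gen.push V).mapIso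
    ((DerivedCategory.quotientCompQhIso _).app _ ≪≫
      (((SingleFunctors.evaluation _ _ (-k)).mapIso
        (DerivedCategory.singleFunctorsPostcompQIso (V : Scheme.{u}).Modules)).app O).symm ≪≫
      (((DerivedCategory.singleFunctors (V : Scheme.{u}).Modules).shiftIso k (-k) 0 (by omega)).app O).symm)

/-- the class contains the direct images from affine opens -/
theorem PΦ_push (hc : IsPullback g' f' f g) (hG : Coh.IsQCoh G) (hfl : FlatMod.IsFlatOver f G) [IsAffine S]
    [QuasiCompact f] [QuasiSeparated f] [QuasiCompact f'] [QuasiSeparated f'] [X.IsSeparated] {V : X.Opens}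
    (hV : IsAffineOpen V) {K : DCoh.D (V : Scheme.{u})} (hK : DCoh.IsQCohD K) : PΦ hc.w G ((Gen.push V).obj K) := by
  haveI : IsAffine (V : Scheme.{u}) := hV
  haveI := RpushQC.hasRpush V.ι
  haveI : IsAffineHom V.ι := isAffineHom_ι hV
  obtain ⟨U, hU, hgen, ⟨eU⟩⟩ := exists_unit_generator (V : Scheme.{u})
  haveI := Gen.locallySmall_D (V : Scheme.{u})
  haveI : HasCoproducts.{u} (DCoh.D (V : Scheme.{u})) := Gen.hasCoproducts_D _
  haveI : HasColimitsOfShape (Discrete ℕ) (DCoh.D (V : Scheme.{u})) :=
    hasColimitsOfShape_of_equivalence (Discrete.equivalence (Equiv.ulift.{u} : ULift.{u} ℕ ≃ ℕ))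
  haveI : ∀ (Y : DCoh.D (V : Scheme.{u})) (n : ℤ), Small.{u} (U⟦n⟧ ⟶ Y) := fun Y n => inferInstance
  have hUq := PCQCoh.isQCohD_of_perfect hU
  letI := Gen.commShiftRpush V.ι
  haveI := Gen.isTriangulated_Rpush V.ι
  refine localizing_top (fun K => PΦ hc.w G ((Gen.push V).obj K)) (DCoh.IsQCohD (X := (V : Scheme.{u})))
    (fun e h => h.of_iso hc.w G ((Gen.push V).mapIso e)) (fun n k => ?_) (fun {ι} C hC h => ?_)
    (fun T hT _ _ h₁ h₂ => PΦ.third hc.w G _ ((Gen.push V).map_distinguished T hT) h₁ h₂)
    (fun n => Gen.isQCohD_shift hUq n) (fun {ι} C hC => QCohColim.isQCohD_coproduct C hC) (fun C hC => ?_)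
    (fun T hT h₁ h₂ => Gen.isQCohD_third T hT h₁ h₂) (fun n => Gen.cpt_of_perfect (perfect_shift hU n))
    hgen hK
  · exact (NatTrans.isIso_app_iff_of_iso (Φ hc.w G) ((Gen.push V).mapIso ((shiftFunctor _ (n + k)).mapIso eU.symm ≪≫
      (shiftFunctorAdd _ n k).app U) ≪≫ ((Gen.push V).commShiftIso k).app (U⟦n⟧))).1
        (isIso_Φ_generator hc hG hfl hV (n + k))
  · haveI := Gen.hasCoproducts_D X ι
    haveI := QCohColim.isIso_sigma_desc V.ι C hC
    exact (PΦ.coproduct hc.w G hG (fun i => (Gen.push V).obj (C i)) (fun i => RpushQC.isQCohD_Rpush V.ι _ (hC i)) h).of_iso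
      hc.w G (asIso (Sigma.desc fun i => (Gen.push V).map (Sigma.ι C i)))
  · refine isQCohD_of_iso ?_ (QCohColim.isQCohD_coproduct (fun n : ULift.{u} ℕ => C n.down) fun n => hC n.down)
    exact Sigma.whiskerEquiv (f := fun n : ULift.{u} ℕ => C n.down) (g := C) Equiv.ulift.{u} fun n => Iso.refl _

/-- base change with a module, from direct images of affine opens -/
theorem PΦ_of_push (hc : IsPullback g' f' f g) [IsAffine S] [QuasiCompact f] [QuasiSeparated f] [QuasiCompact f']
    [QuasiSeparated f']
    (hp : ∀ V : X.Opens, IsAffineOpen V → ∀ K : DCoh.D (V : Scheme.{u}), DCoh.IsQCohD K →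
      PΦ hc.w G ((Gen.push V).obj K)) {E : DCoh.D X} (hE : DCoh.IsQCohD E) : PΦ hc.w G E := by
  haveI : CompactSpace X := QuasiCompact.compactSpace_of_compactSpace f
  haveI : QuasiSeparatedSpace X := quasiSeparatedSpace_of_quasiSeparated f
  have main : ∀ (l : List X.affineOpens) (Ω : X.Opens), (∀ x : X, x ∈ Ω ∨ ∃ V ∈ l, x ∈ V.1) →
      ∀ E : DCoh.D X, DCoh.IsQCohD E → Gen.ZOn E Ω → PΦ hc.w G E := by
    intro l
    induction l with
    | nil =>
      intro Ω hΩ E _ hz n
      have h0 : IsZero E := Gen.isZero_of_cover fun x => ⟨Ω, (hΩ x).resolve_right (by simp), (Gen.isZero_res_iff Ω E).2 hz⟩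
      have h1 := (shiftFunctor (DCoh.D X) n).map_isZero h0
      haveI := RpushColim.additive_Rpush f
      haveI := RpushColim.additive_Rpush f'
      haveI := RpushColim.additive_Rpush g
      haveI := RpushColim.additive_Rpush g'
      haveI : (DCoh.Lpull g).Additive := (adj g).left_adjoint_additive
      haveI : (DCoh.Lpull g').Additive := (adj g').left_adjoint_additive
      haveI := LTMod.additive G
      haveI := LTMod.additive (G' g' G)
      exact isIso_of_source_target_iso_zero _
        ((DCoh.LTensorMod G ⋙ DCoh.Rpush f ⋙ DCoh.Lpull g).map_isZero h1).isoZero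
        ((DCoh.Lpull g' ⋙ DCoh.LTensorMod (G' g' G) ⋙ DCoh.Rpush f').map_isZero h1).isoZero
    | cons V l ih =>
      intro Ω hΩ E hE hz
      haveI : IsAffine (V.1 : Scheme.{u}) := V.2
      haveI := RpushQC.hasRpush V.1.ι
      obtain ⟨C, a, d, hT⟩ := distinguished_cocone_triangle ((Gen.adj V.1).unit.app E)
      have hq : DCoh.IsQCohD ((Gen.push V.1).obj ((Gen.res V.1).obj E)) :=
        Gen.isQCohD_push V.2.isCompact (isQCohD_restrictD _ hE)
      have hC₁ : Gen.ZOn C V.1 := by
        rw [← Gen.isZero_res_iff]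
        haveI := Gen.isIso_res_unit V.1 E
        exact (Triangle.isZero₃_iff_isIso₁ _ ((Gen.res V.1).map_distinguished _ hT)).2
          (show IsIso ((Gen.res V.1).map ((Gen.adj V.1).unit.app E)) from inferInstance)
      have hC₂ : Gen.ZOn C Ω := Gen.zOn_third hT Ω hz (Gen.zOn_push _ Ω (by
        rw [Gen.zOn_restrictD]
        exact hz.mono (Set.image_preimage_subset _ _)))
      have hC : PΦ hc.w G C := by
        refine ih (Ω ⊔ V.1) (fun x => ?_) C (Gen.isQCohD_third _ hT hE hq) ?_
        · rcases hΩ x with h | ⟨W, hW, hx⟩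
          · exact Or.inl (Or.inl h)
          · rcases List.mem_cons.1 hW with rfl | hW
            · exact Or.inl (Or.inr hx)
            · exact Or.inr ⟨W, hW, hx⟩
        · rw [TopologicalSpace.Opens.coe_sup]
          exact hC₂.union hC₁
      have h := PΦ.third hc.w G _ (rot_of_distTriang _ hT) (hp V.1 V.2 _ (isQCohD_restrictD _ hE)) hC
      exact (h.shift hc.w G (-1)).of_iso hc.w G ((shiftFunctorCompIsoId (DCoh.D X) (1 : ℤ) (-1) (by omega)).app E)
  obtain ⟨t, ht⟩ := (isCompact_univ (X := X)).elim_finite_subcover (fun V : X.affineOpens => (V.1 : Set X))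
    (fun V => V.1.2) fun x _ => by
      obtain ⟨_, ⟨V, hV, rfl⟩, hxV, -⟩ := X.isBasis_affineOpens.exists_subset_of_mem_open (Set.mem_univ x) isOpen_univ
      exact Set.mem_iUnion.2 ⟨⟨V, hV⟩, hxV⟩
  refine main t.toList ⊥ (fun x => Or.inr ?_) E hE fun i x hx => absurd hx (by simp)
  obtain ⟨V, hV, hx⟩ := Set.mem_iUnion₂.1 (ht (Set.mem_univ x))
  exact ⟨V, Finset.mem_toList.2 hV, hx⟩

/-- base change with a flat module over an affine base, separated source -/
theorem isIso_Φ_separated (hc : IsPullback g' f' f g) (hG : Coh.IsQCoh G) (hfl : FlatMod.IsFlatOver f G) [IsAffine S]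
    [QuasiCompact f] [QuasiSeparated f] [QuasiCompact f'] [QuasiSeparated f'] [X.IsSeparated] {E : DCoh.D X}
    (hE : DCoh.IsQCohD E) : IsIso ((Φ hc.w G).app E) :=
  (PΦ_of_push hc (fun V hV K hK => PΦ_push hc hG hfl hV hK) hE).isIso

end Groth.Lead.FlatBC
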