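import Groth.Agent.Lead.FlatBCLocal
import Groth.Agent.Lead.FlatBCBase
import Groth.Agent.L29.BC.ProjQC
import Groth.Agent.L29.DCoh.RelBC
import Groth.Agent.S1054

/-!
Base change for `Rf_*(E ⊗^L G)` with `G` flat over the base, in general.
-/

set_option autoImplicit false
set_option linter.style.haveILetI false
set_option backward.defeqAttrib.useBackward true
set_option backward.isDefEq.respectTransparency false
set_option backward.isDefEq.respectTransparency.types false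

universe u

open CategoryTheory CategoryTheory.Limits AlgebraicGeometry

attribute [local instance] HasDerivedCategory.standard

namespace Groth.Lead.FlatBC

open Groth.L00 Groth.L29.DC Groth.L29.BC

variable {X V : Scheme.{u}} (j : V ⟶ X) [IsOpenImmersion j] [DCoh.HasRpush j] [DCoh.HasLpull j]

theorem isIso_counit_adj : IsIso (adj j).counit := by
  haveI := Gen.isIso_counit j
  rw [← Adjunction.leftAdjointUniq_hom_counit (adj j) (Cpt.restrictRpushAdj j)]
  infer_instance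

theorem isIso_unit_of_iso {M : DCoh.D X} {N : DCoh.D V} (e : M ≅ (DCoh.Rpush j).obj N) :
    IsIso ((adj j).unit.app M) := by
  haveI := isIso_counit_adj j
  haveI : IsIso ((adj j).unit.app ((DCoh.Rpush j).obj N)) := by
    have h := (adj j).right_triangle_components N
    haveI : IsIso ((adj j).unit.app ((DCoh.Rpush j).obj N) ≫ (DCoh.Rpush j).map ((adj j).counit.app N)) := by
      rw [h]; exact IsIso.id _
    exact IsIso.of_isIso_comp_right _ ((DCoh.Rpush j).map ((adj j).counit.app N))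
  exact (NatTrans.isIso_app_iff_of_iso (adj j).unit e).2 inferInstance

/-- tensoring a direct image from an open with a module is a direct image -/
theorem exists_iso_push [QuasiCompact j] {G : X.Modules} (hG : Coh.IsQCoh G) [DCoh.HasLTensorMod G]
    {K : DCoh.D V} (hK : DCoh.IsQCohD K) {A : DCoh.D X} (eA : A ≅ (DCoh.Rpush j).obj K) :
    ∃ N, Nonempty ((DCoh.LTensorMod G).obj A ≅ (DCoh.Rpush j).obj N) := by
  haveI := KFlat.hasLTensorCx (LTMod.S0 G)
  obtain ⟨M, ⟨eM⟩⟩ : ∃ M : CochainComplex V.Modules ℤ,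
      Nonempty (DCoh.toD V M ≅ (DCoh.Lpull j).obj (DCoh.toD X (LTMod.S0 G))) :=
    ⟨_, ⟨DerivedCategory.Q.objObjPreimageIso _⟩⟩
  haveI := KFlat.hasLTensorCx M
  obtain ⟨e⟩ := ProjQC.nonempty_projection j K hK (LTMod.S0 G)
    (isQCohD_of_iso ((DerivedCategory.singleFunctorIsoCompQ X.Modules 0).app G) (LTMod.isQCohD_inD_of hG)) M ⟨eM⟩
  exact ⟨_, ⟨(LTMod.iso G).app A ≪≫ (DCoh.LTensorCx (LTMod.S0 G)).mapIso eA ≪≫ e⟩⟩

end Groth.Lead.FlatBC

namespace Groth.Lead.FlatBC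

open Groth.L00 Groth.L29.DC Groth.L29.BC

variable {X X' S S' : Scheme.{u}} {f : X ⟶ S} {g : S' ⟶ S} {g' : X' ⟶ X} {f' : X' ⟶ S'}

/-- base change with a flat module over an affine base -/
theorem isIso_Φ_affine [DCoh.HasRpush f] [DCoh.HasRpush g] [DCoh.HasRpush f'] [DCoh.HasRpush g'] [DCoh.HasLpull g]
    [DCoh.HasLpull g'] {G : X.Modules} [DCoh.HasLTensorMod G] [DCoh.HasLTensorMod (G' g' G)]
    (hc : IsPullback g' f' f g) (hG : Coh.IsQCoh G) (hfl : FlatMod.IsFlatOver f G) [IsAffine S]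
    [QuasiCompact f] [QuasiSeparated f] [QuasiCompact f'] [QuasiSeparated f'] {E : DCoh.D X} (hE : DCoh.IsQCohD E) :
    IsIso ((Φ hc.w G).app E) := by
  haveI := quasiSeparatedSpace_of_quasiSeparated f
  refine (PΦ_of_push hc (fun V hV K hK n => ?_) hE).isIso
  haveI : IsAffine (V : Scheme.{u}) := hV
  haveI : QuasiCompact V.ι := QuasiCompact.of_comp V.ι f
  haveI := fun {A B : Scheme.{u}} (h : A ⟶ B) => RpushQC.hasRpush h
  haveI := fun {A B : Scheme.{u}} (h : A ⟶ B) => KFlat.hasLpull h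
  haveI := fun {A : Scheme.{u}} (M : A.Modules) => DerivedApi.hasLTensorMod M
  have hp : IsPullback (g' ∣_ V) (g' ⁻¹ᵁ V).ι V.ι g' := isPullback_morphismRestrict g' V
  have hVS := hp.paste_vert hc
  haveI : QuasiCompact (g' ⁻¹ᵁ V).ι := MorphismProperty.of_isPullback hp inferInstance
  haveI : QuasiCompact ((g' ⁻¹ᵁ V).ι ≫ f') := MorphismProperty.of_isPullback hVS inferInstance
  haveI : QuasiSeparated ((g' ⁻¹ᵁ V).ι ≫ f') := MorphismProperty.of_isPullback hVS inferInstance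
  letI := Gen.commShiftRpush V.ι
  let Kn := K⟦n⟧
  have hKn : DCoh.IsQCohD Kn := Gen.isQCohD_shift hK n
  let eE : ((Gen.push V).obj K)⟦n⟧ ≅ (DCoh.Rpush V.ι).obj Kn := (((Gen.push V).commShiftIso n).app K).symm
  refine isIso_Φ_push hc.w hp.w hVS.w G _ ?_ ?_ ?_
  · obtain ⟨N, ⟨e⟩⟩ := exists_iso_push V.ι hG hKn eE
    exact isIso_unit_of_iso V.ι e
  · haveI : IsIso (β hp.w Kn) := BC_flat_source hp Kn hKn
    haveI := hG
    obtain ⟨N, ⟨e⟩⟩ := exists_iso_push (g' ⁻¹ᵁ V).ι (G := G' g' G) (Groth.L16.AffineBC.isQCoh_pullback g' G)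
      (Groth.Agent.S1054.result (g' ∣_ V) Kn hKn) ((DCoh.Lpull g').mapIso eE ≪≫ asIso (β hp.w Kn))
    exact isIso_unit_of_iso (g' ⁻¹ᵁ V).ι e
  · haveI := hG
    refine isIso_Φ_separated hVS (Groth.L16.AffineBC.isQCoh_pullback V.ι G)
      (fun x => (Groth.L02.FibFlat.isFlatOverAt_comp_iff V.ι f G x).2 (hfl _)) ?_
    exact Groth.Agent.S1054.result V.ι _ (Gen.isQCohD_shift (RpushQC.isQCohD_Rpush V.ι K hK) n)

/-- base change with a flat module -/
theorem isIso_Φ [DCoh.HasRpush f] [DCoh.HasRpush g] [DCoh.HasRpush f'] [DCoh.HasRpush g'] [DCoh.HasLpull g]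
    [DCoh.HasLpull g'] {G : X.Modules} [DCoh.HasLTensorMod G] [DCoh.HasLTensorMod (G' g' G)]
    (hc : IsPullback g' f' f g) (hG : Coh.IsQCoh G) (hfl : FlatMod.IsFlatOver f G)
    [QuasiCompact f] [QuasiSeparated f] {E : DCoh.D X} (hE : DCoh.IsQCohD E) :
    IsIso ((Φ hc.w G).app E) := by
  refine isIso_of_Lpull_cover _ fun s => ?_
  obtain ⟨_, ⟨(W : S.Opens), hW, rfl⟩, hsW, -⟩ := S.isBasis_affineOpens.exists_subset_of_mem_open (Set.mem_univ (g s)) isOpen_univ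
  obtain ⟨_, ⟨(W' : S'.Opens), hW', rfl⟩, hsW', hle⟩ :=
    S'.isBasis_affineOpens.exists_subset_of_mem_open (show s ∈ g ⁻¹ᵁ W from hsW) (g ⁻¹ᵁ W).2
  haveI : IsAffine (W : Scheme.{u}) := hW
  have hk : IsPullback (f' ⁻¹ᵁ W').ι (f' ∣_ W') f' W'.ι := (isPullback_morphismRestrict f' W').flip
  have hi : IsPullback (f ⁻¹ᵁ W).ι (f ∣_ W) f W.ι := (isPullback_morphismRestrict f W).flip
  have h' : f' ⁻¹ᵁ W' ≤ g' ⁻¹ᵁ (f ⁻¹ᵁ W) := fun x hx => by
    show f (g' x) ∈ W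
    rw [← Scheme.Hom.comp_apply, hc.w, Scheme.Hom.comp_apply]
    exact hle hx
  let g₀ := g.resLE W W' hle
  let g₀' := g'.resLE (f ⁻¹ᵁ W) (f' ⁻¹ᵁ W') h'
  have eg : g₀ ≫ W.ι = W'.ι ≫ g := Scheme.Hom.resLE_comp_ι _ _
  have eg' : g₀' ≫ (f ⁻¹ᵁ W).ι = (f' ⁻¹ᵁ W').ι ≫ g' := Scheme.Hom.resLE_comp_ι _ _
  have htot : IsPullback (g₀' ≫ (f ⁻¹ᵁ W).ι) (f' ∣_ W') f (g₀ ≫ W.ι) := by
    rw [eg, eg']
    exact hk.paste_horiz hc
  have hc₀ : IsPullback g₀' (f' ∣_ W') (f ∣_ W) g₀ := IsPullback.of_right htot (by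
    rw [← cancel_mono W.ι]
    simp only [Category.assoc, morphismRestrict_ι, eg]
    rw [reassoc_of% eg', hc.w, morphismRestrict_ι_assoc]) hi
  haveI : QuasiCompact (f ∣_ W) := IsZariskiLocalAtTarget.restrict ‹QuasiCompact f› W
  haveI : QuasiSeparated (f ∣_ W) := IsZariskiLocalAtTarget.restrict ‹QuasiSeparated f› W
  haveI : QuasiCompact (f' ∣_ W') := MorphismProperty.of_isPullback hc₀ inferInstance
  haveI : QuasiSeparated (f' ∣_ W') := MorphismProperty.of_isPullback hc₀ inferInstance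
  haveI := fun {A B : Scheme.{u}} (h : A ⟶ B) => RpushQC.hasRpush h
  haveI := fun {A B : Scheme.{u}} (h : A ⟶ B) => KFlat.hasLpull h
  haveI := fun {A : Scheme.{u}} (M : A.Modules) => DerivedApi.hasLTensorMod M
  refine ⟨W', inferInstance, hsW', isIso_Lpull_Φ hc hi hk hc₀.w eg eg' G E ?_⟩
  haveI := hG
  exact isIso_Φ_affine hc₀ (Groth.L16.AffineBC.isQCoh_pullback (f ⁻¹ᵁ W).ι G)
    (Groth.L29.DC.RelBC.isFlatOver_pullback hi hfl) (Groth.Agent.S1054.result _ E hE)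

end Groth.Lead.FlatBC
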