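import Groth.Agent.Lead.PerfFibre
import Groth.Agent.Lead.PerfProj
import Groth.Agent.L10.DRing.FibrePerfect
import Groth.Agent.L10.Shriek.BC
import Groth.Agent.L29.Dual.TorInj

/-!
A summand of a pseudo-coherent object that can be absorbed is zero.
-/

set_option autoImplicit false
set_option linter.style.haveILetI false
set_option backward.defeqAttrib.useBackward true
set_option backward.isDefEq.respectTransparency false
set_option backward.isDefEq.respectTransparency.types false

universe u v w

open CategoryTheory CategoryTheory.Limits CategoryTheory.Pretriangulated AlgebraicGeometry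

attribute [local instance] HasDerivedCategory.standard
attribute [local instance] HasFiniteBiproducts.of_hasFiniteProducts

noncomputable section

namespace Groth.Lead.Cancel

open Groth.L29.DC Groth.L02.PC

/-- cancellation in finitely generated modules over a field -/
theorem isZero_of_absorb {D : Type v} [Category.{w} D] [Preadditive D] [HasBinaryBiproducts D]
    {k : Type u} [Field k] (G : D ⥤ ModuleCat.{u} k) [G.Additive] {P C : D} (e : P ≅ P ⊞ C)
    [Module.Finite k (G.obj P)] : IsZero (G.obj C) := by
  have hzero : ∀ {A B : D}, G.map (0 : A ⟶ B) = 0 := fun {A B} => G.map_zero A B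
  let l : G.obj P ≅ ModuleCat.of k (G.obj P × G.obj C) := G.mapIso e ≪≫ LinearEquiv.toModuleIso
    (LinearEquiv.ofLinear
      (LinearMap.prod (G.map biprod.fst).hom (G.map biprod.snd).hom)
      (LinearMap.coprod (G.map biprod.inl).hom (G.map biprod.inr).hom)
      (by
        refine LinearMap.prod_ext ?_ ?_ <;> refine LinearMap.ext fun v => Prod.ext ?_ ?_ <;>
          simp [← CategoryTheory.comp_apply, ← G.map_comp, hzero])
      (by
        refine LinearMap.ext fun v => ?_
        change (G.map biprod.fst ≫ G.map biprod.inl + G.map biprod.snd ≫ G.map biprod.inr).hom v = v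
        rw [← G.map_comp, ← G.map_comp, ← G.map_add, biprod.total, G.map_id]
        rfl))
  haveI : Module.Finite k (G.obj P × G.obj C) := Module.Finite.equiv l.toLinearEquiv
  haveI : Module.Finite k (G.obj C) :=
    Module.Finite.of_surjective (LinearMap.snd k (G.obj P) (G.obj C)) LinearMap.snd_surjective
  have h := l.toLinearEquiv.finrank_eq
  rw [Module.finrank_prod] at h
  haveI : Subsingleton (G.obj C) := (Module.finrank_zero_iff (R := k)).1 (by omega)
  exact ModuleCat.isZero_of_subsingleton _

variable {X : Scheme.{u}}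

/-- an absorbed summand of a pseudo-coherent object is zero -/
theorem isZero_of_absorb_pc {P C : DCoh.D X} (e : P ≅ P ⊞ C) (hP : ∀ m, DCoh.IsPseudoCoherentD m P)
    (hC : ∀ m, DCoh.IsPseudoCoherentD m C) : IsZero C := by
  refine Groth.Lead.PerfProj.isZero_D_of_HD fun i => (Groth.L00.Stk.isZero_iff _).2 fun x => ?_
  let F := Groth.L00.Stk.F X x
  haveI : PreservesFiniteLimits F := Groth.L00.Stk.preservesFiniteLimits (X := X) x
  haveI : PreservesFiniteColimits F := Groth.L00.Stk.preservesFiniteColimits (X := X) x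
  let S := F.mapDerivedCategory
  have hpc : ∀ {E : DCoh.D X}, (∀ m, DCoh.IsPseudoCoherentD m E) →
      DRing.IsPseudoCoherent' (X.presheaf.stalk x) (S.obj E) := fun {E} hE => by
    let G := DerivedCategory.Q.objPreimage E
    let eG := DerivedCategory.Q.objObjPreimageIso E
    have h := Groth.Lead.PerfFibre.pc_stk' G (fun m => isPseudoCoherentD_of_iso eG.symm (hE m)) x
    obtain ⟨Q, B, hQb, hQ, ⟨q⟩⟩ := h
    exact ⟨Q, B, hQb, hQ, ⟨q ≪≫ (F.mapDerivedCategoryFactors.app G).symm ≪≫ S.mapIso eG⟩⟩
  haveI := fun m : Ideal (X.presheaf.stalk x) => Groth.L10.KFlatLBC.hasLBaseChange (Ideal.Quotient.mk m)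
  have hamp := (Groth.L10.DR.perfect_and_amp_of_maximal (S.obj C) (hpc hC) 1 0 (fun m hm j _ => ?_)).2
  · obtain ⟨Q, hQ, -, ⟨q⟩⟩ := hamp
    have hz : IsZero (S.obj C) := by
      refine IsZero.of_iso ?_ q.symm
      refine DerivedCategory.Q.map_isZero ?_
      rw [IsZero.iff_id_eq_zero]
      refine HomologicalComplex.hom_ext _ _ fun j => IsZero.eq_of_src (hQ j ?_) _ _
      omega
    let G := DerivedCategory.Q.objPreimage C
    let eG := DerivedCategory.Q.objObjPreimageIso C
    exact IsZero.of_iso ((DerivedCategory.homologyFunctor _ i).map_isZero hz)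
      (F.mapIso ((DerivedCategory.homologyFunctor X.Modules i).mapIso eG.symm ≪≫
        (DerivedCategory.homologyFunctorFactors X.Modules i).app G) ≪≫ ((G.sc i).mapHomologyIso F).symm ≪≫
        ((DerivedCategory.homologyFunctorFactors _ i).app ((F.mapHomologicalComplex (ComplexShape.up ℤ)).obj G)).symm ≪≫
        (DerivedCategory.homologyFunctor _ i).mapIso ((F.mapDerivedCategoryFactors.app G).symm ≪≫ S.mapIso eG))
  · obtain ⟨ad⟩ := Groth.L10.Shriek.exists_adjLBC (Ideal.Quotient.mk m)
    haveI : (DRing.LBaseChange (Ideal.Quotient.mk m)).Additive := ad.left_adjoint_additive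
    haveI := hm
    let fld : Field ((X.presheaf.stalk x : Type u) ⧸ m) := Ideal.Quotient.field m
    let G := S ⋙ DRing.LBaseChange (Ideal.Quotient.mk m) ⋙ HH j
    obtain ⟨Q, B, hQb, hQ, ⟨q⟩⟩ := hpc hP
    haveI : Q.IsKProjective := Groth.L02.PC.isKProjective_of_vanishesAbove hQb fun i => haveI := (hQ i).2; inferInstance
    haveI : Module.Finite ((X.presheaf.stalk x : Type u) ⧸ m) (G.obj P) := by
      haveI : Module.Finite ((X.presheaf.stalk x : Type u) ⧸ m) (((bcCx (Ideal.Quotient.mk m)).obj Q).X j) :=
        haveI := (hQ j).1; haveI := (hQ j).2; (Groth.L02.PC.finite_free_extendScalars _ (Q.X j)).1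
      haveI := Groth.L29.TorInj.finite_homology ((bcCx (Ideal.Quotient.mk m)).obj Q) j
      haveI : Module.Finite ((X.presheaf.stalk x : Type u) ⧸ m) ((HomologicalComplex.homologyFunctor
          (ModuleCat.{u} ((X.presheaf.stalk x : Type u) ⧸ m)) (ComplexShape.up ℤ) j).obj ((bcCx (Ideal.Quotient.mk m)).obj Q)) := this
      exact Module.Finite.equiv ((((DerivedCategory.homologyFunctorFactors _ j).app _).symm ≪≫
        (HH j).mapIso ((lbcIso _ Q).symm ≪≫ (DRing.LBaseChange (Ideal.Quotient.mk m)).mapIso q)).toLinearEquiv)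
    exact ModuleCat.subsingleton_of_isZero (isZero_of_absorb (k := ((X.presheaf.stalk x : Type u) ⧸ m)) G e)

/-- a split monomorphism between isomorphic pseudo-coherent objects is an isomorphism -/
theorem isIso_of_splitMono {P P' : DCoh.D X} (hP : ∀ m, DCoh.IsPseudoCoherentD m P) (s : P ⟶ P') (r : P' ⟶ P)
    (hsr : s ≫ r = 𝟙 P) (e : P ≅ P') : IsIso s := by
  obtain ⟨C, p, d, hT⟩ := distinguished_cocone_triangle s
  have hd : d = 0 := by
    have h31 : d ≫ s⟦(1 : ℤ)⟧' = 0 := comp_distTriang_mor_zero₃₁ _ hT
    have := congrArg (· ≫ r⟦(1 : ℤ)⟧') h31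
    simp only [Category.assoc, ← Functor.map_comp, hsr, CategoryTheory.Functor.map_id, Category.comp_id,
      zero_comp] at this
    exact this
  obtain ⟨e', -⟩ := Pretriangulated.exists_iso_binaryBiproduct_of_distTriang _ hT hd
  have hP' : ∀ m, DCoh.IsPseudoCoherentD m P' := fun m => isPseudoCoherentD_of_iso e (hP m)
  have hC : ∀ m, DCoh.IsPseudoCoherentD m C := fun m =>
    (Groth.L29.DC.pc_of_biprod P C (isPseudoCoherentD_of_iso e' (hP' m))).2
  exact (Triangle.isZero₃_iff_isIso₁ _ hT).1 (isZero_of_absorb_pc (e ≪≫ e') hP hC)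

end Groth.Lead.Cancel
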