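import Groth.Agent.Lead.ProjTwT
import Groth.Agent.Lead.Cancel
import Groth.Agent.L29.K.Tr
import Groth.Prelude.Def_SGA6

/-!
`K₀` of perfect complexes on projective space over a base.
-/

set_option autoImplicit false
set_option linter.style.haveILetI false
set_option backward.defeqAttrib.useBackward true
set_option backward.isDefEq.respectTransparency false
set_option backward.isDefEq.respectTransparency.types false

universe u

open CategoryTheory CategoryTheory.Limits CategoryTheory.Pretriangulated AlgebraicGeometry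

attribute [local instance] HasDerivedCategory.standard

noncomputable section

namespace Groth.Lead.KProjPerf

open Groth.L00 Groth.L29.DC Groth.L29.DC.Gen Groth.L29.BC Groth.L22.Reg Groth.Lead.TwistEquiv Groth.Lead.ProjTwT

theorem perf_zero (X : Scheme.{u}) : ∀ Z : DCoh.D X, IsZero Z → SGA6.perfP X Z :=
  fun _ h => EvalMain.isPerfect_of_isZero h

theorem mapTr_cl {X Y : Scheme.{u}} (F : DCoh.D X ⥤ DCoh.D Y) [F.CommShift ℤ] [F.IsTriangulated]
    (h : ∀ K, SGA6.perfP X K → SGA6.perfP Y (F.obj K)) {K : DCoh.D X} (hK : SGA6.perfP X K) :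
    SGA6.mapTr F (SGA6.perfP X) (SGA6.perfP Y) h (KZero.clTr (SGA6.perfP X) K) = KZero.clTr (SGA6.perfP Y) (F.obj K) := by
  rw [KZero.clTr, dif_pos hK, KZero.clTr, dif_pos (h K hK)]
  rfl

theorem Kperf_induction {X : Scheme.{u}} {motive : SGA6.Kperf X → Prop}
    (hcl : ∀ K, DCoh.IsPerfect K → motive (KZero.clTr (SGA6.perfP X) K)) (h0 : motive 0)
    (hadd : ∀ a b, motive a → motive b → motive (a + b)) (hneg : ∀ a, motive a → motive (-a)) (y : SGA6.Kperf X) :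
    motive y := by
  induction y using QuotientAddGroup.induction_on with
  | H z =>
    induction z using FreeAbelianGroup.induction_on with
    | zero => exact h0
    | of K =>
      have := hcl K.1 K.2
      rw [KZero.clTr, dif_pos K.2] at this
      exact this
    | neg K ih => exact hneg _ ih
    | add a b ha hb => exact hadd _ _ ha hb

variable (n : ℕ) (S : Scheme.{u}) [DCoh.HasRpush (KRR.pr n S)]

/-- the twist by `O(d)` -/
abbrev TO (d : ℤ) : DCoh.D (KRR.PY n S) ⥤ DCoh.D (KRR.PY n S) :=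
  T (Twist.twistOver n S d) (ProjTwT.hfl n S d)

theorem nonempty_TO_comp (a b : ℤ) {c : ℤ} (h : a + b = c) (E : DCoh.D (KRR.PY n S)) :
    Nonempty ((TO n S b).obj ((TO n S a).obj E) ≅ (TO n S c).obj E) := by
  obtain ⟨e⟩ := nonempty_OT_add (n := n) (T := S) h
  exact nonempty_T_comp _ _ _ e E

theorem nonempty_TO_zero (E : DCoh.D (KRR.PY n S)) : Nonempty ((TO n S 0).obj E ≅ E) := by
  obtain ⟨e⟩ := nonempty_OT_zero (n := n) (T := S)
  exact nonempty_T_unit _ e E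

instance isEquivalence_TO (d : ℤ) : (TO n S d).IsEquivalence := by
  obtain ⟨e₀⟩ := nonempty_OT_zero (n := n) (T := S)
  obtain ⟨e⟩ := nonempty_OT_add (n := n) (T := S) (add_neg_cancel d)
  obtain ⟨e'⟩ := nonempty_OT_add (n := n) (T := S) (neg_add_cancel d)
  exact TwistEquiv.isEquivalence _ (ProjTwT.hfl n S (-d)) (e ≪≫ e₀) (e' ≪≫ e₀)

/-- direct images of twisted pullbacks -/
theorem push_TO_pull [DCoh.HasLpull (KRR.pr n S)] (d : ℤ) (hd : -(n : ℤ) ≤ d) (hd0 : d ≤ 0)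
    {P : DCoh.D S} (hP : DCoh.IsPerfect P) :
    (d < 0 → IsZero ((DCoh.Rpush (KRR.pr n S)).obj ((TO n S d).obj ((DCoh.Lpull (KRR.pr n S)).obj P)))) ∧
    (d = 0 → Nonempty ((DCoh.Rpush (KRR.pr n S)).obj ((TO n S d).obj ((DCoh.Lpull (KRR.pr n S)).obj P)) ≅ P)) := by
  haveI : IsProper (KRR.pr n S) := Groth.L16.ProjSpace.isProper_toBase n S
  obtain ⟨K, r, hK, -, hr, -⟩ := KFlat.exists_resolution (DerivedCategory.Q.objPreimage P)
  haveI := (DerivedCategory.isIso_Q_map_iff_quasiIso _ r).2 hr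
  let eK : DCoh.toD S K ≅ P := asIso (DerivedCategory.Q.map r) ≪≫ DerivedCategory.Q.objObjPreimageIso P
  haveI := KFlat.hasLTensorCx K
  have hKq : DCoh.IsQCohD (DCoh.toD S K) := isQCohD_of_iso eK.symm (PCQCoh.isQCohD_of_perfect hP)
  obtain ⟨v⟩ := nonempty_push_twist (KRR.pr n S) (ProjTwT.hfl n S d) K hKq
  let e : (DCoh.LTensorCx K).obj ((DCoh.Rpush (KRR.pr n S)).obj (DCoh.inD _ (Twist.twistOver n S d))) ≅
      (DCoh.Rpush (KRR.pr n S)).obj ((TO n S d).obj ((DCoh.Lpull (KRR.pr n S)).obj P)) :=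
    v ≪≫ (DCoh.Rpush _).mapIso ((TO n S d).mapIso ((DCoh.Lpull _).mapIso eK))
  obtain ⟨h1, h2⟩ := push_twistOver n S d hd hd0
  refine ⟨fun h => IsZero.of_iso ?_ e.symm, fun h => ?_⟩
  · haveI := RHom.hasRSheafHom K
    haveI : (DCoh.LTensorCx K).IsLeftAdjoint := ⟨_, ⟨DCoh.RSheafHomAdj K⟩⟩
    haveI := preservesBinaryBiproducts_of_preservesBinaryCoproducts (DCoh.LTensorCx K)
    haveI : (DCoh.LTensorCx K).Additive := Functor.additive_of_preservesBinaryBiproducts _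
    exact (DCoh.LTensorCx K).map_isZero (h1 h)
  · obtain ⟨a⟩ := h2 h
    obtain ⟨b⟩ := Groth.Lead.RelPCTest.nonempty_LTensorCx_unit K hK
    exact ⟨e.symm ≪≫ (DCoh.LTensorCx K).mapIso a ≪≫ b ≪≫ eK⟩

/-- twist and push -/
abbrev NS (j : ℤ) : DCoh.D (KRR.PY n S) ⥤ DCoh.D S := TO n S (-j) ⋙ DCoh.Rpush (KRR.pr n S)

instance : (DCoh.Rpush (KRR.pr n S)).CommShift ℤ := Gen.commShiftRpush _

instance : (DCoh.Rpush (KRR.pr n S)).IsTriangulated := Gen.isTriangulated_Rpush _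

/-- direct images of twisted pullbacks, second form -/
theorem NS_TO_pull [DCoh.HasLpull (KRR.pr n S)] (i j : ℕ) (hij : i ≤ j) (hj : j ≤ n) {P : DCoh.D S}
    (hP : DCoh.IsPerfect P) :
    (i < j → IsZero ((NS n S j).obj ((TO n S i).obj ((DCoh.Lpull (KRR.pr n S)).obj P)))) ∧
    (i = j → Nonempty ((NS n S j).obj ((TO n S i).obj ((DCoh.Lpull (KRR.pr n S)).obj P)) ≅ P)) := by
  obtain ⟨c⟩ := nonempty_TO_comp n S (i : ℤ) (-(j : ℤ)) (rfl : (i : ℤ) + -(j : ℤ) = _) ((DCoh.Lpull (KRR.pr n S)).obj P)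
  obtain ⟨h1, h2⟩ := push_TO_pull n S ((i : ℤ) + -(j : ℤ)) (by omega) (by omega) hP
  exact ⟨fun h => (h1 (by omega)).of_iso ((DCoh.Rpush _).mapIso c),
    fun h => (h2 (by omega)).elim fun a => ⟨(DCoh.Rpush _).mapIso c ≪≫ a⟩⟩

theorem isPerfect_NS (j : ℤ) {K : DCoh.D (KRR.PY n S)} (hK : DCoh.IsPerfect K) : DCoh.IsPerfect ((NS n S j).obj K) := by
  haveI : IsProper (KRR.pr n S) := Groth.L16.ProjSpace.isProper_toBase n S
  haveI : Flat (KRR.pr n S) := Groth.L16.ProjSpace.flat_toBase n S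
  haveI : LocallyOfFinitePresentation (KRR.pr n S) :=
    MorphismProperty.pullback_snd (P := @LocallyOfFinitePresentation) _ _
      (inferInstanceAs (LocallyOfFinitePresentation (CohB1.ProjSpace.toSpec n (ULift.{u} ℤ))))
  exact Groth.L29.BC.isPerfect_Rpush _ (isPerfect_T _ hK)

set_option maxHeartbeats 1600000 in
/-- one step of the decomposition -/
theorem exists_step [DCoh.HasLpull (KRR.pr n S)]
    (e : ℕ) (he : e ≤ n) {K : DCoh.D (KRR.PY n S)} (hK : DCoh.IsPerfect K)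
    (h0 : ∀ j : ℕ, j ≤ n → e < j → IsZero ((NS n S j).obj K)) :
    ∃ (P : DCoh.D S) (M C : DCoh.D (KRR.PY n S)) (a : M ⟶ K) (g : K ⟶ C) (δ : C ⟶ M⟦(1 : ℤ)⟧),
      DCoh.IsPerfect P ∧ Nonempty (M ≅ (TO n S e).obj ((DCoh.Lpull (KRR.pr n S)).obj P)) ∧
      Triangle.mk a g δ ∈ distTriang (DCoh.D (KRR.PY n S)) ∧
      ∀ j : ℕ, j ≤ n → e ≤ j → IsZero ((NS n S j).obj C) := by
  haveI : IsProper (KRR.pr n S) := Groth.L16.ProjSpace.isProper_toBase n S
  obtain ⟨G, ad, eG⟩ : ∃ (G : DCoh.D S ⥤ DCoh.D (KRR.PY n S)) (_ : G ⊣ NS n S (e : ℤ)),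
      ∀ P, Nonempty (G.obj P ≅ (TO n S e).obj ((DCoh.Lpull (KRR.pr n S)).obj P)) := by
    let E := (TO n S (-(e : ℤ))).asEquivalence
    refine ⟨DCoh.Lpull (KRR.pr n S) ⋙ E.inverse, (Groth.L29.BC.adj _).comp E.symm.toAdjunction, fun P => ?_⟩
    obtain ⟨c⟩ := nonempty_TO_comp n S (e : ℤ) (-(e : ℤ)) (add_neg_cancel _) ((DCoh.Lpull (KRR.pr n S)).obj P)
    obtain ⟨z⟩ := nonempty_TO_zero n S ((DCoh.Lpull (KRR.pr n S)).obj P)
    exact ⟨E.inverse.mapIso (c ≪≫ z).symm ≪≫ (E.unitIso.app _).symm⟩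
  have hPK : DCoh.IsPerfect ((NS n S e).obj K) := isPerfect_NS n S e hK
  let Q := (NS n S e).obj K
  obtain ⟨θ⟩ := eG Q
  obtain ⟨C, g, δ, hT⟩ := distinguished_cocone_triangle (ad.counit.app K)
  refine ⟨Q, _, C, ad.counit.app K, g, δ, hPK, ⟨θ⟩, hT, fun j hj hej => ?_⟩
  have hM := NS_TO_pull n S e j hej hj hPK
  rcases lt_or_eq_of_le hej with hlt | rfl
  · exact Pretriangulated.Triangle.isZero₃_of_isZero₁₂ _ ((NS n S (j : ℤ)).map_distinguished _ hT)
      ((hM.1 hlt).of_iso ((NS n S (j : ℤ)).mapIso θ)) (h0 j hj hlt)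
  · obtain ⟨a⟩ := hM.2 rfl
    let w : Q ≅ (NS n S (e : ℤ)).obj (G.obj Q) := a.symm ≪≫ ((NS n S (e : ℤ)).mapIso θ).symm
    haveI : IsIso (ad.unit.app Q) := Groth.Lead.Cancel.isIso_of_splitMono (fun m => pc_of_perfect hPK m)
      (ad.unit.app Q) ((NS n S (e : ℤ)).map (ad.counit.app K)) (ad.right_triangle_components K) w
    haveI : IsIso ((NS n S (e : ℤ)).map (ad.counit.app K)) := by
      have : (NS n S (e : ℤ)).map (ad.counit.app K) = inv (ad.unit.app Q) := by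
        rw [← cancel_epi (ad.unit.app Q), IsIso.hom_inv_id]
        exact ad.right_triangle_components K
      rw [this]
      infer_instance
    exact (Triangle.isZero₃_iff_isIso₁ _ ((NS n S (e : ℤ)).map_distinguished _ hT)).2 this

end Groth.Lead.KProjPerf
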