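import Groth.Agent.L28.Lisse.Thick
import Groth.Agent.L28.LocConst.Basic
import Groth.Agent.L27.EtSite.HofPush
import Groth.Agent.L27.EtSite.PropB
import Groth.Agent.L27.EtSite.Push

/-! # Cohomology of constant sheaves along isomorphisms of schemes -/

set_option autoImplicit false
set_option backward.isDefEq.respectTransparency.types false
set_option linter.style.haveILetI false

universe u

open CategoryTheory CategoryTheory.Limits AlgebraicGeometry Opposite

namespace Groth.Lead.EtHIso

theorem nonempty_H_const_equiv {X Y : Scheme.{u}} (i : X ⟶ Y) [IsIso i] (M : Type) [AddCommGroup M]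
    (q : ℕ) : Nonempty (EtCoh.H Y (EtCoh.const Y M) q ≃+ EtCoh.H X (EtCoh.const X M) q) := by
  haveI : Surjective i := inferInstance
  haveI := Groth.L28.Lisse.bc_equiv i
  haveI := Groth.L28.Lisse.isCocontinuous_bc i
  haveI : PreservesFiniteLimits (EtCoh.pull i) := Groth.L27.EtSite.preservesFiniteLimits_pull i
  haveI : IsIntegralHom i := inferInstance
  let G : EtCoh.Ab X := EtCoh.const X M
  have hR := Groth.L27.EtSite.isZero_Rpush_of_propB i (Groth.L27.EtSite.propB_of_isIntegralHom i) G
  let c : (EtCoh.push i).obj G ≅ EtCoh.const Y M :=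
    Groth.L28.LocConst.constCompat (J := Y.smallEtaleTopology) (K := X.smallEtaleTopology) (EtCoh.bc i) _
  let e1 : EtCoh.H Y (EtCoh.const Y M) q ≃+ EtCoh.H Y ((EtCoh.push i).obj G) q :=
    ((EtCoh.HF Y q).mapIso c.symm).addCommGroupIsoToAddEquiv
  exact ⟨e1.trans (AddEquiv.ofBijective (EtLim.HofPush i G q)
    (Groth.L27.EtSite.bijective_HofPush i G hR q))⟩

end Groth.Lead.EtHIso
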