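import Groth.Agent.L05.HensTensor.Integral
import Groth.Agent.L05.Henselization.StrictUniq

/-! # Strict henselizations and integral base change -/

set_option autoImplicit false
set_option linter.style.haveILetI false

universe u

open IsLocalRing TensorProduct Groth.L05.Henselization

namespace Groth.Lead.StrictHensBC

/-- An element separable over a subfield lies in the image of a separably closed field in between. -/
theorem mem_range_of_isSeparable {k L E : Type u} [Field k] [Field L] [IsSepClosed L] [Field E]
    [Algebra k E] (e : L →+* E) (a : k →+* L) (ha : e.comp a = algebraMap k E) (z : E)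
    (hz : IsSeparable k z) : z ∈ Set.range e := by
  letI : Algebra L E := e.toAlgebra
  letI : Algebra k L := a.toAlgebra
  haveI : IsScalarTower k L E := IsScalarTower.of_algebraMap_eq' ha.symm
  have hint : IsIntegral L z := (hz.isIntegral).tower_top
  have hsep : IsSeparable L z := hz.tower_top (L := L)
  have hd : (minpoly L z).degree = 1 :=
    IsSepClosed.degree_eq_one_of_irreducible L (minpoly.irreducible hint) hsep
  exact (minpoly.degree_eq_one_iff.mp hd)

/-- A strict henselization below a given one, along a local map. -/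
theorem exists_under {O O' : Type u} [CommRing O] [IsLocalRing O] [CommRing O'] [IsLocalRing O']
    (f : O →+* O') [IsLocalHom f] (R' : Type u) [CommRing R'] [IsLocalRing R'] [Algebra O' R']
    [IsLocalHom (algebraMap O' R')] [hR' : Hensel.IsStrictHenselization O' R'] (P : Prop)
    (h : ∀ (R : Type u) [CommRing R] [IsLocalRing R] [Algebra O R] [IsLocalHom (algebraMap O R)]
      [Hensel.IsStrictHenselization O R] (g : R →+* R'), IsLocalHom g →
      g.comp (algebraMap O R) = (algebraMap O' R').comp f → P) : P := by
  haveI := hR'.henselian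
  haveI : IsSepClosed (ResidueField R') := hR'.isSepClosure.sep_closed
  let e : ResidueField O →+* ResidueField R' := ResidueField.map ((algebraMap O' R').comp f)
  letI : Algebra (ResidueField O) (ResidueField R') := e.toAlgebra
  let K : IntermediateField (ResidueField O) (ResidueField R') :=
    separableClosure (ResidueField O) (ResidueField R')
  haveI : IsSepClosed K := (separableClosure.isSepClosure (ResidueField O) (ResidueField R')).sep_closed
  haveI : Algebra.IsSeparable (ResidueField O) K := separableClosure.isSeparable _ _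
  letI : Algebra O K := ((algebraMap (ResidueField O) K).comp (residue O)).toAlgebra
  haveI : IsScalarTower O (ResidueField O) K := IsScalarTower.of_algebraMap_eq' rfl
  haveI := isLocalRing_col O K
  haveI := isLocalHom_col O K
  haveI hC := isStrictHenselization_col O K
  let τ : ResidueField (Col O K) →+* ResidueField R' :=
    (K.val.toRingHom).comp (residueEquiv O K).toRingHom
  have hτ : τ.comp (ResidueField.map (algebraMap O (Col O K))) =
      ResidueField.map ((algebraMap O' R').comp f) := by
    refine RingHom.ext fun x => ?_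
    obtain ⟨r, rfl⟩ := residue_surjective x
    show K.val ((residueEquiv O K) (residue _ (algebraMap O (Col O K) r))) = _
    rw [residueEquiv_residue, AlgHom.commutes]
    rfl
  obtain ⟨g, ⟨hg, hgr⟩, -⟩ := hC.universal R' ((algebraMap O' R').comp f) τ hτ
  refine h (Col O K) g ⟨fun x hx => ?_⟩ hg
  by_contra hx'
  have h0 : residue (Col O K) x = 0 := (residue_eq_zero_iff _).mpr ((mem_maximalIdeal _).mpr hx')
  have h1 : residue R' (g x) = 0 := by rw [hgr, h0, map_zero]
  exact (mem_maximalIdeal _).mp ((residue_eq_zero_iff _).mp h1) hx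

/-- Lifting a map of local rings to strict henselizations, compatibly over a henselian ring. -/
theorem exists_lift {O1 O2 R1 R2 R' : Type u} [CommRing O1] [IsLocalRing O1] [CommRing O2]
    [IsLocalRing O2] (f : O1 →+* O2) [IsLocalHom f] [CommRing R1] [IsLocalRing R1] [Algebra O1 R1]
    [IsLocalHom (algebraMap O1 R1)] [hR1 : Hensel.IsStrictHenselization O1 R1] [CommRing R2]
    [IsLocalRing R2] [Algebra O2 R2] [IsLocalHom (algebraMap O2 R2)]
    [hR2 : Hensel.IsStrictHenselization O2 R2] [CommRing R'] [HenselianLocalRing R'] (g : R1 →+* R')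
    [IsLocalHom g] (h : R2 →+* R') [IsLocalHom h]
    (hcomm : g.comp (algebraMap O1 R1) = (h.comp (algebraMap O2 R2)).comp f) :
    ∃ m : R1 →+* R2, IsLocalHom m ∧ m.comp (algebraMap O1 R1) = (algebraMap O2 R2).comp f ∧
      h.comp m = g := by
  haveI := hR2.henselian
  haveI : IsSepClosed (ResidueField R2) := hR2.isSepClosure.sep_closed
  haveI : Algebra.IsSeparable (ResidueField O1) (ResidueField R1) := hR1.isSepClosure.separable
  letI : Algebra (ResidueField O1) (ResidueField R') :=
    (ResidueField.map (g.comp (algebraMap O1 R1))).toAlgebra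
  have hrange : ∀ z, ResidueField.map g z ∈ Set.range (ResidueField.map h) := by
    intro z
    refine mem_range_of_isSeparable (ResidueField.map h)
      (ResidueField.map ((algebraMap O2 R2).comp f)) ?_ _ ?_
    · refine RingHom.ext fun x => ?_
      obtain ⟨r, rfl⟩ := residue_surjective x
      show residue R' (h (algebraMap O2 R2 (f r))) = residue R' (g (algebraMap O1 R1 r))
      exact congrArg (residue R') (RingHom.congr_fun hcomm r).symm
    · let a : ResidueField R1 →ₐ[ResidueField O1] ResidueField R' :=
        { ResidueField.map g with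
          commutes' := fun x => by
            obtain ⟨r, rfl⟩ := residue_surjective x
            rfl }
      exact (Algebra.IsSeparable.isSeparable (ResidueField O1) z).map (f := a) (ResidueField.map g).injective
  choose τ₀ hτ₀ using hrange
  have hinj : Function.Injective (ResidueField.map h) := (ResidueField.map h).injective
  let τ : ResidueField R1 →+* ResidueField R2 :=
    { toFun := τ₀
      map_one' := hinj (by rw [hτ₀, map_one, map_one])
      map_mul' := fun a b => hinj (by rw [hτ₀, map_mul, map_mul, hτ₀, hτ₀])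
      map_zero' := hinj (by rw [hτ₀, map_zero, map_zero])
      map_add' := fun a b => hinj (by rw [hτ₀, map_add, map_add, hτ₀, hτ₀]) }
  have hτ : τ.comp (ResidueField.map (algebraMap O1 R1)) =
      ResidueField.map ((algebraMap O2 R2).comp f) := by
    refine RingHom.ext fun x => hinj ?_
    obtain ⟨r, rfl⟩ := residue_surjective x
    show ResidueField.map h (τ₀ _) = _
    rw [hτ₀]
    show residue R' (g (algebraMap O1 R1 r)) = residue R' (h (algebraMap O2 R2 (f r)))
    exact congrArg (residue R') (RingHom.congr_fun hcomm r)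
  obtain ⟨m, ⟨hm, hmr⟩, -⟩ := hR1.universal R2 ((algebraMap O2 R2).comp f) τ hτ
  have hml : IsLocalHom m := ⟨fun x hx => by
    by_contra hx'
    have h0 : residue R1 x = 0 := (residue_eq_zero_iff _).mpr ((mem_maximalIdeal _).mpr hx')
    have h1 : residue R2 (m x) = 0 := by rw [hmr, h0, map_zero]
    exact (mem_maximalIdeal _).mp ((residue_eq_zero_iff _).mp h1) hx⟩
  refine ⟨m, hml, hm, ?_⟩
  have hres : (ResidueField.map g).comp (ResidueField.map (algebraMap O1 R1)) =
      ResidueField.map (g.comp (algebraMap O1 R1)) := (ResidueField.map_comp _ _).symm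
  refine (hR1.universal R' (g.comp (algebraMap O1 R1)) (ResidueField.map g) hres).unique
    ⟨?_, fun x => ?_⟩ ⟨rfl, fun x => rfl⟩
  · rw [RingHom.comp_assoc, hm, ← RingHom.comp_assoc, hcomm]
  · show ResidueField.map h (residue R2 (m x)) = ResidueField.map g (residue R1 x)
    rw [hmr]
    exact hτ₀ _

section Core

variable {OS OS' OX OX' RS RS' RX RX' : Type u} [CommRing OS] [IsLocalRing OS] [CommRing OS']
  [IsLocalRing OS'] [CommRing OX] [IsLocalRing OX] [CommRing OX'] [IsLocalRing OX'] [CommRing RS]
  [IsLocalRing RS] [CommRing RS'] [IsLocalRing RS'] [CommRing RX] [IsLocalRing RX] [CommRing RX']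
  [IsLocalRing RX'] [Algebra OS RS] [IsLocalHom (algebraMap OS RS)] [Algebra OS' RS']
  [IsLocalHom (algebraMap OS' RS')] [Algebra OX RX] [IsLocalHom (algebraMap OX RX)]
  [Algebra OX' RX'] [IsLocalHom (algebraMap OX' RX')]
  [hRS : Hensel.IsStrictHenselization OS RS] [hRS' : Hensel.IsStrictHenselization OS' RS']
  [hRX : Hensel.IsStrictHenselization OX RX] [hRX' : Hensel.IsStrictHenselization OX' RX']
  [Algebra RS RX] [IsLocalHom (algebraMap RS RX)] [Algebra RS RS'] [Algebra.IsIntegral RS RS']

include hRS hRS' hRX hRX' in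
/-- The strict henselization of a point of `X ×_S S'` is `RX ⊗_RS RS'` when `RS'` is integral over `RS`. -/
theorem bijective_tensor (u : OX →+* OX') (v : OS' →+* OX') [IsLocalHom u] [IsLocalHom v]
    (h : RX →+* RX') [IsLocalHom h] (k : RS' →+* RX') [IsLocalHom k]
    (hu : h.comp (algebraMap OX RX) = (algebraMap OX' RX').comp u)
    (hv : k.comp (algebraMap OS' RS') = (algebraMap OX' RX').comp v)
    (ψ : RX ⊗[RS] RS' →+* RX') (hψh : ∀ x, ψ (x ⊗ₜ 1) = h x) (hψk : ∀ y, ψ (1 ⊗ₜ y) = k y)
    (φ : OX' →+* RX ⊗[RS] RS')
    (hφu : ∀ a, φ (u a) = algebraMap OX RX a ⊗ₜ 1) (hφv : ∀ b, φ (v b) = 1 ⊗ₜ algebraMap OS' RS' b)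
    (hφψ : ψ.comp φ = algebraMap OX' RX') : Function.Bijective ψ := by
  haveI := hRX.henselian
  haveI := hRX'.henselian
  haveI : IsSepClosed (ResidueField RS) := hRS.isSepClosure.sep_closed
  haveI : IsSepClosed (ResidueField RX) := hRX.isSepClosure.sep_closed
  haveI : Nontrivial (RX ⊗[RS] RS') := ψ.domain_nontrivial
  haveI := Groth.L05.HensTensor.isLocalRing_tensor RS RS' RX
  haveI : Algebra.IsIntegral RX (RX ⊗[RS] RS') := inferInstance
  haveI := Groth.L05.henselianLocalRing_of_integral (A := RX) (RX ⊗[RS] RS')
  let i : RX →+* RX ⊗[RS] RS' := algebraMap RX (RX ⊗[RS] RS')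
  let j : RS' →+* RX ⊗[RS] RS' :=
    (Algebra.TensorProduct.includeRight : RS' →ₐ[RS] RX ⊗[RS] RS').toRingHom
  have hi : ∀ x, i x = x ⊗ₜ 1 := fun x => rfl
  have hψi : ψ.comp i = h := RingHom.ext hψh
  have hψj : ψ.comp j = k := RingHom.ext hψk
  haveI : IsLocalHom i := Groth.L05.HensTensor.isLocalHom_of_isIntegral RX (RX ⊗[RS] RS')
  haveI : IsLocalHom ψ := by
    have hker : RingHom.ker ((residue RX').comp ψ) = maximalIdeal (RX ⊗[RS] RS') := by
      haveI : (RingHom.ker ((residue RX').comp ψ)).IsPrime := RingHom.ker_isPrime _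
      refine eq_maximalIdeal (Ideal.isMaximal_of_isIntegral_of_isMaximal_comap (R := RX) _ ?_)
      have : (RingHom.ker ((residue RX').comp ψ)).comap i = maximalIdeal RX := by
        rw [RingHom.comap_ker, RingHom.comp_assoc, hψi, ← RingHom.comap_ker, ker_residue]
        exact IsLocalRing.maximalIdeal_comap h
      exact this ▸ maximalIdeal.isMaximal RX
    refine ⟨fun x hx => by_contra fun hx' => ?_⟩
    have : x ∈ RingHom.ker ((residue RX').comp ψ) := hker.symm ▸ (mem_maximalIdeal _).mpr hx'
    exact (mem_maximalIdeal _).mp ((residue_eq_zero_iff _).mp this) hx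
  haveI : IsLocalHom (algebraMap OX' RX') := inferInstance
  haveI hφl : IsLocalHom φ := by
    haveI : IsLocalHom (ψ.comp φ) := hφψ ▸ inferInstance
    exact isLocalHom_of_comp φ ψ
  haveI hjl : IsLocalHom j := by
    haveI : IsLocalHom (ψ.comp j) := hψj ▸ inferInstance
    exact isLocalHom_of_comp j ψ
  -- residue fields
  haveI : Algebra.IsAlgebraic (ResidueField RX) (ResidueField (RX ⊗[RS] RS')) := ⟨fun x => by
    obtain ⟨d, rfl⟩ := residue_surjective x
    obtain ⟨f, hf, hfd⟩ := Algebra.IsIntegral.isIntegral (R := RX) d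
    refine IsIntegral.isAlgebraic ⟨f.map (residue RX), hf.map _, ?_⟩
    rw [Polynomial.eval₂_map]
    have := congrArg (residue (RX ⊗[RS] RS')) hfd
    rwa [Polynomial.hom_eval₂, map_zero] at this⟩
  haveI : IsSepClosed (ResidueField (RX ⊗[RS] RS')) :=
    Groth.L05.isSepClosed_of_algebraic (ResidueField RX) _
  haveI : Algebra.IsSeparable (ResidueField OX') (ResidueField RX') := hRX'.isSepClosure.separable
  have hbij : Function.Bijective (ResidueField.map ψ) := by
    refine ⟨(ResidueField.map ψ).injective, fun z => ?_⟩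
    refine mem_range_of_isSeparable (k := ResidueField OX') (ResidueField.map ψ) (ResidueField.map φ)
      ?_ z (Algebra.IsSeparable.isSeparable (ResidueField OX') z)
    refine RingHom.ext fun x => ?_
    obtain ⟨r, rfl⟩ := residue_surjective x
    show residue RX' (ψ (φ r)) = residue RX' (algebraMap OX' RX' r)
    rw [show ψ (φ r) = algebraMap OX' RX' r from RingHom.congr_fun hφψ r]
  let ρ := RingEquiv.ofBijective (ResidueField.map ψ) hbij
  have hρ : ∀ x, ρ (residue _ x) = residue RX' (ψ x) := fun x => rfl
  have hτ : (ρ.symm.toRingHom).comp (ResidueField.map (algebraMap OX' RX')) = ResidueField.map φ := by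
    refine RingHom.ext fun x => ?_
    obtain ⟨r, rfl⟩ := residue_surjective x
    apply ρ.injective
    show ρ (ρ.symm (residue RX' (algebraMap OX' RX' r))) = ρ (residue _ (φ r))
    rw [RingEquiv.apply_symm_apply, hρ]
    exact congrArg (residue RX') (RingHom.congr_fun hφψ r).symm
  obtain ⟨g, ⟨hg, hgr⟩, -⟩ := hRX'.universal (RX ⊗[RS] RS') φ ρ.symm.toRingHom hτ
  have hgr' : ∀ x, residue _ (g (ψ x)) = residue (RX ⊗[RS] RS') x := fun x => by
    rw [hgr, ← hρ]
    exact ρ.symm_apply_apply _
  have h1 : ψ.comp g = RingHom.id RX' := by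
    refine (hRX'.universal RX' (algebraMap OX' RX') (RingHom.id _) (RingHom.id_comp _)).unique
      ⟨by rw [RingHom.comp_assoc, hg, hφψ], fun x => ?_⟩ ⟨RingHom.id_comp _, fun x => rfl⟩
    show residue RX' (ψ (g x)) = residue RX' x
    rw [← hρ, hgr]
    exact ρ.apply_symm_apply _
  have h2X : (g.comp ψ).comp i = i := by
    haveI : IsLocalHom (i.comp (algebraMap OX RX)) := RingHom.isLocalHom_comp _ _
    refine (hRX.universal (RX ⊗[RS] RS') (i.comp (algebraMap OX RX)) (ResidueField.map i)
      (ResidueField.map_comp _ _).symm).unique ⟨RingHom.ext fun a => ?_, fun x => hgr' (i x)⟩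
      ⟨rfl, fun x => rfl⟩
    show g (ψ (i (algebraMap OX RX a))) = i (algebraMap OX RX a)
    rw [hi, hψh, show h (algebraMap OX RX a) = algebraMap OX' RX' (u a) from RingHom.congr_fun hu a,
      show g (algebraMap OX' RX' (u a)) = φ (u a) from RingHom.congr_fun hg _, hφu]
  have h2S : (g.comp ψ).comp j = j := by
    haveI : IsLocalHom (j.comp (algebraMap OS' RS')) := RingHom.isLocalHom_comp _ _
    refine (hRS'.universal (RX ⊗[RS] RS') (j.comp (algebraMap OS' RS')) (ResidueField.map j)
      (ResidueField.map_comp _ _).symm).unique ⟨RingHom.ext fun b => ?_, fun x => hgr' (j x)⟩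
      ⟨rfl, fun x => rfl⟩
    show g (ψ (1 ⊗ₜ algebraMap OS' RS' b)) = 1 ⊗ₜ algebraMap OS' RS' b
    rw [hψk, show k (algebraMap OS' RS' b) = algebraMap OX' RX' (v b) from RingHom.congr_fun hv b,
      show g (algebraMap OX' RX' (v b)) = φ (v b) from RingHom.congr_fun hg _, hφv]
  refine Function.bijective_iff_has_inverse.mpr ⟨g, fun z => ?_, RingHom.congr_fun h1⟩
  induction z using TensorProduct.induction_on with
  | zero => rw [map_zero, map_zero]
  | tmul x y =>
    have e : x ⊗ₜ[RS] y = i x * j y := by simp [i, j]
    rw [e, map_mul, map_mul]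
    exact congrArg₂ (· * ·) (RingHom.congr_fun h2X x) (RingHom.congr_fun h2S y)
  | add a b ha hb => rw [map_add, map_add, ha, hb]

end Core

end Groth.Lead.StrictHensBC
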