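import Groth.Prelude.Def_EtRestW
import Groth.Agent.Lead.EtHIso
import Groth.Agent.Lead.StrictHensBC

/-! # Local acyclicity along base changes with integral strict henselizations -/

set_option autoImplicit false
set_option linter.style.haveILetI false

universe u

open CategoryTheory CategoryTheory.Limits AlgebraicGeometry Opposite IsLocalRing TensorProduct

namespace Groth.Lead.AcyclicBC

/-- The strict henselizations along `g` are integral. -/
def IntegralSH {S S' : Scheme.{u}} (g : S' ⟶ S) : Prop :=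
  ∀ (s' : S') (RS RS' : Type u) [CommRing RS] [IsLocalRing RS] [CommRing RS'] [IsLocalRing RS']
    [Algebra (S.presheaf.stalk (g.base s')) RS] [IsLocalHom (algebraMap (S.presheaf.stalk (g.base s')) RS)]
    [Hensel.IsStrictHenselization (S.presheaf.stalk (g.base s')) RS]
    [Algebra (S'.presheaf.stalk s') RS'] [IsLocalHom (algebraMap (S'.presheaf.stalk s') RS')]
    [Hensel.IsStrictHenselization (S'.presheaf.stalk s') RS']
    [Algebra RS RS'] [IsLocalHom (algebraMap RS RS')],
    (algebraMap RS RS').comp (algebraMap (S.presheaf.stalk (g.base s')) RS) =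
      (algebraMap (S'.presheaf.stalk s') RS').comp (g.stalkMap s').hom →
    Algebra.IsIntegral RS RS'

theorem isIntegral_of_integralSH {S S' : Scheme.{u}} (g : S' ⟶ S) (hg : IntegralSH g) (s' : S') (s : S)
    (hs : s = g.base s') (v : S.presheaf.stalk s ⟶ S'.presheaf.stalk s')
    (hv : Spec.map v ≫ S.fromSpecStalk s = S'.fromSpecStalk s' ≫ g)
    (RS RS' : Type u) [CommRing RS] [IsLocalRing RS] [CommRing RS'] [IsLocalRing RS']
    [Algebra (S.presheaf.stalk s) RS] [IsLocalHom (algebraMap (S.presheaf.stalk s) RS)]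
    [Hensel.IsStrictHenselization (S.presheaf.stalk s) RS]
    [Algebra (S'.presheaf.stalk s') RS'] [IsLocalHom (algebraMap (S'.presheaf.stalk s') RS')]
    [Hensel.IsStrictHenselization (S'.presheaf.stalk s') RS']
    [Algebra RS RS'] [IsLocalHom (algebraMap RS RS')]
    (h : (algebraMap RS RS').comp (algebraMap (S.presheaf.stalk s) RS) =
      (algebraMap (S'.presheaf.stalk s') RS').comp v.hom) : Algebra.IsIntegral RS RS' := by
  subst hs
  obtain rfl : v = g.stalkMap s' := Spec.map_injective ((cancel_mono (S.fromSpecStalk _)).1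
    (hv.trans (Scheme.SpecMap_stalkMap_fromSpecStalk g (x := s')).symm))
  exact hg s' RS RS' h

/-- Transfer of the vanishing cycle rings. -/
theorem nonempty_vcRing_equiv (RS RX RS' RX' Ω : Type u) [CommRing RS] [CommRing RX] [CommRing RS']
    [CommRing RX'] [CommRing Ω] [Algebra RS RX] [Algebra RS RS'] [Algebra RS' RX'] [Algebra RS' Ω]
    [Algebra RS Ω] [IsScalarTower RS RS' Ω] (ψ : RX ⊗[RS] RS' →+* RX') (hb : Function.Bijective ψ)
    (hψ : ∀ y : RS', ψ (1 ⊗ₜ y) = algebraMap RS' RX' y) :
    Nonempty (EtRest.vcRing RS RX Ω ≃+* EtRest.vcRing RS' RX' Ω) := by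
  let e1 : RS' ⊗[RS] RX ≃+* RX' :=
    (Algebra.TensorProduct.comm RS RS' RX).toRingEquiv.trans (RingEquiv.ofBijective ψ hb)
  have he1 : ∀ y : RS', e1 (algebraMap RS' (RS' ⊗[RS] RX) y) = algebraMap RS' RX' y := fun y => by
    show ψ (Algebra.TensorProduct.comm RS RS' RX (y ⊗ₜ 1)) = _
    rw [Algebra.TensorProduct.comm_tmul, hψ]
  let e2 : RS' ⊗[RS] RX ≃ₐ[RS'] RX' := AlgEquiv.ofRingEquiv (f := e1) he1
  exact ⟨(Algebra.TensorProduct.comm RS RX Ω).toRingEquiv.trans <|
    (Algebra.TensorProduct.cancelBaseChange RS RS' Ω Ω RX).symm.toRingEquiv.trans <|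
    (Algebra.TensorProduct.congr (AlgEquiv.refl : Ω ≃ₐ[RS'] Ω) e2).toRingEquiv.trans
      (Algebra.TensorProduct.comm RS' Ω RX').toRingEquiv⟩

theorem isLocallyAcyclic_snd {X S S' : Scheme.{u}} (f : X ⟶ S) (g : S' ⟶ S) (hg : IntegralSH g)
    (hf : EtRest.IsLocallyAcyclic f) : EtRest.IsLocallyAcyclic (pullback.snd f g) := by
  intro x' RS' RX' _ _ _ _ _ _ hRS' _ _ hRX' _ _ hsq Ω _ _ _ n hn
  haveI := hRS'.henselian
  haveI := hRX'.henselian
  let s' : S' := (pullback.snd f g).base x'
  let x : X := (pullback.fst f g).base x'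
  let s : S := f.base x
  have hs : s = g.base s' := by
    show f ((pullback.fst f g) x') = g ((pullback.snd f g) x')
    rw [← Scheme.Hom.comp_apply, ← Scheme.Hom.comp_apply, pullback.condition]
  let u : X.presheaf.stalk x ⟶ (pullback f g).presheaf.stalk x' := (pullback.fst f g).stalkMap x'
  let v : S'.presheaf.stalk s' ⟶ (pullback f g).presheaf.stalk x' := (pullback.snd f g).stalkMap x'
  let u0 : S.presheaf.stalk s ⟶ X.presheaf.stalk x := f.stalkMap x
  let v0 : S.presheaf.stalk s ⟶ S'.presheaf.stalk s' :=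
    S.presheaf.stalkSpecializes (hs ▸ specializes_rfl) ≫ g.stalkMap s'
  have hv0 : Spec.map v0 ≫ S.fromSpecStalk s = S'.fromSpecStalk s' ≫ g := by
    simp [v0]
  have hu0 : Spec.map u0 ≫ S.fromSpecStalk s = X.fromSpecStalk x ≫ f :=
    Scheme.SpecMap_stalkMap_fromSpecStalk f (x := x)
  have hsqO : u0 ≫ u = v0 ≫ v := by
    apply Spec.map_injective
    rw [← cancel_mono (S.fromSpecStalk s)]
    simp only [Spec.map_comp, Category.assoc, hu0, hv0]
    rw [← Category.assoc, Scheme.SpecMap_stalkMap_fromSpecStalk, ← Category.assoc,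
      Scheme.SpecMap_stalkMap_fromSpecStalk, Category.assoc, Category.assoc, pullback.condition]
  haveI : IsLocalHom v0.hom := by
    haveI : IsIso (S.presheaf.stalkSpecializes (show g.base s' ⤳ s from hs ▸ specializes_rfl)) :=
      ⟨S.presheaf.stalkSpecializes (hs ▸ specializes_rfl), by simp, by simp⟩
    haveI : IsLocalHom (S.presheaf.stalkSpecializes (show g.base s' ⤳ s from hs ▸ specializes_rfl)).hom :=
      isLocalHom_of_isIso _
    haveI : IsLocalHom (g.stalkMap s').hom := inferInstance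
    change IsLocalHom ((g.stalkMap s').hom.comp (S.presheaf.stalkSpecializes _).hom)
    exact RingHom.isLocalHom_comp _ _
  -- strict henselizations downstairs
  refine StrictHensBC.exists_under v0.hom RS' _ fun RS _ _ _ _ _ g0 _ hg0 => ?_
  refine StrictHensBC.exists_under u.hom RX' _ fun RX _ _ _ _ _ h _ hh => ?_
  haveI : IsLocalHom u0.hom := inferInstanceAs (IsLocalHom (f.stalkMap x).hom)
  haveI : IsLocalHom ((algebraMap RS' RX').comp g0) := RingHom.isLocalHom_comp _ _
  obtain ⟨m, _, hm, hmh⟩ := StrictHensBC.exists_lift (R1 := RS) (R2 := RX) u0.hom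
    ((algebraMap RS' RX').comp g0) h (by
      rw [RingHom.comp_assoc, hg0, hh, ← RingHom.comp_assoc]
      rw [show (algebraMap RS' RX').comp (algebraMap (S'.presheaf.stalk s') RS') =
        (algebraMap ((pullback f g).presheaf.stalk x') RX').comp v.hom from hsq]
      rw [RingHom.comp_assoc, RingHom.comp_assoc, ← CommRingCat.hom_comp, ← CommRingCat.hom_comp, hsqO])
  letI : Algebra RS RX := m.toAlgebra
  letI : Algebra RS RS' := g0.toAlgebra
  letI : Algebra RS Ω := ((algebraMap RS' Ω).comp g0).toAlgebra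
  haveI : IsScalarTower RS RS' Ω := IsScalarTower.of_algebraMap_eq' rfl
  haveI : IsLocalHom (algebraMap RS RX) := ‹IsLocalHom m›
  haveI : IsLocalHom (algebraMap RS RS') := ‹IsLocalHom g0›
  haveI : Algebra.IsIntegral RS RS' := isIntegral_of_integralSH g hg s' s hs v0 hv0 RS RS' hg0
  letI : Algebra RS RX' := ((algebraMap RS' RX').comp g0).toAlgebra
  let ψ : RX ⊗[RS] RS' →+* RX' := (Algebra.TensorProduct.lift
    ({ h with commutes' := fun r => RingHom.congr_fun hmh r } : RX →ₐ[RS] RX')
    ({ algebraMap RS' RX' with commutes' := fun r => rfl } : RS' →ₐ[RS] RX')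
    (fun _ _ => Commute.all _ _)).toRingHom
  have hψh : ∀ a, ψ (a ⊗ₜ 1) = h a := fun a => by simp [ψ]
  have hψk : ∀ b, ψ (1 ⊗ₜ b) = algebraMap RS' RX' b := fun b => by simp [ψ]
  let i : RX →+* RX ⊗[RS] RS' := algebraMap RX (RX ⊗[RS] RS')
  let j : RS' →+* RX ⊗[RS] RS' :=
    (Algebra.TensorProduct.includeRight : RS' →ₐ[RS] RX ⊗[RS] RS').toRingHom
  haveI : Nontrivial (RX ⊗[RS] RS') := ψ.domain_nontrivial
  haveI : IsSepClosed (ResidueField RS) :=
    (inferInstance : Hensel.IsStrictHenselization (S.presheaf.stalk s) RS).isSepClosure.sep_closed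
  haveI : IsLocalRing (RX ⊗[RS] RS') := Groth.L05.HensTensor.isLocalRing_tensor RS RS' RX
  let a : CommRingCat.of (X.presheaf.stalk x) ⟶ CommRingCat.of (RX ⊗[RS] RS') :=
    CommRingCat.ofHom (i.comp (algebraMap (X.presheaf.stalk x) RX))
  let b : CommRingCat.of (S'.presheaf.stalk s') ⟶ CommRingCat.of (RX ⊗[RS] RS') :=
    CommRingCat.ofHom (j.comp (algebraMap (S'.presheaf.stalk s') RS'))
  have hab : u0 ≫ a = v0 ≫ b := by
    refine CommRingCat.hom_ext ?_
    show (i.comp (algebraMap _ RX)).comp u0.hom = (j.comp (algebraMap _ RS')).comp v0.hom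
    rw [RingHom.comp_assoc, RingHom.comp_assoc, ← hm, ← hg0, ← RingHom.comp_assoc, ← RingHom.comp_assoc]
    congr 1
    refine RingHom.ext fun r => ?_
    show i (algebraMap RS RX r) = j (algebraMap RS RS' r)
    simp only [j, i, AlgHom.toRingHom_eq_coe, RingHom.coe_coe, AlgHom.commutes]
    rw [← IsScalarTower.algebraMap_apply]
  let μ : Spec (CommRingCat.of (RX ⊗[RS] RS')) ⟶ pullback f g :=
    pullback.lift (Spec.map a ≫ X.fromSpecStalk x) (Spec.map b ≫ S'.fromSpecStalk s') (by
      rw [Category.assoc, Category.assoc, ← hu0, ← hv0, ← Category.assoc, ← Category.assoc,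
        ← Spec.map_comp, ← Spec.map_comp, hab])
  let aX' : CommRingCat.of ((pullback f g).presheaf.stalk x') ⟶ CommRingCat.of RX' :=
    CommRingCat.ofHom (algebraMap ((pullback f g).presheaf.stalk x') RX')
  have hμ : Spec.map (CommRingCat.ofHom ψ) ≫ μ = Spec.map aX' ≫ (pullback f g).fromSpecStalk x' := by
    have ea : a ≫ CommRingCat.ofHom ψ = u ≫ aX' := CommRingCat.hom_ext (RingHom.ext fun r =>
      (hψh _).trans (RingHom.congr_fun hh r))
    have eb : b ≫ CommRingCat.ofHom ψ = v ≫ aX' := CommRingCat.hom_ext (RingHom.ext fun r =>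
      (hψk _).trans (RingHom.congr_fun hsq r))
    apply pullback.hom_ext
    · simp only [μ, Category.assoc, pullback.lift_fst]
      rw [← Category.assoc, ← Spec.map_comp, ea, Spec.map_comp, Category.assoc]
      exact congrArg (Spec.map aX' ≫ ·) (Scheme.SpecMap_stalkMap_fromSpecStalk (pullback.fst f g) (x := x'))
    · simp only [μ, Category.assoc, pullback.lift_snd]
      rw [← Category.assoc, ← Spec.map_comp, eb, Spec.map_comp, Category.assoc]
      exact congrArg (Spec.map aX' ≫ ·) (Scheme.SpecMap_stalkMap_fromSpecStalk (pullback.snd f g) (x := x'))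
  haveI : IsLocalHom ψ := by
    refine ⟨fun z hz => by_contra fun hz' => ?_⟩
    let P := RingHom.ker ((residue RX').comp ψ)
    haveI : P.IsPrime := RingHom.ker_isPrime _
    have hP : P.comap i = maximalIdeal RX := by
      rw [RingHom.comap_ker, RingHom.comp_assoc, show ψ.comp i = h from RingHom.ext hψh,
        ← RingHom.comap_ker, ker_residue]
      exact IsLocalRing.maximalIdeal_comap h
    have hPm : P = maximalIdeal _ := eq_maximalIdeal
      (Ideal.isMaximal_of_isIntegral_of_isMaximal_comap (R := RX) _ (hP ▸ maximalIdeal.isMaximal RX))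
    have : z ∈ P := hPm.symm ▸ (mem_maximalIdeal _).mpr hz'
    exact (mem_maximalIdeal _).mp ((residue_eq_zero_iff _).mp this) hz
  have hpt : μ.base (closedPoint (RX ⊗[RS] RS')) = x' := by
    have h1 := congrArg (fun t => t.base (closedPoint RX')) hμ
    simp only [Scheme.Hom.comp_base, TopCat.comp_app] at h1
    haveI : IsLocalHom (CommRingCat.ofHom ψ).hom := ‹IsLocalHom ψ›
    haveI : IsLocalHom aX'.hom := inferInstanceAs (IsLocalHom (algebraMap _ RX'))
    rw [Spec_closedPoint, Spec_closedPoint, Scheme.fromSpecStalk_closedPoint] at h1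
    exact h1
  obtain ⟨φ, hφμ⟩ : ∃ φ : (pullback f g).presheaf.stalk x' ⟶ CommRingCat.of (RX ⊗[RS] RS'),
      Spec.map φ ≫ (pullback f g).fromSpecStalk x' = μ := by
    have : ∀ p, μ.base (closedPoint (RX ⊗[RS] RS')) = p → ∃ φ : (pullback f g).presheaf.stalk p ⟶
        CommRingCat.of (RX ⊗[RS] RS'), Spec.map φ ≫ (pullback f g).fromSpecStalk p = μ := by
      rintro p rfl
      exact ⟨Scheme.stalkClosedPointTo μ, Scheme.Spec_stalkClosedPointTo_fromSpecStalk μ⟩
    exact this x' hpt
  have hφu : u ≫ φ = a := by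
    apply Spec.map_injective
    rw [← cancel_mono (X.fromSpecStalk x), Spec.map_comp, Category.assoc,
      Scheme.SpecMap_stalkMap_fromSpecStalk, ← Category.assoc, hφμ]
    exact pullback.lift_fst _ _ _
  have hφv : v ≫ φ = b := by
    apply Spec.map_injective
    rw [← cancel_mono (S'.fromSpecStalk s'), Spec.map_comp, Category.assoc,
      Scheme.SpecMap_stalkMap_fromSpecStalk, ← Category.assoc, hφμ]
    exact pullback.lift_snd _ _ _
  have hφψ : φ ≫ CommRingCat.ofHom ψ = aX' := by
    apply Spec.map_injective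
    rw [← cancel_mono ((pullback f g).fromSpecStalk x'), Spec.map_comp, Category.assoc, hφμ, hμ]
  haveI : IsLocalHom u.hom := inferInstanceAs (IsLocalHom ((pullback.fst f g).stalkMap x').hom)
  haveI : IsLocalHom v.hom := inferInstanceAs (IsLocalHom ((pullback.snd f g).stalkMap x').hom)
  have hb := StrictHensBC.bijective_tensor (OS := S.presheaf.stalk s) u.hom v.hom h
    (algebraMap RS' RX') hh hsq ψ hψh hψk φ.hom
    (fun r => RingHom.congr_fun (congrArg CommRingCat.Hom.hom hφu) r)
    (fun r => RingHom.congr_fun (congrArg CommRingCat.Hom.hom hφv) r)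
    (congrArg CommRingCat.Hom.hom hφψ)
  obtain ⟨e⟩ := nonempty_vcRing_equiv RS RX RS' RX' Ω ψ hb hψk
  have hn' : (n : X.residueField x) ≠ 0 := fun h0 => hn (by
    have := congrArg ((pullback.fst f g).residueFieldMap x').hom h0
    rwa [map_natCast, map_zero] at this)
  obtain ⟨hpos, ⟨h00⟩⟩ := hf x RS RX hm Ω n hn'
  let i' : Spec (CommRingCat.of (EtRest.vcRing RS' RX' Ω)) ⟶ Spec (CommRingCat.of (EtRest.vcRing RS RX Ω)) :=
    Spec.map e.toCommRingCatIso.hom
  have key := fun q => EtHIso.nonempty_H_const_equiv i' (ZMod n) q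
  refine ⟨fun q hq => ?_, ?_⟩
  · obtain ⟨eq⟩ := key q
    haveI := hpos q hq
    exact eq.symm.injective.subsingleton
  · obtain ⟨e0⟩ := key 0
    exact ⟨e0.symm.trans h00⟩

end Groth.Lead.AcyclicBC
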