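import Groth.Agent.Lead.AmpRpush
import Groth.Agent.L29.DCoh.Gen.RpushTri
import Groth.Agent.L29.DCoh.Gen.QCohTri
import Groth.Agent.L10.DRing.TorTest
import Groth.Agent.L10.DRing.BaseChange
import Mathlib.Algebra.TrivSqZeroExt.Basic

/-!
Amplitude of direct images under flat morphisms to an affine base, tested along arbitrary base changes.
-/

set_option autoImplicit false
set_option linter.style.haveILetI false
set_option backward.defeqAttrib.useBackward true
set_option backward.isDefEq.respectTransparency false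
set_option backward.isDefEq.respectTransparency.types false

universe u

open CategoryTheory CategoryTheory.Limits AlgebraicGeometry TensorProduct

attribute [local instance] HasDerivedCategory.standard

namespace Groth.Lead.AmpLower

open Groth.L00 Groth.L29.DC Groth.L29.BC

theorem exact_of_bc {A B : Type u} [CommRing A] [CommRing B] (φ : A →+* B) (P : DRing.Cx A) (i : ℤ)
    (h : IsZero (((Groth.L02.PC.bcCx φ).obj P).homology i)) :
    letI := φ.toAlgebra
    Function.Exact ((P.d (i - 1) i).hom.lTensor B) ((P.d i (i + 1)).hom.lTensor B) :=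
  fun x => (Groth.L10.DR.isZero_homology_iff_exact ((Groth.L02.PC.bcCx φ).obj P) (i - 1) i (i + 1) (by omega) rfl).1 h x

/-- vanishing after base change to `R ⊕ N` gives vanishing after tensoring with `N` -/
theorem tz_of_bc {A : Type u} [CommRing A] (P : DRing.Cx A) (i : ℤ)
    (h : ∀ (B : Type u) [CommRing B] (φ : A →+* B), IsZero (((Groth.L02.PC.bcCx φ).obj P).homology i)) :
    Groth.L10.DR.TZ P i := by
  intro N
  rw [Groth.L10.DR.tensor_exact_iff P N (i - 1) i (i + 1) (by omega) rfl]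
  letI : Module Aᵐᵒᵖ N := Module.compHom N ((RingHom.id A).fromOpposite mul_comm)
  haveI : IsCentralScalar A N := ⟨fun _ _ => rfl⟩
  have hex : Function.Exact ((P.d (i - 1) i).hom.lTensor (TrivSqZeroExt A N)) ((P.d i (i + 1)).hom.lTensor (TrivSqZeroExt A N)) := by
    have h' := exact_of_bc (algebraMap A (TrivSqZeroExt A N)) P i (h _ _)
    have e : (algebraMap A (TrivSqZeroExt A N)).toAlgebra = (inferInstance : Algebra A (TrivSqZeroExt A N)) :=
      Algebra.algebra_ext _ _ fun _ => rfl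
    rwa [e] at h'
  let s : ∀ j, (P.X j ⊗[A] N) →ₗ[A] (TrivSqZeroExt A N) ⊗[A] P.X j := fun j =>
    (TrivSqZeroExt.inrHom A N).rTensor (P.X j) ∘ₗ (TensorProduct.comm A (P.X j) N).toLinearMap
  let t : ∀ j, (TrivSqZeroExt A N) ⊗[A] P.X j →ₗ[A] (P.X j ⊗[A] N) := fun j =>
    (TensorProduct.comm A N (P.X j)).toLinearMap ∘ₗ (TrivSqZeroExt.sndHom A N).rTensor (P.X j)
  have hts : ∀ j (x : P.X j ⊗[A] N), t j (s j x) = x := fun j x => by
    induction x using TensorProduct.induction_on with
    | zero => simp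
    | tmul a b => simp [s, t]
    | add a b ha hb => simp [map_add, ha, hb]
  have hs : ∀ j k (d : P.X j →ₗ[A] P.X k) (x : P.X j ⊗[A] N), d.lTensor (TrivSqZeroExt A N) (s j x) = s k (d.rTensor N x) :=
    fun j k d x => by
    induction x using TensorProduct.induction_on with
    | zero => simp
    | tmul a b => simp [s]
    | add a b ha hb => simp [map_add, ha, hb]
  have ht : ∀ j k (d : P.X j →ₗ[A] P.X k) (x : (TrivSqZeroExt A N) ⊗[A] P.X j), t k (d.lTensor (TrivSqZeroExt A N) x) = d.rTensor N (t j x) :=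
    fun j k d x => by
    induction x using TensorProduct.induction_on with
    | zero => simp
    | tmul a b => simp [t]
    | add a b ha hb => simp [map_add, ha, hb]
  intro x
  constructor
  · intro hx
    obtain ⟨y, hy⟩ := (hex (s i x)).1 (by rw [hs, hx, map_zero])
    exact ⟨t (i - 1) y, by rw [← ht, hy, hts]⟩
  · rintro ⟨y, rfl⟩
    have h0 : (P.d i (i + 1)).hom.lTensor (TrivSqZeroExt A N) ((P.d (i - 1) i).hom.lTensor (TrivSqZeroExt A N) (s (i - 1) y)) = 0 :=
      (hex _).2 ⟨_, rfl⟩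
    rw [hs, hs] at h0
    have := congrArg (t (i + 1)) h0
    rwa [hts, map_zero] at this

variable {X S : Scheme.{u}}

set_option maxHeartbeats 1600000 in
/-- tor amplitude of the algebraic model of a direct image -/
theorem amp_model {R : CommRingCat.{u}} (f : X ⟶ Spec R) [Flat f] [QuasiCompact f] [QuasiSeparated f]
    [X.IsSeparated] [DCoh.HasRpush f] [PreservesFiniteLimits (tilde.functor R)] {E : DCoh.D X} {a b B : ℤ}
    (hE : DCoh.HasRelFlatAmplitudeIn f a b E) (hEq : DCoh.IsQCohD E) (K₀ : Dual.D R)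
    (e₀ : (DCoh.tildeD R).obj K₀ ≅ (DCoh.Rpush f).obj E)
    (hB : ∀ i, B < i → IsZero (DCoh.HD ((DCoh.Rpush f).obj E) i)) :
    DRing.HasTorAmplitudeIn R a B K₀ := by
  have hK : Groth.L02.PC.LEH K₀ B := fun i hi => (TildeAlg.isZero_hd_iff K₀ i).1
    ((hB i hi).of_iso ((DerivedCategory.homologyFunctor _ i).mapIso e₀))
  obtain ⟨P, hPb, hPf, hPk, ⟨eP⟩⟩ := Groth.L02.PC.exists_free_rep hK
  haveI := hPk
  refine (Groth.L10.DR.amp_iff eP hPb (Groth.L10.DR.flat_of_free hPf) a B).2
    ⟨fun i hi => tz_of_bc P i fun C _ ψ => ?_, hK⟩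
  let φ : R ⟶ CommRingCat.of C := CommRingCat.ofHom ψ
  let g := Spec.map φ
  let g' := pullback.fst f g
  let f' := pullback.snd f g
  have hc : IsPullback g' f' f g := IsPullback.of_hasPullback f g
  haveI := Groth.L18.TildeF.tilde_preservesFiniteLimits (R := CommRingCat.of C)
  haveI : DRing.HasLBaseChange ψ := LBC.hasLBaseChange φ
  haveI := KFlat.hasLpull g
  haveI := KFlat.hasLpull g'
  haveI := RpushQC.hasRpush g
  haveI := RpushQC.hasRpush g'
  haveI := RpushQC.hasRpush f'
  haveI := Groth.L17.PushQCoh.hasInjectiveResolutions (pullback f g)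
  haveI : ((DCoh.Lpull g').obj E).IsGE a := by
    obtain ⟨G, hGv, hGf, ⟨eG⟩⟩ := hE
    obtain ⟨e''⟩ := RelBC.nonempty_Lpull_iso hc (b := b) (fun j hj => hGv j (Or.inr hj)) hGf
    refine (DerivedCategory.isGE_iff _ _).2 fun j hj => IsZero.of_iso ?_
      ((DerivedCategory.homologyFunctor _ j).mapIso ((DCoh.Lpull g').mapIso eG.symm ≪≫ e'') ≪≫
        (DerivedCategory.homologyFunctorFactors _ j).app _)
    exact ShortComplex.isZero_homology_of_isZero_X₂ _
      ((Scheme.Modules.pullback g').map_isZero (hGv j (Or.inl hj)))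
  haveI := RpushQC.isGE_Rpush f' ((DCoh.Lpull g').obj E) a
  haveI := (P_of_flat hc hEq).isIso
  obtain ⟨eL⟩ := LBC.nonempty_tildeDIso φ
  have hz : IsZero (DCoh.HD ((DCoh.tildeD (CommRingCat.of C)).obj ((DRing.LBaseChange ψ).obj (DRing.toD P))) i) :=
    (DerivedCategory.isZero_of_isGE ((DCoh.Rpush f').obj ((DCoh.Lpull g').obj E)) a i hi).of_iso
      ((DerivedCategory.homologyFunctor _ i).mapIso
        (eL.app (DRing.toD P) ≪≫ (DCoh.Lpull g).mapIso ((DCoh.tildeD R).mapIso eP ≪≫ e₀) ≪≫ asIso (β hc.w E)))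
  exact (Groth.L10.DR.HH_iso_zero (Groth.L02.PC.lbcIso _ P).symm i).1 ((TildeAlg.isZero_hd_iff _ i).1 hz)

/-- vanishing of a direct image above a shifted cohomological dimension -/
theorem isZero_Rpush_gt [CompactSpace S] (f : X ⟶ S) [QuasiCompact f] [QuasiSeparated f] [DCoh.HasRpush f] (N : ℕ)
    (hN : ∀ M : X.Modules, Coh.IsQCoh M → ∀ j : ℤ, (N : ℤ) < j →
      IsZero (DCoh.HD ((DCoh.Rpush f).obj (DCoh.inD X M)) j))
    (E : DCoh.D X) (hE : DCoh.IsQCohD E) (b : ℤ) [E.IsLE b] (m : ℤ) (hm : b + N < m) :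
    IsZero (DCoh.HD ((DCoh.Rpush f).obj E) m) := by
  haveI := Groth.L17.PushQCoh.hasInjectiveResolutions X
  haveI : HasInjectiveResolutions (ModSite.Mod X.sheaf) := ‹HasInjectiveResolutions X.Modules›
  obtain ⟨N₀, hN₀⟩ := RpushQC.exists_bound f
  have hN' : ∀ M : X.Modules, Coh.IsQCoh M → ∀ p : ℕ, N + 1 ≤ p → IsZero ((Coh.Rpush f p).obj M) := by
    intro M hM p hp
    obtain ⟨-, -, h3⟩ := Groth.L10.RDerBound.single_H (F := Scheme.Modules.pushforward f)
      ((DCoh.pushKh f).totalRightDerivedUnit DerivedCategory.Qh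
        (HomotopyCategory.quasiIso X.Modules (ComplexShape.up ℤ)))
      0 M N₀ (fun q hq => hN₀ M hM q (by omega))
    exact (hN M hM ((0 : ℤ) + p) (by omega)).of_iso (h3 p).some.symm
  haveI : ((E⟦b⟧) : DCoh.D X).IsLE 0 := DerivedCategory.TStructure.t.isLE_shift E b b 0 (add_zero b)
  have h := RpushQC.isZero_HD_Rpush f (N + 1) hN' (E⟦b⟧) (Groth.L29.DC.Gen.isQCohD_shift hE b) inferInstance (m - b) (by omega)
  letI := Groth.L29.DC.Gen.commShiftRpush f
  exact h.of_iso ((((DerivedCategory.homologyFunctor S.Modules 0).shiftIso b (m - b) m (by omega)).app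
    ((DCoh.Rpush f).obj E)).symm ≪≫
      (DerivedCategory.homologyFunctor S.Modules (m - b)).mapIso (((DCoh.Rpush f).commShiftIso b).app E).symm)

end Groth.Lead.AmpLower
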