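import Groth.Agent.Lead.SmoothAmp
import Groth.Agent.L10.RelPC.BC
import Groth.Agent.L10.DRing.JacobsonAmp
import Groth.Agent.L10.DRing.KFlatLBC
import Groth.Agent.L20.FibreDescent

/-!
# Tor amplitude from a quotient of the base

A pseudo-coherent complex over a local ring which is weakly étale over a polynomial ring over `R` has finite
tor amplitude as soon as its derived base change to `R ⧸ I` has, when `I` goes into the maximal ideal.
-/

set_option autoImplicit false
set_option linter.style.haveILetI false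
set_option backward.isDefEq.respectTransparency false
set_option backward.isDefEq.respectTransparency.types false
set_option backward.defeqAttrib.useBackward true

universe u

open CategoryTheory CategoryTheory.Limits
open scoped TensorProduct

noncomputable section

attribute [local instance] HasDerivedCategory.standard

namespace Groth.Lead.BaseQuot

open Groth.L20.TorAmp Groth.L10.DR Groth.L02.PC

variable {R S : Type u} [CommRing R] [CommRing S] [Algebra R S]

/-- The termwise derived base change of a bounded above complex of free modules restricted to the base. -/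
theorem amp_bc_res [Module.Flat R S] (I : Ideal R) [DRing.HasLBaseChange (Ideal.Quotient.mk I)]
    (X : DRing.Cx S) {N : ℤ} (hXb : DRing.VanishesAbove X N) (hXf : DRing.TermwiseFlat X) (a b : ℤ)
    (h : DRing.HasTorAmplitudeIn (R ⧸ I) a b
      ((DRing.LBaseChange (Ideal.Quotient.mk I)).obj (DRing.toD (res (A := R) X)))) :
    DRing.HasTorAmplitudeIn (R ⧸ I) a b
      (DRing.toD ((bcCx (Ideal.Quotient.mk I)).obj (res (A := R) X))) := by
  have hk : DRing.IsKFlat R (res (A := R) X) :=
    Groth.L10.KFlat.of_bounded _ N (fun i hi => Functor.map_isZero (ModuleCat.restrictScalars.{u} _) (hXb i hi))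
      fun i => haveI := hXf i; flat_restrict (X.X i)
  exact amp_of_iso (Groth.L10.KFlatLBC.lbcKF _ _ hk) h

/-- amplitude of the reduction modulo `I` -/
theorem amp_quot {n : ℕ} [Algebra (MvPolynomial (Fin n) R) S] [IsScalarTower R (MvPolynomial (Fin n) R) S]
    [Algebra.WeaklyEtale (MvPolynomial (Fin n) R) S] (I : Ideal R) [DRing.HasLBaseChange (Ideal.Quotient.mk I)]
    (X : DRing.Cx S) {N : ℤ} (hXb : DRing.VanishesAbove X N) (hXf : DRing.TermwiseFlat X) (a b : ℤ)
    (h : DRing.HasTorAmplitudeIn (R ⧸ I) a b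
      ((DRing.LBaseChange (Ideal.Quotient.mk I)).obj (DRing.toD (res (A := R) X)))) :
    DRing.HasTorAmplitudeIn (S ⧸ I.map (algebraMap R S)) (a - n) b
      (DRing.toD ((bcCx (Ideal.Quotient.mk (I.map (algebraMap R S)))).obj X)) := by
  haveI : Module.Flat R S := Module.Flat.trans R (MvPolynomial (Fin n) R) S
  let J := I.map (algebraMap R S)
  let P := MvPolynomial (Fin n) R
  let T := MvPolynomial (Fin n) (R ⧸ I)
  letI : Algebra (R ⧸ I) (S ⧸ J) := (Ideal.quotientMap J (algebraMap R S) Ideal.le_comap_map).toAlgebra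
  haveI : IsScalarTower R (R ⧸ I) (S ⧸ J) := IsScalarTower.of_algebraMap_eq fun _ => rfl
  haveI : Algebra.IsPushout R S R S := ⟨IsBaseChange.linearMap R S⟩
  haveI hpush : Algebra.IsPushout R S (R ⧸ I) (S ⧸ J) :=
    Groth.L20.FibreCrit.isPushout_of_surjective (P₀ := R) (P := S) Ideal.Quotient.mk_surjective Ideal.Quotient.mk_surjective
      (by rw [Ideal.Quotient.algebraMap_eq, Ideal.Quotient.algebraMap_eq, Ideal.mk_ker, Ideal.mk_ker])
  haveI : Algebra.IsPushout R (R ⧸ I) S (S ⧸ J) := .symm inferInstance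
  have h1 : DRing.HasTorAmplitudeIn (R ⧸ I) a b
      (DRing.toD (res (A := R ⧸ I) ((bcCx (Ideal.Quotient.mk J)).obj X))) :=
    amp_of_iso (DerivedCategory.Q.mapIso ((NatIso.mapHomologicalComplex
      (Groth.L10.RelPC.extResNat R (R ⧸ I) S (S ⧸ J)) (ComplexShape.up ℤ)).app X))
      (amp_bc_res I X hXb hXf a b h)
  letI : Algebra P T := (MvPolynomial.map (Ideal.Quotient.mk I)).toAlgebra
  haveI : IsScalarTower R P T := IsScalarTower.of_algebraMap_eq fun r => by
    show algebraMap R T r = MvPolynomial.map (Ideal.Quotient.mk I) (MvPolynomial.C r)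
    rw [MvPolynomial.map_C]; rfl
  let γ : T →ₐ[R ⧸ I] S ⧸ J :=
    MvPolynomial.aeval fun i => Ideal.Quotient.mk J (algebraMap P S (MvPolynomial.X i))
  letI : Algebra T (S ⧸ J) := γ.toRingHom.toAlgebra
  haveI : IsScalarTower (R ⧸ I) T (S ⧸ J) := IsScalarTower.of_algebraMap_eq fun r => (γ.commutes r).symm
  have hγ : γ.toRingHom.comp (algebraMap P T) = (Ideal.Quotient.mk J).comp (algebraMap P S) :=
    MvPolynomial.ringHom_ext
      (fun r => by
        show γ (MvPolynomial.map (Ideal.Quotient.mk I) (MvPolynomial.C r)) = Ideal.Quotient.mk J (algebraMap P S (algebraMap R P r))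
        rw [MvPolynomial.map_C, ← IsScalarTower.algebraMap_apply]
        exact γ.commutes _)
      (fun i => by
        show γ (MvPolynomial.map (Ideal.Quotient.mk I) (MvPolynomial.X i)) = _
        rw [MvPolynomial.map_X]
        exact MvPolynomial.aeval_X _ i)
  haveI : IsScalarTower P S (S ⧸ J) := inferInstance
  haveI : IsScalarTower P T (S ⧸ J) := IsScalarTower.of_algebraMap_eq fun p => by
    refine Eq.trans ?_ (RingHom.congr_fun hγ p).symm
    exact IsScalarTower.algebraMap_apply P S (S ⧸ J) p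
  haveI : IsScalarTower R P (S ⧸ J) := IsScalarTower.of_algebraMap_eq fun r => by
    rw [IsScalarTower.algebraMap_apply R S (S ⧸ J), IsScalarTower.algebraMap_apply R P S,
      ← IsScalarTower.algebraMap_apply P S (S ⧸ J)]
  haveI : Algebra.IsPushout R P (R ⧸ I) T := inferInstance
  haveI : IsScalarTower R T (S ⧸ J) := IsScalarTower.of_algebraMap_eq fun r => by
    rw [IsScalarTower.algebraMap_apply R P T, ← IsScalarTower.algebraMap_apply P T (S ⧸ J),
      ← IsScalarTower.algebraMap_apply R P (S ⧸ J)]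
  haveI : Algebra.IsPushout P S T (S ⧸ J) := (Algebra.IsPushout.comp_iff R P (R ⧸ I) T).1 hpush
  haveI : Algebra.IsPushout P T S (S ⧸ J) := .symm inferInstance
  let ε : T ⊗[P] S ≃ₐ[T] (S ⧸ J) := Algebra.IsPushout.equiv P T S (S ⧸ J)
  letI : Algebra (T ⊗[P] S) (S ⧸ J) := ε.toAlgHom.toRingHom.toAlgebra
  haveI : IsScalarTower T (T ⊗[P] S) (S ⧸ J) := ⟨fun t x y => by
    show ε (t • x) * y = t • (ε x * y)
    rw [map_smul, smul_mul_assoc]⟩
  haveI : Algebra.Etale (T ⊗[P] S) (S ⧸ J) :=
    Algebra.Etale.of_equiv (A := T ⊗[P] S) (AlgEquiv.ofBijective (Algebra.ofId _ _) ε.bijective)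
  haveI : Algebra.WeaklyEtale T (S ⧸ J) := Algebra.WeaklyEtale.trans T (T ⊗[P] S) (S ⧸ J)
  exact (Groth.Lead.SmoothAmp.amp_weaklyEtale _ _ _).1
    (Groth.Lead.SmoothAmp.amp_mvPolynomial a b n (res ((bcCx (Ideal.Quotient.mk J)).obj X))
      ((Groth.Lead.SmoothAmp.amp_resRes a b _).2 h1))

/-- Tor amplitude from the reduction modulo an ideal of the base contained in the maximal ideal. -/
theorem amp_of_baseQuot [IsLocalRing S] {n : ℕ} [Algebra (MvPolynomial (Fin n) R) S]
    [IsScalarTower R (MvPolynomial (Fin n) R) S] [Algebra.WeaklyEtale (MvPolynomial (Fin n) R) S]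
    (I : Ideal R) (hI : I.map (algebraMap R S) ≤ IsLocalRing.maximalIdeal S)
    [DRing.HasLBaseChange (Ideal.Quotient.mk I)] (K : Dual.D S) (hK : DRing.IsPseudoCoherent' S K) (a b : ℤ)
    (h : DRing.HasTorAmplitudeIn (R ⧸ I) a b
      ((DRing.LBaseChange (Ideal.Quotient.mk I)).obj ((DRing.restrictD (algebraMap R S)).obj K))) :
    DRing.IsPerfect S K ∧ DRing.HasTorAmplitudeIn S (a - n) b K := by
  obtain ⟨X, N, hXb, hXf, ⟨e⟩⟩ := id hK
  have hfl : DRing.TermwiseFlat X := fun i => haveI := (hXf i).2; inferInstance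
  have hk : DRing.IsKFlat S X := Groth.L10.KFlat.of_bounded _ N hXb hfl
  haveI := Groth.L10.KFlatLBC.hasLBaseChange (Ideal.Quotient.mk (I.map (algebraMap R S)))
  have h2 := amp_quot (n := n) I X hXb hfl a b
    (amp_of_iso ((DRing.LBaseChange (Ideal.Quotient.mk I)).mapIso
      ((DRing.restrictD (algebraMap R S)).mapIso e.symm ≪≫ resIso X)) h)
  exact perfect_and_amp_of_jacobson _ (by rw [IsLocalRing.jacobson_eq_maximalIdeal ⊥ bot_ne_top]; exact hI) K hK _ _
    (amp_of_iso ((Groth.L10.KFlatLBC.lbcKF _ _ hk).symm ≪≫ (DRing.LBaseChange _).mapIso e) h2)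

end Groth.Lead.BaseQuot
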