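import Groth.Agent.L10.CechBasic
import Groth.Agent.L10.CechNerves
import Mathlib.LinearAlgebra.Finsupp.Supported
import Mathlib.LinearAlgebra.Finsupp.LinearCombination
import Mathlib.Data.Fintype.Card
import Mathlib.Topology.Category.TopCat.Opens

/-!
The full Čech complex of a presheaf on opens for a family with `n` members is exact in degrees `≥ n`:
a chain homotopy between the identity and the projection to strictly increasing tuples.
-/

set_option autoImplicit false

universe u

open CategoryTheory CategoryTheory.Limits Opposite TopologicalSpace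

noncomputable section

namespace Groth.Lead.CechCard

variable {ι : Type u}

/-- Chains on tuples of length `k`. -/
abbrev C (ι : Type u) (k : ℕ) : Type u := (Fin k → ι) →₀ ℤ

/-- The boundary. -/
def bd (k : ℕ) : C ι (k + 1) →ₗ[ℤ] C ι k :=
  Finsupp.linearCombination ℤ fun a : Fin (k + 1) → ι =>
    ∑ j : Fin (k + 1), (-1 : ℤ) ^ (j : ℕ) • Finsupp.single (a ∘ j.succAbove) 1

theorem bd_single (k : ℕ) (a : Fin (k + 1) → ι) :
    bd k (Finsupp.single a 1) =
      ∑ j : Fin (k + 1), (-1 : ℤ) ^ (j : ℕ) • Finsupp.single (a ∘ j.succAbove) 1 := by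
  simp [bd]

theorem cons_comp_succ {k : ℕ} (m : ι) (b : Fin (k + 1) → ι) (j : Fin (k + 1)) :
    (Fin.cons m b : Fin (k + 2) → ι) ∘ (Fin.succ j).succAbove = Fin.cons m (b ∘ j.succAbove) := by
  funext i
  refine Fin.cases ?_ (fun i => ?_) i
  · simp
  · simp

/-- The cone with apex `m`. -/
def cone (m : ι) (k : ℕ) : C ι k →ₗ[ℤ] C ι (k + 1) :=
  Finsupp.linearCombination ℤ fun b : Fin k → ι => Finsupp.single (Fin.cons m b) 1

theorem bd_cone_zero (m : ι) (x : C ι 0) : bd 0 (cone m 0 x) = x := by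
  suffices h : (bd 0).comp (cone m 0) = LinearMap.id from LinearMap.congr_fun h x
  refine Finsupp.lhom_ext' fun b => LinearMap.ext_ring ?_
  simp [cone, bd_single, Subsingleton.elim (_ : Fin 0 → ι) b]

theorem bd_cone (m : ι) (k : ℕ) (x : C ι (k + 1)) :
    bd (k + 1) (cone m (k + 1) x) = x - cone m k (bd k x) := by
  suffices h : (bd (k + 1)).comp (cone m (k + 1)) = LinearMap.id - (cone m k).comp (bd k) from
    LinearMap.congr_fun h x
  refine Finsupp.lhom_ext' fun b => LinearMap.ext_ring ?_
  show bd (k + 1) (cone m (k + 1) (Finsupp.single b 1)) =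
    Finsupp.single b 1 - cone m k (bd k (Finsupp.single b 1))
  have e : ∀ (l : ℕ) (c : Fin l → ι), cone m l (Finsupp.single c 1) = Finsupp.single (Fin.cons m c) 1 :=
    fun l c => by simp [cone]
  have e0 : (Fin.cons m b : Fin (k + 2) → ι) ∘ (0 : Fin (k + 2)).succAbove = b := by
    funext i; simp
  rw [e, bd_single, bd_single, map_sum, Fin.sum_univ_succ, e0, sub_eq_add_neg, ← Finset.sum_neg_distrib]
  refine congrArg₂ (· + ·) (by simp) (Finset.sum_congr rfl fun j _ => ?_)
  rw [map_smul, e, cons_comp_succ, Fin.val_succ, pow_succ, mul_neg_one, neg_smul]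

theorem bd_bd : ∀ (k : ℕ) (x : C ι (k + 2)), bd k (bd (k + 1) x) = 0 := by
  intro k
  induction k with
  | zero =>
    intro x
    suffices h : (bd (ι := ι) 0).comp (bd 1) = 0 from LinearMap.congr_fun h x
    refine Finsupp.lhom_ext' fun a => LinearMap.ext_ring ?_
    have : (Finsupp.single a (1 : ℤ) : C ι 2) = cone (a 0) 1 (Finsupp.single (Fin.tail a) 1) := by
      simp [cone, Fin.cons_self_tail]
    show bd 0 (bd 1 (Finsupp.single a 1)) = 0
    rw [this, bd_cone, map_sub, bd_cone_zero, sub_self]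
  | succ k ih =>
    intro x
    suffices h : (bd (ι := ι) (k + 1)).comp (bd (k + 2)) = 0 from LinearMap.congr_fun h x
    refine Finsupp.lhom_ext' fun a => LinearMap.ext_ring ?_
    have : (Finsupp.single a (1 : ℤ) : C ι (k + 3)) = cone (a 0) (k + 2) (Finsupp.single (Fin.tail a) 1) := by
      simp [cone, Fin.cons_self_tail]
    show bd (k + 1) (bd (k + 2) (Finsupp.single a 1)) = 0
    rw [this, bd_cone, map_sub, bd_cone, ih, map_zero, sub_zero, sub_self]

/-- Chains supported on tuples with entries in `A`. -/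
def S (A : Set ι) (k : ℕ) : Submodule ℤ (C ι k) :=
  Finsupp.supported ℤ ℤ {b : Fin k → ι | Set.range b ⊆ A}

theorem single_mem_S {A : Set ι} {k : ℕ} {b : Fin k → ι} (hb : Set.range b ⊆ A) :
    Finsupp.single b 1 ∈ S A k :=
  Finsupp.single_mem_supported ℤ _ hb

theorem linearCombination_mem {A : Set ι} {k : ℕ} {M : Type u} [AddCommGroup M] (N : Submodule ℤ M)
    (g : (Fin k → ι) → M) (hg : ∀ b, Set.range b ⊆ A → g b ∈ N) {x : C ι k} (hx : x ∈ S A k) :
    Finsupp.linearCombination ℤ g x ∈ N := by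
  rw [Finsupp.linearCombination_apply]
  exact Submodule.sum_mem _ fun b hb => Submodule.smul_mem _ _
    (hg b ((Finsupp.mem_supported ℤ x).1 hx hb))

theorem bd_mem {A : Set ι} {k : ℕ} {x : C ι (k + 1)} (hx : x ∈ S A (k + 1)) : bd k x ∈ S A k :=
  linearCombination_mem _ _ (fun b hb => Submodule.sum_mem _ fun j _ => Submodule.smul_mem _ _
    (single_mem_S ((Set.range_comp_subset_range _ _).trans hb))) hx

theorem cone_mem {A : Set ι} {k : ℕ} {m : ι} (hm : m ∈ A) {x : C ι k} (hx : x ∈ S A k) :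
    cone m k x ∈ S A (k + 1) :=
  linearCombination_mem _ _ (fun b hb => single_mem_S
    (by rw [Fin.range_cons]; exact Set.insert_subset hm hb)) hx

variable [LinearOrder ι]

/-- Chains on strictly increasing tuples with entries in `A`. -/
def Inc (A : Set ι) (k : ℕ) : Submodule ℤ (C ι k) :=
  Finsupp.supported ℤ ℤ {b : Fin k → ι | Set.range b ⊆ A ∧ StrictMono b}

theorem Inc_le_S (A : Set ι) (k : ℕ) : Inc A k ≤ S A k :=
  Finsupp.supported_mono fun _ h => h.1

theorem Inc_mono {A B : Set ι} (h : A ⊆ B) (k : ℕ) : Inc A k ≤ Inc B k :=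
  Finsupp.supported_mono fun _ hb => ⟨hb.1.trans h, hb.2⟩

/-- The normalised cone. -/
def ncone (m : ι) (k : ℕ) : C ι k →ₗ[ℤ] C ι (k + 1) :=
  Finsupp.linearCombination ℤ fun b : Fin k → ι =>
    if ∀ i, m < b i then Finsupp.single (Fin.cons m b) 1 else 0

theorem ncone_single (m : ι) (k : ℕ) (b : Fin k → ι) :
    ncone m k (Finsupp.single b 1) = if ∀ i, m < b i then Finsupp.single (Fin.cons m b) 1 else 0 := by
  simp [ncone]

theorem strictMono_cons {k : ℕ} {m : ι} {b : Fin k → ι} (h : ∀ i, m < b i) (hb : StrictMono b) :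
    StrictMono (Fin.cons m b : Fin (k + 1) → ι) := by
  intro i j hij
  induction i using Fin.cases with
  | zero =>
    induction j using Fin.cases with
    | zero => exact absurd hij (lt_irrefl _)
    | succ j => simpa using h j
  | succ i =>
    induction j using Fin.cases with
    | zero => exact absurd hij (Fin.not_lt_zero _)
    | succ j => simpa using hb (Fin.succ_lt_succ_iff.1 hij)

theorem ncone_mem {A : Set ι} {k : ℕ} {m : ι} (hm : m ∈ A) {x : C ι k} (hx : x ∈ Inc A k) :
    ncone m k x ∈ Inc A (k + 1) := by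
  rw [ncone, Finsupp.linearCombination_apply]
  refine Submodule.sum_mem _ fun b hb => Submodule.smul_mem _ _ ?_
  obtain ⟨hr, hs⟩ := (Finsupp.mem_supported ℤ x).1 hx hb
  by_cases h : ∀ i, m < b i
  · rw [if_pos h]
    refine Finsupp.single_mem_supported ℤ _ ⟨?_, strictMono_cons h hs⟩
    rw [Fin.range_cons]; exact Set.insert_subset hm hr
  · rw [if_neg h]; exact zero_mem _

theorem bd_ncone_zero (m : ι) (x : C ι 0) : bd 0 (ncone m 0 x) = x := by
  suffices h : (bd 0).comp (ncone m 0) = LinearMap.id from LinearMap.congr_fun h x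
  refine Finsupp.lhom_ext' fun b => LinearMap.ext_ring ?_
  simp [ncone, bd_single, Subsingleton.elim (_ : Fin 0 → ι) b]

theorem bd_ncone {A : Set ι} {m : ι} (hm : ∀ i ∈ A, m ≤ i) (k : ℕ) {x : C ι (k + 1)}
    (hx : x ∈ Inc A (k + 1)) :
    bd (k + 1) (ncone m (k + 1) x) + ncone m k (bd k x) = x := by
  suffices h : Inc A (k + 1) ≤ LinearMap.eqLocus
      ((bd (k + 1)).comp (ncone m (k + 1)) + (ncone m k).comp (bd k)) LinearMap.id from h hx
  rw [Inc, Finsupp.supported_eq_span_single, Submodule.span_le]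
  rintro _ ⟨b, ⟨hr, hs⟩, rfl⟩
  show bd (k + 1) (ncone m (k + 1) (Finsupp.single b 1)) + ncone m k (bd k (Finsupp.single b 1)) =
    Finsupp.single b 1
  rcases (hm _ (hr ⟨0, rfl⟩)).lt_or_eq with h0 | h0
  · have hall : ∀ i, m < b i := fun i => h0.trans_le (hs.monotone (Fin.zero_le i))
    have h' : ∀ j : Fin (k + 1), ∀ i, m < (b ∘ j.succAbove) i := fun j i => hall _
    rw [ncone_single, if_pos hall, bd_single, bd_single, map_sum, Fin.sum_univ_succ]
    simp only [map_smul, ncone_single, h', implies_true, if_true, cons_comp_succ]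
    simp [pow_succ, Function.comp_def]
  · have hnot : ¬ ∀ i, m < b i := fun h => (h 0).ne h0
    rw [ncone_single, if_neg hnot, map_zero, zero_add, bd_single, map_sum, Fin.sum_univ_succ]
    have h1 : ∀ j : Fin k, ¬ ∀ i, m < (b ∘ j.succ.succAbove) i := by
      intro j h
      rcases k with - | k
      · exact j.elim0
      · exact (h 0).ne (by simpa using h0)
    have h2 : ∀ i, m < (b ∘ (0 : Fin (k + 1)).succAbove) i := fun i => by
      rw [h0]; exact hs (by simp)
    simp only [map_smul, ncone_single, h1, if_false, smul_zero, Finset.sum_const_zero, add_zero]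
    rw [if_pos h2]
    have : (Fin.cons m (b ∘ (0 : Fin (k + 1)).succAbove) : Fin (k + 1) → ι) = b := by
      funext i
      induction i using Fin.cases with
      | zero => simpa using h0
      | succ i => simp
    rw [this]
    simp

/-- The least entry of a nonempty tuple. -/
def mn {k : ℕ} (a : Fin (k + 1) → ι) : ι := (Finset.univ.image a).min' (by simp)

theorem mn_mem {k : ℕ} (a : Fin (k + 1) → ι) : mn a ∈ Set.range a := by
  have := (Finset.univ.image a).min'_mem (by simp)
  simpa [mn] using this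

theorem mn_le {k : ℕ} (a : Fin (k + 1) → ι) : ∀ i ∈ Set.range a, mn a ≤ i := by
  rintro _ ⟨i, rfl⟩
  exact Finset.min'_le _ _ (by simp)

/-- The projection to increasing tuples. -/
def P : (k : ℕ) → (Fin k → ι) → C ι k
  | 0, a => Finsupp.single a 1
  | k + 1, a => ncone (mn a) k (Finsupp.linearCombination ℤ (P k) (bd k (Finsupp.single a 1)))

/-- The linear extension of the projection. -/
def Pl (k : ℕ) : C ι k →ₗ[ℤ] C ι k := Finsupp.linearCombination ℤ (P k)

theorem Pl_single (k : ℕ) (a : Fin k → ι) : Pl k (Finsupp.single a 1) = P k a := by simp [Pl]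

theorem Pl_zero (x : C ι 0) : Pl 0 x = x := by
  suffices h : Pl (ι := ι) 0 = LinearMap.id from LinearMap.congr_fun h x
  exact Finsupp.lhom_ext' fun b => LinearMap.ext_ring (by simp [Pl, P])

theorem P_succ (k : ℕ) (a : Fin (k + 1) → ι) :
    P (k + 1) a = ncone (mn a) k (Pl k (bd k (Finsupp.single a 1))) := rfl

theorem P_mem : ∀ (k : ℕ) (a : Fin k → ι), P k a ∈ Inc (Set.range a) k
  | 0, a => Finsupp.single_mem_supported ℤ _ ⟨subset_rfl, fun i => i.elim0⟩
  | k + 1, a => ncone_mem (mn_mem a) (linearCombination_mem _ _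
      (fun b hb => Inc_mono hb k (P_mem k b)) (bd_mem (single_mem_S subset_rfl)))

theorem bd_Pl : ∀ (k : ℕ) (x : C ι (k + 1)), bd k (Pl (k + 1) x) = Pl k (bd k x) := by
  intro k
  induction k with
  | zero =>
    intro x
    suffices h : (bd (ι := ι) 0).comp (Pl 1) = (Pl 0).comp (bd 0) from LinearMap.congr_fun h x
    refine Finsupp.lhom_ext' fun a => LinearMap.ext_ring ?_
    show bd 0 (Pl 1 (Finsupp.single a 1)) = Pl 0 (bd 0 (Finsupp.single a 1))
    rw [Pl_single, P_succ, bd_ncone_zero]
  | succ k ih =>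
    intro x
    suffices h : (bd (ι := ι) (k + 1)).comp (Pl (k + 2)) = (Pl (k + 1)).comp (bd (k + 1)) from
      LinearMap.congr_fun h x
    refine Finsupp.lhom_ext' fun a => LinearMap.ext_ring ?_
    show bd (k + 1) (Pl (k + 2) (Finsupp.single a 1)) = Pl (k + 1) (bd (k + 1) (Finsupp.single a 1))
    rw [Pl_single, P_succ]
    have hx : Pl (k + 1) (bd (k + 1) (Finsupp.single a 1)) ∈ Inc (Set.range a) (k + 1) :=
      linearCombination_mem _ _ (fun b hb => Inc_mono hb _ (P_mem _ b))
        (bd_mem (single_mem_S subset_rfl))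
    have h := bd_ncone (mn_le a) k hx
    rw [ih, bd_bd, map_zero, map_zero, add_zero] at h
    exact h

theorem P_eq_zero [Finite ι] {k : ℕ} (hk : Nat.card ι < k) (a : Fin k → ι) : P k a = 0 := by
  refine Finsupp.support_eq_empty.1 (Finset.eq_empty_of_forall_notMem fun b hb => ?_)
  have h := Nat.card_le_card_of_injective b
    ((Finsupp.mem_supported ℤ _).1 (P_mem k a) hb).2.injective
  rw [Nat.card_eq_fintype_card, Fintype.card_fin] at h
  omega

/-- The homotopy. -/
def h : (k : ℕ) → (Fin k → ι) → C ι (k + 1)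
  | 0, _ => 0
  | k + 1, a => cone (mn a) (k + 1) (Finsupp.single a 1 - P (k + 1) a -
      Finsupp.linearCombination ℤ (h k) (bd k (Finsupp.single a 1)))

/-- The linear extension of the homotopy. -/
def hl (k : ℕ) : C ι k →ₗ[ℤ] C ι (k + 1) := Finsupp.linearCombination ℤ (h k)

theorem hl_single (k : ℕ) (a : Fin k → ι) : hl k (Finsupp.single a 1) = h k a := by simp [hl]

theorem h_succ (k : ℕ) (a : Fin (k + 1) → ι) :
    h (k + 1) a = cone (mn a) (k + 1) (Finsupp.single a 1 - P (k + 1) a -
      hl k (bd k (Finsupp.single a 1))) := rfl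

theorem h_mem : ∀ (k : ℕ) (a : Fin k → ι), h k a ∈ S (Set.range a) (k + 1)
  | 0, _ => zero_mem _
  | k + 1, a => cone_mem (mn_mem a) (Submodule.sub_mem _ (Submodule.sub_mem _ (single_mem_S subset_rfl)
      (Inc_le_S _ _ (P_mem _ a))) (linearCombination_mem _ _
        (fun b hb => (Finsupp.supported_mono fun _ hc => Set.Subset.trans hc hb) (h_mem k b))
        (bd_mem (single_mem_S subset_rfl))))

theorem bd_hl : ∀ (k : ℕ) (x : C ι (k + 1)),
    bd (k + 1) (hl (k + 1) x) + hl k (bd k x) + Pl (k + 1) x = x := by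
  intro k
  induction k with
  | zero =>
    intro x
    suffices h : (bd (ι := ι) 1).comp (hl 1) + (hl 0).comp (bd 0) + Pl 1 = LinearMap.id from
      LinearMap.congr_fun h x
    refine Finsupp.lhom_ext' fun a => LinearMap.ext_ring ?_
    show bd 1 (hl 1 (Finsupp.single a 1)) + hl 0 (bd 0 (Finsupp.single a 1)) + Pl 1 (Finsupp.single a 1) =
      Finsupp.single a 1
    have h0 : ∀ y : C ι 0, hl 0 y = 0 := fun y => by simp [hl, h, Finsupp.linearCombination_apply]
    have hc : bd 0 (Finsupp.single a 1 - P 1 a - hl 0 (bd 0 (Finsupp.single a 1))) = 0 := by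
      rw [h0, sub_zero, map_sub, ← Pl_single, bd_Pl, Pl_zero, sub_self]
    rw [hl_single, h_succ, bd_cone, hc, map_zero, sub_zero, Pl_single]
    abel
  | succ k ih =>
    intro x
    suffices h : (bd (ι := ι) (k + 2)).comp (hl (k + 2)) + (hl (k + 1)).comp (bd (k + 1)) + Pl (k + 2) =
        LinearMap.id from LinearMap.congr_fun h x
    refine Finsupp.lhom_ext' fun a => LinearMap.ext_ring ?_
    show bd (k + 2) (hl (k + 2) (Finsupp.single a 1)) + hl (k + 1) (bd (k + 1) (Finsupp.single a 1)) +
      Pl (k + 2) (Finsupp.single a 1) = Finsupp.single a 1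
    have hc : bd (k + 1) (Finsupp.single a 1 - P (k + 2) a -
        hl (k + 1) (bd (k + 1) (Finsupp.single a 1))) = 0 := by
      have := ih (bd (k + 1) (Finsupp.single a 1))
      rw [bd_bd, map_zero, add_zero] at this
      rw [map_sub, map_sub, ← Pl_single, bd_Pl]
      rw [← eq_sub_iff_add_eq] at this
      rw [this, sub_self]
    rw [hl_single, h_succ, bd_cone, hc, map_zero, sub_zero, Pl_single]
    abel

section cochains

omit [LinearOrder ι]

open Groth.L10.Cech

variable {X : TopCat.{u}} {F : (Opens X)ᵒᵖ ⥤ AddCommGrpCat.{u}} {U : ι → Opens X}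

local notation "cxU" => cx (𝟭 (Opens X)) U F

theorem tup_le {k l : ℕ} {a : Fin (k + 1) → ι} {b : Fin (l + 1) → ι} (h : Set.range b ⊆ Set.range a) :
    tup U a ≤ tup U b := by
  rw [tup_eq_iInf, tup_eq_iInf]
  exact le_iInf fun i => by
    obtain ⟨j, hj⟩ := h ⟨i, rfl⟩
    exact (iInf_le _ j).trans (by rw [hj])

open scoped Classical in
/-- Evaluation of a cochain on chains over an open. -/
def ev {k : ℕ} (s : (cxU).X k) (V : Opens X) : C ι (k + 1) →ₗ[ℤ] F.obj (op V) :=
  Finsupp.linearCombination ℤ fun b : Fin (k + 1) → ι =>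
    if hV : V ≤ tup U b then F.map (homOfLE hV).op (co b s) else 0

theorem ev_single {k : ℕ} (s : (cxU).X k) {V : Opens X} {b : Fin (k + 1) → ι} (hV : V ≤ tup U b) :
    ev s V (Finsupp.single b 1) = F.map (homOfLE hV).op (co b s) := by
  simp [ev, dif_pos hV]

theorem ev_res {k : ℕ} (s : (cxU).X k) {V W : Opens X} (hWV : W ≤ V) {A : Set ι}
    (hA : ∀ b : Fin (k + 1) → ι, Set.range b ⊆ A → V ≤ tup U b) {x : C ι (k + 1)} (hx : x ∈ S A (k + 1)) :
    F.map (homOfLE hWV).op (ev s V x) = ev s W x := by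
  let f : C ι (k + 1) →ₗ[ℤ] F.obj (op W) :=
    (F.map (homOfLE hWV).op).hom.toIntLinearMap.comp (ev s V)
  suffices h : S A (k + 1) ≤ LinearMap.eqLocus f (ev s W) from h hx
  rw [S, Finsupp.supported_eq_span_single, Submodule.span_le]
  rintro _ ⟨b, hb, rfl⟩
  show F.map (homOfLE hWV).op (ev s V (Finsupp.single b 1)) = ev s W (Finsupp.single b 1)
  rw [ev_single s (hA b hb), ev_single s (hWV.trans (hA b hb)), ← ConcreteCategory.comp_apply,
    ← Functor.map_comp]
  rfl

theorem ev_d {k : ℕ} (s : (cxU).X k) {V : Opens X} {A : Set ι}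
    (hA : ∀ b : Fin (k + 2) → ι, Set.range b ⊆ A → V ≤ tup U b) {x : C ι (k + 2)} (hx : x ∈ S A (k + 2)) :
    ev ((cxU).d k (k + 1) s) V x = ev s V (bd (k + 1) x) := by
  suffices h : S A (k + 2) ≤ LinearMap.eqLocus (ev ((cxU).d k (k + 1) s) V) ((ev s V).comp (bd (k + 1)))
    from h hx
  rw [S, Finsupp.supported_eq_span_single, Submodule.span_le]
  rintro _ ⟨b, hb, rfl⟩
  show ev ((cxU).d k (k + 1) s) V (Finsupp.single b 1) = ev s V (bd (k + 1) (Finsupp.single b 1))
  rw [ev_single _ (hA b hb), co_d, bd_single, map_sum, map_sum]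
  refine Finset.sum_congr rfl fun j _ => ?_
  rw [map_zsmul, map_zsmul, ev_single s ((hA b hb).trans (tup_le (Set.range_comp_subset_range _ _))),
    ← ConcreteCategory.comp_apply]
  refine congrArg _ ?_
  erw [← Functor.map_comp]
  rfl

theorem exactAt [Finite ι] (p : ℕ) (hp : Nat.card ι ≤ p + 1) : (cxU).ExactAt (p + 1) := by
  classical
  letI : LinearOrder ι := LinearOrder.lift' (Finite.equivFin ι) (Finite.equivFin ι).injective
  rw [HomologicalComplex.exactAt_iff' _ p (p + 1) (p + 2) (by simp) (by simp),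
    ShortComplex.ab_exact_iff]
  intro s hs
  let t : (cxU).X p := mk fun b => ev s (tup U b) (h (p + 1) b)
  refine ⟨t, ?_⟩
  show (cxU).d p (p + 1) t = s
  have hs' : (cxU).d (p + 1) (p + 2) s = 0 := hs
  refine co_ext fun a => ?_
  have hA : ∀ {l : ℕ} (b : Fin (l + 1) → ι), Set.range b ⊆ Set.range a → tup U a ≤ tup U b :=
    fun b hb => tup_le hb
  have key := congrArg (ev s (tup U a)) (bd_hl (p + 1) (Finsupp.single a 1))
  rw [Pl_single, P_eq_zero (by omega) a, add_zero, map_add, hl_single,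
    ← ev_d s hA (h_mem (p + 2) a), hs', ev_single s le_rfl] at key
  have h0 : ev (0 : (cxU).X (p + 2)) (tup U a) (h (p + 2) a) = 0 := by
    simp [ev, Finsupp.linearCombination_apply]
  rw [h0, zero_add, bd_single, map_sum, map_sum] at key
  rw [co_d]
  refine Eq.trans ?_ (key.trans ?_)
  · refine Finset.sum_congr rfl fun j _ => ?_
    rw [map_zsmul, map_zsmul, hl_single, co_mk]
    refine congrArg _ ?_
    exact ev_res s (tup_le (Set.range_comp_subset_range _ _)) (fun b hb => tup_le hb) (h_mem _ _)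
  · exact congrArg (fun f => (ConcreteCategory.hom f) (co a s)) (F.map_id _)

theorem isZero_homology [Finite ι] (q : ℕ) (hq : Nat.card ι ≤ q) : IsZero ((cxU).homology q) := by
  refine (HomologicalComplex.exactAt_iff_isZero_homology _ _).1 ?_
  cases q with
  | succ p => exact exactAt p hq
  | zero =>
    haveI : IsEmpty ι := (Nat.card_eq_zero.1 (Nat.le_zero.1 hq)).resolve_right (fun h => h.not_finite ‹_›)
    refine HomologicalComplex.ExactAt.of_isZero ?_
    haveI : Subsingleton ((cxU).X 0 : Type u) := ⟨fun x y => co_ext fun a => isEmptyElim (a 0)⟩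
    exact AddCommGrpCat.isZero_of_subsingleton _

end cochains

end Groth.Lead.CechCard
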