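import Mathlib.AlgebraicGeometry.Morphisms.Etale
import Mathlib.AlgebraicGeometry.Morphisms.ClosedImmersion
import Mathlib.AlgebraicGeometry.Morphisms.FormallyUnramified
import Mathlib.RingTheory.Smooth.StandardSmoothOfFree
import Mathlib.RingTheory.Smooth.Basic
import Mathlib.RingTheory.Etale.Kaehler

/-!
A closed subscheme of a smooth scheme over `Y` that embeds in `Y` lies, locally, in a closed subscheme
étale over `Y`.
-/

set_option autoImplicit false
set_option linter.style.haveILetI false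
set_option backward.defeqAttrib.useBackward true
set_option backward.isDefEq.respectTransparency false
set_option backward.isDefEq.respectTransparency.types false

universe u

open CategoryTheory AlgebraicGeometry TensorProduct
open scoped TensorProduct

noncomputable section

namespace Groth.Lead.EtaleThrough

open KaehlerDifferential

section alg

variable {A B : Type u} [CommRing A] [CommRing B] [Algebra A B]

theorem exists_basis [Algebra.Smooth A B] (I p : Ideal B) [p.IsPrime] (hIp : I ≤ p)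
    [Algebra.FormallyUnramified A (B ⧸ I)] :
    ∃ (g : B) (κ : Type u) (_ : Finite κ) (a : κ → I), g ∉ p ∧
      ∀ (T : Type u) [CommRing T] [Algebra B T] [Algebra A T] [IsScalarTower A B T] [IsLocalization.Away g T],
        ∃ b : Module.Basis κ T Ω[T⁄A], ∀ i, b i = D A T (algebraMap B T (a i)) := by
  let L := Localization.AtPrime p
  let v : I → Ω[L⁄A] := fun x => map A A B L (D A B x)
  have hv : Submodule.span L (Set.range v) = ⊤ := by
    have hw : ∀ ω : Ω[B⁄A], ∃ x : I, ω - D A B x ∈ I • (⊤ : Submodule B Ω[B⁄A]) := by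
      intro ω
      obtain ⟨c, hc⟩ := (exact_kerCotangentToTensor_mapBaseChange A B (B ⧸ I) Ideal.Quotient.mk_surjective
        ((1 : B ⧸ I) ⊗ₜ ω)).1 (Subsingleton.elim _ _)
      obtain ⟨x, rfl⟩ := Ideal.toCotangent_surjective _ c
      refine ⟨⟨x.1, by simpa [Ideal.Quotient.eq_zero_iff_mem] using x.2⟩, ?_⟩
      rw [kerCotangentToTensor_toCotangent] at hc
      rw [← LinearMap.ker_tensorProductMk, LinearMap.mem_ker, map_sub]
      exact sub_eq_zero.2 hc.symm
    refine top_le_iff.1 (Submodule.le_of_le_smul_of_le_jacobson_bot (I := IsLocalRing.maximalIdeal L)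
      Module.Finite.fg_top (IsLocalRing.maximalIdeal_le_jacobson _) ?_)
    rw [← span_range_map_derivation_of_isLocalization A B L p.primeCompl, Submodule.span_le]
    rintro _ ⟨s, rfl⟩
    obtain ⟨x, hx⟩ := hw (D A B s)
    have h1 : ∀ ω ∈ I • (⊤ : Submodule B Ω[B⁄A]), map A A B L ω ∈
        IsLocalRing.maximalIdeal L • (⊤ : Submodule L Ω[L⁄A]) := by
      intro ω hω
      refine Submodule.smul_induction_on hω (fun r hr m _ => ?_) fun a b ha hb => ?_
      · rw [LinearMap.map_smul, ← algebraMap_smul L r]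
        exact Submodule.smul_mem_smul ((IsLocalization.AtPrime.to_map_mem_maximal_iff L p r).2 (hIp hr))
          Submodule.mem_top
      · rw [map_add]; exact add_mem ha hb
    have h2 : map A A B L (D A B s) = v x + map A A B L (D A B s - D A B x.1) := by
      simp only [v, map_sub]; abel
    show map A A B L (D A B s) ∈ _
    rw [h2]
    exact add_mem (Submodule.mem_sup_left (Submodule.subset_span ⟨x, rfl⟩))
      (Submodule.mem_sup_right (by
        have := h1 _ hx
        rwa [← span_range_map_derivation_of_isLocalization A B L p.primeCompl] at *))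
  obtain ⟨κ, a, b, hb⟩ := Module.exists_basis_of_span_of_flat v hv
  let e : (κ →₀ B) →ₗ[B] Ω[B⁄A] := Finsupp.linearCombination B fun i : κ ↦ D A B (a i : B)
  let l₁ : (κ →₀ B) →ₗ[B] (κ →₀ L) := Finsupp.mapRange.linearMap (Algebra.linearMap B L)
  let l₂ : Ω[B⁄A] →ₗ[B] Ω[L⁄A] := map A A B L
  let eₚ : (κ →₀ L) →ₗ[L] Ω[L⁄A] := IsLocalizedModule.mapExtendScalars p.primeCompl l₁ l₂ L e
  have he : eₚ = b.repr.symm := by
    ext i
    trans IsLocalizedModule.map p.primeCompl l₁ l₂ e <| l₁ <| Finsupp.single i 1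
    · simp [eₚ, -IsLocalizedModule.map_apply, l₁]
    · simp [l₂, e, hb, v]
  have heₚ : Function.Bijective eₚ := he ▸ b.repr.symm.bijective
  haveI : Finite κ := Module.Finite.finite_basis b
  obtain ⟨g, hg, h⟩ := Module.FinitePresentation.exists_notMem_bijective e p l₁ l₂ heₚ
  refine ⟨g, κ, inferInstance, a, hg, fun T _ _ _ _ _ => ?_⟩
  let l₁ₜ : (κ →₀ B) →ₗ[B] (κ →₀ T) := Finsupp.mapRange.linearMap (Algebra.linearMap B _)
  let l₂ₜ : Ω[B⁄A] →ₗ[B] Ω[T⁄A] := map A A B T
  rw [← IsLocalizedModule.map_bijective_iff_localizedModuleMap_bijective l₁ₜ l₂ₜ] at h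
  let eₜ' : (κ →₀ T) →ₗ[T] Ω[T⁄A] := IsLocalizedModule.mapExtendScalars (Submonoid.powers g) l₁ₜ l₂ₜ T e
  exact ⟨.ofRepr (LinearEquiv.ofBijective eₜ' h).symm,
    fun i => by simp +zetaDelta [IsLocalizedModule.map_linearCombination]⟩

theorem etale_quotient [Algebra.Smooth A B] {κ : Type u} [Finite κ] (b : Module.Basis κ B Ω[B⁄A]) (c : κ → B)
    (hb : ∀ i, b i = D A B (c i)) : Algebra.Etale A (B ⧸ Ideal.span (Set.range c)) := by
  classical
  haveI := Fintype.ofFinite κ
  let J := Ideal.span (Set.range c)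
  let S := B ⧸ J
  have hS : Function.Surjective (algebraMap B S) := Ideal.Quotient.mk_surjective
  have hker : RingHom.ker (algebraMap B S) = J := Ideal.mk_ker
  have hc : ∀ i, c i ∈ RingHom.ker (algebraMap B S) := fun i => hker.ge (Ideal.subset_span ⟨i, rfl⟩)
  let ci : κ → (RingHom.ker (algebraMap B S)).Cotangent := fun i => Ideal.toCotangent _ ⟨c i, hc i⟩
  have hK : ∀ i, kerCotangentToTensor A B S (ci i) = 1 ⊗ₜ b i := fun i => by
    rw [kerCotangentToTensor_toCotangent, hb]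
  have hsurj : Function.Surjective (kerCotangentToTensor A B S) := by
    intro y
    suffices y ∈ LinearMap.range (kerCotangentToTensor A B S) from this
    induction y with
    | zero => exact zero_mem _
    | add u w hu hw => exact add_mem hu hw
    | tmul s ω =>
      obtain ⟨r, rfl⟩ := hS s
      rw [Algebra.algebraMap_eq_smul_one, ← TensorProduct.smul_tmul']
      refine Submodule.smul_mem _ r ?_
      have hω := b.mem_span ω
      induction hω using Submodule.span_induction with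
      | mem w hw => obtain ⟨i, rfl⟩ := hw; exact ⟨ci i, hK i⟩
      | zero => rw [tmul_zero]; exact zero_mem _
      | add u w _ _ hu hw => rw [tmul_add]; exact add_mem hu hw
      | smul t w _ hw => rw [tmul_smul]; exact Submodule.smul_mem _ t hw
  have hinj : Function.Injective (kerCotangentToTensor A B S) := by
    rw [injective_iff_map_eq_zero]
    intro z hz
    obtain ⟨⟨w, hw⟩, rfl⟩ := Ideal.toCotangent_surjective _ z
    obtain ⟨r, hr⟩ := Ideal.mem_span_range_iff_exists_fun.1 (hker.le hw)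
    have hz' : Ideal.toCotangent _ (⟨w, hw⟩ : RingHom.ker (algebraMap B S)) = ∑ i, r i • ci i := by
      simp only [ci, ← map_smul, ← map_sum]
      congr 1
      apply Subtype.ext
      simp [← hr]
    rw [hz'] at hz ⊢
    have h0 : (1 : S) ⊗ₜ[B] (∑ i, r i • b i) = 0 := by
      rw [tmul_sum, ← hz, map_sum]
      exact Finset.sum_congr rfl fun i _ => by rw [tmul_smul, map_smul, hK]
    have hmem : (∑ i, r i • b i) ∈ J • (⊤ : Submodule B Ω[B⁄A]) := by
      rw [← LinearMap.ker_tensorProductMk, LinearMap.mem_ker]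
      exact h0
    have hrJ : ∀ i, r i ∈ RingHom.ker (algebraMap B S) := fun i => by
      rw [hker]
      have h1 : ∀ x ∈ J • (⊤ : Submodule B Ω[B⁄A]), b.repr x i ∈ J := by
        intro x hx
        refine Submodule.smul_induction_on hx (fun t ht m _ => ?_) fun u w hu hw => ?_
        · rw [map_smul, Finsupp.smul_apply, smul_eq_mul]; exact Ideal.mul_mem_right _ _ ht
        · rw [map_add, Finsupp.add_apply]; exact add_mem hu hw
      have h2 := h1 _ hmem
      rwa [b.repr_sum_self] at h2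
    refine Finset.sum_eq_zero fun i _ => ?_
    simp only [ci, ← map_smul]
    rw [Ideal.toCotangent_eq_zero, pow_two]
    exact Ideal.mul_mem_mul (hrJ i) (hc i)
  let E := LinearEquiv.ofBijective (kerCotangentToTensor A B S) ⟨hinj, hsurj⟩
  haveI : Algebra.FormallySmooth A S :=
    (Algebra.FormallySmooth.iff_split_injection hS).2 ⟨E.symm.toLinearMap, LinearMap.ext fun z => E.symm_apply_apply z⟩
  haveI : Algebra.FormallyUnramified A S := by
    refine ⟨⟨fun x y => ?_⟩⟩
    suffices ∀ x : Ω[S⁄A], x = 0 by rw [this x, this y]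
    intro x
    obtain ⟨w, rfl⟩ := mapBaseChange_surjective A B S hS x
    exact (exact_kerCotangentToTensor_mapBaseChange A B S hS w).2 (hsurj w)
  haveI : Algebra.FinitePresentation A S :=
    Algebra.FinitePresentation.quotient (Submodule.fg_span (Set.finite_range c))
  exact { formallyEtale := Algebra.FormallyEtale.of_formallyUnramified_and_formallySmooth }

end alg

variable {X Y Z : Scheme.{u}} (f : X ⟶ Y) [Smooth f] (i : Z ⟶ X) [IsClosedImmersion i]

set_option maxHeartbeats 800000 in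
theorem exists_through [IsClosedImmersion (i ≫ f)] (z : Z) :
    ∃ (U : X.Opens) (_ : i.base z ∈ U) (W : Scheme.{u}) (j : W ⟶ (U : Scheme.{u})) (_ : IsClosedImmersion j)
      (_ : Etale (j ≫ U.ι ≫ f)) (g : ((i ⁻¹ᵁ U : Z.Opens) : Scheme.{u}) ⟶ W), g ≫ j = i ∣_ U := by
  obtain ⟨V, hV, hyV, -⟩ := exists_isAffineOpen_mem_and_subset (x := f (i z)) (U := ⊤) trivial
  obtain ⟨U₀, hU₀, hxU₀, hle⟩ := exists_isAffineOpen_mem_and_subset (x := i z) (U := f ⁻¹ᵁ V) hyV
  letI : Algebra Γ(Y, V) Γ(X, U₀) := (f.appLE V U₀ hle).hom.toAlgebra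
  haveI : Algebra.Smooth Γ(Y, V) Γ(X, U₀) := HasRingHomProperty.appLE @Smooth f inferInstance ⟨V, hV⟩ ⟨U₀, hU₀⟩ hle
  let Z₀ : Z.Opens := i ⁻¹ᵁ U₀
  have hZ₀ : IsAffineOpen Z₀ := hU₀.preimage i
  have hsurj : Function.Surjective (i.app U₀) := i.app_surjective U₀ hU₀
  let I : Ideal Γ(X, U₀) := RingHom.ker (i.app U₀).hom
  have hle' : Z₀ ≤ (i ≫ f) ⁻¹ᵁ V := fun w hw => hle hw
  haveI : Algebra.FormallyUnramified Γ(Y, V) (Γ(X, U₀) ⧸ I) := by
    have h1 : ((i ≫ f).appLE V Z₀ hle').hom.FormallyUnramified :=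
      HasRingHomProperty.appLE @FormallyUnramified (i ≫ f) inferInstance ⟨V, hV⟩ ⟨Z₀, hZ₀⟩ hle'
    let E := RingHom.quotientKerEquivOfSurjective hsurj
    have h2 := RingHom.FormallyUnramified.respectsIso.1 _ E.symm h1
    have h3 : E.symm.toRingHom.comp ((i ≫ f).appLE V Z₀ hle').hom = algebraMap Γ(Y, V) (Γ(X, U₀) ⧸ I) := by
      ext r
      apply E.injective
      refine (E.apply_symm_apply _).trans ?_
      rw [show (i ≫ f).appLE V Z₀ hle' = f.appLE V U₀ hle ≫ i.app U₀ by
        rw [Scheme.Hom.app_eq_appLE, Scheme.Hom.appLE_comp_appLE]]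
      rfl
    rw [h3, RingHom.formallyUnramified_algebraMap] at h2
    exact h2
  let p : Ideal Γ(X, U₀) := (hU₀.primeIdealOf ⟨i z, hxU₀⟩).asIdeal
  have hIp : I ≤ p := by
    intro a ha
    by_contra hap
    have hmem : i z ∈ X.basicOpen a := by
      rw [show i z = hU₀.fromSpec (hU₀.primeIdealOf ⟨i z, hxU₀⟩) from (hU₀.fromSpec_primeIdealOf ⟨i z, hxU₀⟩).symm]
      show (hU₀.primeIdealOf ⟨i z, hxU₀⟩) ∈ hU₀.fromSpec ⁻¹ᵁ X.basicOpen a
      rw [hU₀.fromSpec_preimage_basicOpen]
      exact hap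
    have h2 : z ∈ i ⁻¹ᵁ X.basicOpen a := hmem
    rw [i.preimage_basicOpen, show i.app U₀ a = 0 from ha, Scheme.basicOpen_zero] at h2
    exact h2
  obtain ⟨g, κ, hκ, a, hg, hT⟩ := exists_basis (A := Γ(Y, V)) I p hIp
  let U : X.Opens := X.basicOpen g
  have hU : IsAffineOpen U := hU₀.basicOpen g
  have hUV : U ≤ f ⁻¹ᵁ V := (X.basicOpen_le g).trans hle
  have hxU : i z ∈ U := by
    rw [show i z = hU₀.fromSpec (hU₀.primeIdealOf ⟨i z, hxU₀⟩) from (hU₀.fromSpec_primeIdealOf ⟨i z, hxU₀⟩).symm]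
    show (hU₀.primeIdealOf ⟨i z, hxU₀⟩) ∈ hU₀.fromSpec ⁻¹ᵁ X.basicOpen g
    rw [hU₀.fromSpec_preimage_basicOpen]
    exact hg
  let res : Γ(X, U₀) ⟶ Γ(X, U) := X.presheaf.map (homOfLE (X.basicOpen_le g)).op
  letI : Algebra Γ(X, U₀) Γ(X, U) := res.hom.toAlgebra
  letI : Algebra Γ(Y, V) Γ(X, U) := (f.appLE V U hUV).hom.toAlgebra
  haveI : IsScalarTower Γ(Y, V) Γ(X, U₀) Γ(X, U) := IsScalarTower.of_algebraMap_eq' (by
    show (f.appLE V U hUV).hom = res.hom.comp (f.appLE V U₀ hle).hom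
    rw [← CommRingCat.hom_comp, Scheme.Hom.appLE_map])
  haveI : IsLocalization.Away g Γ(X, U) := hU₀.isLocalization_basicOpen g
  haveI : Algebra.Smooth Γ(Y, V) Γ(X, U) := HasRingHomProperty.appLE @Smooth f inferInstance ⟨V, hV⟩ ⟨U, hU⟩ hUV
  obtain ⟨b, hb⟩ := hT Γ(X, U)
  let c : κ → Γ(X, U) := fun q => res (a q : Γ(X, U₀))
  have het : Algebra.Etale Γ(Y, V) (Γ(X, U) ⧸ Ideal.span (Set.range c)) := etale_quotient b c hb
  let π : Γ(X, U) ⟶ CommRingCat.of (Γ(X, U) ⧸ Ideal.span (Set.range c)) := CommRingCat.ofHom (Ideal.Quotient.mk _)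
  let j : Spec (CommRingCat.of (Γ(X, U) ⧸ Ideal.span (Set.range c))) ⟶ U.toScheme := Spec.map π ≫ hU.isoSpec.inv
  haveI : IsClosedImmersion (Spec.map π) := IsClosedImmersion.spec_of_surjective π Ideal.Quotient.mk_surjective
  have hZ' : IsAffineOpen (i ⁻¹ᵁ U) := hU.preimage i
  let φ : Γ(X, U) ⟶ Γ(Z, i ⁻¹ᵁ U) := i.app U
  have hφ : ∀ x ∈ Ideal.span (Set.range c), φ.hom x = 0 := by
    intro x hx
    suffices Ideal.span (Set.range c) ≤ RingHom.ker φ.hom from this hx
    rw [Ideal.span_le]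
    rintro _ ⟨q, rfl⟩
    show (res ≫ i.app U) (a q : Γ(X, U₀)) = 0
    rw [show res ≫ i.app U = i.app U₀ ≫ Z.presheaf.map (homOfLE (i.preimage_mono (X.basicOpen_le g))).op from
      i.naturality _]
    show Z.presheaf.map _ (i.app U₀ _) = 0
    rw [show i.app U₀ (a q : Γ(X, U₀)) = 0 from (a q).2, map_zero]
  let ψ : CommRingCat.of (Γ(X, U) ⧸ Ideal.span (Set.range c)) ⟶ Γ(Z, i ⁻¹ᵁ U) :=
    CommRingCat.ofHom (Ideal.Quotient.lift _ φ.hom hφ)
  have hπψ : π ≫ ψ = φ := by ext x; rfl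
  refine ⟨U, hxU, _, j, inferInstance, ?_, hZ'.isoSpec.hom ≫ Spec.map ψ, ?_⟩
  · have e : j ≫ U.ι ≫ f = Spec.map (f.appLE V U hUV ≫ π) ≫ hV.fromSpec := by
      simp only [j, Category.assoc, IsAffineOpen.isoSpec_inv_ι_assoc, Spec.map_comp]
      rw [IsAffineOpen.SpecMap_appLE_fromSpec]
    rw [e]
    haveI : Etale (Spec.map (f.appLE V U hUV ≫ π)) :=
      (HasRingHomProperty.Spec_iff (P := @Etale)).2 (RingHom.etale_algebraMap.2 het)
    infer_instance
  · rw [← cancel_mono U.ι, morphismRestrict_ι]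
    simp only [j, Category.assoc, IsAffineOpen.isoSpec_inv_ι]
    rw [← Spec.map_comp_assoc, hπψ, show φ = i.appLE U (i ⁻¹ᵁ U) le_rfl from Scheme.Hom.app_eq_appLE _,
      IsAffineOpen.SpecMap_appLE_fromSpec i hU hZ', IsAffineOpen.isoSpec_hom_fromSpec_assoc]

end Groth.Lead.EtaleThrough
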