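import Groth.Agent.L27.NormalSepClosed.Scheme
import Groth.Agent.L00.FEtFaithful
import Mathlib.AlgebraicGeometry.Morphisms.Finite
import Mathlib.AlgebraicGeometry.Morphisms.Preimmersion
import Groth.Agent.L27.NormalSepClosed.FEt

/-!
# Restriction of finite etale covers to a closed subscheme with the same connected components
-/

universe u

open CategoryTheory CategoryTheory.Limits AlgebraicGeometry

set_option backward.isDefEq.respectTransparency.types false

namespace Groth.Lead.FEtComponents

open Groth.L27.NormalSepClosed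

/-- A map bijective on connected components is bijective on clopens. -/
theorem exists_clopen_preimage {A B : Type u} [TopologicalSpace A] [TopologicalSpace B]
    [TopologicalSpace.NoetherianSpace B] {p : A → B} (hp : Continuous p)
    (h : Function.Bijective hp.connectedComponentsMap) {C : Set A} (hC : IsClopen C) :
    ∃ G : Set B, IsClopen G ∧ p ⁻¹' G = C := by
  classical
  let K : Set (ConnectedComponents B) := hp.connectedComponentsMap '' (ConnectedComponents.mk '' C)
  haveI : Finite (ConnectedComponents B) := by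
    haveI : Finite (irreducibleComponents B) :=
      TopologicalSpace.NoetherianSpace.finite_irreducibleComponents.to_subtype
    refine Finite.of_surjective (fun W : irreducibleComponents B => ConnectedComponents.mk W.2.1.1.some) ?_
    intro c
    obtain ⟨b, rfl⟩ := ConnectedComponents.surjective_coe c
    refine ⟨⟨irreducibleComponent b, irreducibleComponent_mem_irreducibleComponents b⟩, ?_⟩
    refine ConnectedComponents.coe_eq_coe'.2 ?_
    exact isIrreducible_irreducibleComponent.2.isPreconnected.subset_connectedComponent mem_irreducibleComponent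
      ((irreducibleComponent_mem_irreducibleComponents b).1.1.some_mem)
  have hcl : ∀ T : Set (ConnectedComponents B), IsClosed (ConnectedComponents.mk ⁻¹' T) := fun T => by
    rw [← Set.biUnion_of_singleton T, Set.preimage_iUnion₂]
    refine T.toFinite.isClosed_biUnion fun c _ => ?_
    obtain ⟨b, rfl⟩ := ConnectedComponents.surjective_coe c
    rw [connectedComponents_preimage_singleton]
    exact isClosed_connectedComponent
  refine ⟨ConnectedComponents.mk ⁻¹' K, ⟨hcl K, isClosed_compl_iff.1 (by rw [← Set.preimage_compl]; exact hcl _)⟩, ?_⟩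
  ext a
  constructor
  · rintro ⟨c, ⟨a', ha', rfl⟩, he⟩
    have := h.1 (a₁ := ConnectedComponents.mk a') (a₂ := ConnectedComponents.mk a) he
    exact hC.connectedComponent_subset ha' (ConnectedComponents.coe_eq_coe'.1 this.symm)
  · exact fun ha => ⟨_, ⟨a, ha, rfl⟩, rfl⟩

variable {X Y : Scheme.{u}} [AlgebraicGeometry.IsNoetherian X] (f : Y ⟶ X)

theorem meetsClopens (h : ∀ V : FEt.Cat X, Function.Surjective (pullback.fst V.hom f).continuous.connectedComponentsMap) :
    MeetsClopens f := by
  intro Z z _ _ C hC ⟨c, hc⟩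
  obtain ⟨d, hd⟩ := h (MorphismProperty.Over.mk ⊤ z ⟨inferInstance, inferInstance⟩) (ConnectedComponents.mk c)
  obtain ⟨w, rfl⟩ := ConnectedComponents.surjective_coe d
  refine ⟨pullback.fst z f w, hC.connectedComponent_subset hc ?_, pullback.snd z f w, ?_⟩
  · exact ConnectedComponents.coe_eq_coe'.1 hd
  · rw [← Scheme.Hom.comp_apply, ← pullback.condition]; rfl

theorem faithful (hm : MeetsClopens f) : (FEt.restrict f).Faithful :=
  Groth.L00.FEtFaithful.faithful_restrict f fun V O hO hne => by
    haveI : Etale V.hom := V.prop.2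
    haveI : IsFinite V.hom := V.prop.1
    obtain ⟨c, hc, h⟩ := hm V.left V.hom O hO hne
    exact ⟨_, ⟨c, hc, rfl⟩, h⟩

/-- Fullness. -/
theorem full [IsPreimmersion f]
    (h : ∀ V : FEt.Cat X, Function.Bijective (pullback.fst V.hom f).continuous.connectedComponentsMap)
    (hm : MeetsClopens f) : (FEt.restrict f).Full := by
  refine ⟨fun {V W} φ => ?_⟩
  haveI : Etale V.hom := V.prop.2
  haveI : IsFinite V.hom := V.prop.1
  haveI : Etale W.hom := W.prop.2
  haveI : IsFinite W.hom := W.prop.1
  let T := pullback V.hom W.hom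
  let pr₁ : T ⟶ V.left := pullback.fst V.hom W.hom
  let t : T ⟶ X := pr₁ ≫ V.hom
  haveI : Etale t := inferInstance
  haveI : IsFinite t := inferInstance
  let p : pullback t f ⟶ T := pullback.fst t f
  haveI : IsPreimmersion p := MorphismProperty.pullback_fst (P := @IsPreimmersion) t f inferInstance
  let fV := pullback.fst V.hom f
  let qV : pullback t f ⟶ pullback V.hom f := pullback.lift (p ≫ pr₁) (pullback.snd t f)
    ((Category.assoc _ _ _).trans pullback.condition)
  have hφw : φ.left ≫ pullback.snd W.hom f = pullback.snd V.hom f := MorphismProperty.Over.w φ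
  let γ₁ : pullback V.hom f ⟶ T := pullback.lift fV (φ.left ≫ pullback.fst W.hom f) (by
    refine (pullback.condition).trans ?_
    refine (congrArg (· ≫ f) hφw.symm).trans ?_
    refine (Category.assoc _ _ _).trans (Eq.trans ?_ (Category.assoc _ _ _).symm)
    exact congrArg (φ.left ≫ ·) pullback.condition.symm)
  have hγ₁ : γ₁ ≫ t = pullback.snd V.hom f ≫ f := by
    rw [← Category.assoc, pullback.lift_fst]; exact pullback.condition
  let γ : pullback V.hom f ⟶ pullback t f := pullback.lift γ₁ (pullback.snd V.hom f) hγ₁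
  have hγq : γ ≫ qV = 𝟙 _ := by
    apply pullback.hom_ext
    · rw [Category.assoc, pullback.lift_fst, ← Category.assoc, pullback.lift_fst, pullback.lift_fst,
        Category.id_comp]
    · rw [Category.assoc, pullback.lift_snd, pullback.lift_snd, Category.id_comp]
  have sq : IsPullback p qV pr₁ fV := by
    refine IsPullback.of_bot (h₂₁ := fV) (v₂₁ := pullback.snd V.hom f) ?_ (pullback.lift_fst _ _ _).symm
      (IsPullback.of_hasPullback V.hom f)
    have : qV ≫ pullback.snd V.hom f = pullback.snd t f := pullback.lift_snd _ _ _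
    rw [this]
    exact IsPullback.of_hasPullback t f
  haveI : Etale qV := MorphismProperty.of_isPullback (P := @Etale) sq inferInstance
  haveI : IsFinite qV := MorphismProperty.of_isPullback (P := @IsFinite) sq inferInstance
  haveI : IsClosedImmersion (γ ≫ qV) := hγq.symm ▸ inferInstance
  haveI : IsClosedImmersion γ := IsClosedImmersion.of_comp γ qV
  haveI : Etale (γ ≫ qV) := hγq.symm ▸ inferInstance
  haveI : Etale γ := Etale.of_comp γ qV
  haveI : IsOpenImmersion γ := IsOpenImmersion.of_flat_of_mono γ
  haveI : AlgebraicGeometry.IsNoetherian T := by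
    haveI := LocallyOfFiniteType.isLocallyNoetherian t
    haveI : CompactSpace T := QuasiCompact.compactSpace_of_compactSpace t
    exact {}
  obtain ⟨G', hG', hpG⟩ := exists_clopen_preimage p.continuous
    (h (MorphismProperty.Over.mk ⊤ t ⟨inferInstance, inferInstance⟩))
    (show IsClopen (Set.range γ) from ⟨γ.isClosedEmbedding.isClosed_range, γ.isOpenEmbedding.isOpen_range⟩)
  let G : T.Opens := ⟨G', hG'.2⟩
  have hGc : IsClosed (G : Set T) := hG'.1
  haveI : IsClosedImmersion (Scheme.Opens.ι G) :=
    IsClosedImmersion.of_isPreimmersion (Scheme.Opens.ι G) (by rw [Scheme.Opens.range_ι]; exact hGc)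
  let b : (G : Scheme.{u}) ⟶ V.left := Scheme.Opens.ι G ≫ pr₁
  let O : (pullback t f : Scheme.{u}).Opens := p ⁻¹ᵁ G
  have sqb : IsPullback (p ∣_ G) (Scheme.Opens.ι O ≫ qV) b fV :=
    (isPullback_morphismRestrict p G).paste_vert sq
  have hr : Set.range γ = Set.range (Scheme.Opens.ι O) := by
    rw [Scheme.Opens.range_ι]; exact hpG.symm
  let γ' : pullback V.hom f ⟶ O := IsOpenImmersion.lift (Scheme.Opens.ι O) γ hr.subset
  have hγ' : γ' ≫ Scheme.Opens.ι O = γ := IsOpenImmersion.lift_fac _ _ _
  haveI : IsIso (Scheme.Opens.ι O ≫ qV) := by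
    haveI : IsOpenImmersion (γ' ≫ Scheme.Opens.ι O) := hγ'.symm ▸ inferInstance
    haveI : IsOpenImmersion γ' := IsOpenImmersion.of_comp γ' (Scheme.Opens.ι O)
    haveI : IsIso γ' := by
      haveI : Epi γ'.base := (TopCat.epi_iff_surjective _).2 fun o => by
        obtain ⟨a, ha⟩ := hr.symm.subset ⟨o, rfl⟩
        exact ⟨a, (Scheme.Opens.ι O).isEmbedding.injective
          ((Scheme.Hom.comp_apply _ _ _).symm.trans ((congr($hγ' a)).trans ha))⟩
      exact IsOpenImmersion.isIso γ'
    have h : γ' ≫ (Scheme.Opens.ι O ≫ qV) = 𝟙 _ := by rw [← Category.assoc, hγ', hγq]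
    have h2 : Scheme.Opens.ι O ≫ qV = inv γ' := by rw [← cancel_epi γ', h, IsIso.hom_inv_id]
    rw [h2]
    infer_instance
  haveI : IsIso (pullback.snd b fV) := by
    rw [← sqb.isoPullback_inv_snd]
    infer_instance
  haveI : IsIso b := isIso_of_restrict b fV (fun Z z _ _ C hC hne => by
    obtain ⟨c, hc, y, hy⟩ := hm Z (z ≫ V.hom) C hC hne
    obtain ⟨w, hw, -⟩ := Scheme.Pullback.exists_preimage_pullback (f := V.hom) (g := f) (z c) y
      (by rw [hy]; exact (Scheme.Hom.comp_apply _ _ _).symm)
    exact ⟨c, hc, w, hw⟩)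
  have hwb : (inv b ≫ Scheme.Opens.ι G ≫ pullback.snd V.hom W.hom) ≫ W.hom = V.hom := by
    rw [Category.assoc, Category.assoc, IsIso.inv_comp_eq]
    exact (congrArg (Scheme.Opens.ι G ≫ ·) pullback.condition.symm).trans (Category.assoc _ _ _).symm
  refine ⟨MorphismProperty.Over.homMk (inv b ≫ Scheme.Opens.ι G ≫ pullback.snd V.hom W.hom) hwb, ?_⟩
  have hl : γ' ≫ (p ∣_ G) ≫ Scheme.Opens.ι G = γ₁ := by
    rw [morphismRestrict_ι, ← Category.assoc, hγ', pullback.lift_fst]
  have hlb : γ' ≫ (p ∣_ G) = fV ≫ inv b := by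
    rw [IsIso.eq_comp_inv]
    show (γ' ≫ p ∣_ G) ≫ Scheme.Opens.ι G ≫ pr₁ = fV
    rw [← Category.assoc, Category.assoc γ', hl]
    exact pullback.lift_fst _ _ _
  refine MorphismProperty.Over.Hom.ext (pullback.hom_ext ?_ ?_)
  · refine (pullback.lift_fst _ _ _).trans ?_
    show fV ≫ inv b ≫ Scheme.Opens.ι G ≫ pullback.snd V.hom W.hom = _
    rw [← Category.assoc fV (inv b), ← hlb, Category.assoc, ← Category.assoc (p ∣_ G),
      ← Category.assoc γ', hl]
    exact pullback.lift_snd _ _ _
  · exact (pullback.lift_snd _ _ _).trans hφw.symm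


end Groth.Lead.FEtComponents
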