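import Groth.Agent.Lead.FibreBounded

/-!
# Relative finite tor amplitude: assembling the chart criterion
-/

set_option autoImplicit false
set_option linter.style.haveILetI false
set_option linter.unusedSectionVars false
set_option backward.isDefEq.respectTransparency false
set_option backward.isDefEq.respectTransparency.types false
set_option backward.defeqAttrib.useBackward true

universe u

open CategoryTheory CategoryTheory.Limits AlgebraicGeometry

noncomputable section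

attribute [local instance] HasDerivedCategory.standard

namespace Groth.Lead.FibreAssemble

open Groth.Lead.SmoothStalk Groth.Lead.FibreLocal Groth.Lead.FibreGlobal Groth.L29.DC Groth.L29.DC.ClosedPC Groth.L29.RelPC

attribute [local instance] ClosedPC.additive ClosedPC.exactLeft ClosedPC.exactRight

/-- a pseudo-coherent complex bounded below whose fibres at closed points have bounded amplitude is locally of
finite tor amplitude -/
theorem locFinite_of_amp {R : CommRingCat.{u}} {X : Scheme.{u}} (f : X ⟶ Spec R) [Flat f]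
    [LocallyOfFinitePresentation f] [CompactSpace X] (G : CochainComplex X.Modules ℤ)
    (hpc : ∀ m, DCoh.IsPseudoCoherentD m (DCoh.toD X G)) (low₀ : ℤ)
    (hlow : ∀ i, i < low₀ → ∀ x : X, IsZero ((Groth.L00.Stk.F X x).obj (DCoh.HD (DCoh.toD X G) i)))
    (hcl : ∀ x : X, IsClosed ({x} : Set X) → ∃ a b : ℤ, AmpQ (f x).asIdeal f G x a b) :
    DerSch.LocFiniteTorAmplitude f G := by
  intro x
  obtain ⟨x₀, hx₀, hcl₀⟩ := (isClosed_closure (s := ({x} : Set X))).exists_closed_singleton ⟨x, subset_closure rfl⟩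
  suffices h : ∃ (V : X.Opens) (a b : ℤ), x₀ ∈ V ∧ ∀ x' : X, x' ∈ V → DerSch.HasTorAmplitudeAt f a b G x' by
    obtain ⟨V, a, b, hV, h⟩ := h
    exact ⟨V, a, b, (specializes_iff_mem_closure.2 hx₀).mem_open V.2 hV, h⟩
  obtain ⟨a₁, b₁, hq⟩ := hcl x₀ hcl₀
  obtain ⟨U₀, n₀, j₀, hk, hj₀i, hj₀⟩ := exists_chart f x₀
  haveI := hj₀i
  let low : ℤ := min low₀ (a₁ - n₀)
  haveI := Groth.L10.KFlatLBC.hasLBaseChange (Ideal.Quotient.mk (f x₀).asIdeal)
  have hamp := Groth.L10.DR.amp_mono (amp_chart (f := f) hpc j₀ hj₀ ⟨x₀, hk⟩ le_rfl a₁ b₁ hq)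
    (min_le_right low₀ (a₁ - n₀)) le_rfl
  let Z := Spec (CommRingCat.of (MvPolynomial (Fin n₀) R))
  let GZ := push j₀ ((DCoh.restrictCx U₀).obj G)
  let z : Z := j₀ ⟨x₀, hk⟩
  have hpcZ := pc_chart hpc j₀ hj₀
  obtain ⟨N, hN⟩ := Groth.L29.DC.TildeAlg.exists_isZero (hpcZ 0)
  have hzlow : ∀ i, i < low → IsZero (DCoh.HD (DCoh.toD Z GZ) i) := fun i hi => by
    refine IsZero.of_iso ?_ ((DerivedCategory.homologyFunctorFactors Z.Modules i).app GZ)
    haveI := Groth.L29.DC.ClosedPC.exactLeft j₀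
    haveI := Groth.L29.DC.ClosedPC.exactRight j₀
    refine IsZero.of_iso ?_ ((((DCoh.restrictCx U₀).obj G).sc i).mapHomologyIso (Scheme.Modules.pushforward j₀))
    refine (Scheme.Modules.pushforward j₀).map_isZero ?_
    refine (Groth.L00.Stk.acyclic_iff _ i).2 fun y => ?_
    refine IsZero.of_iso ?_ (Groth.L29.DC.PerfDesc.stkQIso ((DCoh.restrictCx U₀).obj G) i y).symm
    exact ((Groth.L29.DC.PCStalk.isZero_res_iff U₀.ι (DCoh.toD X G) i y).2 (hlow i (lt_of_lt_of_le hi (min_le_left _ _)) _)).of_iso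
      ((Groth.L00.Stk.F _ y).mapIso ((DerivedCategory.homologyFunctor _ i).mapIso (resQIso U₀ G)).symm)
  obtain ⟨P, hP, -, hPf, ⟨eP⟩⟩ := exists_flat_representative_le (DCoh.toD Z GZ) N fun i hi => hN i hi.le
  have hPb : ∀ i, N < i → IsZero (P.X i) := fun i hi =>
    haveI := hP; CochainComplex.isZero_of_isStrictlyLE P N i hi
  let F := Groth.L00.Stk.F Z z
  have hgood : PerfDesc.Good P low z := PerfDesc.goodAlg_of_amp (PerfDesc.flat_S hPf z)
    (PerfDesc.vanishesAbove_S hPb z) (K := DRing.toD (stk z GZ))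
    ((F.mapDerivedCategoryFactors.app P).symm ≪≫ F.mapDerivedCategory.mapIso eP ≪≫
      F.mapDerivedCategoryFactors.app GZ) hamp
  obtain ⟨W, i, hi, ⟨w, hw⟩, hwit⟩ := PerfDesc.exists_pwit_of_good hPf hPb low
    (fun i hi => (hzlow i hi).of_iso ((DerivedCategory.homologyFunctor _ i).mapIso eP))
    (isPseudoCoherentD_of_iso eP.symm (hpcZ _)) z hgood
  obtain ⟨T, ⟨⟨a, b, hTv⟩, hTf⟩, ⟨eT⟩⟩ := hwit
  refine ⟨U₀.ι ''ᵁ (j₀ ⁻¹ᵁ i.opensRange), a, b, ⟨⟨x₀, hk⟩, ⟨w, hw⟩, rfl⟩, ?_⟩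
  rintro _ ⟨y, ⟨w', hw'⟩, rfl⟩
  refine ampAt_chart j₀ hj₀ y a b ?_
  rw [show j₀ y = i w' from hw'.symm]
  let R' := Scheme.Modules.restrictFunctor i
  let GW := (R'.mapHomologicalComplex (ComplexShape.up ℤ)).obj GZ
  have hflat : DCoh.HasFlatAmplitudeIn a b (DCoh.toD W GW) :=
    ⟨T, hTv, fun m => isFlat_of_isFinLocFree (hTf m),
      ⟨eT.symm ≪≫ (DCoh.restrictD i).mapIso eP ≪≫ R'.mapDerivedCategoryFactors.app GZ⟩⟩
  haveI : SmoothOfRelativeDimension 0 ((⊤ : Z.Opens).ι ≫ 𝟙 Z) := by rw [Category.comp_id]; infer_instance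
  haveI : Flat (i ≫ 𝟙 Z) := by rw [Category.comp_id]; infer_instance
  exact Groth.L10.DR.amp_mono (amp_stalk (𝟙 Z) (n := 0) (V := ⊤) (x := i w') trivial a b GZ
    ((amp_restrict_iff (𝟙 Z) i w' GZ a b).1
      (amp_stalk_base (i ≫ 𝟙 Z) w' a b GW (Groth.Lead.SmoothPerf.stk_of_flatAmp GW hflat w')))) (by simp) le_rfl


variable {X S : Scheme.{u}} (f : X ⟶ S)

theorem stalk_zero_of_isGE {U : Scheme.{u}} (j : U ⟶ X) [IsOpenImmersion j] (K : DCoh.D X) {a : ℤ}
    (h : ((DCoh.restrictD j).obj K).IsGE a) (i : ℤ) (hi : i < a) (y : U) :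
    IsZero ((Groth.L00.Stk.F X (j y)).obj (DCoh.HD K i)) :=
  (Groth.L29.DC.PCStalk.isZero_res_iff j K i y).1
    ((Groth.L00.Stk.F U y).map_isZero ((DerivedCategory.isGE_iff _ a).1 h i hi))

theorem isGE_of_stalk_zero {U : Scheme.{u}} (j : U ⟶ X) [IsOpenImmersion j] (K : DCoh.D X) {a : ℤ}
    (h : ∀ (i : ℤ), i < a → ∀ y : U, IsZero ((Groth.L00.Stk.F X (j y)).obj (DCoh.HD K i))) :
    ((DCoh.restrictD j).obj K).IsGE a := by
  refine (DerivedCategory.isGE_iff _ a).2 fun i hi => ?_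
  let L := (DCoh.restrictD j).obj K
  let F := DerivedCategory.Q.objPreimage L
  let e : DCoh.toD U F ≅ L := DerivedCategory.Q.objObjPreimageIso L
  refine IsZero.of_iso ?_ (((DerivedCategory.homologyFunctor _ i).mapIso e.symm) ≪≫
    (DerivedCategory.homologyFunctorFactors U.Modules i).app F)
  refine (Groth.L00.Stk.acyclic_iff F i).2 fun y => ?_
  exact ((Groth.L29.DC.PCStalk.isZero_res_iff j K i y).2 (h i hi y)).of_iso
    ((Groth.L29.DC.PerfDesc.stkQIso F i y).symm ≪≫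
      (Groth.L00.Stk.F U y).mapIso ((DerivedCategory.homologyFunctor _ i).mapIso e))

variable [Flat f] [LocallyOfFinitePresentation f]

/-- relative finite tor amplitude from fibres bounded below -/
theorem locFinite_of_fib (G : CochainComplex X.Modules ℤ) (hpc : ∀ m, DCoh.IsPseudoCoherentD m (DCoh.toD X G))
    (hlo : ∀ x : X, ∃ (V : X.Opens) (a : ℤ), x ∈ V ∧ ((DCoh.restrictD V.ι).obj (DCoh.toD X G)).IsGE a)
    (hfib : ∀ x : X, ∃ a : ℤ, Groth.Lead.FibreBounded.Fib f G x a) :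
    DerSch.LocFiniteTorAmplitude f G := by
  intro x
  obtain ⟨V, low₀, hxV, hV⟩ := hlo x
  obtain ⟨_, ⟨S₁, hS, rfl⟩, hfx, -⟩ := S.isBasis_affineOpens.exists_subset_of_mem_open (Set.mem_univ (f x)) isOpen_univ
  let S₀ : S.Opens := S₁
  obtain ⟨_, ⟨U₁, hU, rfl⟩, hxU, hUsub⟩ := X.isBasis_affineOpens.exists_subset_of_mem_open
    (show x ∈ (↑(V ⊓ f ⁻¹ᵁ S₀) : Set X) from ⟨hxV, hfx⟩) (V ⊓ f ⁻¹ᵁ S₀).isOpen
  let U : X.Opens := U₁
  have hUS : U ≤ f ⁻¹ᵁ S₀ := fun z hz => (hUsub hz).2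
  haveI : IsAffine (U : Scheme.{u}) := hU
  haveI : CompactSpace (U : Scheme.{u}) := inferInstance
  let g : (U : Scheme.{u}) ⟶ Spec Γ(S, S₀) := f.resLE S₀ U hUS ≫ hS.isoSpec.hom
  haveI : Flat g := inferInstance
  haveI : LocallyOfFinitePresentation g := inferInstance
  have hg : g ≫ hS.fromSpec = U.ι ≫ f := by
    simp only [g, Category.assoc, IsAffineOpen.isoSpec_hom_fromSpec]
    exact Scheme.Hom.resLE_comp_ι f hUS
  let GU := (DCoh.restrictCx U).obj G
  have hpcU : ∀ m, DCoh.IsPseudoCoherentD m (DCoh.toD _ GU) := fun m =>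
    isPseudoCoherentD_of_iso (resQIso U G) (Groth.L29.DC.PCStalk.pc_res U.ι (hpc m))
  obtain ⟨N, hN⟩ := Groth.L29.DC.TildeAlg.exists_isZero (hpcU 0)
  have h : DerSch.LocFiniteTorAmplitude g GU := by
    refine locFinite_of_amp g GU hpcU low₀ (fun i hi y => ?_) fun y _ => ?_
    · exact ((Groth.L29.DC.PCStalk.isZero_res_iff U.ι (DCoh.toD X G) i y).2
        (stalk_zero_of_isGE V.ι (DCoh.toD X G) hV i hi ⟨U.ι y, (hUsub y.2).1⟩)).of_iso
        ((Groth.L00.Stk.F _ y).mapIso ((DerivedCategory.homologyFunctor _ i).mapIso (resQIso U G)).symm)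
    · obtain ⟨a, ha⟩ := hfib (U.ι y)
      refine ⟨a, N, Groth.Lead.FibreBounded.ampQ_of_fib g GU (fun i hi => hN i hi.le) y a ?_⟩
      exact Groth.Lead.FibreBounded.fib_base g hS.fromSpec
        (Groth.Lead.FibreBounded.fib_congr hg.symm (Groth.Lead.FibreBounded.fib_restrict f U.ι G y a ha))
  obtain ⟨W, a, b, hW, hamp⟩ := h ⟨x, hxU⟩
  refine ⟨U.ι ''ᵁ W, a, b, ⟨⟨x, hxU⟩, hW, rfl⟩, ?_⟩
  rintro _ ⟨y, hy, rfl⟩
  exact (amp_restrict_iff f U.ι y G a b).1
    (hg ▸ Groth.Lead.FibreBounded.ampAt_base g hS.fromSpec GU y a b (hamp y hy))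

end Groth.Lead.FibreAssemble
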