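import Groth.Agent.Lead.FibreLocal
import Groth.Agent.L29.RelPC.Open
import Groth.Agent.L29.RelPC.Chart
import Groth.Agent.L29.DCoh.Gen.Supp
import Groth.Agent.L29.DCoh.Gen.ZOn
import Groth.Agent.L18.TildeFunctor

/-!
# Relative finite tor amplitude from a quotient of the base, globally
-/

set_option autoImplicit false
set_option linter.style.haveILetI false
set_option backward.isDefEq.respectTransparency false
set_option backward.isDefEq.respectTransparency.types false
set_option backward.defeqAttrib.useBackward true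

universe u

open CategoryTheory CategoryTheory.Limits AlgebraicGeometry

noncomputable section

attribute [local instance] HasDerivedCategory.standard

namespace Groth.Lead.FibreGlobal

open Groth.Lead.SmoothStalk Groth.Lead.FibreLocal Groth.L29.DC Groth.L29.DC.ClosedPC Groth.L29.RelPC

attribute [local instance] ClosedPC.additive ClosedPC.exactLeft ClosedPC.exactRight

variable {R : CommRingCat.{u}} {X : Scheme.{u}}

/-- stalks of quasi-coherent modules vanish at generizations -/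
theorem isZero_stalk_of_specializes (M : X.Modules) [Coh.IsQCoh M] {x x₀ : X} (h : x ⤳ x₀)
    (h0 : IsZero ((Groth.L00.Stk.F X x₀).obj M)) : IsZero ((Groth.L00.Stk.F X x).obj M) := by
  obtain ⟨_, ⟨U, hU, rfl⟩, hx₀, -⟩ :=
    X.isBasis_affineOpens.exists_subset_of_mem_open (Set.mem_univ x₀) isOpen_univ
  have hx : x ∈ U := h.mem_open U.2 hx₀
  obtain ⟨q₀, hq₀⟩ : x₀ ∈ Set.range hU.fromSpec := hU.range_fromSpec ▸ hx₀
  obtain ⟨q, hq⟩ : x ∈ Set.range hU.fromSpec := hU.range_fromSpec ▸ hx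
  subst hq₀ hq
  have hqs : q ⤳ q₀ := hU.fromSpec.isOpenEmbedding.isInducing.specializes_iff.1 h
  let N := (Scheme.Modules.restrictFunctor hU.fromSpec).obj M
  haveI : Coh.IsQCoh N := inferInstance
  let e := Groth.L18.TildeF.counitIso N
  have h1 := (Groth.L29.DC.Gen.isZero_stalk_res_iff hU.fromSpec M q₀).2 h0
  have h2 := (Groth.L29.DC.Gen.isZero_stalk_tilde_iff q₀ _).1 (h1.of_iso ((Groth.L00.Stk.F _ q₀).mapIso e))
  have hle : q.asIdeal ≤ q₀.asIdeal := (PrimeSpectrum.le_iff_specializes q q₀).2 hqs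
  refine (Groth.L29.DC.Gen.isZero_stalk_res_iff hU.fromSpec M q).1 ?_
  exact ((Groth.L29.DC.Gen.isZero_stalk_tilde_iff q _).2 fun m => by
    obtain ⟨c, hc, hcm⟩ := h2 m
    exact ⟨c, fun h' => hc (hle h'), hcm⟩).of_iso ((Groth.L00.Stk.F _ q).mapIso e).symm

section Chart

variable (f : X ⟶ Spec R) [Flat f] [LocallyOfFinitePresentation f] (G : CochainComplex X.Modules ℤ)

/-- an affine space chart -/
theorem exists_chart (x : X) :
    ∃ (U : X.Opens) (n : ℕ) (j : (U : Scheme.{u}) ⟶ Spec (CommRingCat.of (MvPolynomial (Fin n) R))),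
      x ∈ U ∧ IsClosedImmersion j ∧
        j ≫ Spec.map (CommRingCat.ofHom (MvPolynomial.C : R →+* MvPolynomial (Fin n) R)) = U.ι ≫ f := by
  obtain ⟨_, ⟨U₀, hU, rfl⟩, hx, -⟩ := X.isBasis_affineOpens.exists_subset_of_mem_open (Set.mem_univ x) isOpen_univ
  let U : X.Opens := U₀
  haveI : IsAffine (U : Scheme.{u}) := hU
  let h := U.ι ≫ f
  haveI : LocallyOfFiniteType h := inferInstance
  let γ : R ⟶ Γ((U : Scheme.{u}), ⊤) := (Scheme.ΓSpecIso R).inv ≫ h.appTop
  have hγ : (U : Scheme.{u}).toSpecΓ ≫ Spec.map γ = h := by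
    show _ ≫ Spec.map ((Scheme.ΓSpecIso R).inv ≫ h.appTop) = h
    rw [Spec.map_comp, ← Category.assoc, ← Scheme.toSpecΓ_naturality, Category.assoc,
      ← SpecMap_ΓSpecIso_hom, ← Spec.map_comp, Iso.inv_hom_id, Spec.map_id, Category.comp_id]
  have hft : γ.hom.FiniteType :=
    (HasRingHomProperty.appTop (P := @LocallyOfFiniteType) h inferInstance).comp
      (RingHom.FiniteType.of_surjective _
        (Scheme.ΓSpecIso R).symm.commRingCatIsoToRingEquiv.surjective)
  letI := γ.hom.toAlgebra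
  haveI : Algebra.FiniteType R Γ((U : Scheme.{u}), ⊤) := hft
  obtain ⟨n, α, hα⟩ := Algebra.FiniteType.iff_quotient_mvPolynomial''.1
    ‹Algebra.FiniteType R Γ((U : Scheme.{u}), ⊤)›
  haveI : IsClosedImmersion (Spec.map (CommRingCat.ofHom α.toRingHom)) :=
    IsClosedImmersion.spec_of_surjective _ hα
  refine ⟨U, n, (U : Scheme.{u}).toSpecΓ ≫ Spec.map (CommRingCat.ofHom α.toRingHom), hx, inferInstance, ?_⟩
  rw [Category.assoc, ← Spec.map_comp]
  refine Eq.trans ?_ hγ
  congr 2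
  ext r
  exact α.commutes r

variable {f} {G}

/-- the complex on affine space attached to a chart is pseudo-coherent -/
theorem pc_chart (hpc : ∀ m, DCoh.IsPseudoCoherentD m (DCoh.toD X G)) {U : X.Opens} {n : ℕ}
    (j : (U : Scheme.{u}) ⟶ Spec (CommRingCat.of (MvPolynomial (Fin n) R))) [IsClosedImmersion j]
    (hj : j ≫ Spec.map (CommRingCat.ofHom (MvPolynomial.C : R →+* MvPolynomial (Fin n) R)) = U.ι ≫ f) (m : ℤ) :
    DCoh.IsPseudoCoherentD m (DCoh.toD _ (push j ((DCoh.restrictCx U).obj G))) := by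
  let π := Spec.map (CommRingCat.ofHom (MvPolynomial.C : R →+* MvPolynomial (Fin n) R))
  haveI : Flat π := (HasRingHomProperty.Spec_iff (P := @Flat)).2
    (RingHom.flat_algebraMap_iff.2 (inferInstance : Module.Flat R (MvPolynomial (Fin n) R)))
  haveI : LocallyOfFinitePresentation π := (HasRingHomProperty.Spec_iff (P := @LocallyOfFinitePresentation)).2
    (RingHom.finitePresentation_algebraMap.2
      (inferInstance : Algebra.FinitePresentation R (MvPolynomial (Fin n) R)))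
  have hr : DerSch.IsPseudoCoherentRel (j ≫ π) m ((resD U).obj (DCoh.toD X G)) :=
    hj ▸ rel_restrict U.ι ((pc_iff_rel (Groth.Lead.ClosedRpush.nPC_of_flat f) m _).1 (hpc m))
  exact isPseudoCoherentD_of_iso ((pD j).mapIso (resQIso U G) ≪≫
      (Scheme.Modules.pushforward j).mapDerivedCategoryFactors.app ((DCoh.restrictCx U).obj G))
    ((pc_iff_rel (Groth.Lead.ClosedRpush.nPC_of_flat π) m _).2 ((rel_closed_iff j π m _).1 hr))

/-- amplitude on the chart at a point of the special fibre -/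
theorem amp_chart {I : Ideal R} (hpc : ∀ m, DCoh.IsPseudoCoherentD m (DCoh.toD X G)) {U : X.Opens} {n : ℕ}
    (j : (U : Scheme.{u}) ⟶ Spec (CommRingCat.of (MvPolynomial (Fin n) R))) [IsClosedImmersion j]
    (hj : j ≫ Spec.map (CommRingCat.ofHom (MvPolynomial.C : R →+* MvPolynomial (Fin n) R)) = U.ι ≫ f)
    (y : (U : Scheme.{u})) (hy : I ≤ (f (U.ι y)).asIdeal) (a b : ℤ) (h : AmpQ I f G (U.ι y) a b) :
    DRing.HasTorAmplitudeIn ((Spec (CommRingCat.of (MvPolynomial (Fin n) R))).presheaf.stalk (j y)) (a - n) b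
      (DRing.toD (stk (j y) (push j ((DCoh.restrictCx U).obj G)))) := by
  let π := Spec.map (CommRingCat.ofHom (MvPolynomial.C : R →+* MvPolynomial (Fin n) R))
  haveI := Groth.L10.KFlatLBC.hasLBaseChange (Ideal.Quotient.mk I)
  have hz : I ≤ (π (j y)).asIdeal := by
    rw [show π (j y) = f (U.ι y) from (congrArg (fun g : (U : Scheme.{u}) ⟶ Spec R => g y) hj :)]
    exact hy
  refine amp_affineSpace I _ (pc_chart hpc j hj) (j y) hz a b ?_
  have e1 : Scheme.Modules.restrictFunctor U.ι ⋙ ρ (U.ι ≫ f) y ≅ ρ f (U.ι y) :=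
    (Functor.associator _ _ _).symm ≪≫ Functor.isoWhiskerRight (stalkResIso f U.ι y).symm _
  have h1 : AmpQ I (U.ι ≫ f) ((DCoh.restrictCx U).obj G) y a b := (ampQ_of_natIso e1 I G a b).2 h
  rw [← hj] at h1
  have e2 : Scheme.Modules.pushforward j ⋙ ρ π (j y) ≅ ρ (j ≫ π) y :=
    (Functor.associator _ _ _).symm ≪≫ Functor.isoWhiskerRight
      (Groth.Lead.StalkPush.stalkOverPushIso j π y j.isClosedEmbedding.isInducing) _
  intro _
  exact (ampQ_of_natIso e2 I ((DCoh.restrictCx U).obj G) a b).2 h1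

/-- amplitude over the base at a point where the chart has it -/
theorem ampAt_chart {U : X.Opens} {n : ℕ}
    (j : (U : Scheme.{u}) ⟶ Spec (CommRingCat.of (MvPolynomial (Fin n) R))) [IsClosedImmersion j]
    (hj : j ≫ Spec.map (CommRingCat.ofHom (MvPolynomial.C : R →+* MvPolynomial (Fin n) R)) = U.ι ≫ f)
    (y : (U : Scheme.{u})) (a b : ℤ)
    (h : DRing.HasTorAmplitudeIn ((Spec (CommRingCat.of (MvPolynomial (Fin n) R))).presheaf.stalk (j y)) a b
      (DRing.toD (stk (j y) (push j ((DCoh.restrictCx U).obj G))))) :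
    DerSch.HasTorAmplitudeAt f a b G (U.ι y) := by
  let π := Spec.map (CommRingCat.ofHom (MvPolynomial.C : R →+* MvPolynomial (Fin n) R))
  haveI : Flat π := (HasRingHomProperty.Spec_iff (P := @Flat)).2
    (RingHom.flat_algebraMap_iff.2 (inferInstance : Module.Flat R (MvPolynomial (Fin n) R)))
  have h1 := (amp_push_iff π j ((DCoh.restrictCx U).obj G) y a b).1 (amp_stalk_base π (j y) a b _ h)
  rw [hj] at h1
  exact (amp_restrict_iff f U.ι y G a b).1 h1

end Chart

variable (f : X ⟶ Spec R) [Flat f] [LocallyOfFinitePresentation f] [CompactSpace X]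

/-- a pseudo-coherent complex which modulo `I` has bounded amplitude at the closed points, all in the fibres
over `V(I)`, is locally of finite tor amplitude -/
theorem locFinite_of_quot (I : Ideal R) (G : CochainComplex X.Modules ℤ)
    (hpc : ∀ m, DCoh.IsPseudoCoherentD m (DCoh.toD X G)) (A B : ℤ)
    (hcl : ∀ x : X, IsClosed ({x} : Set X) → I ≤ (f x).asIdeal ∧ AmpQ I f G x A B) :
    DerSch.LocFiniteTorAmplitude f G := by
  choose U n j hxU hji hj using exists_chart f
  obtain ⟨t, ht⟩ := isCompact_univ.elim_finite_subcover (fun x : X => (U x : Set X))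
    (fun x => (U x).isOpen) (fun x _ => Set.mem_iUnion.2 ⟨x, hxU x⟩)
  let d := t.sup n
  let low : ℤ := A - d
  -- amplitude at closed points
  have hclosed : ∀ x₀ : X, IsClosed ({x₀} : Set X) → ∃ (k : X) (hk : x₀ ∈ U k), k ∈ t ∧
      DRing.HasTorAmplitudeIn ((Spec (CommRingCat.of (MvPolynomial (Fin (n k)) R))).presheaf.stalk (j k ⟨x₀, hk⟩))
        low B (DRing.toD (stk (j k ⟨x₀, hk⟩) (push (j k) ((DCoh.restrictCx (U k)).obj G)))) := fun x₀ hx₀ => by
    obtain ⟨k, hk, hkx⟩ := Set.mem_iUnion₂.1 (ht (Set.mem_univ x₀))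
    haveI := hji k
    refine ⟨k, hkx, hk, Groth.L10.DR.amp_mono
      (amp_chart hpc (j k) (hj k) ⟨x₀, hkx⟩ (hcl x₀ hx₀).1 A B (hcl x₀ hx₀).2) ?_ le_rfl⟩
    have : n k ≤ d := Finset.le_sup hk
    simp only [low]; omega
  -- global lower bound
  have hqc := Groth.L29.DC.PCQCoh.isQCohD_of_pc hpc
  have hlow : ∀ i, i < low → ∀ x : X, IsZero ((Groth.L00.Stk.F X x).obj (DCoh.HD (DCoh.toD X G) i)) := by
    intro i hi x
    obtain ⟨x₀, hx₀, hcl₀⟩ := (isClosed_closure (s := ({x} : Set X))).exists_closed_singleton ⟨x, subset_closure rfl⟩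
    haveI : Coh.IsQCoh (DCoh.HD (DCoh.toD X G) i) := hqc i
    refine isZero_stalk_of_specializes _ (specializes_iff_mem_closure.2 hx₀) ?_
    obtain ⟨k, hk, -, hamp⟩ := hclosed x₀ hcl₀
    haveI := hji k
    have hat := ampAt_chart (j k) (hj k) ⟨x₀, hk⟩ _ _ hamp
    letI : Algebra ((Spec R).presheaf.stalk (f x₀)) (X.presheaf.stalk x₀) := (f.stalkMap x₀).hom.toAlgebra
    exact (Groth.Lead.SmoothAmp.isZero_homology_of_amp_res (A := (Spec R).presheaf.stalk (f x₀))
      (stk x₀ G) hat i (Or.inl hi)).of_iso (Groth.L29.DC.PerfDesc.stkQIso G i x₀)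
  intro x
  obtain ⟨x₀, hx₀, hcl₀⟩ := (isClosed_closure (s := ({x} : Set X))).exists_closed_singleton ⟨x, subset_closure rfl⟩
  suffices h : ∃ (V : X.Opens) (a b : ℤ), x₀ ∈ V ∧ ∀ x' : X, x' ∈ V → DerSch.HasTorAmplitudeAt f a b G x' by
    obtain ⟨V, a, b, hV, h⟩ := h
    exact ⟨V, a, b, (specializes_iff_mem_closure.2 hx₀).mem_open V.2 hV, h⟩
  obtain ⟨k, hk, -, hamp⟩ := hclosed x₀ hcl₀
  haveI := hji k
  let Z := Spec (CommRingCat.of (MvPolynomial (Fin (n k)) R))
  let GZ := push (j k) ((DCoh.restrictCx (U k)).obj G)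
  let z : Z := j k ⟨x₀, hk⟩
  have hpcZ := pc_chart hpc (j k) (hj k)
  obtain ⟨N, hN⟩ := Groth.L29.DC.TildeAlg.exists_isZero (hpcZ 0)
  have hzlow : ∀ i, i < low → IsZero (DCoh.HD (DCoh.toD Z GZ) i) := fun i hi => by
    refine IsZero.of_iso ?_ ((DerivedCategory.homologyFunctorFactors Z.Modules i).app GZ)
    haveI := Groth.L29.DC.ClosedPC.exactLeft (j k)
    haveI := Groth.L29.DC.ClosedPC.exactRight (j k)
    refine IsZero.of_iso ?_ ((((DCoh.restrictCx (U k)).obj G).sc i).mapHomologyIso (Scheme.Modules.pushforward (j k)))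
    refine (Scheme.Modules.pushforward (j k)).map_isZero ?_
    refine (Groth.L00.Stk.acyclic_iff _ i).2 fun y => ?_
    refine IsZero.of_iso ?_ (Groth.L29.DC.PerfDesc.stkQIso ((DCoh.restrictCx (U k)).obj G) i y).symm
    exact ((Groth.L29.DC.PCStalk.isZero_res_iff (U k).ι (DCoh.toD X G) i y).2 (hlow i hi _)).of_iso
      ((Groth.L00.Stk.F _ y).mapIso ((DerivedCategory.homologyFunctor _ i).mapIso (resQIso (U k) G)).symm)
  obtain ⟨P, hP, -, hPf, ⟨eP⟩⟩ := exists_flat_representative_le (DCoh.toD Z GZ) N fun i hi => hN i hi.le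
  have hPb : ∀ i, N < i → IsZero (P.X i) := fun i hi =>
    haveI := hP; CochainComplex.isZero_of_isStrictlyLE P N i hi
  let F := Groth.L00.Stk.F Z z
  have hgood : PerfDesc.Good P low z := PerfDesc.goodAlg_of_amp (PerfDesc.flat_S hPf z)
    (PerfDesc.vanishesAbove_S hPb z) (K := DRing.toD (stk z GZ))
    ((F.mapDerivedCategoryFactors.app P).symm ≪≫ F.mapDerivedCategory.mapIso eP ≪≫
      F.mapDerivedCategoryFactors.app GZ) hamp
  obtain ⟨W, i, hi, ⟨w, hw⟩, hwit⟩ := PerfDesc.exists_pwit_of_good hPf hPb low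
    (fun i hi => (hzlow i hi).of_iso ((DerivedCategory.homologyFunctor _ i).mapIso eP))
    (isPseudoCoherentD_of_iso eP.symm (hpcZ _)) z hgood
  obtain ⟨T, ⟨⟨a, b, hTv⟩, hTf⟩, ⟨eT⟩⟩ := hwit
  refine ⟨(U k).ι ''ᵁ ((j k) ⁻¹ᵁ i.opensRange), a, b, ⟨⟨x₀, hk⟩, ⟨w, hw⟩, rfl⟩, ?_⟩
  rintro _ ⟨y, ⟨w', hw'⟩, rfl⟩
  refine ampAt_chart (j k) (hj k) y a b ?_
  rw [show j k y = i w' from hw'.symm]
  let R' := Scheme.Modules.restrictFunctor i
  let GW := (R'.mapHomologicalComplex (ComplexShape.up ℤ)).obj GZ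
  have hflat : DCoh.HasFlatAmplitudeIn a b (DCoh.toD W GW) :=
    ⟨T, hTv, fun m => isFlat_of_isFinLocFree (hTf m),
      ⟨eT.symm ≪≫ (DCoh.restrictD i).mapIso eP ≪≫ R'.mapDerivedCategoryFactors.app GZ⟩⟩
  haveI : SmoothOfRelativeDimension 0 ((⊤ : Z.Opens).ι ≫ 𝟙 Z) := by rw [Category.comp_id]; infer_instance
  haveI : Flat (i ≫ 𝟙 Z) := by rw [Category.comp_id]; infer_instance
  exact Groth.L10.DR.amp_mono (amp_stalk (𝟙 Z) (n := 0) (V := ⊤) (x := i w') trivial a b GZ
    ((amp_restrict_iff (𝟙 Z) i w' GZ a b).1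
      (amp_stalk_base (i ≫ 𝟙 Z) w' a b GW (Groth.Lead.SmoothPerf.stk_of_flatAmp GW hflat w')))) (by simp) le_rfl

end Groth.Lead.FibreGlobal
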