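import Groth.Agent.Lead.BaseQuot
import Groth.Agent.Lead.RelTorStalk
import Groth.Agent.L00.KFlatPull
import Groth.Agent.L14.Quot.Base
import Groth.Agent.L29.DCoh.PerfDescent
import Groth.Agent.L29.DCoh.PCQCoh
import Groth.Agent.L29.DCoh.TildeAlg
import Groth.Agent.L29.DCoh.TildeD
import Groth.Agent.L20.WeaklyEtaleStalk

/-!
# Relative tor amplitude from a quotient of an affine base
-/

set_option autoImplicit false
set_option linter.style.haveILetI false
set_option backward.isDefEq.respectTransparency false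
set_option backward.isDefEq.respectTransparency.types false
set_option backward.defeqAttrib.useBackward true

universe u

open CategoryTheory CategoryTheory.Limits AlgebraicGeometry

noncomputable section

attribute [local instance] HasDerivedCategory.standard

namespace Groth.Lead.FibreLocal

open Groth.Lead.SmoothStalk Groth.L14.Quot

variable {R : CommRingCat.{u}} {X : Scheme.{u}}

/-- stalks as modules over the ring of the affine base -/
abbrev ρ (f : X ⟶ Spec R) (x : X) : X.Modules ⥤ ModuleCat.{u} R :=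
  DerSch.stalkOver f x ⋙ ModuleCat.restrictScalars (StructureSheaf.toStalk R (f x)).hom

/-- the complex of stalks over the ring of the base -/
abbrev ρCx (f : X ⟶ Spec R) (x : X) : CochainComplex X.Modules ℤ ⥤ DRing.Cx R :=
  (ρ f x).mapHomologicalComplex (ComplexShape.up ℤ)

/-- the reduction modulo `I` of the stalk has tor amplitude in `[a, b]` -/
def AmpQ (I : Ideal R) (f : X ⟶ Spec R) (G : CochainComplex X.Modules ℤ) (x : X) (a b : ℤ) : Prop :=
  ∀ [DRing.HasLBaseChange (Ideal.Quotient.mk I)],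
    DRing.HasTorAmplitudeIn (R ⧸ I) a b
      ((DRing.LBaseChange (Ideal.Quotient.mk I)).obj (DRing.toD ((ρCx f x).obj G)))

theorem ampQ_of_natIso {Z : Scheme.{u}} {g : Z ⟶ Spec R} {f : X ⟶ Spec R} {Φ : X.Modules ⥤ Z.Modules}
    [Φ.PreservesZeroMorphisms] {x : X} {z : Z} (e : Φ ⋙ ρ g z ≅ ρ f x) (I : Ideal R)
    (G : CochainComplex X.Modules ℤ) (a b : ℤ) :
    AmpQ I g ((Φ.mapHomologicalComplex (ComplexShape.up ℤ)).obj G) z a b ↔ AmpQ I f G x a b := by
  let e' := DerivedCategory.Q.mapIso ((NatIso.mapHomologicalComplex e (ComplexShape.up ℤ)).app G)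
  exact ⟨fun h _ => Groth.L10.DR.amp_of_iso ((DRing.LBaseChange (Ideal.Quotient.mk I)).mapIso e') h,
    fun h _ => Groth.L10.DR.amp_of_iso ((DRing.LBaseChange (Ideal.Quotient.mk I)).mapIso e'.symm) h⟩

/-- the structure map on a local ring of affine space -/
theorem β_spec {n : ℕ} (z : Spec (CommRingCat.of (MvPolynomial (Fin n) R))) (r : R) :
    β (Spec.map (CommRingCat.ofHom (MvPolynomial.C : R →+* MvPolynomial (Fin n) R))) z r =
      (StructureSheaf.toStalk (MvPolynomial (Fin n) R) z).hom (MvPolynomial.C r) := by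
  rw [β_eq_germ]
  have h : (Spec.map (CommRingCat.ofHom (MvPolynomial.C : R →+* MvPolynomial (Fin n) R))).appTop
      ((Scheme.ΓSpecIso R).inv r) =
      (Scheme.ΓSpecIso (CommRingCat.of (MvPolynomial (Fin n) R))).inv (MvPolynomial.C r) :=
    (ConcreteCategory.congr_hom
      (Scheme.ΓSpecIso_inv_naturality (CommRingCat.ofHom (MvPolynomial.C : R →+* MvPolynomial (Fin n) R))) r).symm
  exact (congrArg ((Spec (CommRingCat.of (MvPolynomial (Fin n) R))).presheaf.germ ⊤ z trivial) h).trans rfl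

/-- stalks of a pseudo-coherent object on an affine scheme -/
theorem pc_stk {P : CommRingCat.{u}} (G : CochainComplex (Spec P).Modules ℤ)
    (hG : ∀ m, DCoh.IsPseudoCoherentD m (DCoh.toD (Spec P) G)) (z : Spec P) :
    DRing.IsPseudoCoherent' ((Spec P).presheaf.stalk z) (DRing.toD (stk z G)) := by
  haveI := Groth.L18.TildeF.tilde_preservesFiniteLimits (R := P)
  obtain ⟨M, ⟨eM⟩⟩ := (Groth.L29.DC.TildeD.isQCohD_iff _).1 (Groth.L29.DC.PCQCoh.isQCohD_of_pc hG)
  have hM : DRing.IsPseudoCoherent' P M := Groth.L02.PC.pc'_of_forall fun m =>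
    Groth.L29.DC.TildeAlg.pc_of_tilde (Groth.L29.DC.isPseudoCoherentD_of_iso eM.symm (hG m))
  obtain ⟨E, N, hEb, hEf, ⟨eE⟩⟩ := hM
  let tE := (Groth.L29.DC.TildeAlg.tC (R := P)).obj E
  let e1 : DCoh.toD (Spec P) tE ≅ DCoh.toD (Spec P) G :=
    (Groth.L29.DC.TildeAlg.qIso E).symm ≪≫ (DCoh.tildeD P).mapIso eE ≪≫ eM
  let F := Groth.L00.Stk.F (Spec P) z
  let φ := (StructureSheaf.toStalk P z).hom
  refine ⟨((ModuleCat.extendScalars.{u, u, u} φ).mapHomologicalComplex (ComplexShape.up ℤ)).obj E, N,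
    fun i hi => (ModuleCat.extendScalars.{u, u, u} φ).map_isZero (hEb i hi),
    fun i => (haveI := (hEf i).1; haveI := (hEf i).2; Groth.L02.PC.finite_free_extendScalars φ (E.X i)), ⟨?_⟩⟩
  exact DerivedCategory.Q.mapIso (((NatIso.mapHomologicalComplex (Groth.L00.KFlat.tildeStalkIso P z)
      (ComplexShape.up ℤ)).app E).symm) ≪≫
    (F.mapDerivedCategoryFactors.app tE).symm ≪≫ F.mapDerivedCategory.mapIso e1 ≪≫ F.mapDerivedCategoryFactors.app G

/-- on affine space: amplitude at a point from the reduction -/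
theorem amp_affineSpace {n : ℕ} (I : Ideal R) (G : CochainComplex (Spec (CommRingCat.of (MvPolynomial (Fin n) R))).Modules ℤ)
    (hG : ∀ m, DCoh.IsPseudoCoherentD m (DCoh.toD _ G)) (z : Spec (CommRingCat.of (MvPolynomial (Fin n) R)))
    (hz : I ≤ (Spec.map (CommRingCat.ofHom (MvPolynomial.C : R →+* MvPolynomial (Fin n) R)) z).asIdeal) (a b : ℤ)
    (h : AmpQ I (Spec.map (CommRingCat.ofHom (MvPolynomial.C : R →+* MvPolynomial (Fin n) R))) G z a b) :
    DRing.HasTorAmplitudeIn ((Spec (CommRingCat.of (MvPolynomial (Fin n) R))).presheaf.stalk z) (a - n) b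
      (DRing.toD (stk z G)) := by
  let π := Spec.map (CommRingCat.ofHom (MvPolynomial.C : R →+* MvPolynomial (Fin n) R))
  let S := (Spec (CommRingCat.of (MvPolynomial (Fin n) R))).presheaf.stalk z
  letI : Algebra (MvPolynomial (Fin n) R) S := (StructureSheaf.toStalk (MvPolynomial (Fin n) R) z).hom.toAlgebra
  haveI : IsLocalization.AtPrime S z.asIdeal := StructureSheaf.IsLocalization.to_stalk _ z
  haveI : Algebra.WeaklyEtale (MvPolynomial (Fin n) R) S := Groth.L20.weaklyEtale_isLocalization z.asIdeal.primeCompl S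
  letI : Algebra R S := (β π z).toAlgebra
  haveI : IsScalarTower R (MvPolynomial (Fin n) R) S := IsScalarTower.of_algebraMap_eq fun r => β_spec z r
  haveI := Groth.L10.KFlatLBC.hasLBaseChange (Ideal.Quotient.mk I)
  refine (Groth.Lead.BaseQuot.amp_of_baseQuot (n := n) I ?_ _ (pc_stk G hG z) a b ?_).2
  · rw [Ideal.map_le_iff_le_comap]
    intro r hr
    show β π z r ∈ IsLocalRing.maximalIdeal S
    rw [β_spec, show (StructureSheaf.toStalk (MvPolynomial (Fin n) R) z).hom (MvPolynomial.C r) =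
      algebraMap (MvPolynomial (Fin n) R) S (MvPolynomial.C r) from rfl,
      IsLocalization.AtPrime.to_map_mem_maximal_iff S z.asIdeal]
    exact hz hr
  · refine Groth.L10.DR.amp_of_iso ((DRing.LBaseChange (Ideal.Quotient.mk I)).mapIso ?_) h
    exact DerivedCategory.Q.mapIso (Iso.refl _) ≪≫ (Groth.L20.TorAmp.resIso (A := R) (stk z G)).symm

section Reduce

variable (f : X ⟶ Spec R) (I : Ideal R)

theorem ampQ_of_Lpull {Y : Scheme.{u}} {i : Y ⟶ X} [IsClosedImmersion i]
    {g : Y ⟶ Spec (CommRingCat.of (R ⧸ I))}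
    (sq : IsPullback i g f (Spec.map (CommRingCat.ofHom (Ideal.Quotient.mk I)))) [DCoh.HasLpull i]
    (G : CochainComplex X.Modules ℤ) [Flat f] {N : ℤ} (hN : ∀ i, N < i → IsZero (DCoh.HD (DCoh.toD X G) i))
    (F₀ : CochainComplex Y.Modules ℤ) (e : DCoh.toD Y F₀ ≅ (DCoh.Lpull i).obj (DCoh.toD X G))
    (y : Y) (a b : ℤ) (h : DerSch.HasTorAmplitudeAt g a b F₀ y) : AmpQ I f G (i y) a b := by
  intro _
  obtain ⟨P, hP, hk, hf, ⟨eP⟩⟩ := Groth.L29.DC.exists_flat_representative_le (DCoh.toD X G) N hN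
  haveI := hP
  let PY := ((Scheme.Modules.pullback i).mapHomologicalComplex (ComplexShape.up ℤ)).obj P
  let eY : DCoh.toD Y F₀ ≅ DCoh.toD Y PY := e ≪≫ (DCoh.Lpull i).mapIso eP.symm ≪≫
    Groth.L00.DerivedApi.objIso (Groth.L00.DerivedApi.acyclicKFlat_pullback i) P hk
  obtain ⟨E, hEv, hE, ⟨eE⟩⟩ := Groth.Lead.RelFinTor.amp_congr g eY y a b h
  -- over the ring `R ⧸ I`
  letI : Algebra (R ⧸ I) ((Spec (CommRingCat.of (R ⧸ I))).presheaf.stalk (g y)) :=
    (StructureSheaf.toStalk (R ⧸ I) (g y)).hom.toAlgebra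
  haveI : IsLocalization.AtPrime ((Spec (CommRingCat.of (R ⧸ I))).presheaf.stalk (g y)) (g y).asIdeal :=
    StructureSheaf.IsLocalization.to_stalk _ (g y)
  haveI : Algebra.WeaklyEtale (R ⧸ I) ((Spec (CommRingCat.of (R ⧸ I))).presheaf.stalk (g y)) :=
    Groth.L20.weaklyEtale_isLocalization (g y).asIdeal.primeCompl _
  have h1 : DRing.HasTorAmplitudeIn (R ⧸ I) a b (DRing.toD ((ρCx g y).obj PY)) :=
    (Groth.Lead.SmoothAmp.amp_weaklyEtale a b ((DerSch.stalkCxOver g y).obj PY)).2 ⟨E, hEv, hE, ⟨eE⟩⟩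
  -- the pushout of local rings
  let A := X.presheaf.stalk (i y)
  let B := Y.presheaf.stalk y
  letI : Algebra R A := (β f (i y)).toAlgebra
  letI : Algebra A B := (i.stalkMap y).hom.toAlgebra
  letI : Algebra (R ⧸ I) B := (β g y).toAlgebra
  letI : Algebra R B := ((β g y).comp (Ideal.Quotient.mk I)).toAlgebra
  haveI : IsScalarTower R (R ⧸ I) B := IsScalarTower.of_algebraMap_eq fun _ => rfl
  haveI : IsScalarTower R A B := IsScalarTower.of_algebraMap_eq fun r =>
    (stalkMap_β (CommRingCat.ofHom (Ideal.Quotient.mk I)) sq.w y r).symm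
  haveI : Algebra.IsPushout R A R A := ⟨IsBaseChange.linearMap R A⟩
  haveI : Algebra.IsPushout R A (R ⧸ I) B :=
    Groth.L20.FibreCrit.isPushout_of_surjective (P₀ := R) (P := A) Ideal.Quotient.mk_surjective
      (i.stalkMap_surjective y)
      ((ker_stalkMap_bc (CommRingCat.ofHom (Ideal.Quotient.mk I)) Ideal.Quotient.mk_surjective sq y).le.trans
        (by rw [Ideal.Quotient.algebraMap_eq]; exact le_rfl))
  haveI : Algebra.IsPushout R (R ⧸ I) A B := .symm inferInstance
  have h2 : DRing.HasTorAmplitudeIn (R ⧸ I) a b (DRing.toD (((ModuleCat.extendScalars.{u, u, u}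
      (Ideal.Quotient.mk I)).mapHomologicalComplex (ComplexShape.up ℤ)).obj
        (Groth.L20.TorAmp.res (A := R) (stk (i y) P)))) := by
    refine Groth.L10.DR.amp_of_iso ?_ h1
    exact DerivedCategory.Q.mapIso
      (((ModuleCat.restrictScalars.{u} (algebraMap (R ⧸ I) B)).mapHomologicalComplex (ComplexShape.up ℤ)).mapIso
          (Groth.L29.DC.PerfDesc.pullSIso i P y) ≪≫
        ((NatIso.mapHomologicalComplex (Groth.L10.RelPC.extResNat R (R ⧸ I) A B)
          (ComplexShape.up ℤ)).app (stk (i y) P)).symm)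
  -- back to `G`
  haveI : PreservesFiniteLimits (DerSch.stalkFunctor X (i y)) := Groth.L00.Stk.preservesFiniteLimits (X := X) (i y)
  haveI : PreservesFiniteColimits (DerSch.stalkFunctor X (i y)) := Groth.L00.Stk.preservesFiniteColimits (X := X) (i y)
  haveI : PreservesFiniteColimits (ModuleCat.restrictScalars.{u} (f.stalkMap (i y)).hom) := inferInstance
  haveI : PreservesFiniteColimits
      (ModuleCat.restrictScalars.{u} (StructureSheaf.toStalk R (f (i y))).hom) := inferInstance
  let Rf := ρ f (i y)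
  have hkR : DRing.IsKFlat R ((ρCx f (i y)).obj P) := by
    refine Groth.L10.KFlat.of_bounded _ N
      (fun n hn => Rf.map_isZero (CochainComplex.isZero_of_isStrictlyLE P N n hn)) fun n => ?_
    letI : Algebra R ((Spec R).presheaf.stalk (f (i y))) := (StructureSheaf.toStalk R (f (i y))).hom.toAlgebra
    haveI : IsLocalization.AtPrime ((Spec R).presheaf.stalk (f (i y))) (f (i y)).asIdeal :=
      StructureSheaf.IsLocalization.to_stalk _ (f (i y))
    haveI : Module.Flat R ((Spec R).presheaf.stalk (f (i y))) :=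
      IsLocalization.flat _ (f (i y)).asIdeal.primeCompl
    haveI : Module.Flat ((Spec R).presheaf.stalk (f (i y))) ((DerSch.stalkOver f (i y)).obj (P.X n)) :=
      Groth.L29.DC.RelTor.isFlatOver_of_isFlat f (hf n) (i y)
    exact Groth.L20.TorAmp.flat_restrict ((DerSch.stalkOver f (i y)).obj (P.X n))
  refine Groth.L10.DR.amp_of_iso ((Groth.L10.KFlatLBC.lbcKF _ _ hkR).symm ≪≫
    (DRing.LBaseChange (Ideal.Quotient.mk I)).mapIso
      ((Rf.mapDerivedCategoryFactors.app P).symm ≪≫ Rf.mapDerivedCategory.mapIso eP ≪≫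
        Rf.mapDerivedCategoryFactors.app G)) ?_
  exact h2

end Reduce

end Groth.Lead.FibreLocal
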