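import Groth.Agent.Lead.LTMod
import Groth.Agent.L29.BC.TorGlobal
import Groth.Agent.L29.DCoh.PullTensor

/-!
Base change for `Rf_*(E ⊗^L G)`: the comparison morphism.
-/

set_option autoImplicit false
set_option linter.style.haveILetI false
set_option backward.defeqAttrib.useBackward true
set_option backward.isDefEq.respectTransparency false
set_option backward.isDefEq.respectTransparency.types false

universe u

open CategoryTheory CategoryTheory.Limits CategoryTheory.Pretriangulated AlgebraicGeometry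

attribute [local instance] HasDerivedCategory.standard

namespace Groth.Lead.FlatBC

open Groth.L00 Groth.L29.DC Groth.L29.BC

local notation "up" => ComplexShape.up ℤ

theorem isIso_sigmaComparison_comp {A B C : Type*} [Category A] [Category B] [Category C] (F : A ⥤ B) (G : B ⥤ C)
    {ι : Type*} (K : ι → A) [HasCoproduct K] [HasCoproduct fun i => F.obj (K i)]
    [HasCoproduct fun i => (F ⋙ G).obj (K i)] [HasCoproduct fun i => G.obj (F.obj (K i))]
    [IsIso (sigmaComparison F K)] [IsIso (sigmaComparison G fun i => F.obj (K i))] :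
    IsIso (sigmaComparison (F ⋙ G) K) := by
  have h : sigmaComparison (F ⋙ G) K = sigmaComparison G (fun i => F.obj (K i)) ≫ G.map (sigmaComparison F K) :=
    Sigma.hom_ext _ _ fun i => by
      rw [ι_comp_sigmaComparison]
      refine Eq.trans ?_ (ι_comp_sigmaComparison_assoc G (fun i => F.obj (K i)) i _).symm
      rw [← G.map_comp, ι_comp_sigmaComparison]
      rfl
  rw [h]
  infer_instance

section Mu

variable {X Y : Scheme.{u}} (g : Y ⟶ X) (G : X.Modules)

/-- the pulled back module -/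
noncomputable abbrev G' : Y.Modules := (Scheme.Modules.pullback g).obj G

/-- `(- ⊗ G)` then pullback -/
noncomputable abbrev srcMod : X.Modules ⥤ Y.Modules := DCoh.tensorRightMod G ⋙ Scheme.Modules.pullback g

/-- pullback then `(- ⊗ g^*G)` -/
noncomputable abbrev tgtMod : X.Modules ⥤ Y.Modules := Scheme.Modules.pullback g ⋙ DCoh.tensorRightMod (G' g G)

/-- the underived identification -/
noncomputable def modIso : srcMod g G ≅ tgtMod g G :=
  (NatIso.ofComponents (fun N => PullTensor.pullTensor g N G) fun {N N'} φ => PullTensor.hβ₁ g φ G :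
    tgtMod g G ≅ srcMod g G).symm

/-- the same on homotopy categories -/
noncomputable def kIso :
    (DCoh.tensorRightMod G).mapHomotopyCategory up ⋙ (Scheme.Modules.pullback g).mapHomotopyCategory up ≅
      (Scheme.Modules.pullback g).mapHomotopyCategory up ⋙ (DCoh.tensorRightMod (G' g G)).mapHomotopyCategory up :=
  NatIso.ofComponents (fun P => (HomotopyCategory.quotient Y.Modules up).mapIso
      (HomologicalComplex.Hom.isoOfComponents (fun i => (modIso g G).app (P.as.X i))
        (fun i j _ => ((modIso g G).hom.naturality (P.as.d i j)).symm)))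
    fun {P Q} φ => by
      obtain ⟨φ, rfl⟩ := (HomotopyCategory.quotient X.Modules up).map_surjective (X := P.as) (Y := Q.as) φ
      refine ((HomotopyCategory.quotient Y.Modules up).map_comp _ _).symm.trans
        (Eq.trans (congrArg _ ?_) ((HomotopyCategory.quotient Y.Modules up).map_comp _ _))
      ext i : 1
      exact (modIso g G).hom.naturality (φ.f i)

variable [DCoh.HasLTensorMod G]

/-- the counit of `- ⊗^L G` on the homotopy category -/
noncomputable abbrev αT : DerivedCategory.Qh ⋙ DCoh.LTensorMod G ⟶ DCoh.tensorModKh G :=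
  (DCoh.tensorModKh G).totalLeftDerivedCounit DerivedCategory.Qh (HomotopyCategory.quasiIso X.Modules up)

theorem isIso_αT {P : CochainComplex X.Modules ℤ} (hP : DCoh.IsKFlat P) :
    IsIso ((αT G).app ((HomotopyCategory.quotient X.Modules up).obj P)) := by
  have := DerivedApi.isIso_counit (DerivedApi.acyclicKFlat_tensorMod G) P hP
  simp only [DerivedApi.counit, NatTrans.comp_app, Functor.associator_hom_app, Functor.whiskerLeft_app] at this
  have e := Category.id_comp ((αT G).app ((HomotopyCategory.quotient X.Modules up).obj P))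
  exact e ▸ this

variable [DCoh.HasLpull g] [DCoh.HasLTensorMod (G' g G)]

/-- counit of the target -/
noncomputable def tgtCounit : DerivedCategory.Qh ⋙ (DCoh.Lpull g ⋙ DCoh.LTensorMod (G' g G)) ⟶
    (Scheme.Modules.pullback g).mapHomotopyCategory up ⋙ DCoh.tensorModKh (G' g G) :=
  (Functor.associator _ _ _).inv ≫ Functor.whiskerRight (αL g) (DCoh.LTensorMod (G' g G)) ≫
    (Functor.associator _ _ _).hom ≫ Functor.whiskerLeft _ (αT (G' g G))

theorem tgtCounit_app (F : HomotopyCategory X.Modules up) : (tgtCounit g G).app F =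
    (DCoh.LTensorMod (G' g G)).map ((αL g).app F) ≫
      (αT (G' g G)).app (((Scheme.Modules.pullback g).mapHomotopyCategory up).obj F) := by
  simp only [tgtCounit, NatTrans.comp_app, Functor.associator_inv_app, Functor.associator_hom_app,
    Functor.whiskerRight_app, Functor.whiskerLeft_app]
  exact (Category.id_comp _).trans (congrArg _ (Category.id_comp _))

theorem isIso_tgtCounit {P : CochainComplex X.Modules ℤ} (hP : DCoh.IsKFlat P) :
    IsIso ((tgtCounit g G).app ((HomotopyCategory.quotient X.Modules up).obj P)) := by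
  haveI := isIso_αL g P hP
  haveI : IsIso ((αT (G' g G)).app (((Scheme.Modules.pullback g).mapHomotopyCategory up).obj
      ((HomotopyCategory.quotient X.Modules up).obj P))) :=
    isIso_αT (G' g G) (KFlat.pullback_kflat g P hP)
  rw [tgtCounit_app]
  infer_instance

instance isLeftDerived_tgt : (DCoh.Lpull g ⋙ DCoh.LTensorMod (G' g G)).IsLeftDerivedFunctor (tgtCounit g G)
    (HomotopyCategory.quasiIso X.Modules up) :=
  isLeftDerived_of_kflat _ _ _ fun P hP => isIso_tgtCounit g G hP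

/-- the transformation on representatives -/
noncomputable def srcNat : DerivedCategory.Qh ⋙ (DCoh.LTensorMod G ⋙ DCoh.Lpull g) ⟶
    (Scheme.Modules.pullback g).mapHomotopyCategory up ⋙ DCoh.tensorModKh (G' g G) where
  app F := (DCoh.Lpull g).map ((αT G).app F) ≫
    (αL g).app (((DCoh.tensorRightMod G).mapHomotopyCategory up).obj F) ≫
      DerivedCategory.Qh.map ((kIso g G).hom.app F)
  naturality F F' φ := by
    have h₁ := (αT G).naturality φ
    have h₂ := (αL g).naturality (((DCoh.tensorRightMod G).mapHomotopyCategory up).map φ)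
    have h₃ := (kIso g G).hom.naturality φ
    dsimp at h₁ h₂ h₃ ⊢
    rw [Category.assoc, Category.assoc, ← Functor.map_comp_assoc, h₁, Functor.map_comp, Category.assoc,
      reassoc_of% h₂, ← Functor.map_comp, ← Functor.map_comp, h₃]

/-- `Lg^*(E ⊗^L G) ⟶ Lg^*E ⊗^L g^*G` -/
noncomputable def μ : DCoh.LTensorMod G ⋙ DCoh.Lpull g ⟶ DCoh.Lpull g ⋙ DCoh.LTensorMod (G' g G) :=
  (DCoh.Lpull g ⋙ DCoh.LTensorMod (G' g G)).leftDerivedLift (tgtCounit g G)
    (HomotopyCategory.quasiIso X.Modules up) _ (srcNat g G)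

theorem μ_fac (F : HomotopyCategory X.Modules up) :
    (μ g G).app (DerivedCategory.Qh.obj F) ≫ (tgtCounit g G).app F = (srcNat g G).app F :=
  (DCoh.Lpull g ⋙ DCoh.LTensorMod (G' g G)).leftDerived_fac_app (tgtCounit g G)
    (HomotopyCategory.quasiIso X.Modules up) _ (srcNat g G) F

end Mu

section Phi

variable {X X' S S' : Scheme.{u}} {f : X ⟶ S} {g : S' ⟶ S} {g' : X' ⟶ X} {f' : X' ⟶ S'}
  [DCoh.HasRpush f] [DCoh.HasRpush g] [DCoh.HasRpush f'] [DCoh.HasRpush g'] [DCoh.HasLpull g] [DCoh.HasLpull g']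
  (w : g' ≫ f = f' ≫ g) (G : X.Modules) [DCoh.HasLTensorMod G] [DCoh.HasLTensorMod (G' g' G)]

/-- the base change morphism with a module -/
noncomputable def Φ : DCoh.LTensorMod G ⋙ DCoh.Rpush f ⋙ DCoh.Lpull g ⟶
    DCoh.Lpull g' ⋙ DCoh.LTensorMod (G' g' G) ⋙ DCoh.Rpush f' :=
  Functor.whiskerLeft (DCoh.LTensorMod G) (βNat w) ≫ (Functor.associator _ _ _).inv ≫
    Functor.whiskerRight (μ g' G) (DCoh.Rpush f') ≫ (Functor.associator _ _ _).hom

theorem Φ_app (E : DCoh.D X) : (Φ w G).app E =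
    β w ((DCoh.LTensorMod G).obj E) ≫ (DCoh.Rpush f').map ((μ g' G).app E) := by
  simp only [Φ, NatTrans.comp_app, Functor.whiskerLeft_app, Functor.associator_inv_app, Functor.whiskerRight_app,
    Functor.associator_hom_app, Category.id_comp, Category.comp_id]
  rfl

/-- the criterion on a K-flat representative -/
theorem isIso_Φ_of_rep (P : CochainComplex X.Modules ℤ) (hP : DCoh.IsKFlat P) (T : HomotopyCategory X.Modules up)
    (hT : T = ((DCoh.tensorRightMod G).mapHomotopyCategory up).obj ((HomotopyCategory.quotient X.Modules up).obj P))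
    (h₁ : IsIso ((ηR f).app T)) (h₃ : IsIso ((αL g).app ((RpushComp.push f).obj T)))
    (h₄ : IsIso ((ηR f').app (((Scheme.Modules.pullback g').mapHomotopyCategory up).obj T)))
    (h₅ : IsIso (DerivedCategory.Qh.map (bK w T))) :
    IsIso ((Φ w G).app (DerivedCategory.Qh.obj ((HomotopyCategory.quotient X.Modules up).obj P))) := by
  subst hT
  let F := (HomotopyCategory.quotient X.Modules up).obj P
  let FG := ((DCoh.tensorRightMod G).mapHomotopyCategory up).obj F
  haveI := isIso_αT G hP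
  haveI := isIso_tgtCounit g' G hP
  have key : IsIso ((DCoh.Lpull g).map ((ηR f).app FG) ≫ β w (DerivedCategory.Qh.obj FG) ≫
      (DCoh.Rpush f').map ((αL g').app FG)) := by
    change IsIso ((DCoh.Lpull g).map ((ηR f).app FG) ≫ DCoh.baseChangeApp (adj g) (adj g') (e w)
      (DerivedCategory.Qh.obj FG) ≫ (DCoh.Rpush f').map ((αL g').app FG))
    rw [baseChangeApp_fac w FG]
    infer_instance
  haveI h₆ : IsIso (β w (DerivedCategory.Qh.obj FG) ≫ (DCoh.Rpush f').map ((αL g').app FG)) :=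
    IsIso.of_isIso_comp_left ((DCoh.Lpull g).map ((ηR f).app FG)) _
  have hsq : (Φ w G).app (DerivedCategory.Qh.obj F) ≫ (DCoh.Rpush f').map ((tgtCounit g' G).app F) =
      (DCoh.Lpull g).map ((DCoh.Rpush f).map ((αT G).app F)) ≫
        (β w (DerivedCategory.Qh.obj FG) ≫ (DCoh.Rpush f').map ((αL g').app FG)) ≫
          (DCoh.Rpush f').map (DerivedCategory.Qh.map ((kIso g' G).hom.app F)) := by
    rw [Φ_app, Category.assoc, ← Functor.map_comp, μ_fac]
    simp only [srcNat, Functor.map_comp, Category.assoc]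
    exact (reassoc_of% (β_natural w ((αT G).app F)).symm) _
  haveI : IsIso ((Φ w G).app (DerivedCategory.Qh.obj F) ≫ (DCoh.Rpush f').map ((tgtCounit g' G).app F)) := by
    rw [hsq]
    infer_instance
  exact IsIso.of_isIso_comp_right _ ((DCoh.Rpush f').map ((tgtCounit g' G).app F))

/-- invertibility at all shifts -/
def PΦ (E : DCoh.D X) : Prop := ∀ n : ℤ, IsIso ((Φ w G).app (E⟦n⟧))

theorem PΦ.of_iso {E E' : DCoh.D X} (u : E ≅ E') (h : PΦ w G E) : PΦ w G E' := fun n =>
  (NatTrans.isIso_app_iff_of_iso (Φ w G) ((shiftFunctor (DCoh.D X) n).mapIso u)).1 (h n)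

theorem PΦ.isIso {E : DCoh.D X} (h : PΦ w G E) : IsIso ((Φ w G).app E) :=
  (NatTrans.isIso_app_iff_of_iso (Φ w G) ((shiftFunctorZero (DCoh.D X) ℤ).app E)).1 (h 0)

theorem PΦ.shift {E : DCoh.D X} (h : PΦ w G E) (k : ℤ) : PΦ w G (E⟦k⟧) := fun n =>
  (NatTrans.isIso_app_iff_of_iso (Φ w G) ((shiftFunctorAdd (DCoh.D X) k n).app E)).1 (h (k + n))

theorem exact_src (T : Triangle (DCoh.D X)) (hT : T ∈ distTriang _) {Z : DCoh.D S'}
    (a : Z ⟶ (DCoh.LTensorMod G ⋙ DCoh.Rpush f ⋙ DCoh.Lpull g).obj T.obj₂)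
    (ha : a ≫ (DCoh.LTensorMod G ⋙ DCoh.Rpush f ⋙ DCoh.Lpull g).map T.mor₂ = 0) :
    ∃ b, a = b ≫ (DCoh.LTensorMod G ⋙ DCoh.Rpush f ⋙ DCoh.Lpull g).map T.mor₁ := by
  haveI := KFlat.hasLTensorCx (LTMod.S0 G)
  letI := Gen.commShiftRpush f
  haveI := Gen.isTriangulated_Rpush f
  letI := commShiftLpull g
  haveI := isTriangulated_Lpull g
  let H := DCoh.Rpush f ⋙ DCoh.Lpull g
  let I := LTMod.iso G
  obtain ⟨h, hd⟩ := LTExact.exists_distinguished (LTMod.S0 G) T.invRotate (inv_rot_of_distTriang _ hT)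
  obtain ⟨b, hb⟩ := Triangle.coyoneda_exact₂ _ (H.map_distinguished _ hd) (a ≫ H.map (I.hom.app T.obj₂)) (by
    have h3 : T.invRotate.mor₃ = T.mor₂ ≫ ((shiftEquiv (DCoh.D X) (1 : ℤ)).counitIso.inv.app T.obj₃) := rfl
    change (a ≫ H.map (I.hom.app T.obj₂)) ≫ H.map ((DCoh.LTensorCx (LTMod.S0 G)).map T.invRotate.mor₃) = 0
    rw [h3, Functor.map_comp, Functor.map_comp, Category.assoc, ← Category.assoc (H.map (I.hom.app T.obj₂)),
      ← H.map_comp, ← I.hom.naturality, H.map_comp]
    simp only [← Category.assoc]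
    erw [ha]
    simp)
  refine ⟨b ≫ H.map (I.inv.app T.obj₁), ?_⟩
  change a ≫ H.map (I.hom.app T.obj₂) = b ≫ H.map ((DCoh.LTensorCx (LTMod.S0 G)).map T.mor₁) at hb
  change a = (b ≫ H.map (I.inv.app T.obj₁)) ≫ H.map ((DCoh.LTensorMod G).map T.mor₁)
  rw [← cancel_mono (H.map (I.hom.app T.obj₂)), hb, Category.assoc, Category.assoc, ← H.map_comp, ← H.map_comp,
    I.hom.naturality, Iso.inv_hom_id_app_assoc]

theorem exact_tgt (T : Triangle (DCoh.D X)) (hT : T ∈ distTriang _) {Z : DCoh.D S'}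
    (a : Z ⟶ (DCoh.Lpull g' ⋙ DCoh.LTensorMod (G' g' G) ⋙ DCoh.Rpush f').obj T.obj₂)
    (ha : a ≫ (DCoh.Lpull g' ⋙ DCoh.LTensorMod (G' g' G) ⋙ DCoh.Rpush f').map T.mor₂ = 0) :
    ∃ b, a = b ≫ (DCoh.Lpull g' ⋙ DCoh.LTensorMod (G' g' G) ⋙ DCoh.Rpush f').map T.mor₁ := by
  haveI := KFlat.hasLTensorCx (LTMod.S0 (G' g' G))
  letI := Gen.commShiftRpush f'
  haveI := Gen.isTriangulated_Rpush f'
  letI := commShiftLpull g'
  haveI := isTriangulated_Lpull g'
  let H := DCoh.Rpush f'
  let I := LTMod.iso (G' g' G)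
  let T' := (DCoh.Lpull g').mapTriangle.obj T
  have hT' : T' ∈ distTriang _ := (DCoh.Lpull g').map_distinguished T hT
  obtain ⟨h, hd⟩ := LTExact.exists_distinguished (LTMod.S0 (G' g' G)) T'.invRotate (inv_rot_of_distTriang _ hT')
  change a ≫ H.map ((DCoh.LTensorMod (G' g' G)).map T'.mor₂) = 0 at ha
  obtain ⟨b, hb⟩ := Triangle.coyoneda_exact₂ _ (H.map_distinguished _ hd) (a ≫ H.map (I.hom.app T'.obj₂)) (by
    have h3 : T'.invRotate.mor₃ = T'.mor₂ ≫ ((shiftEquiv (DCoh.D X') (1 : ℤ)).counitIso.inv.app T'.obj₃) := rfl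
    change (a ≫ H.map (I.hom.app T'.obj₂)) ≫ H.map ((DCoh.LTensorCx (LTMod.S0 (G' g' G))).map T'.invRotate.mor₃) = 0
    rw [h3, Functor.map_comp, Functor.map_comp, Category.assoc, ← Category.assoc (H.map (I.hom.app T'.obj₂)),
      ← H.map_comp, ← I.hom.naturality, H.map_comp]
    simp only [← Category.assoc]
    erw [ha]
    simp)
  change a ≫ H.map (I.hom.app T'.obj₂) = b ≫ H.map ((DCoh.LTensorCx (LTMod.S0 (G' g' G))).map T'.mor₁) at hb
  refine ⟨b ≫ H.map (I.inv.app T'.obj₁), ?_⟩
  change a = (b ≫ H.map (I.inv.app T'.obj₁)) ≫ H.map ((DCoh.LTensorMod (G' g' G)).map T'.mor₁)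
  rw [← cancel_mono (H.map (I.hom.app T'.obj₂)), hb, Category.assoc, Category.assoc, ← H.map_comp, ← H.map_comp,
    I.hom.naturality, Iso.inv_hom_id_app_assoc]

theorem PΦ.third (T : Triangle (DCoh.D X)) (hT : T ∈ distTriang _) (h₁ : PΦ w G T.obj₁) (h₂ : PΦ w G T.obj₂) :
    PΦ w G T.obj₃ := fun n => by
  haveI := RpushColim.additive_Rpush f
  haveI := RpushColim.additive_Rpush f'
  haveI := RpushColim.additive_Rpush g
  haveI := RpushColim.additive_Rpush g'
  haveI : (DCoh.Lpull g).Additive := (adj g).left_adjoint_additive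
  haveI : (DCoh.Lpull g').Additive := (adj g').left_adjoint_additive
  haveI := LTMod.additive G
  haveI := LTMod.additive (G' g' G)
  exact isIso_app₃' _ _ (Φ w G) (fun _ => True) (fun _ => trivial) (fun _ => trivial)
    (fun T hT _ _ a ha => exact_src G T hT a ha) (fun T hT _ _ a ha => exact_tgt G T hT a ha)
    ((Triangle.shiftFunctor _ n).obj T) (T.shift_distinguished hT n) (h₁ n) (h₂ n)
    ((h₁.shift w G n).shift w G 1).isIso ((h₂.shift w G n).shift w G 1).isIso

theorem PΦ.coproduct [QuasiCompact f] [QuasiSeparated f] [QuasiCompact f'] [QuasiSeparated f'] (hG : Coh.IsQCoh G)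
    {ι : Type u} (K : ι → DCoh.D X) (hK : ∀ i, DCoh.IsQCohD (K i)) [HasCoproduct K]
    (h : ∀ i, PΦ w G (K i)) : PΦ w G (∐ K) := fun n => by
  haveI := Gen.hasCoproducts_D X ι
  haveI := Gen.hasCoproducts_D X' ι
  haveI := Gen.hasCoproducts_D S ι
  haveI := Gen.hasCoproducts_D S' ι
  haveI := LTMod.isLeftAdjoint G
  haveI := LTMod.isLeftAdjoint (G' g' G)
  let C := fun i => (K i)⟦n⟧
  have hC : ∀ i, DCoh.IsQCohD (C i) := fun i => Gen.isQCohD_shift (hK i) n
  have hGC : ∀ i, DCoh.IsQCohD ((DCoh.LTensorMod G).obj (C i)) := fun i => LTMod.isQCohD G hG (hC i)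
  have hG' : Coh.IsQCoh (G' g' G) := haveI := hG; Groth.L16.AffineBC.isQCoh_pullback g' G
  have hGC' : ∀ i, DCoh.IsQCohD ((DCoh.LTensorMod (G' g' G)).obj ((DCoh.Lpull g').obj (C i))) := fun i =>
    LTMod.isQCohD _ hG' (Groth.Agent.S1054.result g' _ (hC i))
  haveI : PreservesColimitsOfShape (Discrete ι) (DCoh.LTensorMod G) := inferInstance
  haveI : IsIso (sigmaComparison (DCoh.LTensorMod G ⋙ DCoh.Rpush f ⋙ DCoh.Lpull g) C) := by
    haveI : IsIso (sigmaComparison (DCoh.Rpush f) fun i => (DCoh.LTensorMod G).obj (C i)) :=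
      QCohColim.isIso_sigma_desc f _ hGC
    haveI := isIso_sigmaComparison_Lpull (g := g) fun i => (DCoh.Rpush f).obj ((DCoh.LTensorMod G).obj (C i))
    haveI := isIso_sigmaComparison_comp (DCoh.Rpush f) (DCoh.Lpull g) fun i => (DCoh.LTensorMod G).obj (C i)
    exact isIso_sigmaComparison_comp (DCoh.LTensorMod G) (DCoh.Rpush f ⋙ DCoh.Lpull g) C
  haveI : IsIso (sigmaComparison (DCoh.Lpull g' ⋙ DCoh.LTensorMod (G' g' G) ⋙ DCoh.Rpush f') C) := by
    haveI : IsIso (sigmaComparison (DCoh.Rpush f') fun i => (DCoh.LTensorMod (G' g' G)).obj ((DCoh.Lpull g').obj (C i))) :=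
      QCohColim.isIso_sigma_desc f' _ hGC'
    haveI := isIso_sigmaComparison_comp (DCoh.LTensorMod (G' g' G)) (DCoh.Rpush f') fun i => (DCoh.Lpull g').obj (C i)
    haveI := isIso_sigmaComparison_Lpull (g := g') C
    exact isIso_sigmaComparison_comp (DCoh.Lpull g') (DCoh.LTensorMod (G' g' G) ⋙ DCoh.Rpush f') C
  exact (NatTrans.isIso_app_iff_of_iso (Φ w G) (asIso (sigmaComparison (shiftFunctor (DCoh.D X) n) K))).1
    (AdjTensor.preservesCoproducts_of_comparison _ _ (Φ w G) C fun i => h i n)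

end Phi

end Groth.Lead.FlatBC
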