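import Groth.Agent.Lead.FlatBC
import Groth.Agent.L29.BC.PasteScheme
import Groth.Agent.L29.DCoh.Gen.Loc

/-!
Composites of derived pullbacks on representatives, and the comparison of the maps `μ` along a square.
-/

set_option autoImplicit false
set_option linter.style.haveILetI false
set_option backward.defeqAttrib.useBackward true
set_option backward.isDefEq.respectTransparency false
set_option backward.isDefEq.respectTransparency.types false

universe u

open CategoryTheory CategoryTheory.Limits AlgebraicGeometry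

attribute [local instance] HasDerivedCategory.standard

namespace Groth.Lead.FlatBC

open Groth.L00 Groth.L29.DC Groth.L29.BC

local notation "up" => ComplexShape.up ℤ
local notation "KH" X => HomotopyCategory (Scheme.Modules X) (ComplexShape.up ℤ)

section Composite

variable {X Y Z : Scheme.{u}} (k : Z ⟶ Y) (g : Y ⟶ X) {h : Z ⟶ X} (hw : k ≫ g = h)
  [DCoh.HasRpush k] [DCoh.HasRpush g] [DCoh.HasRpush h] [DCoh.HasLpull k] [DCoh.HasLpull g]

/-- `Lk^* Lg^* ⊣ R h_*` -/
noncomputable def cAdj : DCoh.Lpull g ⋙ DCoh.Lpull k ⊣ DCoh.Rpush h :=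
  Paste.adjComp (adj g) (adj k) (cR hw)

/-- `k^* g^* ⊣ h_*` on homotopy categories -/
noncomputable def cAdjK : (Scheme.Modules.pullback g).mapHomotopyCategory up ⋙
    (Scheme.Modules.pullback k).mapHomotopyCategory up ⊣ RpushComp.push h :=
  Paste.adjComp (adjK g) (adjK k) (pcK hw)

/-- the counit of the composite -/
noncomputable def cc (F : KH X) : (DCoh.Lpull k).obj ((DCoh.Lpull g).obj (DerivedCategory.Qh.obj F)) ⟶
    DerivedCategory.Qh.obj (((Scheme.Modules.pullback k).mapHomotopyCategory up).obj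
      (((Scheme.Modules.pullback g).mapHomotopyCategory up).obj F)) :=
  (DCoh.Lpull k).map ((αL g).app F) ≫ (αL k).app _

omit [DCoh.HasRpush k] [DCoh.HasRpush g] in
theorem cc_natural {F F' : KH X} (φ : F ⟶ F') :
    (DCoh.Lpull k).map ((DCoh.Lpull g).map (DerivedCategory.Qh.map φ)) ≫ cc k g F' =
      cc k g F ≫ DerivedCategory.Qh.map (((Scheme.Modules.pullback k).mapHomotopyCategory up).map
        (((Scheme.Modules.pullback g).mapHomotopyCategory up).map φ)) := by
  have h₁ : (DCoh.Lpull g).map (DerivedCategory.Qh.map φ) ≫ (αL g).app F' =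
      (αL g).app F ≫ DerivedCategory.Qh.map (((Scheme.Modules.pullback g).mapHomotopyCategory up).map φ) :=
    (αL g).naturality φ
  have h₂ : (DCoh.Lpull k).map (DerivedCategory.Qh.map (((Scheme.Modules.pullback g).mapHomotopyCategory up).map φ)) ≫
      (αL k).app (((Scheme.Modules.pullback g).mapHomotopyCategory up).obj F') =
      (αL k).app (((Scheme.Modules.pullback g).mapHomotopyCategory up).obj F) ≫
        DerivedCategory.Qh.map (((Scheme.Modules.pullback k).mapHomotopyCategory up).map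
          (((Scheme.Modules.pullback g).mapHomotopyCategory up).map φ)) :=
    (αL k).naturality (((Scheme.Modules.pullback g).mapHomotopyCategory up).map φ)
  simp only [cc, Category.assoc]
  rw [← Functor.map_comp_assoc, h₁, Functor.map_comp, Category.assoc, h₂]

theorem cAdj_unit_fac (F : KH X) :
    (cAdj k g hw).unit.app (DerivedCategory.Qh.obj F) ≫ (DCoh.Rpush h).map (cc k g F) =
      DerivedCategory.Qh.map ((cAdjK k g hw).unit.app F) ≫ (ηR h).app (((Scheme.Modules.pullback k).mapHomotopyCategory up).obj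
        (((Scheme.Modules.pullback g).mapHomotopyCategory up).obj F)) := by
  let G := ((Scheme.Modules.pullback g).mapHomotopyCategory up).obj F
  let H := ((Scheme.Modules.pullback k).mapHomotopyCategory up).obj G
  have l : (cAdj k g hw).unit.app (DerivedCategory.Qh.obj F) ≫ (DCoh.Rpush h).map (cc k g F) =
      ((adj g).unit.app (DerivedCategory.Qh.obj F) ≫ (DCoh.Rpush g).map ((αL g).app F)) ≫
        (DCoh.Rpush g).map ((adj k).unit.app (DerivedCategory.Qh.obj G) ≫ (DCoh.Rpush k).map ((αL k).app G)) ≫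
          (cR hw).hom.app (DerivedCategory.Qh.obj H) := by
    refine ((cAdj k g hw).homEquiv_unit _ _ _).symm.trans ((Paste.homEquiv_adjComp _ _ _ _ _ _).trans ?_)
    rw [Adjunction.homEquiv_unit, Adjunction.homEquiv_unit]
    simp only [cc, Functor.map_comp, Category.assoc]
    have hn : (αL g).app F ≫ (adj k).unit.app (DerivedCategory.Qh.obj G) =
        (adj k).unit.app ((DCoh.Lpull g).obj (DerivedCategory.Qh.obj F)) ≫
          (DCoh.Rpush k).map ((DCoh.Lpull k).map ((αL g).app F)) :=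
      (adj k).unit.naturality ((αL g).app F)
    rw [← Functor.map_comp_assoc (DCoh.Rpush g) ((αL g).app F), hn, Functor.map_comp, Category.assoc]
    rfl
  rw [l, adj_unit_fac, adj_unit_fac, Functor.map_comp, Category.assoc, Category.assoc]
  have n₁ : DerivedCategory.Qh.map ((RpushComp.push g).map ((adjK k).unit.app G)) ≫
      (ηR g).app ((RpushComp.push k).obj H) =
      (ηR g).app G ≫ (DCoh.Rpush g).map (DerivedCategory.Qh.map ((adjK k).unit.app G)) :=
    (ηR g).naturality ((adjK k).unit.app G)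
  have f₁ := cR_fac hw H
  rw [θ_app, τc_app] at f₁
  have hu : (cAdjK k g hw).unit.app F =
      (adjK g).unit.app F ≫ (RpushComp.push g).map ((adjK k).unit.app G) ≫ (pcK hw).hom.app H := by
    refine ((cAdjK k g hw).homEquiv_id F).symm.trans ((Paste.homEquiv_adjComp _ _ _ _ _ _).trans ?_)
    rw [Adjunction.homEquiv_unit, Adjunction.homEquiv_unit]
    erw [CategoryTheory.Functor.map_id, Category.comp_id]
    exact Category.assoc _ _ _
  rw [hu, Functor.map_comp, Functor.map_comp, Category.assoc, Category.assoc, ← f₁]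
  simp only [Category.assoc]
  erw [reassoc_of% n₁]

end Composite

section Two

variable {X Y Y' Z : Scheme.{u}} {k : Z ⟶ Y} {g : Y ⟶ X} {k' : Z ⟶ Y'} {g' : Y' ⟶ X} {h : Z ⟶ X}
  (hw : k ≫ g = h) (hw' : k' ≫ g' = h)
  [DCoh.HasRpush k] [DCoh.HasRpush g] [DCoh.HasRpush k'] [DCoh.HasRpush g'] [DCoh.HasRpush h]
  [DCoh.HasLpull k] [DCoh.HasLpull g] [DCoh.HasLpull k'] [DCoh.HasLpull g']

/-- the two composites of derived pullbacks agree -/
noncomputable def ψ : DCoh.Lpull g ⋙ DCoh.Lpull k ≅ DCoh.Lpull g' ⋙ DCoh.Lpull k' :=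
  (cAdj k g hw).leftAdjointUniq (cAdj k' g' hw')

/-- the two composites of pullbacks agree -/
noncomputable def ψK : (Scheme.Modules.pullback g).mapHomotopyCategory up ⋙ (Scheme.Modules.pullback k).mapHomotopyCategory up ≅
    (Scheme.Modules.pullback g').mapHomotopyCategory up ⋙ (Scheme.Modules.pullback k').mapHomotopyCategory up :=
  (cAdjK k g hw).leftAdjointUniq (cAdjK k' g' hw')

theorem ψ_fac (F : KH X) : (ψ hw hw').hom.app (DerivedCategory.Qh.obj F) ≫ cc k' g' F =
    cc k g F ≫ DerivedCategory.Qh.map ((ψK hw hw').hom.app F) := by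
  refine ((cAdj k g hw).homEquiv (DerivedCategory.Qh.obj F) _).injective ?_
  refine ((cAdj k g hw).homEquiv_naturality_right _ _).trans ?_
  rw [ψ, Adjunction.homEquiv_leftAdjointUniq_hom_app, cAdj_unit_fac]
  refine Eq.trans ?_ ((cAdj k g hw).homEquiv_unit _ _ _).symm
  rw [Functor.map_comp, ← Category.assoc, cAdj_unit_fac, Category.assoc]
  have n : DerivedCategory.Qh.map ((RpushComp.push h).map ((ψK hw hw').hom.app F)) ≫ (ηR h).app _ =
      (ηR h).app (((Scheme.Modules.pullback k).mapHomotopyCategory up).obj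
        (((Scheme.Modules.pullback g).mapHomotopyCategory up).obj F)) ≫ (DCoh.Rpush h).map (DerivedCategory.Qh.map ((ψK hw hw').hom.app F)) :=
    (ηR h).naturality ((ψK hw hw').hom.app F)
  rw [← n, ← Category.assoc, ← Functor.map_comp]
  congr 2
  exact (Adjunction.unit_leftAdjointUniq_hom_app (cAdjK k g hw) (cAdjK k' g' hw') F).symm

end Two

section Square

variable {X X' U U' : Scheme.{u}} {i : U ⟶ X} {g' : X' ⟶ X} {k : U' ⟶ X'} {g₀ : U' ⟶ U}
  [IsOpenImmersion i] [IsOpenImmersion k] {h : U' ⟶ X} (hw : g₀ ≫ i = h) (hw' : k ≫ g' = h)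
  [DCoh.HasRpush i] [DCoh.HasRpush g'] [DCoh.HasRpush k] [DCoh.HasRpush g₀] [DCoh.HasRpush h]
  [DCoh.HasLpull i] [DCoh.HasLpull g'] [DCoh.HasLpull k] [DCoh.HasLpull g₀]
  (G : X.Modules) [DCoh.HasLTensorMod G] [DCoh.HasLTensorMod (G' g' G)] [DCoh.HasLTensorMod (G' i G)]
  [DCoh.HasLTensorMod (G' g₀ (G' i G))]

omit [IsOpenImmersion k] [DCoh.HasRpush i] [DCoh.HasRpush g'] [DCoh.HasRpush k] [DCoh.HasRpush g₀] [DCoh.HasRpush h]
  [DCoh.HasLpull g'] [DCoh.HasLpull k] [DCoh.HasLpull g₀] in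
theorem isIso_μ_open (E : DCoh.D X) : IsIso ((μ i G).app E) := by
  obtain ⟨P, q, hP, -, hq, -⟩ := KFlat.exists_resolution (DerivedCategory.Q.objPreimage E)
  haveI := (DerivedCategory.isIso_Q_map_iff_quasiIso _ q).2 hq
  refine (NatTrans.isIso_app_iff_of_iso (μ i G) ((DerivedCategory.quotientCompQhIso X.Modules).app P ≪≫
    asIso (DerivedCategory.Q.map q) ≪≫ DerivedCategory.Q.objObjPreimageIso E)).1 ?_
  let F := (HomotopyCategory.quotient X.Modules up).obj P
  haveI := isIso_αT G hP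
  haveI : IsIso ((αL i).app (((DCoh.tensorRightMod G).mapHomotopyCategory up).obj F)) := isIso_αL_of_flat i _
  haveI := isIso_tgtCounit i G hP
  haveI : IsIso ((μ i G).app (DerivedCategory.Qh.obj F) ≫ (tgtCounit i G).app F) := by
    rw [μ_fac]
    change IsIso ((DCoh.Lpull i).map ((αT G).app F) ≫ (αL i).app _ ≫ DerivedCategory.Qh.map ((kIso i G).hom.app F))
    infer_instance
  change IsIso ((μ i G).app (DerivedCategory.Qh.obj F))
  exact IsIso.of_isIso_comp_right _ ((tgtCounit i G).app F)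

/-- the comparison along a square, up to an isomorphism of the targets -/
theorem exists_μ_square (E : DCoh.D X) :
    ∃ t : (DCoh.Lpull k).obj ((DCoh.Lpull g' ⋙ DCoh.LTensorMod (G' g' G)).obj E) ≅
        (DCoh.Lpull g₀ ⋙ DCoh.LTensorMod (G' g₀ (G' i G))).obj ((DCoh.Lpull i).obj E),
      (ψ hw' hw).hom.app ((DCoh.LTensorMod G).obj E) ≫ (DCoh.Lpull g₀).map ((μ i G).app E) ≫
          (μ g₀ (G' i G)).app ((DCoh.Lpull i).obj E) =
        (DCoh.Lpull k).map ((μ g' G).app E) ≫ t.hom := by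
  obtain ⟨P, q, hP, -, hq, -⟩ := KFlat.exists_resolution (DerivedCategory.Q.objPreimage E)
  haveI := (DerivedCategory.isIso_Q_map_iff_quasiIso _ q).2 hq
  suffices H : ∀ {E₁ : DCoh.D X}, (E₁ ≅ E) → (∃ t : (DCoh.Lpull k).obj ((DCoh.Lpull g' ⋙ DCoh.LTensorMod (G' g' G)).obj E₁) ≅
        (DCoh.Lpull g₀ ⋙ DCoh.LTensorMod (G' g₀ (G' i G))).obj ((DCoh.Lpull i).obj E₁),
      (ψ hw' hw).hom.app ((DCoh.LTensorMod G).obj E₁) ≫ (DCoh.Lpull g₀).map ((μ i G).app E₁) ≫
          (μ g₀ (G' i G)).app ((DCoh.Lpull i).obj E₁) =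
        (DCoh.Lpull k).map ((μ g' G).app E₁) ≫ t.hom) →
      ∃ t : (DCoh.Lpull k).obj ((DCoh.Lpull g' ⋙ DCoh.LTensorMod (G' g' G)).obj E) ≅
        (DCoh.Lpull g₀ ⋙ DCoh.LTensorMod (G' g₀ (G' i G))).obj ((DCoh.Lpull i).obj E),
      (ψ hw' hw).hom.app ((DCoh.LTensorMod G).obj E) ≫ (DCoh.Lpull g₀).map ((μ i G).app E) ≫
          (μ g₀ (G' i G)).app ((DCoh.Lpull i).obj E) =
        (DCoh.Lpull k).map ((μ g' G).app E) ≫ t.hom by
    refine H ((DerivedCategory.quotientCompQhIso X.Modules).app P ≪≫ asIso (DerivedCategory.Q.map q) ≪≫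
      DerivedCategory.Q.objObjPreimageIso E) ?_
    let F := (HomotopyCategory.quotient X.Modules up).obj P
    let FG := ((DCoh.tensorRightMod G).mapHomotopyCategory up).obj F
    let Fi := ((Scheme.Modules.pullback i).mapHomotopyCategory up).obj F
    haveI := isIso_αL i P hP
    haveI := isIso_tgtCounit g' G hP
    haveI := isIso_tgtCounit g₀ (G' i G) (KFlat.pullback_kflat i P hP)
    haveI := isIso_αT (G' i G) (KFlat.pullback_kflat i P hP)
    haveI : IsIso ((tgtCounit g₀ (G' i G)).app Fi) := isIso_tgtCounit g₀ (G' i G) (KFlat.pullback_kflat i P hP)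
    haveI : IsIso ((αL k).app (((DCoh.tensorRightMod (G' g' G)).mapHomotopyCategory up).obj
        (((Scheme.Modules.pullback g').mapHomotopyCategory up).obj F))) := isIso_αL_of_flat k _
    let L := (DCoh.Lpull k).map ((tgtCounit g' G).app F) ≫ (αL k).app _
    let R := (DCoh.Lpull g₀ ⋙ DCoh.LTensorMod (G' g₀ (G' i G))).map ((αL i).app F) ≫
      (tgtCounit g₀ (G' i G)).app Fi
    let pk := (Scheme.Modules.pullback k).mapHomotopyCategory up
    let pg := (Scheme.Modules.pullback g₀).mapHomotopyCategory up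
    let v := (pk.mapIso ((kIso g' G).app F)).symm ≪≫ (ψK hw' hw).app FG ≪≫ pg.mapIso ((kIso i G).app F) ≪≫
      (kIso g₀ (G' i G)).app Fi
    refine ⟨asIso L ≪≫ DerivedCategory.Qh.mapIso v ≪≫ (asIso R).symm, ?_⟩
    rw [← cancel_mono R]
    simp only [Iso.trans_hom, Iso.symm_hom, asIso_hom, asIso_inv, Category.assoc, IsIso.inv_hom_id,
      Category.comp_id, Functor.mapIso_hom]
    change (ψ hw' hw).hom.app ((DCoh.LTensorMod G).obj (DerivedCategory.Qh.obj F)) ≫
        (DCoh.Lpull g₀).map ((μ i G).app (DerivedCategory.Qh.obj F)) ≫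
          (μ g₀ (G' i G)).app ((DCoh.Lpull i).obj (DerivedCategory.Qh.obj F)) ≫ R =
      (DCoh.Lpull k).map ((μ g' G).app (DerivedCategory.Qh.obj F)) ≫ L ≫ DerivedCategory.Qh.map v.hom
    -- the left side
    have hl₁ : (μ g₀ (G' i G)).app ((DCoh.Lpull i).obj (DerivedCategory.Qh.obj F)) ≫ R =
        (DCoh.Lpull g₀).map ((DCoh.LTensorMod (G' i G)).map ((αL i).app F)) ≫ (srcNat g₀ (G' i G)).app Fi := by
      rw [← μ_fac]
      exact ((reassoc_of% ((μ g₀ (G' i G)).naturality ((αL i).app F))) _).symm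
    have hl₂ : (DCoh.Lpull g₀).map ((μ i G).app (DerivedCategory.Qh.obj F)) ≫
        (DCoh.Lpull g₀).map ((DCoh.LTensorMod (G' i G)).map ((αL i).app F)) ≫
          (DCoh.Lpull g₀).map ((αT (G' i G)).app Fi) = (DCoh.Lpull g₀).map ((srcNat i G).app F) := by
      simp only [← Functor.map_comp]
      rw [← μ_fac, tgtCounit_app]
    have hn : (DCoh.Lpull g₀).map (DerivedCategory.Qh.map ((kIso i G).hom.app F)) ≫
        (αL g₀).app (((DCoh.tensorRightMod (G' i G)).mapHomotopyCategory up).obj Fi) =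
        (αL g₀).app (((Scheme.Modules.pullback i).mapHomotopyCategory up).obj FG) ≫
          DerivedCategory.Qh.map (pg.map ((kIso i G).hom.app F)) := (αL g₀).naturality ((kIso i G).hom.app F)
    have hψ : (ψ hw' hw).hom.app ((DCoh.LTensorMod G).obj (DerivedCategory.Qh.obj F)) ≫
        (DCoh.Lpull g₀).map ((DCoh.Lpull i).map ((αT G).app F)) =
        (DCoh.Lpull k).map ((DCoh.Lpull g').map ((αT G).app F)) ≫ (ψ hw' hw).hom.app (DerivedCategory.Qh.obj FG) :=
      ((ψ hw' hw).hom.naturality ((αT G).app F)).symm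
    have hψ₂ : (ψ hw' hw).hom.app (DerivedCategory.Qh.obj FG) ≫ (DCoh.Lpull g₀).map ((αL i).app FG) ≫
        (αL g₀).app (((Scheme.Modules.pullback i).mapHomotopyCategory up).obj FG) =
        cc k g' FG ≫ DerivedCategory.Qh.map ((ψK hw' hw).hom.app FG) := ψ_fac hw' hw FG
    have hr : (DCoh.Lpull k).map ((μ g' G).app (DerivedCategory.Qh.obj F)) ≫ L =
        (DCoh.Lpull k).map ((DCoh.Lpull g').map ((αT G).app F)) ≫ cc k g' FG ≫
          DerivedCategory.Qh.map (pk.map ((kIso g' G).hom.app F)) := by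
      have hk : (DCoh.Lpull k).map (DerivedCategory.Qh.map ((kIso g' G).hom.app F)) ≫
          (αL k).app (((DCoh.tensorRightMod (G' g' G)).mapHomotopyCategory up).obj
            (((Scheme.Modules.pullback g').mapHomotopyCategory up).obj F)) =
          (αL k).app (((Scheme.Modules.pullback g').mapHomotopyCategory up).obj FG) ≫
            DerivedCategory.Qh.map (pk.map ((kIso g' G).hom.app F)) := (αL k).naturality ((kIso g' G).hom.app F)
      simp only [L, cc]
      rw [← Category.assoc, ← Functor.map_comp, μ_fac]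
      simp only [srcNat, Functor.map_comp, Category.assoc]
      exact congrArg (_ ≫ ·) (congrArg (_ ≫ ·) hk)
    rw [hl₁]
    have hs : (srcNat g₀ (G' i G)).app Fi = (DCoh.Lpull g₀).map ((αT (G' i G)).app Fi) ≫
        (αL g₀).app (((DCoh.tensorRightMod (G' i G)).mapHomotopyCategory up).obj Fi) ≫
          DerivedCategory.Qh.map ((kIso g₀ (G' i G)).hom.app Fi) := rfl
    rw [hs, reassoc_of% hl₂, reassoc_of% hr]
    have hsi : (DCoh.Lpull g₀).map ((srcNat i G).app F) = (DCoh.Lpull g₀).map ((DCoh.Lpull i).map ((αT G).app F)) ≫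
        (DCoh.Lpull g₀).map ((αL i).app FG) ≫ (DCoh.Lpull g₀).map (DerivedCategory.Qh.map ((kIso i G).hom.app F)) := by
      simp only [srcNat, Functor.map_comp]
      rfl
    rw [hsi]
    simp only [Category.assoc]
    rw [reassoc_of% hψ, reassoc_of% hn, reassoc_of% hψ₂]
    congr 2
    simp only [← Functor.map_comp]
    refine congrArg DerivedCategory.Qh.map ?_
    simp only [v, Iso.trans_hom, Iso.symm_hom, Functor.mapIso_inv, Functor.mapIso_hom, Iso.app_hom, Iso.app_inv]
    rw [← Functor.map_comp_assoc, Iso.hom_inv_id_app]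
    erw [CategoryTheory.Functor.map_id]
    exact (Category.id_comp _).symm
  intro E₁ e he
  obtain ⟨t, ht⟩ := he
  refine ⟨((DCoh.Lpull g' ⋙ DCoh.LTensorMod (G' g' G) ⋙ DCoh.Lpull k).mapIso e).symm ≪≫ t ≪≫
    (DCoh.Lpull i ⋙ DCoh.Lpull g₀ ⋙ DCoh.LTensorMod (G' g₀ (G' i G))).mapIso e, ?_⟩
  let σ : DCoh.LTensorMod G ⋙ DCoh.Lpull g' ⋙ DCoh.Lpull k ⟶ DCoh.Lpull i ⋙ DCoh.Lpull g₀ ⋙ DCoh.LTensorMod (G' g₀ (G' i G)) :=
    Functor.whiskerLeft (DCoh.LTensorMod G) (ψ hw' hw).hom ≫ (Functor.associator _ _ _).inv ≫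
      Functor.whiskerRight (μ i G) (DCoh.Lpull g₀) ≫ (Functor.associator _ _ _).hom ≫
        Functor.whiskerLeft (DCoh.Lpull i) (μ g₀ (G' i G))
  let ρ : DCoh.LTensorMod G ⋙ DCoh.Lpull g' ⋙ DCoh.Lpull k ⟶ DCoh.Lpull g' ⋙ DCoh.LTensorMod (G' g' G) ⋙ DCoh.Lpull k :=
    (Functor.associator _ _ _).inv ≫ Functor.whiskerRight (μ g' G) (DCoh.Lpull k) ≫ (Functor.associator _ _ _).hom
  have hσ : ∀ A, σ.app A = (ψ hw' hw).hom.app ((DCoh.LTensorMod G).obj A) ≫ (DCoh.Lpull g₀).map ((μ i G).app A) ≫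
      (μ g₀ (G' i G)).app ((DCoh.Lpull i).obj A) := fun A => by
    simp only [σ, NatTrans.comp_app, Functor.whiskerLeft_app, Functor.whiskerRight_app, Functor.associator_inv_app,
      Functor.associator_hom_app]
    erw [Category.id_comp, Category.id_comp]
  have hρ : ∀ A, ρ.app A = (DCoh.Lpull k).map ((μ g' G).app A) := fun A => by
    simp only [ρ, NatTrans.comp_app, Functor.whiskerRight_app, Functor.associator_inv_app, Functor.associator_hom_app]
    erw [Category.id_comp, Category.comp_id]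
  rw [← hσ, ← hρ]
  have ht' : σ.app E₁ = ρ.app E₁ ≫ t.hom := by rw [hσ, hρ]; exact ht
  simp only [Iso.trans_hom, Iso.symm_hom, Functor.mapIso_inv, Functor.mapIso_hom]
  have n₁ := ρ.naturality e.inv
  have n₂ := σ.naturality e.hom
  rw [← Category.assoc, ← n₁, Category.assoc, ← reassoc_of% ht', ← n₂, ← Functor.map_comp_assoc, Iso.inv_hom_id,
    CategoryTheory.Functor.map_id, Category.id_comp]

end Square

end Groth.Lead.FlatBC
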