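import Groth.Agent.Lead.FlatBCCompat
import Groth.Agent.L29.BC.TorGlobal

/-!
Base change with a module along open pieces of the bases and of the source.
-/

set_option autoImplicit false
set_option linter.style.haveILetI false
set_option backward.defeqAttrib.useBackward true
set_option backward.isDefEq.respectTransparency false
set_option backward.isDefEq.respectTransparency.types false

universe u

open CategoryTheory CategoryTheory.Limits AlgebraicGeometry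

attribute [local instance] HasDerivedCategory.standard

namespace Groth.Lead.FlatBC

open Groth.L00 Groth.L29.DC Groth.L29.BC

theorem e_hom_comp' {X X' S S' : Scheme.{u}} {f : X ⟶ S} {g : S' ⟶ S} {g' : X' ⟶ X} {f' : X' ⟶ S'}
    [DCoh.HasRpush f] [DCoh.HasRpush g] [DCoh.HasRpush f'] [DCoh.HasRpush g'] {d : X' ⟶ S} [DCoh.HasRpush d]
    (w : g' ≫ f = f' ≫ g) (hd : g' ≫ f = d) (Z : DCoh.D X') :
    (e w).hom.app Z ≫ (cR (w.symm.trans hd)).hom.app Z = (cR hd).hom.app Z := by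
  rw [e_eq w hd]
  simp

section Bc

variable {X X' X'' S S' S'' : Scheme.{u}} {f : X ⟶ S} {g : S' ⟶ S} {g' : X' ⟶ X} {f' : X' ⟶ S'}
  {k : S'' ⟶ S'} {k' : X'' ⟶ X'} {f'' : X'' ⟶ S''} {h : S'' ⟶ S} {h' : X'' ⟶ X}
  [DCoh.HasRpush f] [DCoh.HasRpush g] [DCoh.HasRpush f'] [DCoh.HasRpush g'] [DCoh.HasLpull g] [DCoh.HasLpull g']
  [DCoh.HasRpush k] [DCoh.HasRpush k'] [DCoh.HasRpush f''] [DCoh.HasLpull k] [DCoh.HasLpull k']
  [DCoh.HasRpush h] [DCoh.HasRpush h']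

/-- vertical composition along given composites -/
theorem bc_vert' (w₁ : g' ≫ f = f' ≫ g) (w₂ : k' ≫ f' = f'' ≫ k) (hh : k ≫ g = h) (hh' : k' ≫ g' = h')
    (w : h' ≫ f = f'' ≫ h) (E : DCoh.D X) :
    Paste.bc (cAdj k g hh) (cAdj k' g' hh') (e w) E =
      (DCoh.Lpull k).map (β w₁ E) ≫ β w₂ ((DCoh.Lpull g').obj E) := by
  let p := g' ≫ f
  let p₂ := k' ≫ f'
  let D := k' ≫ p
  haveI := RpushQC.hasRpush p
  haveI := RpushQC.hasRpush p₂
  haveI := RpushQC.hasRpush D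
  have hD : h' ≫ f = D := by simp [D, p, ← hh']
  have hp₂ : p₂ ≫ g = D := by simp [p₂, D, p, w₁]
  have hcomp : ∀ Z : DCoh.D X'', (e w₁).hom.app ((DCoh.Rpush k').obj Z) ≫
      (DCoh.Rpush g).map ((e w₂).hom.app Z) ≫ (cR hh).hom.app ((DCoh.Rpush f'').obj Z) =
      (DCoh.Rpush f).map ((cR hh').hom.app Z) ≫ (e w).hom.app Z := fun Z => by
    rw [← cancel_mono ((cR (w.symm.trans hD)).hom.app Z)]
    simp only [Category.assoc]
    rw [e_hom_comp' w hD]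
    have a₁ := cR_assoc (a := f'') (b := k) (c := g) (w₂.symm.trans rfl : f'' ≫ k = p₂) hh
      hp₂ (w.symm.trans hD) Z
    have a₂ := cR_assoc (a := k') (b := f') (c := g) (rfl : k' ≫ f' = p₂) (w₁.symm.trans rfl : f' ≫ g = p)
      hp₂ (rfl : k' ≫ p = D) Z
    have a₃ := cR_assoc (a := k') (b := g') (c := f) hh' (rfl : g' ≫ f = p)
      hD (rfl : k' ≫ p = D) Z
    erw [← a₁]
    rw [← Functor.map_comp_assoc, e_hom_comp' w₂ (rfl : k' ≫ f' = p₂)]
    erw [a₂]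
    refine (reassoc_of% (e_hom_comp' w₁ (rfl : g' ≫ f = p) ((DCoh.Rpush k').obj Z))) _ |>.trans ?_
    exact a₃.symm
  exact Paste.bc_vert (adj g) (adj g') (adj k) (adj k') (e w₁) (e w₂) (cR hh) (cR hh') (e w) hcomp E

end Bc

section Bases

variable {X X' X₀ X₀' S S' S₀ S₀' : Scheme.{u}} {f : X ⟶ S} {g : S' ⟶ S} {g' : X' ⟶ X} {f' : X' ⟶ S'}
  {f₀ : X₀ ⟶ S₀} {f₀' : X₀' ⟶ S₀'} {a : S₀ ⟶ S} {i : X₀ ⟶ X} {k : S₀' ⟶ S'} {k' : X₀' ⟶ X'}
  {g₀ : S₀' ⟶ S₀} {g₀' : X₀' ⟶ X₀}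
  [IsOpenImmersion a] [IsOpenImmersion i] [IsOpenImmersion k] [IsOpenImmersion k']

set_option maxHeartbeats 800000 in
/-- base change with a module on pieces of the bases -/
theorem isIso_Lpull_Φ (hc : IsPullback g' f' f g) (hi : IsPullback i f₀ f a) (hk : IsPullback k' f₀' f' k)
    (w₀ : g₀' ≫ f₀ = f₀' ≫ g₀) (eg : g₀ ≫ a = k ≫ g) (eg' : g₀' ≫ i = k' ≫ g')
    [DCoh.HasRpush f] [DCoh.HasRpush g] [DCoh.HasRpush f'] [DCoh.HasRpush g'] [DCoh.HasLpull g] [DCoh.HasLpull g']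
    [DCoh.HasRpush f₀] [DCoh.HasRpush f₀'] [DCoh.HasRpush g₀] [DCoh.HasRpush g₀'] [DCoh.HasLpull g₀] [DCoh.HasLpull g₀']
    [DCoh.HasLpull k]
    (G : X.Modules) [DCoh.HasLTensorMod G] [DCoh.HasLTensorMod (G' g' G)] [DCoh.HasLpull i]
    [DCoh.HasLTensorMod (G' i G)] [DCoh.HasLTensorMod (G' g₀' (G' i G))] (E : DCoh.D X)
    (h₀ : IsIso ((Φ w₀ (G' i G)).app ((DCoh.Lpull i).obj E))) :
    IsIso ((DCoh.Lpull k).map ((Φ hc.w G).app E)) := by
  haveI := fun {A B : Scheme.{u}} (h : A ⟶ B) => RpushQC.hasRpush h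
  haveI := fun {A B : Scheme.{u}} (h : A ⟶ B) => KFlat.hasLpull h
  let h := k ≫ g
  let h' := k' ≫ g'
  have w : h' ≫ f = f₀' ≫ h := by simp [h, h', hc.w, hk.w_assoc]
  let M := (DCoh.LTensorMod G).obj E
  let T := (DCoh.Lpull g' ⋙ DCoh.LTensorMod (G' g' G)).obj E
  haveI : IsIso (β hk.w T) := isIso_β_open hk T
  haveI : IsIso (β hi.w M) := isIso_β_open hi M
  haveI := isIso_μ_open (i := i) G E
  obtain ⟨t, ht⟩ := exists_μ_square (i := i) (g' := g') (k := k') (g₀ := g₀') (h := h') eg' (rfl : k' ≫ g' = h') G E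
  -- the two decompositions of the composite square
  let A₁ := cAdj k g (rfl : k ≫ g = h)
  let A₁' := cAdj k' g' (rfl : k' ≫ g' = h')
  let A₂ := cAdj g₀ a (eg : g₀ ≫ a = h)
  let A₂' := cAdj g₀' i (eg' : g₀' ≫ i = h')
  have b₁ := bc_vert' hc.w hk.w (rfl : k ≫ g = h) (rfl : k' ≫ g' = h') w M
  have b₂ := bc_vert' hi.w w₀ (eg : g₀ ≫ a = h) (eg' : g₀' ≫ i = h') w M
  have hcongr := Paste.bc_congr A₁ A₁' A₂ A₂' (e w) M
  have n₁ : β hk.w ((DCoh.Lpull g').obj M) ≫ (DCoh.Rpush f₀').map ((DCoh.Lpull k').map ((μ g' G).app E)) =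
      (DCoh.Lpull k).map ((DCoh.Rpush f').map ((μ g' G).app E)) ≫ β hk.w T := (β_natural hk.w ((μ g' G).app E)).symm
  have n₂ : β w₀ ((DCoh.Lpull i).obj M) ≫ (DCoh.Rpush f₀').map ((DCoh.Lpull g₀').map ((μ i G).app E)) =
      (DCoh.Lpull g₀).map ((DCoh.Rpush f₀).map ((μ i G).app E)) ≫
        β w₀ ((DCoh.LTensorMod (G' i G)).obj ((DCoh.Lpull i).obj E)) := (β_natural w₀ ((μ i G).app E)).symm
  have key : (DCoh.Lpull k).map ((Φ hc.w G).app E) ≫ β hk.w T ≫ (DCoh.Rpush f₀').map t.hom =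
      (A₁.leftAdjointUniq A₂).hom.app ((DCoh.Rpush f).obj M) ≫ (DCoh.Lpull g₀).map (β hi.w M) ≫
        (DCoh.Lpull g₀).map ((DCoh.Rpush f₀).map ((μ i G).app E)) ≫
          (Φ w₀ (G' i G)).app ((DCoh.Lpull i).obj E) := by
    rw [Φ_app w₀, ← reassoc_of% n₂]
    rw [b₂] at hcongr
    simp only [← Category.assoc] at hcongr ⊢
    rw [hcongr, b₁, Φ_app hc.w, Functor.map_comp]
    simp only [Category.assoc]
    rw [← reassoc_of% n₁, ← Functor.map_comp, ← Functor.map_comp, ← Functor.map_comp]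
    exact congrArg (_ ≫ ·) (congrArg (_ ≫ ·) (congrArg _ ht.symm))
  haveI := h₀
  haveI : IsIso ((DCoh.Lpull k).map ((Φ hc.w G).app E) ≫ β hk.w T ≫ (DCoh.Rpush f₀').map t.hom) := by
    rw [key]; infer_instance
  exact IsIso.of_isIso_comp_right _ (β hk.w T ≫ (DCoh.Rpush f₀').map t.hom)

end Bases

section Horiz

variable {X X' S S' : Scheme.{u}} {f : X ⟶ S} {g : S' ⟶ S} {g' : X' ⟶ X} {f' : X' ⟶ S'}
  [DCoh.HasRpush f] [DCoh.HasRpush g] [DCoh.HasRpush f'] [DCoh.HasRpush g'] [DCoh.HasLpull g] [DCoh.HasLpull g']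
  {W W' : Scheme.{u}} {h : W ⟶ X} {h' : W' ⟶ X'} {g'' : W' ⟶ W}
  [DCoh.HasRpush h] [DCoh.HasRpush h'] [DCoh.HasRpush g''] [DCoh.HasLpull g'']
  [DCoh.HasRpush (h ≫ f)] [DCoh.HasRpush (h' ≫ f')]

/-- base change for a composite square on the source -/
theorem bc_horiz' (w₁ : g' ≫ f = f' ≫ g) (w₂ : g'' ≫ h = h' ≫ g')
    (w : g'' ≫ (h ≫ f) = (h' ≫ f') ≫ g) (E : DCoh.D W) :
    (DCoh.Lpull g).map ((cR (g := h) (f := f) (h := h ≫ f) rfl).hom.app E) ≫ β w E =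
      β w₁ ((DCoh.Rpush h).obj E) ≫ (DCoh.Rpush f').map (β w₂ E) ≫
        (cR (g := h') (f := f') (h := h' ≫ f') rfl).hom.app ((DCoh.Lpull g'').obj E) := by
  let p := g' ≫ f
  let q := g'' ≫ h
  let D := g'' ≫ (h ≫ f)
  haveI := RpushQC.hasRpush p
  haveI := RpushQC.hasRpush q
  haveI := RpushQC.hasRpush D
  have hD : h' ≫ p = D := by simp [D, p, reassoc_of% w₂]
  have hq : q ≫ f = D := Category.assoc _ _ _
  let d := cR (g := h) (f := f) (h := h ≫ f) rfl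
  let d' := cR (g := h') (f := f') (h := h' ≫ f') rfl
  have hcomp : ∀ Z : DCoh.D W', (DCoh.Rpush f).map ((e w₂).hom.app Z) ≫
      (e w₁).hom.app ((DCoh.Rpush h').obj Z) ≫ (DCoh.Rpush g).map (d'.hom.app Z) =
      d.hom.app ((DCoh.Rpush g'').obj Z) ≫ (e w).hom.app Z := fun Z => by
    rw [← cancel_mono ((cR (w.symm.trans (rfl : g'' ≫ (h ≫ f) = D))).hom.app Z)]
    simp only [Category.assoc]
    rw [e_hom_comp w (rfl : g'' ≫ (h ≫ f) = D)]
    have a₁ := cR_assoc (a := h') (b := f') (c := g) (rfl : h' ≫ f' = h' ≫ f') (w₁.symm.trans rfl : f' ≫ g = p)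
      (w.symm.trans (rfl : g'' ≫ (h ≫ f) = D)) hD Z
    have a₂ := cR_assoc (a := h') (b := g') (c := f) (w₂.symm.trans rfl : h' ≫ g' = q) (rfl : g' ≫ f = p) hq hD Z
    have a₃ := cR_assoc (a := g'') (b := h) (c := f) (rfl : g'' ≫ h = q) (rfl : h ≫ f = h ≫ f) hq
      (rfl : g'' ≫ (h ≫ f) = D) Z
    erw [a₁]
    rw [reassoc_of% (e_hom_comp w₁ (rfl : g' ≫ f = p) ((DCoh.Rpush h').obj Z))]
    erw [← a₂]
    rw [← Functor.map_comp_assoc, e_hom_comp w₂ (rfl : g'' ≫ h = q)]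
    exact a₃
  exact Paste.bc_horiz (adj g) (adj g') (adj g'') (e w₁) (e w₂) d d' (e w) hcomp E

end Horiz

section Source

variable {X X' S S' V V' : Scheme.{u}} {f : X ⟶ S} {g : S' ⟶ S} {g' : X' ⟶ X} {f' : X' ⟶ S'}
  {j : V ⟶ X} {j' : V' ⟶ X'} {g'' : V' ⟶ V} [IsOpenImmersion j] [IsOpenImmersion j']
  [DCoh.HasRpush f] [DCoh.HasRpush g] [DCoh.HasRpush f'] [DCoh.HasRpush g'] [DCoh.HasLpull g] [DCoh.HasLpull g']
  [DCoh.HasRpush j] [DCoh.HasRpush j'] [DCoh.HasRpush g''] [DCoh.HasLpull g'']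
  [DCoh.HasLpull j] [DCoh.HasLpull j'] [DCoh.HasRpush (j ≫ f)] [DCoh.HasRpush (j' ≫ f')]

/-- the mate of the unit -/
theorem unit_β (w₂ : g'' ≫ j = j' ≫ g') {h : V' ⟶ X} [DCoh.HasRpush h] (hh : g'' ≫ j = h) (hh' : j' ≫ g' = h)
    (M : DCoh.D X) :
    (DCoh.Lpull g').map ((adj j).unit.app M) ≫ β w₂ ((DCoh.Lpull j).obj M) =
      (adj j').unit.app ((DCoh.Lpull g').obj M) ≫ (DCoh.Rpush j').map ((ψ hh' hh).hom.app M) := by
  apply ((adj g').homEquiv _ _).injective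
  rw [Adjunction.homEquiv_naturality_left]
  simp only [β, DCoh.baseChangeApp]
  erw [Equiv.apply_symm_apply]
  rw [Adjunction.homEquiv_unit, ← cancel_mono ((cR hh').hom.app ((DCoh.Lpull g'').obj ((DCoh.Lpull j).obj M)))]
  simp only [Category.assoc, Functor.map_comp]
  have hl : (cAdj g'' j hh).unit.app M = (adj j).unit.app M ≫
      (DCoh.Rpush j).map ((adj g'').unit.app ((DCoh.Lpull j).obj M)) ≫
        (cR hh).hom.app ((DCoh.Lpull g'').obj ((DCoh.Lpull j).obj M)) := by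
    refine ((cAdj g'' j hh).homEquiv_id M).symm.trans ((Paste.homEquiv_adjComp _ _ _ _ _ _).trans ?_)
    rw [Adjunction.homEquiv_unit, Adjunction.homEquiv_unit]
    erw [CategoryTheory.Functor.map_id, Category.comp_id]
    exact Category.assoc _ _ _
  have hr : (cAdj j' g' hh').unit.app M = (adj g').unit.app M ≫
      (DCoh.Rpush g').map ((adj j').unit.app ((DCoh.Lpull g').obj M)) ≫
        (cR hh').hom.app ((DCoh.Lpull j').obj ((DCoh.Lpull g').obj M)) := by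
    refine ((cAdj j' g' hh').homEquiv_id M).symm.trans ((Paste.homEquiv_adjComp _ _ _ _ _ _).trans ?_)
    rw [Adjunction.homEquiv_unit, Adjunction.homEquiv_unit]
    erw [CategoryTheory.Functor.map_id, Category.comp_id]
    exact Category.assoc _ _ _
  rw [e_hom_comp w₂ hh, ← hl]
  have hn := (cR hh').hom.naturality ((ψ hh' hh).hom.app M)
  dsimp only [Functor.comp_map] at hn
  erw [hn]
  erw [← reassoc_of% hr]
  exact (Adjunction.unit_leftAdjointUniq_hom_app (cAdj j' g' hh') (cAdj g'' j hh) M).symm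

set_option maxHeartbeats 800000 in
/-- base change with a module at direct images from opens -/
theorem isIso_Φ_push (w : g' ≫ f = f' ≫ g) (w₂ : g'' ≫ j = j' ≫ g') (wt : g'' ≫ (j ≫ f) = (j' ≫ f') ≫ g)
    (G : X.Modules) [DCoh.HasLTensorMod G] [DCoh.HasLTensorMod (G' g' G)]
    [DCoh.HasLTensorMod (G' j G)] [DCoh.HasLTensorMod (G' g'' (G' j G))] (E : DCoh.D X)
    (hη : IsIso ((adj j).unit.app ((DCoh.LTensorMod G).obj E)))
    (hη' : IsIso ((adj j').unit.app ((DCoh.Lpull g' ⋙ DCoh.LTensorMod (G' g' G)).obj E)))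
    (h₀ : IsIso ((Φ wt (G' j G)).app ((DCoh.Lpull j).obj E))) :
    IsIso ((Φ w G).app E) := by
  haveI := fun {A B : Scheme.{u}} (h : A ⟶ B) => RpushQC.hasRpush h
  haveI := hη
  haveI := hη'
  haveI := h₀
  let h := g'' ≫ j
  let M := (DCoh.LTensorMod G).obj E
  let T := (DCoh.Lpull g' ⋙ DCoh.LTensorMod (G' g' G)).obj E
  let N := (DCoh.Lpull j).obj M
  haveI := isIso_μ_open (i := j) G E
  obtain ⟨t, ht⟩ := exists_μ_square (i := j) (g' := g') (k := j') (g₀ := g'') (h := h) rfl w₂.symm G E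
  let d := cR (g := j) (f := f) (h := j ≫ f) rfl
  let d' := cR (g := j') (f := f') (h := j' ≫ f') rfl
  have hn : (μ g' G).app E ≫ (adj j').unit.app T =
      (adj j').unit.app ((DCoh.Lpull g').obj M) ≫ (DCoh.Rpush j').map ((DCoh.Lpull j').map ((μ g' G).app E)) :=
    (adj j').unit.naturality ((μ g' G).app E)
  have hu := unit_β w₂ (rfl : g'' ≫ j = h) w₂.symm M
  have nd : (DCoh.Rpush f').map ((DCoh.Rpush j').map ((DCoh.Lpull g'').map ((μ j G).app E) ≫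
      (μ g'' (G' j G)).app ((DCoh.Lpull j).obj E))) ≫ d'.hom.app _ =
      d'.hom.app _ ≫ (DCoh.Rpush (j' ≫ f')).map ((DCoh.Lpull g'').map ((μ j G).app E) ≫
        (μ g'' (G' j G)).app ((DCoh.Lpull j).obj E)) :=
    d'.hom.naturality ((DCoh.Lpull g'').map ((μ j G).app E) ≫ (μ g'' (G' j G)).app ((DCoh.Lpull j).obj E))
  have n₂ := β_natural wt ((μ j G).app E)
  have hh : (DCoh.Lpull g).map (d.hom.app N) ≫ β wt N =
      β w ((DCoh.Rpush j).obj N) ≫ (DCoh.Rpush f').map (β w₂ N) ≫ d'.hom.app ((DCoh.Lpull g'').obj N) :=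
    bc_horiz' w w₂ wt N
  have key : (Φ w G).app E ≫ (DCoh.Rpush f').map ((adj j').unit.app T) ≫
        (DCoh.Rpush f').map ((DCoh.Rpush j').map t.hom) ≫ d'.hom.app _ =
      (DCoh.Lpull g).map ((DCoh.Rpush f).map ((adj j).unit.app M)) ≫ (DCoh.Lpull g).map (d.hom.app N) ≫
        (DCoh.Lpull g).map ((DCoh.Rpush (j ≫ f)).map ((μ j G).app E)) ≫
          (Φ wt (G' j G)).app ((DCoh.Lpull j).obj E) := by
    rw [Φ_app w, Φ_app wt, Category.assoc, ← Functor.map_comp_assoc, hn, Functor.map_comp, Category.assoc,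
      ← Functor.map_comp_assoc (DCoh.Rpush f') ((DCoh.Rpush j').map _), ← Functor.map_comp, ← ht]
    rw [Functor.map_comp (DCoh.Rpush j'), Functor.map_comp (DCoh.Rpush f'), Category.assoc, nd,
      ← Functor.map_comp_assoc (DCoh.Rpush f'), ← hu, Functor.map_comp (DCoh.Rpush f'), Category.assoc,
      ← reassoc_of% (β_natural w ((adj j).unit.app M))]
    refine congrArg (_ ≫ ·) ?_
    change β w ((DCoh.Rpush j).obj N) ≫ (DCoh.Rpush f').map (β w₂ N) ≫ d'.hom.app ((DCoh.Lpull g'').obj N) ≫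
      (DCoh.Rpush (j' ≫ f')).map ((DCoh.Lpull g'').map ((μ j G).app E) ≫ (μ g'' (G' j G)).app ((DCoh.Lpull j).obj E)) = _
    rw [← reassoc_of% hh, Functor.map_comp (DCoh.Rpush (j' ≫ f'))]
    exact congrArg (_ ≫ ·) ((reassoc_of% n₂.symm) _)
  haveI : IsIso ((Φ w G).app E ≫ (DCoh.Rpush f').map ((adj j').unit.app T) ≫
        (DCoh.Rpush f').map ((DCoh.Rpush j').map t.hom) ≫ d'.hom.app _) := by
    rw [key]; infer_instance
  exact IsIso.of_isIso_comp_right _ ((DCoh.Rpush f').map ((adj j').unit.app T) ≫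
    (DCoh.Rpush f').map ((DCoh.Rpush j').map t.hom) ≫ d'.hom.app _)

end Source

end Groth.Lead.FlatBC
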