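import Groth.Agent.L07.FlatDescent
import Groth.Agent.L19.PerfectHomCases
import Groth.Agent.L06.ModuleModel

/-!
A module over a polynomial ring which is finitely presented and flat over the coefficients is
pseudo-coherent.
-/

set_option autoImplicit false
set_option linter.style.haveILetI false
set_option backward.isDefEq.respectTransparency false

universe u

open CategoryTheory CategoryTheory.Limits TensorProduct MvPolynomial

attribute [local instance] HasDerivedCategory.standard

namespace Groth.Lead.FlatFPPC

open Groth.L07.FlatDescent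

variable {R : Type u} [CommRing R] {d n : ℕ} {ι : Type} (v : ι → F d n R)

theorem KC_span (C : Type u) [CommRing C] [Algebra R C] :
    KC C (Submodule.span (MvPolynomial (Fin d) R) (Set.range v)) =
      (Submodule.span (MvPolynomial (Fin d) C) (Set.range fun i => ψ C (v i))).restrictScalars C := by
  refine le_antisymm ?_ ?_
  · refine Submodule.span_le.2 ?_
    rintro _ ⟨y, hy, rfl⟩
    change ψ C y ∈ Submodule.span (MvPolynomial (Fin d) C) (Set.range fun i => ψ C (v i))
    induction hy using Submodule.span_induction with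
    | mem y hy =>
      obtain ⟨i, rfl⟩ := hy
      exact Submodule.subset_span ⟨i, rfl⟩
    | zero => rw [map_zero]; exact zero_mem _
    | add a b _ _ ha hb => rw [map_add]; exact add_mem ha hb
    | smul p a _ ha => rw [ψ_poly_smul]; exact Submodule.smul_mem _ _ ha
  · intro x hx
    change x ∈ Submodule.span (MvPolynomial (Fin d) C) (Set.range fun i => ψ C (v i)) at hx
    induction hx using Submodule.span_induction with
    | mem y hy =>
      obtain ⟨i, rfl⟩ := hy
      exact ψ_mem _ (Submodule.subset_span ⟨i, rfl⟩)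
    | zero => exact zero_mem _
    | add a b _ _ ha hb => exact add_mem ha hb
    | smul p a _ ha => exact poly_smul_mem _ p ha

/-- the two descriptions of the stage module -/
noncomputable def mcEquiv (C : Type u) [CommRing C] [Algebra R C] :
    MC C (Submodule.span (MvPolynomial (Fin d) R) (Set.range v)) ≃ₗ[C]
      (F d n C ⧸ Submodule.span (MvPolynomial (Fin d) C) (Set.range fun i => ψ C (v i))) :=
  (Submodule.quotEquivOfEq _ _ (KC_span v C)).trans
    (Submodule.Quotient.restrictScalarsEquiv C _)

set_option maxHeartbeats 1600000 in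
set_option synthInstance.maxHeartbeats 200000 in
theorem pc_stage {B A : Type u} [CommRing B] [CommRing A] [Algebra B A] [IsNoetherianRing B] {d n m : ℕ} (k : ℕ)
    (v₁ : Fin m → F d n B)
    (hflat : Module.Flat B (F d n B ⧸ Submodule.span (MvPolynomial (Fin d) B) (Set.range v₁))) :
    DRing.IsPseudoCoherentModule (MvPolynomial (Fin d) A) (-(k : ℤ))
      (F d n A ⧸ Submodule.span (MvPolynomial (Fin d) A) (Set.range fun j => ψ A (v₁ j))) := by
  haveI := hflat
  haveI : Module.Free B (MvPolynomial (Fin d) B) := Module.Free.of_basis (MvPolynomial.basisMonomials (Fin d) B)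
  haveI : Module.Flat B (MvPolynomial (Fin d) B) := Module.Flat.of_free
  haveI : Module.Finite (MvPolynomial (Fin d) B) (F d n B) :=
    Module.Finite.of_basis (Pi.basisFun (MvPolynomial (Fin d) B) (Fin n))
  haveI : Module.Finite (MvPolynomial (Fin d) B) (F d n B ⧸ Submodule.span (MvPolynomial (Fin d) B) (Set.range v₁)) :=
    Module.Finite.of_surjective (Submodule.mkQ _) (Submodule.mkQ_surjective _)
  letI : Algebra (MvPolynomial (Fin d) B) (MvPolynomial (Fin d) A) := MvPolynomial.algebraMvPolynomial
  haveI : Algebra.IsPushout B A (MvPolynomial (Fin d) B) (MvPolynomial (Fin d) A) := inferInstance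
  have hpc := Groth.L19.PerfectHom.pc_baseChange (R := B) (C := A) (P := MvPolynomial (Fin d) B)
    (P' := MvPolynomial (Fin d) A) k (F d n B ⧸ Submodule.span (MvPolynomial (Fin d) B) (Set.range v₁))
  obtain ⟨eq⟩ := Groth.L06.ModuleModel.exists_quotient_equiv v₁ (fun j => ψ A (v₁ j)) fun j i => (ψ_apply _ _).symm
  exact Groth.L02.PC.pc_of_iso (Groth.L19.PerfectHom.inDIso eq.symm) hpc

set_option maxHeartbeats 1600000 in
set_option synthInstance.maxHeartbeats 200000 in
theorem pc_of_flat_fp {A : Type u} [CommRing A] {d : ℕ} (M : Type u) [AddCommGroup M]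
    [Module (MvPolynomial (Fin d) A) M] [Module A M] [IsScalarTower A (MvPolynomial (Fin d) A) M]
    [Module.FinitePresentation (MvPolynomial (Fin d) A) M] [Module.Flat A M] (k : ℕ) :
    DRing.IsPseudoCoherentModule (MvPolynomial (Fin d) A) (-(k : ℤ)) M := by
  classical
  obtain ⟨n, K, e, hK⟩ := Module.FinitePresentation.exists_fin (MvPolynomial (Fin d) A) M
  obtain ⟨m, v, hv⟩ := Submodule.fg_iff_exists_fin_generating_family.1 hK
  let S : Finset A := (Finset.univ : Finset (Fin m × Fin n)).biUnion fun q => (v q.1 q.2).support.image (v q.1 q.2).coeff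
  let R := Algebra.adjoin ℤ (S : Set A)
  haveI : Algebra.FiniteType ℤ R := (Subalgebra.fg_iff_finiteType R).1 ⟨S, rfl⟩
  haveI : IsNoetherianRing R := Algebra.FiniteType.isNoetherianRing ℤ R
  have hlift : ∀ j i, ∃ p : MvPolynomial (Fin d) R, MvPolynomial.map (algebraMap R A) p = v j i := by
    intro j i
    refine ⟨∑ a ∈ (v j i).support.attach, monomial a.1 (⟨(v j i).coeff a.1, Algebra.subset_adjoin
      (Finset.mem_coe.2 (Finset.mem_biUnion.2 ⟨(j, i), Finset.mem_univ _, Finset.mem_image.2 ⟨a.1, a.2, rfl⟩⟩))⟩ : R), ?_⟩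
    rw [map_sum]
    conv_rhs => rw [MvPolynomial.as_sum (v j i), ← Finset.sum_attach]
    refine Finset.sum_congr rfl fun a _ => ?_
    rw [MvPolynomial.map_monomial]
    rfl
  choose v₀ hv₀ using hlift
  have hψ : (fun j => ψ A (v₀ j)) = v := funext fun j => funext fun i => (ψ_apply _ _).trans (hv₀ j i)
  let eM : M ≃ₗ[MvPolynomial (Fin d) A] F d n A ⧸ Submodule.span (MvPolynomial (Fin d) A) (Set.range fun j => ψ A (v₀ j)) :=
    e.trans (Submodule.quotEquivOfEq _ _ (by rw [hψ]; exact hv.symm))
  haveI : Module.Flat A (MC A (Submodule.span (MvPolynomial (Fin d) R) (Set.range v₀))) :=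
    Module.Flat.of_linearEquiv ((mcEquiv v₀ A).trans (eM.restrictScalars A).symm)
  obtain ⟨B, hB, hBflat⟩ := exists_fg_stage (Submodule.span (MvPolynomial (Fin d) R) (Set.range v₀)) A
  haveI : Algebra.FiniteType R B := (Subalgebra.fg_iff_finiteType B).1 hB
  haveI : IsNoetherianRing B := Algebra.FiniteType.isNoetherianRing R B
  have hflatB := Module.Flat.of_linearEquiv (M := MC B (Submodule.span (MvPolynomial (Fin d) R) (Set.range v₀)))
    (mcEquiv v₀ B).symm
  have hpc := pc_stage (A := A) k (fun j => ψ B (v₀ j)) hflatB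
  have hc : (fun j => ψ A (ψ B (v₀ j))) = fun j => ψ A (v₀ j) := funext fun j => funext fun i => by
    rw [ψ_apply, ψ_apply, ψ_apply, MvPolynomial.map_map, ← IsScalarTower.algebraMap_eq]
  rw [hc] at hpc
  exact Groth.L02.PC.pc_of_iso (Groth.L19.PerfectHom.inDIso eM.symm) hpc

end Groth.Lead.FlatFPPC
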