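import Groth.Prelude.Def_FlatMod2
import Groth.Agent.L20.ModStalk
import Groth.Agent.L20.FlatClosed.Basic
import Groth.Agent.L16.CohClosedPush
import Groth.Agent.L16.QcqsPush
import Groth.Agent.L18.LocFreeTilde
import Groth.Agent.L19.LocFreeDescent
import Groth.Agent.L06.RelFPModules
import Groth.Agent.L19.ConormalAffine
import Mathlib.RingTheory.Spectrum.Prime.FreeLocus
import Mathlib.RingTheory.LocalRing.Module
import Mathlib.RingTheory.Flat.LocallyFree
import Mathlib.RingTheory.Flat.Stability
import Mathlib.RingTheory.LocalProperties.FinitePresentation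
import Mathlib.AlgebraicGeometry.Morphisms.ClosedImmersion

/-!
Finite flat modules and the rank function: finite local freeness from openness of the rank sets.
-/

set_option autoImplicit false
set_option linter.style.haveILetI false
set_option backward.isDefEq.respectTransparency false
universe u

open CategoryTheory AlgebraicGeometry TopologicalSpace TensorProduct

namespace Groth.Lead.FlatLocFree

section alg

variable (R : Type u) [CommRing R] (M : Type u) [AddCommGroup M] [Module R M] [Module.Finite R M]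
  [Module.Flat R M]

theorem isClosed_le_rank (k : ℕ) : IsClosed {p : PrimeSpectrum R | k ≤ Module.rankAtStalk (R := R) M p} := by
  classical
  have hfin : Module.Finite R M := inferInstance
  have hfree : ∀ q : PrimeSpectrum R,
      Module.Free (Localization.AtPrime q.asIdeal) (LocalizedModule q.asIdeal.primeCompl M) :=
    fun q => Module.free_of_flat_of_isLocalRing
  have hgen : ∀ p : PrimeSpectrum R, ∃ (φ : (Fin (Module.rankAtStalk (R := R) M p) → R) →ₗ[R] M)
      (f : R), f ∉ p.asIdeal ∧ ∀ x, f • x ∈ LinearMap.range φ := by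
    intro p
    haveI := hfree p
    let b : Module.Basis (Fin (Module.rankAtStalk (R := R) M p)) (Localization.AtPrime p.asIdeal)
        (LocalizedModule p.asIdeal.primeCompl M) := Module.finBasis _ _
    have hb : ∀ i, ∃ (m : M) (s : p.asIdeal.primeCompl), b i = LocalizedModule.mk m s := fun i =>
      LocalizedModule.induction_on (fun m s => ⟨m, s, rfl⟩) (b i)
    choose m s hms using hb
    let φ : (Fin (Module.rankAtStalk (R := R) M p) → R) →ₗ[R] M := Fintype.linearCombination R m
    have hmem : ∀ x : M, ∃ u ∉ p.asIdeal, u • x ∈ LinearMap.range φ := by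
      intro x
      have hx : LocalizedModule.mk x 1 ∈ Submodule.span (Localization.AtPrime p.asIdeal)
          (Set.range b) := by rw [b.span_eq]; trivial
      suffices ∀ z ∈ Submodule.span (Localization.AtPrime p.asIdeal) (Set.range b),
          ∃ (v : _) (t : p.asIdeal.primeCompl), z = LocalizedModule.mk (φ v) t by
        obtain ⟨v, t, hvt⟩ := this _ hx
        obtain ⟨u, hu⟩ := LocalizedModule.mk_eq.mp hvt
        refine ⟨u * t, fun h => (p.2.mem_or_mem h).elim u.2 t.2, (u : R) • v, ?_⟩
        rw [mul_smul, map_smul]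
        simp only [Submonoid.smul_def, OneMemClass.coe_one, one_smul] at hu
        exact hu.symm
      intro z hz
      induction hz using Submodule.span_induction with
      | mem z hz =>
        obtain ⟨i, rfl⟩ := hz
        exact ⟨Pi.single i 1, s i, by rw [hms, Fintype.linearCombination_apply_single, one_smul]⟩
      | zero => exact ⟨0, 1, by rw [map_zero, LocalizedModule.zero_mk]⟩
      | add z w _ _ hz hw =>
        obtain ⟨v, t, rfl⟩ := hz
        obtain ⟨v', t', rfl⟩ := hw
        refine ⟨(t' : R) • v + (t : R) • v', t * t', ?_⟩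
        rw [LocalizedModule.mk_add_mk, map_add, map_smul, map_smul]
        rfl
      | smul a z _ hz =>
        obtain ⟨v, t, rfl⟩ := hz
        induction a using Localization.induction_on with
        | _ y =>
          obtain ⟨r, u⟩ := y
          exact ⟨r • v, u * t, by rw [map_smul, LocalizedModule.mk_smul_mk]⟩
    obtain ⟨G, hG⟩ := hfin.fg_top
    choose u hu hux using hmem
    refine ⟨φ, ∏ x ∈ G, u x, fun h => ?_, fun x => ?_⟩
    · obtain ⟨x, -, hx⟩ := (Ideal.IsPrime.prod_mem_iff (hp := p.2)).mp h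
      exact hu x hx
    · have hx : x ∈ Submodule.span R (G : Set M) := by rw [hG]; trivial
      induction hx using Submodule.span_induction with
      | mem x hx =>
        obtain ⟨c, hc⟩ := Finset.dvd_prod_of_mem u hx
        rw [hc, mul_comm, mul_smul]
        exact Submodule.smul_mem _ c (hux x)
      | zero => rw [smul_zero]; exact Submodule.zero_mem _
      | add a b _ _ ha hb => rw [smul_add]; exact Submodule.add_mem _ ha hb
      | smul r a _ ha => rw [smul_comm]; exact Submodule.smul_mem _ r ha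
  have hle : ∀ (k : ℕ) (φ : (Fin k → R) →ₗ[R] M) (f : R), (∀ x, f • x ∈ LinearMap.range φ) →
      ∀ q : PrimeSpectrum R, f ∉ q.asIdeal → Module.rankAtStalk (R := R) M q ≤ k := by
    intro k φ f hφ q hq
    haveI := hfree q
    let S := q.asIdeal.primeCompl
    have hsurj : Function.Surjective (LocalizedModule.map S φ) := fun z => by
      induction z using LocalizedModule.induction_on with
      | _ x s =>
        obtain ⟨v, hv⟩ := hφ x
        refine ⟨LocalizedModule.mk v (⟨f, hq⟩ * s), ?_⟩
        rw [LocalizedModule.map_mk, hv]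
        exact LocalizedModule.mk_cancel_common_left (⟨f, hq⟩ : S) s x
    obtain ⟨σ, hσ⟩ := Module.projective_lifting_property (LocalizedModule.map S φ) LinearMap.id hsurj
    haveI : Nontrivial R := ⟨⟨0, 1, fun h => q.2.ne_top ((Ideal.eq_top_iff_one _).mpr (h ▸ q.asIdeal.zero_mem))⟩⟩
    refine (LinearMap.finrank_le_finrank_of_injective (f := σ)
      (Function.LeftInverse.injective (g := LocalizedModule.map S φ) fun x => LinearMap.congr_fun hσ x)).trans ?_
    show Module.rankAtStalk (R := R) (Fin k → R) q ≤ k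
    rw [Module.rankAtStalk_eq_finrank_of_free]
    simp
  rw [← isOpen_compl_iff, isOpen_iff_forall_mem_open]
  intro p hp
  obtain ⟨φ, f, hf, hφ⟩ := hgen p
  exact ⟨PrimeSpectrum.basicOpen f, fun q hq hqk => hp (le_trans (show k ≤ _ from hqk) (hle _ φ f hφ q hq)),
    PrimeSpectrum.isOpen_basicOpen, hf⟩

theorem projective_of_rank_open
    (hopen : ∀ k : ℕ, IsOpen {p : PrimeSpectrum R | k ≤ Module.rankAtStalk (R := R) M p}) :
    Module.Projective R M := by
  classical
  have hfin : Module.Finite R M := inferInstance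
  have hfree : ∀ q : PrimeSpectrum R,
      Module.Free (Localization.AtPrime q.asIdeal) (LocalizedModule q.asIdeal.primeCompl M) :=
    fun q => Module.free_of_flat_of_isLocalRing
  have hgen : ∀ p : PrimeSpectrum R, ∃ (φ : (Fin (Module.rankAtStalk (R := R) M p) → R) →ₗ[R] M)
      (f : R), f ∉ p.asIdeal ∧ ∀ x, f • x ∈ LinearMap.range φ := by
    intro p
    haveI := hfree p
    let b : Module.Basis (Fin (Module.rankAtStalk (R := R) M p)) (Localization.AtPrime p.asIdeal)
        (LocalizedModule p.asIdeal.primeCompl M) := Module.finBasis _ _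
    have hb : ∀ i, ∃ (m : M) (s : p.asIdeal.primeCompl), b i = LocalizedModule.mk m s := fun i =>
      LocalizedModule.induction_on (fun m s => ⟨m, s, rfl⟩) (b i)
    choose m s hms using hb
    let φ : (Fin (Module.rankAtStalk (R := R) M p) → R) →ₗ[R] M := Fintype.linearCombination R m
    have hmem : ∀ x : M, ∃ u ∉ p.asIdeal, u • x ∈ LinearMap.range φ := by
      intro x
      have hx : LocalizedModule.mk x 1 ∈ Submodule.span (Localization.AtPrime p.asIdeal)
          (Set.range b) := by rw [b.span_eq]; trivial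
      suffices ∀ z ∈ Submodule.span (Localization.AtPrime p.asIdeal) (Set.range b),
          ∃ (v : _) (t : p.asIdeal.primeCompl), z = LocalizedModule.mk (φ v) t by
        obtain ⟨v, t, hvt⟩ := this _ hx
        obtain ⟨u, hu⟩ := LocalizedModule.mk_eq.mp hvt
        refine ⟨u * t, fun h => (p.2.mem_or_mem h).elim u.2 t.2, (u : R) • v, ?_⟩
        rw [mul_smul, map_smul]
        simp only [Submonoid.smul_def, OneMemClass.coe_one, one_smul] at hu
        exact hu.symm
      intro z hz
      induction hz using Submodule.span_induction with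
      | mem z hz =>
        obtain ⟨i, rfl⟩ := hz
        exact ⟨Pi.single i 1, s i, by rw [hms, Fintype.linearCombination_apply_single, one_smul]⟩
      | zero => exact ⟨0, 1, by rw [map_zero, LocalizedModule.zero_mk]⟩
      | add z w _ _ hz hw =>
        obtain ⟨v, t, rfl⟩ := hz
        obtain ⟨v', t', rfl⟩ := hw
        refine ⟨(t' : R) • v + (t : R) • v', t * t', ?_⟩
        rw [LocalizedModule.mk_add_mk, map_add, map_smul, map_smul]
        rfl
      | smul a z _ hz =>
        obtain ⟨v, t, rfl⟩ := hz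
        induction a using Localization.induction_on with
        | _ y =>
          obtain ⟨r, u⟩ := y
          exact ⟨r • v, u * t, by rw [map_smul, LocalizedModule.mk_smul_mk]⟩
    obtain ⟨G, hG⟩ := hfin.fg_top
    choose u hu hux using hmem
    refine ⟨φ, ∏ x ∈ G, u x, fun h => ?_, fun x => ?_⟩
    · obtain ⟨x, -, hx⟩ := (Ideal.IsPrime.prod_mem_iff (hp := p.2)).mp h
      exact hu x hx
    · have hx : x ∈ Submodule.span R (G : Set M) := by rw [hG]; trivial
      induction hx using Submodule.span_induction with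
      | mem x hx =>
        obtain ⟨c, hc⟩ := Finset.dvd_prod_of_mem u hx
        rw [hc, mul_comm, mul_smul]
        exact Submodule.smul_mem _ c (hux x)
      | zero => rw [smul_zero]; exact Submodule.zero_mem _
      | add a b _ _ ha hb => rw [smul_add]; exact Submodule.add_mem _ ha hb
      | smul r a _ ha => rw [smul_comm]; exact Submodule.smul_mem _ r ha
  have hle : ∀ (k : ℕ) (φ : (Fin k → R) →ₗ[R] M) (f : R), (∀ x, f • x ∈ LinearMap.range φ) →
      ∀ q : PrimeSpectrum R, f ∉ q.asIdeal → Module.rankAtStalk (R := R) M q ≤ k := by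
    intro k φ f hφ q hq
    haveI := hfree q
    let S := q.asIdeal.primeCompl
    have hsurj : Function.Surjective (LocalizedModule.map S φ) := fun z => by
      induction z using LocalizedModule.induction_on with
      | _ x s =>
        obtain ⟨v, hv⟩ := hφ x
        refine ⟨LocalizedModule.mk v (⟨f, hq⟩ * s), ?_⟩
        rw [LocalizedModule.map_mk, hv]
        exact LocalizedModule.mk_cancel_common_left (⟨f, hq⟩ : S) s x
    obtain ⟨σ, hσ⟩ := Module.projective_lifting_property (LocalizedModule.map S φ) LinearMap.id hsurj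
    haveI : Nontrivial R := ⟨⟨0, 1, fun h => q.2.ne_top ((Ideal.eq_top_iff_one _).mpr (h ▸ q.asIdeal.zero_mem))⟩⟩
    refine (LinearMap.finrank_le_finrank_of_injective (f := σ)
      (Function.LeftInverse.injective (g := LocalizedModule.map S φ) fun x => LinearMap.congr_fun hσ x)).trans ?_
    show Module.rankAtStalk (R := R) (Fin k → R) q ≤ k
    rw [Module.rankAtStalk_eq_finrank_of_free]
    simp
  have hloc : ∀ p : PrimeSpectrum R, ∃ g : R, g ∉ p.asIdeal ∧
      Module.FinitePresentation (Localization.Away g) (TensorProduct R (Localization.Away g) M) := by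
    intro p
    obtain ⟨φ, f, hf, hφ⟩ := hgen p
    obtain ⟨_, ⟨g, rfl⟩, hpg, hgU⟩ :=
      PrimeSpectrum.isTopologicalBasis_basic_opens.exists_subset_of_mem_open
        (show p ∈ {q : PrimeSpectrum R | Module.rankAtStalk (R := R) M p ≤ Module.rankAtStalk (R := R) M q} ∩
          PrimeSpectrum.basicOpen f from ⟨le_refl (Module.rankAtStalk (R := R) M p), hf⟩)
        ((hopen _).inter PrimeSpectrum.isOpen_basicOpen)
    refine ⟨f * g, fun h => (p.2.mem_or_mem h).elim hf hpg, ?_⟩
    let L := Localization.Away (f * g)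
    have hunit : IsUnit (algebraMap R L f) :=
      isUnit_of_dvd_unit (map_dvd _ (dvd_mul_right f g)) (IsLocalization.Away.algebraMap_isUnit _)
    have hsurj : Function.Surjective (φ.baseChange L) := by
      intro z
      induction z using TensorProduct.induction_on with
      | zero => exact ⟨0, map_zero _⟩
      | tmul a x =>
        obtain ⟨v, hv⟩ := hφ x
        obtain ⟨w, hw⟩ := hunit.exists_left_inv
        refine ⟨TensorProduct.tmul R (a * w) v, ?_⟩
        rw [LinearMap.baseChange_tmul, hv, ← TensorProduct.smul_tmul, Algebra.smul_def]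
        congr 1
        rw [mul_comm (algebraMap R L f), mul_assoc, hw, mul_one]
      | add a b ha hb =>
        obtain ⟨u, rfl⟩ := ha
        obtain ⟨v, rfl⟩ := hb
        exact ⟨u + v, map_add _ _ _⟩
    have hrank : ∀ (m : Ideal L) [m.IsMaximal],
        Module.rankAtStalk (R := L) (TensorProduct R L (Fin (Module.rankAtStalk (R := R) M p) → R)) ⟨m, inferInstance⟩ =
          Module.rankAtStalk (R := L) (TensorProduct R L M) ⟨m, inferInstance⟩ := by
      intro m _
      rw [Module.rankAtStalk_baseChange, Module.rankAtStalk_baseChange]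
      set q := PrimeSpectrum.comap (algebraMap R L) ⟨m, inferInstance⟩
      have hq : f * g ∉ q.asIdeal := fun h =>
        (Ideal.IsMaximal.ne_top ‹_›) (Ideal.eq_top_of_isUnit_mem m h
          (IsLocalization.Away.algebraMap_isUnit (f * g)))
      haveI : Nontrivial R :=
        ⟨⟨0, 1, fun h => q.2.ne_top ((Ideal.eq_top_iff_one _).mpr (h ▸ q.asIdeal.zero_mem))⟩⟩
      rw [Module.rankAtStalk_eq_finrank_of_free]
      simp only [Pi.natCast_def, Module.finrank_fin_fun]
      exact le_antisymm ((hgU (show q ∈ _ from fun h => hq (Ideal.mul_mem_left _ _ h))).1)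
        (hle _ φ f hφ q fun h => hq (Ideal.mul_mem_right _ _ h))
    exact Module.FinitePresentation.of_equiv (LinearEquiv.ofBijective (φ.baseChange L)
      (Module.bijective_of_surjective_of_rankAtStalk_eq hsurj hrank))
  choose g hg hgfp using hloc
  have hs : Ideal.span (Set.range g) = ⊤ := by
    by_contra h
    obtain ⟨m, hm, hle⟩ := Ideal.exists_le_maximal _ h
    exact hg ⟨m, hm.isPrime⟩ (hle (Ideal.subset_span ⟨_, rfl⟩))
  haveI : ∀ a : Set.range g, Module.FinitePresentation (Localization.Away a.1) (TensorProduct R (Localization.Away a.1) M) := by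
    rintro ⟨a, p, rfl⟩
    exact hgfp p
  haveI : Module.FinitePresentation R M :=
    Module.FinitePresentation.of_localizationSpan' (Rₚ := fun a : Set.range g => Localization.Away a.1)
      (Set.range g) hs (fun a => TensorProduct.mk R (Localization.Away a.1) M 1) (fun a => inferInstance)
  exact Module.Flat.projective_of_finitePresentation

end alg

variable {X : Scheme.{u}}

/-- The rank of the stalk. -/
noncomputable def rk (F : X.Modules) (x : X) : ℕ :=
  Module.finrank (X.presheaf.stalk x) (F.presheaf.stalk x)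

theorem rk_eq (F : X.Modules) [Coh.IsQCoh F] (hF : FlatMod.IsFlat F) {V : X.Opens} (hV : IsAffineOpen V)
    [Module.Finite Γ(X, V) Γ(F, V)] [Module.Flat Γ(X, V) Γ(F, V)] {x : X} (hx : x ∈ V) :
    rk F x = Module.rankAtStalk (R := Γ(X, V)) Γ(F, V) (hV.primeIdealOf ⟨x, hx⟩) := by
  let p := hV.primeIdealOf ⟨x, hx⟩
  letI := X.presheaf.algebra_section_stalk ⟨x, hx⟩
  letI := Groth.L20.ModStalk.stalkModule F hx
  haveI := hV.isLocalization_stalk ⟨x, hx⟩
  haveI : IsScalarTower Γ(X, V) (X.presheaf.stalk x) (F.presheaf.stalk x) :=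
    IsScalarTower.of_algebraMap_smul fun _ _ => rfl
  haveI := Groth.L20.ModStalk.isLocalizedModule_germ F hV hx
  have hb := IsLocalizedModule.isBaseChange p.asIdeal.primeCompl (X.presheaf.stalk x)
    (Groth.L20.ModStalk.germₗ F hx)
  haveI : Module.Flat (X.presheaf.stalk x) (F.presheaf.stalk x) := hF x
  haveI : Module.Finite (X.presheaf.stalk x) (F.presheaf.stalk x) := Module.Finite.equiv hb.equiv
  haveI : Module.Free (X.presheaf.stalk x) (F.presheaf.stalk x) := Module.free_of_flat_of_isLocalRing
  let m : PrimeSpectrum (X.presheaf.stalk x) := IsLocalRing.closedPoint (X.presheaf.stalk x)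
  have hm : PrimeSpectrum.comap (algebraMap Γ(X, V) (X.presheaf.stalk x)) m = p :=
    PrimeSpectrum.ext (IsLocalization.AtPrime.comap_maximalIdeal (X.presheaf.stalk x) p.asIdeal)
  show rk F x = Module.rankAtStalk (R := Γ(X, V)) Γ(F, V) p
  rw [← hm, ← Module.rankAtStalk_baseChange, Module.rankAtStalk_eq_of_equiv hb.equiv,
    Module.rankAtStalk_eq_finrank_of_free]
  rfl

theorem preimage_le_rk (F : X.Modules) [Coh.IsQCoh F] (hF : FlatMod.IsFlat F) {V : X.Opens} (hV : IsAffineOpen V)
    [Module.Finite Γ(X, V) Γ(F, V)] [Module.Flat Γ(X, V) Γ(F, V)] (k : ℕ) :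
    hV.fromSpec ⁻¹' {x | k ≤ rk F x} =
      {p : PrimeSpectrum Γ(X, V) | k ≤ Module.rankAtStalk (R := Γ(X, V)) Γ(F, V) p} := by
  ext p
  have hp : hV.fromSpec p ∈ V := hV.range_fromSpec.le ⟨p, rfl⟩
  have h : hV.primeIdealOf ⟨hV.fromSpec p, hp⟩ = p :=
    hV.fromSpec.isOpenEmbedding.injective (hV.fromSpec_primeIdealOf _)
  show k ≤ rk F (hV.fromSpec p) ↔ k ≤ Module.rankAtStalk (R := Γ(X, V)) Γ(F, V) p
  rw [rk_eq F hF hV hp, h]

theorem inst_pair (F : X.Modules) [Coh.IsQCoh F] (hft : CohB1.IsFT F) (hF : FlatMod.IsFlat F) {V : X.Opens}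
    (hV : IsAffineOpen V) : Module.Finite Γ(X, V) Γ(F, V) ∧ Module.Flat Γ(X, V) Γ(F, V) :=
  ⟨Groth.L20.ModStalk.finite_sections F ⟨inferInstance, hft⟩ hV, Groth.L18.LFP.flat_sections F hF hV⟩

theorem isClosed_rk (F : X.Modules) [Coh.IsQCoh F] (hft : CohB1.IsFT F) (hF : FlatMod.IsFlat F) (k : ℕ) :
    IsClosed {x | k ≤ rk F x} := by
  rw [← isOpen_compl_iff, isOpen_iff_forall_mem_open]
  intro x hx
  obtain ⟨V, hV, hxV, -⟩ := exists_isAffineOpen_mem_and_subset (x := x) (U := (⊤ : X.Opens)) trivial
  obtain ⟨_, _⟩ := inst_pair F hft hF hV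
  refine ⟨hV.fromSpec '' (hV.fromSpec ⁻¹' {x | k ≤ rk F x}ᶜ), Set.image_preimage_subset _ _, ?_, ?_⟩
  · refine hV.fromSpec.isOpenEmbedding.isOpenMap _ ?_
    rw [Set.preimage_compl, isOpen_compl_iff, preimage_le_rk F hF hV]
    exact isClosed_le_rank _ _ k
  · exact ⟨hV.primeIdealOf ⟨x, hxV⟩, (by
      rw [Set.mem_preimage, hV.fromSpec_primeIdealOf]; exact hx),
      hV.fromSpec_primeIdealOf _⟩

theorem stableUnderGeneralization_rk (F : X.Modules) [Coh.IsQCoh F] (hft : CohB1.IsFT F)
    (hF : FlatMod.IsFlat F) (k : ℕ) : StableUnderGeneralization {x | k ≤ rk F x} := by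
  intro x y hyx hx
  obtain ⟨V, hV, hxV, -⟩ := exists_isAffineOpen_mem_and_subset (x := x) (U := (⊤ : X.Opens)) trivial
  obtain ⟨_, _⟩ := inst_pair F hft hF hV
  have hyV : y ∈ V := hyx.mem_open V.2 hxV
  have hle : hV.primeIdealOf ⟨y, hyV⟩ ≤ hV.primeIdealOf ⟨x, hxV⟩ := by
    rw [PrimeSpectrum.le_iff_specializes, ← hV.fromSpec.isOpenEmbedding.isInducing.specializes_iff]
    show hV.fromSpec (hV.primeIdealOf ⟨y, hyV⟩) ⤳ hV.fromSpec (hV.primeIdealOf ⟨x, hxV⟩)
    rwa [hV.fromSpec_primeIdealOf, hV.fromSpec_primeIdealOf]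
  show k ≤ rk F y
  rw [rk_eq F hF hV hyV, Module.rankAtStalk_eq_of_le_of_finite_of_flat _ hle, ← rk_eq F hF hV hxV]
  exact hx

theorem isFinLocFree_of_open (hX : ∀ Z : Set X, IsClosed Z → StableUnderGeneralization Z → IsOpen Z)
    (F : X.Modules) [Coh.IsQCoh F] (hft : CohB1.IsFT F) (hF : FlatMod.IsFlat F) : FlatMod.IsFinLocFree F := by
  refine Groth.L19.PullChart.isFinLocFree_of_projective_charts F fun x => ?_
  obtain ⟨V, hV, hxV, -⟩ := exists_isAffineOpen_mem_and_subset (x := x) (U := (⊤ : X.Opens)) trivial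
  obtain ⟨_, _⟩ := inst_pair F hft hF hV
  have hopen : ∀ k : ℕ, IsOpen {p : PrimeSpectrum Γ(X, V) | k ≤ Module.rankAtStalk (R := Γ(X, V)) Γ(F, V) p} :=
    fun k => by
      rw [← preimage_le_rk F hF hV k]
      exact (hX _ (isClosed_rk F hft hF k) (stableUnderGeneralization_rk F hft hF k)).preimage
        hV.fromSpec.continuous
  haveI := projective_of_rank_open Γ(X, V) Γ(F, V) hopen
  obtain ⟨N, hN, ⟨e⟩⟩ := Groth.L06.RelFPModules.exists_tilde_equiv F hV
  refine ⟨_, hV.fromSpec, inferInstance, N, hV.opensRange_fromSpec.ge hxV, ?_,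
    Module.Projective.of_equiv e.symm, hN⟩
  haveI := Module.finitePresentation_of_projective Γ(X, V) Γ(F, V)
  exact Module.FinitePresentation.of_equiv e.symm

theorem isOpen_rk (F : X.Modules) [Coh.IsQCoh F] (hlf : FlatMod.IsFinLocFree F) :
    IsOpen {x | 1 ≤ rk F x} := by
  obtain ⟨hF, hfp⟩ := (Groth.L18.LFP.isFlat_and_isFP_iff F).2 hlf
  rw [isOpen_iff_forall_mem_open]
  intro x hx
  obtain ⟨V, hV, hxV, -⟩ := exists_isAffineOpen_mem_and_subset (x := x) (U := (⊤ : X.Opens)) trivial
  haveI : Module.FinitePresentation Γ(X, V) Γ(F, V) := Groth.L20.ModStalk.finitePresentation_sections F hfp hV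
  haveI : Module.Flat Γ(X, V) Γ(F, V) := Groth.L18.LFP.flat_sections F hF hV
  refine ⟨hV.fromSpec '' (hV.fromSpec ⁻¹' {x | 1 ≤ rk F x}), Set.image_preimage_subset _ _, ?_, ?_⟩
  · refine hV.fromSpec.isOpenEmbedding.isOpenMap _ ?_
    rw [preimage_le_rk F hF hV]
    exact (Module.isLocallyConstant_rankAtStalk (R := Γ(X, V)) (M := Γ(F, V))) {n | 1 ≤ n}
  · exact ⟨hV.primeIdealOf ⟨x, hxV⟩, (by
      rw [Set.mem_preimage, hV.fromSpec_primeIdealOf]; exact hx),
      hV.fromSpec_primeIdealOf _⟩

theorem isOpen_of_finLocFree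
    (hall : ∀ F : X.Modules, Coh.IsQCoh F → CohB1.IsFT F → FlatMod.IsFlat F → FlatMod.IsFinLocFree F)
    {Z : Set X} (hZ : IsClosed Z) (hgen : StableUnderGeneralization Z) : IsOpen Z := by
  let I := Groth.L20.FlatClosed.flatIdeal hZ hgen
  have hfl : Flat I.subschemeι := Groth.L20.FlatClosed.flat_flatIdeal hZ hgen
  have hrange : Set.range I.subschemeι = Z := by
    rw [Scheme.IdealSheafData.range_subschemeι]
    exact Groth.L20.FlatClosed.support_flatIdeal hZ hgen
  let F := (Coh.push I.subschemeι).obj (Coh.structureModule I.subscheme)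
  haveI : Coh.IsQCoh (Coh.structureModule I.subscheme) := Groth.L19.Conormal.isQCoh_structureModule _
  haveI : Coh.IsQCoh F := Groth.L16.QcqsPush.isQCoh_push (M := Coh.structureModule I.subscheme) I.subschemeι
  have hsec : ∀ {V : X.Opens} (hV : IsAffineOpen V),
      Module.Finite Γ(X, V) Γ(F, V) ∧ Module.Flat Γ(X, V) Γ(F, V) := by
    intro V hV
    refine ⟨?_, ?_⟩
    · letI := (I.subschemeι.app V).hom.toAlgebra
      let e : Γ(F, V) ≃ₗ[Γ(X, V)] Γ(I.subscheme, I.subschemeι ⁻¹ᵁ V) :=
        { toFun := fun s => s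
          invFun := fun s => s
          map_add' := fun _ _ => rfl
          map_smul' := fun _ _ => rfl }
      haveI : Module.Finite Γ(X, V) Γ(I.subscheme, I.subschemeι ⁻¹ᵁ V) :=
        RingHom.Finite.of_surjective _ (I.subschemeι.app_surjective V hV)
      exact Module.Finite.equiv e.symm
    have h1 : (I.subschemeι.app V).hom.Flat := by
      rw [Scheme.Hom.app_eq_appLE]
      exact I.subschemeι.flat_appLE hV (hV.preimage I.subschemeι) le_rfl
    letI := (I.subschemeι.app V).hom.toAlgebra
    haveI : Module.Flat Γ(X, V) Γ(I.subscheme, I.subschemeι ⁻¹ᵁ V) := h1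
    let e : Γ(F, V) ≃ₗ[Γ(X, V)] Γ(I.subscheme, I.subschemeι ⁻¹ᵁ V) :=
      { toFun := fun s => s
        invFun := fun s => s
        map_add' := fun _ _ => rfl
        map_smul' := fun _ _ => rfl }
    exact Module.Flat.of_linearEquiv e
  have hF : FlatMod.IsFlat F := by
    intro x
    obtain ⟨V, hV, hxV, -⟩ := exists_isAffineOpen_mem_and_subset (x := x) (U := (⊤ : X.Opens)) trivial
    obtain ⟨_, _⟩ := hsec hV
    letI := X.presheaf.algebra_section_stalk ⟨x, hxV⟩
    letI := Groth.L20.ModStalk.stalkModule F hxV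
    haveI := hV.isLocalization_stalk ⟨x, hxV⟩
    haveI : IsScalarTower Γ(X, V) (X.presheaf.stalk x) (F.presheaf.stalk x) :=
      IsScalarTower.of_algebraMap_smul fun _ _ => rfl
    haveI := Groth.L20.ModStalk.isLocalizedModule_germ F hV hxV
    have hb := IsLocalizedModule.isBaseChange (hV.primeIdealOf ⟨x, hxV⟩).asIdeal.primeCompl
      (X.presheaf.stalk x) (Groth.L20.ModStalk.germₗ F hxV)
    exact Module.Flat.of_linearEquiv hb.equiv.symm
  have hft : CohB1.IsFT F := (Groth.L16.CohClosedPush.isCoh_of_finite_sections F fun x => by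
    obtain ⟨V, hV, hxV, -⟩ := exists_isAffineOpen_mem_and_subset (x := x) (U := (⊤ : X.Opens)) trivial
    exact ⟨V, hxV, hV, (hsec hV).1⟩).2
  have hlf := hall F inferInstance hft hF
  suffices hZ' : Z = {x | 1 ≤ rk F x} by rw [hZ']; exact isOpen_rk F hlf
  ext x
  obtain ⟨V, hV, hxV, hVx⟩ := exists_isAffineOpen_mem_and_subset (x := x) (U := (⊤ : X.Opens)) trivial
  show x ∈ Z ↔ 1 ≤ rk F x
  refine ⟨fun hx => ?_, fun hx => by_contra fun hxZ => ?_⟩
  · obtain ⟨z, rfl⟩ : x ∈ Set.range I.subschemeι := hrange.ge hx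
    obtain ⟨_, _⟩ := hsec hV
    haveI : Module.Flat (X.presheaf.stalk (I.subschemeι z)) (F.presheaf.stalk (I.subschemeι z)) := hF _
    letI := X.presheaf.algebra_section_stalk ⟨_, hxV⟩
    letI := Groth.L20.ModStalk.stalkModule F hxV
    haveI := hV.isLocalization_stalk ⟨_, hxV⟩
    haveI : IsScalarTower Γ(X, V) (X.presheaf.stalk (I.subschemeι z)) (F.presheaf.stalk (I.subschemeι z)) :=
      IsScalarTower.of_algebraMap_smul fun _ _ => rfl
    haveI := Groth.L20.ModStalk.isLocalizedModule_germ F hV hxV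
    have hb := IsLocalizedModule.isBaseChange (hV.primeIdealOf ⟨_, hxV⟩).asIdeal.primeCompl
      (X.presheaf.stalk (I.subschemeι z)) (Groth.L20.ModStalk.germₗ F hxV)
    haveI : Module.Finite (X.presheaf.stalk (I.subschemeι z)) (F.presheaf.stalk (I.subschemeι z)) :=
      Module.Finite.equiv hb.equiv
    haveI : Module.Free (X.presheaf.stalk (I.subschemeι z)) (F.presheaf.stalk (I.subschemeι z)) :=
      Module.free_of_flat_of_isLocalRing
    by_contra h0
    haveI : Subsingleton (F.presheaf.stalk (I.subschemeι z)) := by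
      rw [← Module.finrank_eq_zero_iff_of_free (R := X.presheaf.stalk (I.subschemeι z))]
      unfold rk at h0
      omega
    have h := congrArg (TopCat.Presheaf.stalkPushforward AddCommGrpCat.{u} I.subschemeι.base
        (Coh.structureModule I.subscheme).presheaf z).hom
      (Subsingleton.elim (F.presheaf.germ V _ hxV (show Γ(F, V) from (1 : Γ(I.subscheme, I.subschemeι ⁻¹ᵁ V)))) 0)
    rw [map_zero] at h
    have h' := (TopCat.Presheaf.stalkPushforward_germ_apply AddCommGrpCat.{u} I.subschemeι.base
      (Coh.structureModule I.subscheme).presheaf V z hxV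
      (show Γ(F, V) from (1 : Γ(I.subscheme, I.subschemeι ⁻¹ᵁ V)))).symm.trans h
    obtain ⟨W, hzW, i, j, hij⟩ := TopCat.Presheaf.germ_eq (Coh.structureModule I.subscheme).presheaf z
      (U := I.subschemeι ⁻¹ᵁ V) (V := I.subschemeι ⁻¹ᵁ V) hxV hxV
      (1 : Γ(I.subscheme, I.subschemeι ⁻¹ᵁ V)) 0 (h'.trans (map_zero _).symm)
    have h1 : (1 : Γ(I.subscheme, W)) = 0 := by
      have := hij
      exact ((map_one (I.subscheme.presheaf.map i.op).hom).symm.trans this).trans
        (map_zero (I.subscheme.presheaf.map j.op).hom)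
    exact one_ne_zero ((map_one (I.subscheme.presheaf.germ W z hzW).hom).symm.trans
      ((congrArg _ h1).trans (map_zero _)))
  · obtain ⟨V', hV', hxV', hV'Z⟩ := exists_isAffineOpen_mem_and_subset (x := x)
      (U := ⟨Zᶜ, hZ.isOpen_compl⟩) hxZ
    obtain ⟨_, _⟩ := hsec hV'
    rw [rk_eq F hF hV' hxV'] at hx
    haveI : Subsingleton Γ(F, V') := by
      show Subsingleton Γ(I.subscheme, I.subschemeι ⁻¹ᵁ V')
      rw [show I.subschemeι ⁻¹ᵁ V' = ⊥ from Opens.ext (Set.eq_empty_iff_forall_notMem.2 fun z hz =>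
        hV'Z hz (hrange.le ⟨z, rfl⟩))]
      exact CommRingCat.subsingleton_of_isTerminal I.subscheme.sheaf.isTerminalOfEmpty
    simp [Module.rankAtStalk_eq_zero_of_subsingleton] at hx

end Groth.Lead.FlatLocFree
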