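import Groth.Agent.Lead.FlatPerfect
import Groth.Agent.L29.DCoh.RHomQCoh

/-!
`Rf_* G` is perfect for `G` finitely presented, flat over the base, with proper support.
-/

set_option autoImplicit false
set_option linter.style.haveILetI false
set_option backward.defeqAttrib.useBackward true
set_option backward.isDefEq.respectTransparency false
set_option backward.isDefEq.respectTransparency.types false

universe u

open CategoryTheory CategoryTheory.Limits AlgebraicGeometry

attribute [local instance] HasDerivedCategory.standard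

namespace Groth.Lead.FlatPerfect

open Groth.L00 Groth.L29.DC Groth.L29.BC

variable {X S : Scheme.{u}}

/-- `G ⊗^L O ≅ G` -/
theorem nonempty_LTMod_O0 (G : X.Modules) [DCoh.HasLTensorMod G] :
    Nonempty ((DCoh.LTensorMod G).obj (DCoh.toD X (RHom.O0 X)) ≅ DCoh.inD X G) := by
  have hO : DCoh.IsKFlat (RHom.O0 X) := isKFlat_of_isStrictlyPerfect RHom.isStrictlyPerfect_O0
  haveI := KFlat.hasLTensorCx (RHom.O0 X)
  obtain ⟨a⟩ := nonempty_swap G (RHom.O0 X) hO
  let P := (HomologicalComplex.single X.Modules (ComplexShape.up ℤ) 0).obj G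
  exact ⟨a ≪≫ (DCoh.LTensorCx (RHom.O0 X)).mapIso ((DerivedCategory.singleFunctorIsoCompQ X.Modules 0).app G) ≪≫
    (Assoc.allIso (RHom.O0 X) hO).app P ≪≫ DerivedCategory.Q.mapIso (RHom.unitCxIso.app P) ≪≫
    ((DerivedCategory.singleFunctorIsoCompQ X.Modules 0).app G).symm⟩

theorem isPerfect_Rpush_inD (f : X ⟶ S) [LocallyOfFinitePresentation f] [QuasiCompact f] [QuasiSeparated f]
    [DCoh.HasRpush f] (G : X.Modules) (hG : CohB1.IsFP G) (hGq : Coh.IsQCoh G) (hfl : FlatMod.IsFlatOver f G)
    (hsupp : ClSub.IsProperOver f (CohB1.support G)) :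
    DCoh.IsPerfect ((DCoh.Rpush f).obj (DCoh.inD X G)) := by
  haveI := DerivedApi.hasLTensorMod G
  obtain ⟨e⟩ := nonempty_LTMod_O0 G
  exact isPerfect_of_iso ((DCoh.Rpush f).mapIso e)
    (isPerfect_Rpush_LTensorMod f AdjTensor.isPerfect_O0 G hG hGq hfl hsupp)

end Groth.Lead.FlatPerfect
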