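import Groth.Agent.Lead.FlatPerfectCx
import Groth.Agent.Lead.FlatPerfectH
import Groth.Agent.Lead.RpushHD
import Groth.Agent.L29.DCoh.QCohTensor
import Groth.Agent.L29.DCoh.RHomBound
import Groth.Agent.L29.DCoh.PCDescent
import Groth.Agent.L29.DCoh.Gen.QCohTri
import Groth.Agent.Lead.AmpLower
import Groth.Agent.S1103
import Groth.Agent.L29.BC.OpenBC
import Groth.Agent.L29.DCoh.PCStalk

/-!
`Rf_*(E ⊗^L G)` is pseudo-coherent for `E` pseudo-coherent and `G` bounded above of finitely presented modules,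
flat over the base, with proper supports.
-/

set_option autoImplicit false
set_option linter.style.haveILetI false
set_option backward.defeqAttrib.useBackward true
set_option backward.isDefEq.respectTransparency false
set_option backward.isDefEq.respectTransparency.types false

universe u

open CategoryTheory CategoryTheory.Limits CategoryTheory.Pretriangulated AlgebraicGeometry

attribute [local instance] HasDerivedCategory.standard

namespace Groth.Lead.FlatPerfect

open Groth.L00 Groth.L29.DC Groth.L29.BC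

variable {X S : Scheme.{u}}

/-- objects far below have pseudo-coherent direct image -/
theorem exists_pc_small [CompactSpace S] (f : X ⟶ S) [QuasiCompact f] [QuasiSeparated f] [DCoh.HasRpush f] :
    ∃ N : ℕ, ∀ (M : DCoh.D X) (q m : ℤ), DCoh.IsQCohD M → M.IsLE q → q + N < m →
      DCoh.IsPseudoCoherentD m ((DCoh.Rpush f).obj M) := by
  haveI := Groth.L17.PushQCoh.hasInjectiveResolutions X
  obtain ⟨N, hN⟩ := RpushQC.exists_bound f
  refine ⟨N, fun M q m hM hle hm => pc_of_isZero fun i hi => ?_⟩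
  haveI := hle
  refine Groth.Lead.AmpLower.isZero_Rpush_gt f N (fun M' hM' j hj => ?_) M hM q i (by omega)
  obtain ⟨k, rfl⟩ := Int.eq_ofNat_of_zero_le (show 0 ≤ j by omega)
  exact (hN M' hM' k (by omega)).of_iso (Groth.Lead.RpushHD.nonempty_HD_Rpush_inD f M' k).some

theorem exists_isLE [CompactSpace X] {E : DCoh.D X} (hE : ∀ m, DCoh.IsPseudoCoherentD m E) : ∃ c : ℤ, E.IsLE c := by
  obtain ⟨N, hN⟩ := TildeAlg.exists_isZero (hE 0)
  exact ⟨N, (DerivedCategory.isLE_iff _ _).2 fun i hi => hN i (by omega)⟩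

set_option maxHeartbeats 800000 in
/-- the perfect case -/
theorem pc_Rpush_perfect [CompactSpace S] [CompactSpace X] (f : X ⟶ S) [LocallyOfFinitePresentation f]
    [QuasiCompact f] [QuasiSeparated f] [DCoh.HasRpush f] {P : DCoh.D X} (hP : DCoh.IsPerfect P)
    (G : CochainComplex X.Modules ℤ) (b : ℤ) (hb : ∀ i, b < i → IsZero (G.X i))
    (hfp : ∀ i, CohB1.IsFP (G.X i)) (hqc : ∀ i, Coh.IsQCoh (G.X i)) (hfl : ∀ i, FlatMod.IsFlatOver f (G.X i))
    (hs : ∀ i, ClSub.IsProperOver f (CohB1.support (G.X i))) [DCoh.HasLTensorCx G] (m : ℤ) :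
    DCoh.IsPseudoCoherentD m ((DCoh.Rpush f).obj ((DCoh.LTensorCx G).obj P)) := by
  haveI := RpushColim.additive_Rpush f
  letI := Gen.commShiftRpush f
  haveI := Gen.isTriangulated_Rpush f
  obtain ⟨D, q, hD, -, hq, -⟩ := KFlat.exists_resolution (DerivedCategory.Q.objPreimage P)
  haveI := (DerivedCategory.isIso_Q_map_iff_quasiIso _ q).2 hq
  let eD : DCoh.toD X D ≅ P := asIso (DerivedCategory.Q.map q) ≪≫ DerivedCategory.Q.objObjPreimageIso P
  have hDp : DCoh.IsPerfect (DCoh.toD X D) := isPerfect_of_iso eD.symm hP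
  haveI := KFlat.hasLTensorCx D
  obtain ⟨c⟩ := nonempty_LTensorCx_comm G D hD
  refine isPseudoCoherentD_of_iso ((DCoh.Rpush f).mapIso (c.symm ≪≫ (DCoh.LTensorCx G).mapIso eD)) ?_
  obtain ⟨N, hN⟩ := exists_pc_small f
  obtain ⟨d, hd⟩ := exists_isLE (pc_of_perfect hDp)
  let a : ℤ := m - d - N
  let ι := brutalι G a
  haveI : ∀ i, Mono (ι.f i) := fun i => by
    by_cases hi : a ≤ i
    · haveI := isIso_brutalι G a hi; infer_instance
    · exact (isZero_brutal_X G a (by omega)).mono _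
  haveI : Mono ι := HomologicalComplex.mono_of_mono_f ι inferInstance
  let T : ShortComplex (CochainComplex X.Modules ℤ) := ShortComplex.mk ι (cokernel.π ι) (cokernel.condition ι)
  have hT : T.ShortExact := ShortComplex.ShortExact.mk (ShortComplex.exact_of_g_is_cokernel _ (cokernelIsCokernel ι))
  have hTi : ∀ i, (T.map (HomologicalComplex.eval X.Modules (ComplexShape.up ℤ) i)).ShortExact := fun i =>
    hT.map_of_exact _
  have hz : ∀ i, a ≤ i → IsZero (T.X₃.X i) := fun i hi => by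
    haveI := isIso_brutalι G a hi
    haveI : Epi (T.map (HomologicalComplex.eval X.Modules (ComplexShape.up ℤ) i)).f := inferInstanceAs (Epi (ι.f i))
    haveI := (hTi i).epi_g
    exact IsZero.of_epi_eq_zero (T.map (HomologicalComplex.eval X.Modules (ComplexShape.up ℤ) i)).g
      ((cancel_epi (T.map (HomologicalComplex.eval X.Modules (ComplexShape.up ℤ) i)).f).1 (by
        rw [comp_zero]; exact (T.map _).zero))
  have hq3 : ∀ i, Coh.IsQCoh (T.X₃.X i) := fun i => by
    by_cases hi : a ≤ i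
    · exact isQCoh_of_isZero (hz i hi)
    · haveI := (hTi i).isIso_g_iff.2 (isZero_brutal_X G a (show i < a by omega))
      exact isQCoh_of_iso' (asIso (T.map (HomologicalComplex.eval X.Modules (ComplexShape.up ℤ) i)).g) (hqc i)
  have hle : (DCoh.toD X T.X₃).IsLE (a - 1) := (DerivedCategory.isLE_iff _ _).2 fun i hi =>
    (ShortComplex.isZero_homology_of_isZero_X₂ (T.X₃.sc i) (hz i (by omega))).of_iso
      ((DerivedCategory.homologyFunctorFactors _ i).app T.X₃)
  have hqD : DCoh.IsQCohD (DCoh.toD X T.X₃) := fun i =>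
    isQCoh_of_iso' ((DerivedCategory.homologyFunctorFactors _ i).app T.X₃).symm (PCQCoh.isQCoh_homology hq3 i)
  obtain ⟨w, hd'⟩ := LTExact.exists_distinguished D _ (DerivedCategory.triangleOfSES_distinguished hT)
  have h₂ : DCoh.IsPseudoCoherentD m ((DCoh.Rpush f).obj ((DCoh.LTensorCx D).obj (DCoh.toD X T.X₃))) :=
    hN _ _ m (isQCohD_LTensorCx D (PCQCoh.isQCohD_of_perfect hDp) hqD)
      (RHom.isLE_LTensorCx D d hd _ (a - 1) hle) (by simp only [a]; omega)
  let k : ℕ := (b + 1 - a).toNat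
  have hG0 : ∀ i, i < a ∨ a + (k : ℤ) ≤ i → IsZero ((brutal G a).X i) := fun i hi => by
    rcases hi with hi | hi
    · exact isZero_brutal_X G a hi
    · haveI := isIso_brutalι G a (show a ≤ i by omega)
      exact (hb i (by omega)).of_iso (asIso ((brutalι G a).f i))
  have h₁ : DCoh.IsPerfect ((DCoh.Rpush f).obj ((DCoh.LTensorCx D).obj ((DCoh.toD X (brutal G a))⟦(1 : ℤ)⟧))) := by
    obtain ⟨e⟩ := nonempty_LTensorCx_shift D hD (brutal G a) 1
    refine isPerfect_of_iso ((DCoh.Rpush f).mapIso (e.symm ≪≫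
        (DCoh.LTensorCx D).mapIso ((DerivedCategory.Q.commShiftIso (1 : ℤ)).app _)))
      (isPerfect_of_iso (((DCoh.Rpush f).commShiftIso (1 : ℤ)).app _).symm (perfect_shift
        (isPerfect_Rpush_terms f D hD hDp a k _ hG0 fun i => ?_) 1))
    by_cases hi : i < a
    · exact Or.inl hi
    · haveI := isIso_brutalι G a (show a ≤ i by omega)
      let e := (asIso ((brutalι G a).f i)).symm
      exact Or.inr (Or.inr ⟨Groth.L22.Inter.FlatTwist.isFP_of_iso e (hfp i), isQCoh_of_iso' e (hqc i),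
        RelBC.isFlatOver_of_iso f e (hfl i), Groth.L17.KilledUnit.support_congr e ▸ hs i⟩)
  have h := (pc_two_out_of_three ((DCoh.Rpush f).map_distinguished _ hd') (m - 1)).2.2
    (by rw [sub_add_cancel]; exact h₂) (pc_of_perfect h₁ _)
  rwa [sub_add_cancel] at h

set_option maxHeartbeats 800000 in
/-- over a quasi-compact base -/
theorem pc_Rpush_compact [CompactSpace S] (f : X ⟶ S) [LocallyOfFinitePresentation f]
    [QuasiCompact f] [QuasiSeparated f] [QuasiSeparatedSpace S] [DCoh.HasRpush f] {E : DCoh.D X}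
    (hE : ∀ m, DCoh.IsPseudoCoherentD m E)
    (G : CochainComplex X.Modules ℤ) (b : ℤ) (hb : ∀ i, b < i → IsZero (G.X i))
    (hfp : ∀ i, CohB1.IsFP (G.X i)) (hqc : ∀ i, Coh.IsQCoh (G.X i)) (hfl : ∀ i, FlatMod.IsFlatOver f (G.X i))
    (hs : ∀ i, ClSub.IsProperOver f (CohB1.support (G.X i))) [DCoh.HasLTensorCx G] (m : ℤ) :
    DCoh.IsPseudoCoherentD m ((DCoh.Rpush f).obj ((DCoh.LTensorCx G).obj E)) := by
  haveI := RpushColim.additive_Rpush f
  letI := Gen.commShiftRpush f
  haveI := Gen.isTriangulated_Rpush f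
  haveI : CompactSpace X := QuasiCompact.compactSpace_of_compactSpace f
  haveI : QuasiSeparatedSpace X := quasiSeparatedSpace_of_quasiSeparated f
  obtain ⟨N, hN⟩ := exists_pc_small f
  obtain ⟨r, hr⟩ := Groth.Agent.S1103.result X Set.univ isClosed_univ (by simp)
  let k : ℤ := m - b - N
  obtain ⟨P, α, hP, -, hiso, hepi⟩ := hr k E (PCQCoh.isQCohD_of_pc hE) (hE _) fun i _ => Set.subset_univ _
  obtain ⟨C, g, c, hT⟩ := distinguished_cocone_triangle α
  have hle : C.IsLE (k - 1) := (approx_iff_triangle _ hT k).1 ⟨hiso, hepi⟩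
  have hqC : DCoh.IsQCohD C :=
    Gen.isQCohD_third _ hT (PCQCoh.isQCohD_of_perfect hP) (PCQCoh.isQCohD_of_pc hE)
  have hGle : (DCoh.toD X G).IsLE b := (DerivedCategory.isLE_iff _ _).2 fun i hi =>
    (ShortComplex.isZero_homology_of_isZero_X₂ (G.sc i) (hb i hi)).of_iso
      ((DerivedCategory.homologyFunctorFactors _ i).app G)
  have hGq : DCoh.IsQCohD (DCoh.toD X G) := fun i =>
    isQCoh_of_iso' ((DerivedCategory.homologyFunctorFactors _ i).app G).symm (PCQCoh.isQCoh_homology hqc i)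
  obtain ⟨w, hd'⟩ := LTExact.exists_distinguished G _ hT
  have h₂ : DCoh.IsPseudoCoherentD m ((DCoh.Rpush f).obj ((DCoh.LTensorCx G).obj C)) :=
    hN _ _ m (isQCohD_LTensorCx G hGq hqC) (RHom.isLE_LTensorCx G b hGle _ (k - 1) hle) (by simp only [k]; omega)
  have h := (pc_two_out_of_three ((DCoh.Rpush f).map_distinguished _ hd') (m - 1)).2.2
    (by rw [sub_add_cancel]; exact h₂) (pc_Rpush_perfect f (perfect_shift hP 1) G b hb hfp hqc hfl hs _)
  rwa [sub_add_cancel] at h

end Groth.Lead.FlatPerfect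

namespace Groth.Lead.FlatPerfect

open Groth.L00 Groth.L29.DC Groth.L29.BC

set_option maxHeartbeats 800000 in
/-- the general statement -/
theorem pc_Rpush_LTensorCx {X S : Scheme.{u}} (f : X ⟶ S) [LocallyOfFinitePresentation f]
    [QuasiCompact f] [QuasiSeparated f] [DCoh.HasRpush f] {E : DCoh.D X}
    (hE : ∀ m, DCoh.IsPseudoCoherentD m E)
    (G : CochainComplex X.Modules ℤ) (b : ℤ) (hb : ∀ i, b < i → IsZero (G.X i))
    (hfp : ∀ i, CohB1.IsFP (G.X i)) (hqc : ∀ i, Coh.IsQCoh (G.X i)) (hfl : ∀ i, FlatMod.IsFlatOver f (G.X i))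
    (hs : ∀ i, ClSub.IsProperOver f (CohB1.support (G.X i))) [DCoh.HasLTensorCx G] (m : ℤ) :
    DCoh.IsPseudoCoherentD m ((DCoh.Rpush f).obj ((DCoh.LTensorCx G).obj E)) := by
  refine PCDesc.pc_of_local fun s => ?_
  obtain ⟨_, ⟨V, hV, rfl⟩, hsV, -⟩ := S.isBasis_affineOpens.exists_subset_of_mem_open (Set.mem_univ s) isOpen_univ
  haveI := fun {Y Z : Scheme.{u}} (k : Y ⟶ Z) => RpushQC.hasRpush k
  haveI := fun {Y Z : Scheme.{u}} (k : Y ⟶ Z) => KFlat.hasLpull k
  haveI := fun {Y : Scheme.{u}} (D : CochainComplex Y.Modules ℤ) => KFlat.hasLTensorCx D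
  have sq : IsPullback (f ⁻¹ᵁ V).ι (f ∣_ V) f (Scheme.Opens.ι V) := (isPullback_morphismRestrict f V).flip
  let g₁ := f ∣_ V
  let ι := (f ⁻¹ᵁ V).ι
  haveI : CompactSpace (V : Scheme.{u}) := hV.isoSpec.inv.homeomorph.compactSpace
  haveI : IsAffine (V : Scheme.{u}) := hV
  let R := Scheme.Modules.restrictFunctor ι
  haveI : R.Additive := inferInstance
  let G₁ := (R.mapHomologicalComplex (ComplexShape.up ℤ)).obj G
  have hG₁ : ∀ i, CohB1.IsFP (G₁.X i) ∧ Coh.IsQCoh (G₁.X i) ∧ FlatMod.IsFlatOver g₁ (G₁.X i) ∧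
      ClSub.IsProperOver g₁ (CohB1.support (G₁.X i)) := fun i => by
    haveI := hqc i
    let e : (Scheme.Modules.pullback ι).obj (G.X i) ≅ G₁.X i :=
      ((Scheme.Modules.restrictFunctorIsoPullback ι).app (G.X i)).symm
    refine ⟨Groth.L22.Inter.FlatTwist.isFP_of_iso e (Groth.L19.LimMod.isFP_pullback' ι _ (hfp i)),
      isQCoh_of_iso' e (Groth.L16.AffineBC.isQCoh_pullback ι _),
      RelBC.isFlatOver_of_iso g₁ e (RelBC.isFlatOver_pullback sq (hfl i)), Groth.L17.KilledUnit.support_congr e ▸ ?_⟩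
    rw [Groth.L19.SupportPullback.support_pullback ι _ (Groth.L19.LimMod.isFT_of_isFP (hfp i))]
    exact Groth.L27.Supp.isProperOver_preimage sq (hs i)
  have h := pc_Rpush_compact g₁ (E := (DCoh.restrictD ι).obj E) (fun n => PCStalk.pc_res ι (hE n)) G₁ b
    (fun i hi => R.map_isZero (hb i hi)) (fun i => (hG₁ i).1) (fun i => (hG₁ i).2.1) (fun i => (hG₁ i).2.2.1)
    (fun i => (hG₁ i).2.2.2) m
  obtain ⟨P, q, hP, -, hq, -⟩ := KFlat.exists_resolution (DerivedCategory.Q.objPreimage E)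
  haveI := (DerivedCategory.isIso_Q_map_iff_quasiIso _ q).2 hq
  let eP : DCoh.toD X P ≅ E := asIso (DerivedCategory.Q.map q) ≪≫ DerivedCategory.Q.objObjPreimageIso E
  obtain ⟨t⟩ := nonempty_LTensorCx_iso G P hP
  obtain ⟨t₁⟩ := nonempty_LTensorCx_iso G₁ _ (isKFlat_restrict ι hP)
  let fac := fun K : CochainComplex X.Modules ℤ => R.mapDerivedCategoryFactors.app K
  let u : (DCoh.LTensorCx G₁).obj ((DCoh.restrictD ι).obj E) ≅ (DCoh.restrictD ι).obj ((DCoh.LTensorCx G).obj E) :=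
    (DCoh.LTensorCx G₁).mapIso ((DCoh.restrictD ι).mapIso eP.symm ≪≫ fac P) ≪≫ t₁ ≪≫
      DerivedCategory.Q.mapIso (restrictTensorCxIso ι P G) ≪≫ (fac _).symm ≪≫
      (DCoh.restrictD ι).mapIso (t.symm ≪≫ (DCoh.LTensorCx G).mapIso eP)
  obtain ⟨e₁⟩ := nonempty_Lpull_iso_restrictD ι ((DCoh.LTensorCx G).obj E)
  obtain ⟨e₂⟩ := nonempty_Lpull_iso_restrictD (Scheme.Opens.ι V) ((DCoh.Rpush f).obj ((DCoh.LTensorCx G).obj E))
  haveI := isIso_β_open sq ((DCoh.LTensorCx G).obj E)
  exact ⟨V, hsV, isPseudoCoherentD_of_iso ((DCoh.Rpush g₁).mapIso (u ≪≫ e₁.symm) ≪≫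
    (asIso (DCoh.baseChangeApp (adj (Scheme.Opens.ι V)) (adj ι) (e sq.w) ((DCoh.LTensorCx G).obj E))).symm ≪≫ e₂) h⟩

end Groth.Lead.FlatPerfect
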