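import Groth.Agent.Lead.FlatPerfectH
import Groth.Agent.Lead.AmpLower
import Groth.Agent.Lead.RpushHD
import Groth.Agent.L19.LocFreeDescent
import Groth.Agent.L16.QcqsPush

/-!
Base change and amplitude of `Rf_* G` for `G` flat over the base.
-/

set_option autoImplicit false
set_option linter.style.haveILetI false
set_option backward.defeqAttrib.useBackward true
set_option backward.isDefEq.respectTransparency false
set_option backward.isDefEq.respectTransparency.types false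

universe u

open CategoryTheory CategoryTheory.Limits AlgebraicGeometry

attribute [local instance] HasDerivedCategory.standard

namespace Groth.Lead.FlatPerfect

open Groth.L00 Groth.L29.DC Groth.L29.BC

variable {X S X' S' : Scheme.{u}}

/-- `Lg^* O ≅ O` -/
theorem nonempty_Lpull_O0 (g : X' ⟶ X) [DCoh.HasLpull g] :
    Nonempty ((DCoh.Lpull g).obj (DCoh.toD X (RHom.O0 X)) ≅ DCoh.toD X' (RHom.O0 X')) := by
  haveI := Groth.L29.RelPC.additive_pullback g
  exact ⟨DerivedApi.objIso (DerivedApi.acyclicKFlat_pullback g) (RHom.O0 X)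
      (isKFlat_of_isStrictlyPerfect RHom.isStrictlyPerfect_O0) ≪≫
    DerivedCategory.Q.mapIso ((HomologicalComplex.singleMapHomologicalComplex (Scheme.Modules.pullback g)
      (ComplexShape.up ℤ) 0).app (Coh.structureModule X) ≪≫
      (HomologicalComplex.single X'.Modules (ComplexShape.up ℤ) 0).mapIso (Groth.L29.LocFree.pullbackUnitIso g))⟩

/-- base change for `Rf_* G`, `G` flat over the base -/
theorem nonempty_bc_inD {f : X ⟶ S} {g : S' ⟶ S} {g' : X' ⟶ X} {f' : X' ⟶ S'} (sq : IsPullback g' f' f g)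
    [QuasiCompact f] [QuasiSeparated f] [DCoh.HasRpush f] [DCoh.HasRpush f'] [DCoh.HasLpull g]
    (G : X.Modules) (hGq : Coh.IsQCoh G) (hfl : FlatMod.IsFlatOver f G) :
    Nonempty ((DCoh.Lpull g).obj ((DCoh.Rpush f).obj (DCoh.inD X G)) ≅
      (DCoh.Rpush f').obj (DCoh.inD X' ((Scheme.Modules.pullback g').obj G))) := by
  haveI := KFlat.hasLpull g'
  haveI := RpushQC.hasRpush g
  haveI := RpushQC.hasRpush g'
  haveI := DerivedApi.hasLTensorMod G
  haveI := DerivedApi.hasLTensorMod ((Scheme.Modules.pullback g').obj G)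
  haveI := Groth.Lead.FlatBC.isIso_Φ (G := G) sq hGq hfl
    (PCQCoh.isQCohD_of_perfect (AdjTensor.isPerfect_O0 (Y := X)))
  obtain ⟨a⟩ := nonempty_LTMod_O0 G
  obtain ⟨b⟩ := nonempty_LTMod_O0 ((Scheme.Modules.pullback g').obj G)
  obtain ⟨c⟩ := nonempty_Lpull_O0 g'
  exact ⟨(DCoh.Lpull g).mapIso ((DCoh.Rpush f).mapIso a.symm) ≪≫
    asIso ((Groth.Lead.FlatBC.Φ sq.w G).app (DerivedCategory.Q.obj (RHom.O0 X))) ≪≫
    (DCoh.Rpush f').mapIso ((DCoh.LTensorMod _).mapIso c ≪≫ b)⟩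

set_option maxHeartbeats 1600000 in
/-- tor amplitude of the algebraic model of `Rf_* G` -/
theorem amp_inD {R : CommRingCat.{u}} (f : X ⟶ Spec R) [QuasiCompact f] [QuasiSeparated f] [DCoh.HasRpush f]
    [PreservesFiniteLimits (tilde.functor R)] (G : X.Modules) (hGq : Coh.IsQCoh G) (hfl : FlatMod.IsFlatOver f G)
    (K₀ : Dual.D R) (e₀ : (DCoh.tildeD R).obj K₀ ≅ (DCoh.Rpush f).obj (DCoh.inD X G)) (B : ℤ)
    (hB : ∀ i, B < i → IsZero (DCoh.HD ((DCoh.Rpush f).obj (DCoh.inD X G)) i)) :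
    DRing.HasTorAmplitudeIn R 0 B K₀ := by
  have hK : Groth.L02.PC.LEH K₀ B := fun i hi => (TildeAlg.isZero_hd_iff K₀ i).1
    ((hB i hi).of_iso ((DerivedCategory.homologyFunctor _ i).mapIso e₀))
  obtain ⟨P, hPb, hPf, hPk, ⟨eP⟩⟩ := Groth.L02.PC.exists_free_rep hK
  haveI := hPk
  refine (Groth.L10.DR.amp_iff eP hPb (Groth.L10.DR.flat_of_free hPf) 0 B).2
    ⟨fun i hi => Groth.Lead.AmpLower.tz_of_bc P i fun C _ ψ => ?_, hK⟩
  let φ : R ⟶ CommRingCat.of C := CommRingCat.ofHom ψ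
  let g := Spec.map φ
  let g' := pullback.fst f g
  let f' := pullback.snd f g
  have hc : IsPullback g' f' f g := IsPullback.of_hasPullback f g
  haveI := Groth.L18.TildeF.tilde_preservesFiniteLimits (R := CommRingCat.of C)
  haveI : DRing.HasLBaseChange ψ := LBC.hasLBaseChange φ
  haveI := KFlat.hasLpull g
  haveI := RpushQC.hasRpush f'
  haveI := Groth.L17.PushQCoh.hasInjectiveResolutions (pullback f g)
  haveI := RpushQC.isGE_Rpush f' (DCoh.inD _ ((Scheme.Modules.pullback g').obj G)) 0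
  obtain ⟨β⟩ := nonempty_bc_inD hc G hGq hfl
  obtain ⟨eL⟩ := LBC.nonempty_tildeDIso φ
  have hz : IsZero (DCoh.HD ((DCoh.tildeD (CommRingCat.of C)).obj ((DRing.LBaseChange ψ).obj (DRing.toD P))) i) :=
    (DerivedCategory.isZero_of_isGE ((DCoh.Rpush f').obj (DCoh.inD _ ((Scheme.Modules.pullback g').obj G))) 0 i hi).of_iso
      ((DerivedCategory.homologyFunctor _ i).mapIso
        (eL.app (DRing.toD P) ≪≫ (DCoh.Lpull g).mapIso ((DCoh.tildeD R).mapIso eP ≪≫ e₀) ≪≫ β))
  exact (Groth.L10.DR.HH_iso_zero (Groth.L02.PC.lbcIso _ P).symm i).1 ((TildeAlg.isZero_hd_iff _ i).1 hz)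

end Groth.Lead.FlatPerfect

namespace Groth.Lead.FlatPerfect

open Groth.L00 Groth.L29.DC Groth.L29.BC

set_option maxHeartbeats 1600000 in
/-- vanishing higher direct images make `f_* G` finite locally free -/
theorem isFinLocFree_push {X S : Scheme.{u}} (f : X ⟶ S) [LocallyOfFinitePresentation f] [QuasiCompact f]
    [QuasiSeparated f] [HasInjectiveResolutions X.Modules] (G : X.Modules) (hG : CohB1.IsFP G) [hGq : Coh.IsQCoh G]
    (hfl : FlatMod.IsFlatOver f G) (hsupp : ClSub.IsProperOver f (CohB1.support G))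
    (hvan : ∀ i : ℕ, 0 < i → IsZero ((Coh.Rpush f i).obj G)) : FlatMod.IsFinLocFree ((Coh.push f).obj G) := by
  haveI := fun {Y Z : Scheme.{u}} (k : Y ⟶ Z) => RpushQC.hasRpush k
  haveI := fun {Y Z : Scheme.{u}} (k : Y ⟶ Z) => KFlat.hasLpull k
  let M := (Coh.push f).obj G
  haveI : Coh.IsQCoh M := Groth.L16.QcqsPush.isQCoh_push G f
  have hP : Nonempty ((DCoh.Rpush f).obj (DCoh.inD X G) ≅ DCoh.inD S M) := by
    let K := (DCoh.Rpush f).obj (DCoh.inD X G)
    haveI : K.IsGE 0 := RpushQC.isGE_Rpush f (DCoh.inD X G) 0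
    haveI : K.IsLE 0 := (DerivedCategory.isLE_iff _ _).2 fun i hi => by
      obtain ⟨k, rfl⟩ := Int.eq_ofNat_of_zero_le hi.le
      exact (hvan k (by omega)).of_iso (Groth.Lead.RpushHD.nonempty_HD_Rpush_inD f G k).some
    obtain ⟨e⟩ := Groth.L10.exists_iso_single_H K 0
    exact ⟨e ≪≫ (DerivedCategory.singleFunctor _ 0).mapIso ((Groth.Lead.RpushHD.nonempty_HD_Rpush_inD f G 0).some ≪≫
      ((Scheme.Modules.pushforward f).rightDerivedZeroIsoSelf.app G))⟩
  refine Groth.L19.PullChart.isFinLocFree_of_projective_charts M fun s => ?_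
  obtain ⟨_, ⟨V, hV, rfl⟩, hsV, -⟩ := S.isBasis_affineOpens.exists_subset_of_mem_open (Set.mem_univ s) isOpen_univ
  have sq := isPullback_chart f hV
  let g₁ := f ∣_ V ≫ hV.isoSpec.hom
  let ι := (f ⁻¹ᵁ V).ι
  haveI : QuasiCompact g₁ := MorphismProperty.of_isPullback sq inferInstance
  haveI : QuasiSeparated g₁ := MorphismProperty.of_isPullback sq inferInstance
  haveI : LocallyOfFinitePresentation g₁ := MorphismProperty.of_isPullback sq inferInstance
  haveI := Groth.L18.TildeF.tilde_preservesFiniteLimits (R := Γ(S, V))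
  let G₁ := (Scheme.Modules.pullback ι).obj G
  have hs₁ : ClSub.IsProperOver g₁ (CohB1.support G₁) := by
    rw [Groth.L19.SupportPullback.support_pullback ι G (Groth.L19.LimMod.isFT_of_isFP hG)]
    exact Groth.L27.Supp.isProperOver_preimage sq hsupp
  have hG₁q : Coh.IsQCoh G₁ := Groth.L16.AffineBC.isQCoh_pullback ι G
  have hfl₁ : FlatMod.IsFlatOver g₁ G₁ := RelBC.isFlatOver_pullback sq hfl
  have hperf := isPerfect_Rpush_inD g₁ G₁ (Groth.L19.LimMod.isFP_pullback' ι G hG) hG₁q hfl₁ hs₁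
  let MV := M.restrict hV.fromSpec
  haveI : MV.IsQuasicoherent := Scheme.Modules.isQuasicoherent_restrictFunctor _ M
  let N := (moduleSpecΓFunctor (R := Γ(S, V))).obj MV
  let eN : (tilde.functor Γ(S, V)).obj N ≅ MV := Groth.L18.TildeF.counitIso MV
  let K₀ : Dual.D Γ(S, V) := (DerivedCategory.singleFunctor _ 0).obj N
  obtain ⟨β⟩ := nonempty_bc_inD sq G hGq hfl
  obtain ⟨e₁⟩ := nonempty_Lpull_iso_restrictD hV.fromSpec ((DCoh.Rpush f).obj (DCoh.inD X G))
  let e₀ : (DCoh.tildeD Γ(S, V)).obj K₀ ≅ (DCoh.Rpush g₁).obj (DCoh.inD _ G₁) :=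
    ((tilde.functor Γ(S, V)).mapDerivedCategorySingleFunctor 0).app N ≪≫
      (DerivedCategory.singleFunctor _ 0).mapIso eN ≪≫
      (((Scheme.Modules.restrictFunctor hV.fromSpec).mapDerivedCategorySingleFunctor 0).app M).symm ≪≫
      (DCoh.restrictD hV.fromSpec).mapIso hP.some.symm ≪≫ e₁.symm ≪≫ β
  have hB : ∀ i, (0 : ℤ) < i → IsZero (DCoh.HD ((DCoh.Rpush g₁).obj (DCoh.inD _ G₁)) i) := fun i hi => by
    haveI : ((DCoh.Rpush g₁).obj (DCoh.inD _ G₁)).IsLE 0 := DerivedCategory.TStructure.t.isLE_of_iso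
      ((DerivedCategory.singleFunctor _ 0).mapIso eN.symm ≪≫
        (((tilde.functor Γ(S, V)).mapDerivedCategorySingleFunctor 0).app N).symm ≪≫ e₀) 0
    exact DerivedCategory.isZero_of_isLE _ 0 i hi
  have hamp := amp_inD g₁ G₁ hG₁q hfl₁ K₀ e₀ 0 hB
  have hpc : DRing.IsPseudoCoherent' Γ(S, V) K₀ := Groth.L02.PC.pc'_of_forall fun m =>
    TildeAlg.pc_of_tilde (isPseudoCoherentD_of_iso e₀.symm (pc_of_perfect hperf m))
  obtain ⟨E, hEv, hEp, ⟨eE⟩⟩ := Groth.L10.DR.exists_finiteProjective hpc hamp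
  haveI : E.IsStrictlyGE 0 := (CochainComplex.isStrictlyGE_iff _ _).2 fun i hi => hEv i (Or.inl hi)
  haveI : E.IsStrictlyLE 0 := (CochainComplex.isStrictlyLE_iff _ _).2 fun i hi => hEv i (Or.inr hi)
  obtain ⟨N', ⟨eN'⟩⟩ := E.exists_iso_single 0
  let w : N' ≅ N := (DerivedCategory.singleFunctor _ 0).preimageIso
    ((DerivedCategory.singleFunctorIsoCompQ _ 0).app N' ≪≫ DerivedCategory.Q.mapIso eN'.symm ≪≫ eE)
  let w' : E.X 0 ≅ N := (HomologicalComplex.eval _ _ 0).mapIso eN' ≪≫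
    HomologicalComplex.singleObjXSelf (ComplexShape.up ℤ) 0 N' ≪≫ w
  haveI := (hEp 0).1
  haveI := (hEp 0).2
  haveI : Module.Projective Γ(S, V) N := Module.Projective.of_equiv w'.toLinearEquiv
  haveI : Module.Finite Γ(S, V) N := Module.Finite.equiv w'.toLinearEquiv
  exact ⟨Γ(S, V), hV.fromSpec, inferInstance, N, hV.opensRange_fromSpec.ge hsV,
    Module.finitePresentation_of_projective _ _, inferInstance, ⟨eN.symm⟩⟩

end Groth.Lead.FlatPerfect
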