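import Groth.Agent.Lead.FlatFPPC
import Groth.Agent.Lead.AmpZero
import Groth.Agent.L29.RelPC.Module
import Groth.Agent.L07.ModSep.Scheme
import Groth.Agent.L10.RelPC.Formal

/-!
Flat modules of finite presentation relative to a morphism are pseudo-coherent relative to it.
-/

set_option autoImplicit false
set_option linter.style.haveILetI false
set_option backward.isDefEq.respectTransparency false
set_option backward.isDefEq.respectTransparency.types false

universe u

open CategoryTheory CategoryTheory.Limits AlgebraicGeometry Opposite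

attribute [local instance] HasDerivedCategory.standard

namespace Groth.Lead.FlatRelPC

open Groth.L29.RelPC

variable {X Y : Scheme.{u}} {f : X ⟶ Y}

set_option maxHeartbeats 800000 in
theorem rel_of_flat [LocallyOfFiniteType f] (M : X.Modules) (hflat : FlatMod.IsFlatOver f M)
    (h : DerSch.IsPseudoCoherentRel f (-1) (DCoh.inD X M)) (m : ℤ) :
    DerSch.IsPseudoCoherentRel f m (DCoh.inD X M) := by
  haveI hQ : Coh.IsQCoh M := ((rel_negOne_iff M).1 h).1
  refine rel_iff.2 fun U V hU hV hle => ?_
  haveI := isClosedImmersion_toSpecΓ hU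
  haveI := Groth.L18.TildeF.tilde_preservesFiniteLimits (R := Γ(X, U))
  obtain ⟨e⟩ := nonempty_sections_tildeD hU M
  rw [good_iff_rel hU hV hle e]
  letI := (f.appLE V U hle).hom.toAlgebra
  haveI : Algebra.FiniteType Γ(Y, V) Γ(X, U) := f.finiteType_appLE hV hU hle
  obtain ⟨n, α, hα⟩ := Groth.L10.RelPC.exists_presentation Γ(Y, V) Γ(X, U)
  have h1 := (good_iff_rel hU hV hle e).1 (good_of_rel h hU hV hle)
  letI : Module (MvPolynomial (Fin n) Γ(Y, V)) (M.val.obj (op U)) := Module.compHom _ α.toRingHom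
  haveI hfp : Module.FinitePresentation (MvPolynomial (Fin n) Γ(Y, V)) (M.val.obj (op U)) :=
    (Groth.L10.RelPC.module_iff α hα (M.val.obj (op U))).2.1 h1
  letI : Module Γ(Y, V) (M.val.obj (op U)) := Module.compHom _ (f.appLE V U hle).hom
  haveI : Module.Flat Γ(Y, V) (M.val.obj (op U)) := Groth.L07.ModSep.flat_sections f M hflat hV hU hle
  haveI : IsScalarTower Γ(Y, V) (MvPolynomial (Fin n) Γ(Y, V)) (M.val.obj (op U)) :=
    IsScalarTower.of_algebraMap_smul fun r x => by
      change α (algebraMap Γ(Y, V) (MvPolynomial (Fin n) Γ(Y, V)) r) • x = (f.appLE V U hle).hom r • x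
      rw [α.commutes]
      rfl
  have hpc := Groth.Lead.FlatFPPC.pc_of_flat_fp (M.val.obj (op U) : Type u) (d := n) (A := Γ(Y, V)) (-m).toNat
  have hpc' := Groth.L02.PC.pc_mono (show -((-m).toNat : ℤ) ≤ m by omega) hpc
  exact ⟨n, α, hα, Groth.L02.PC.pc_of_iso
    (Groth.L10.RelPC.inDIso (α : MvPolynomial (Fin n) Γ(Y, V) →+* Γ(X, U)) (M.val.obj (op U)) (fun _ _ => rfl)).symm hpc'⟩

end Groth.Lead.FlatRelPC
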