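import Mathlib.AlgebraicGeometry.Morphisms.SchemeTheoreticallyDominant
import Mathlib.AlgebraicGeometry.Morphisms.FlatDescent
import Mathlib.AlgebraicGeometry.Morphisms.ClosedImmersion

/-! # Faithfully flat quasi-compact morphisms are scheme-theoretically dominant -/

set_option autoImplicit false
set_option linter.style.haveILetI false
universe u

open CategoryTheory CategoryTheory.Limits AlgebraicGeometry

namespace Groth.Lead.FlatSTD

theorem isSchemeTheoreticallyDominant {X Y : Scheme.{u}} (p : X ⟶ Y) [Flat p] [Surjective p]
    [QuasiCompact p] : IsSchemeTheoreticallyDominant p := by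
  haveI : IsSplitEpi (pullback.fst p p.imageι) :=
    IsSplitEpi.mk' ⟨pullback.lift (𝟙 X) p.toImage (by simp), pullback.lift_fst _ _ _⟩
  haveI : IsIso (pullback.fst p p.imageι) := isIso_of_mono_of_isSplitEpi _
  haveI : IsIso p.imageι := MorphismProperty.of_isPullback_of_descendsAlong
    (P := MorphismProperty.isomorphisms Scheme) (Q := @Surjective ⊓ @Flat ⊓ @QuasiCompact)
    (IsPullback.of_hasPullback p p.imageι) ⟨⟨inferInstance, inferInstance⟩, inferInstance⟩
    (show IsIso (pullback.fst p p.imageι) from inferInstance)
  exact ⟨(Scheme.IdealSheafData.ker_subschemeι p.ker).symm.trans p.imageι.ker_eq_bot_of_isIso⟩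

end Groth.Lead.FlatSTD
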