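import Groth.Prelude.Def_QuotSh
import Mathlib.CategoryTheory.Sites.EpiMono
import Mathlib.CategoryTheory.Sites.LocallyBijective
import Mathlib.AlgebraicGeometry.Sites.Fpqc

/-!
# Epimorphisms of representable fppf sheaves
-/

set_option autoImplicit false
universe u

open CategoryTheory CategoryTheory.Limits AlgebraicGeometry Opposite

set_option linter.style.haveILetI false
set_option backward.isDefEq.respectTransparency false
set_option backward.isDefEq.respectTransparency.types false

noncomputable section

namespace Groth.Lead.FppfEpi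

variable {S : Scheme.{u}} {U M : Over S} (q : U ⟶ M)

/-- An epimorphism of the represented sheaves has local sections. -/
theorem exists_local_section (h : Epi (QuotSh.repMap Scheme.fppfPrecoverage q)) (x : M.left) :
    ∃ (W : Over S) (c : W ⟶ M) (a : W ⟶ U), a ≫ q = c ∧ x ∈ Set.range c.left ∧ Flat c.left ∧
      LocallyOfFinitePresentation c.left := by
  haveI : Sheaf.IsLocallySurjective (QuotSh.repMap Scheme.fppfPrecoverage q) :=
    (Sheaf.isLocallySurjective_iff_epi' _ _).2 h
  have hls : Presheaf.IsLocallySurjective (QuotSh.J Scheme.fppfPrecoverage S)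
      (Functor.whiskerRight (yoneda.map q) uliftFunctor.{u + 1, u}) :=
    (Presheaf.isLocallySurjective_presheafToSheaf_map_iff _ _).1 ‹_›
  have hmem := hls.imageSieve_mem (U := M) (ULift.up (𝟙 M))
  rw [GrothendieckTopology.mem_over_iff] at hmem
  change Sieve.overEquiv M _ ∈ Scheme.fppfPrecoverage.toGrothendieck M.left at hmem
  change Sieve.overEquiv M _ ∈ Scheme.grothendieckTopology (@Flat ⊓ @LocallyOfFinitePresentation) M.left at hmem
  haveI : (@Flat ⊓ @LocallyOfFinitePresentation : MorphismProperty Scheme.{u}).IsMultiplicative :=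
    { id_mem := fun _ => ⟨inferInstance, inferInstance⟩
      comp_mem := fun f g hf hg => by
        obtain ⟨hf1, hf2⟩ := hf
        obtain ⟨hg1, hg2⟩ := hg
        exact ⟨inferInstance, inferInstance⟩ }
  rw [Scheme.mem_grothendieckTopology_iff] at hmem
  obtain ⟨𝒰, hle⟩ := hmem
  obtain ⟨i, z, rfl⟩ := 𝒰.exists_eq x
  let g := 𝒰.f i
  have hg' := hle _ _ (Presieve.ofArrows.mk i)
  rw [Sieve.overEquiv_iff] at hg'
  obtain ⟨a, ha⟩ := hg'
  have hP : Flat g ∧ LocallyOfFinitePresentation g := 𝒰.map_prop i
  exact ⟨Over.mk (g ≫ M.hom), (Over.homMk g : Over.mk (g ≫ M.hom) ⟶ M), a.down,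
    (congrArg ULift.down ha).trans (Category.comp_id (Over.homMk g : Over.mk (g ≫ M.hom) ⟶ M)), ⟨z, rfl⟩, hP.1, hP.2⟩

/-- An fppf covering gives an epimorphism of the represented sheaves. -/
theorem epi_repMap [Flat q.left] [Surjective q.left] [LocallyOfFinitePresentation q.left] :
    Epi (QuotSh.repMap Scheme.fppfPrecoverage q) := by
  refine (Sheaf.isLocallySurjective_iff_epi' _ _).1 ((Presheaf.isLocallySurjective_presheafToSheaf_map_iff _ _).2 ⟨fun {T} s => ?_⟩)
  rw [GrothendieckTopology.mem_over_iff]
  haveI : Flat (pullback.fst s.down.left q.left) := MorphismProperty.pullback_fst _ _ ‹_›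
  haveI : Surjective (pullback.fst s.down.left q.left) := MorphismProperty.pullback_fst _ _ ‹_›
  haveI : LocallyOfFinitePresentation (pullback.fst s.down.left q.left) := MorphismProperty.pullback_fst _ _ ‹_›
  refine GrothendieckTopology.superset_covering _ ?_
    (Precoverage.generate_mem_toGrothendieck (pullback.fst s.down.left q.left).singleton_mem_fppfPrecoverage)
  rw [Sieve.generate_le_iff]
  rintro V v ⟨⟩
  rw [Sieve.overEquiv_iff]
  refine ⟨ULift.up (Over.homMk (pullback.snd s.down.left q.left) ?_), ?_⟩
  · show pullback.snd s.down.left q.left ≫ U.hom = pullback.fst s.down.left q.left ≫ T.hom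
    rw [← Over.w q, ← Category.assoc, ← pullback.condition, Category.assoc, Over.w s.down]
  · exact ULift.ext _ _ (Over.OverMorphism.ext pullback.condition.symm)

end Groth.Lead.FppfEpi
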