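import Groth.Agent.L09.GrpQuot
import Groth.Agent.L25.Actions

/-!
# fpqc coverings are universally effective epimorphisms
-/

set_option autoImplicit false
universe u
open CategoryTheory CategoryTheory.Limits AlgebraicGeometry
open Groth.L09

namespace Groth.Lead.FpqcQuot

/-- A flat surjection such that every affine open of the base is the image of a quasi-compact open is a
universally effective epimorphism of schemes. -/
theorem uee_of_cover {Z Y : Scheme.{u}} (q : Z ⟶ Y) [Flat q] [Surjective q]
    (h : ∀ V : Y.Opens, IsAffineOpen V → ∃ W : Z.Opens, IsCompact (W : Set Z) ∧ q.base '' (W : Set Z) = (V : Set Y)) :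
    UEffEpi.UEE q := by
  have hq : Presieve.singleton q ∈ Scheme.fpqcPrecoverage Y := by
    refine ⟨?_, ?_⟩
    · let E : Scheme.Cover.{u} _ Y := q.cover (P := ⊤) trivial
      haveI : QuasiCompactCover E.toPreZeroHypercover := ⟨fun {U} hU => by
        obtain ⟨W, hWc, hW⟩ := h U hU
        exact ⟨{PUnit.unit}, Set.finite_singleton _, fun _ _ => W, fun _ _ => hWc, by
          rw [← hW]; ext; simp [E]; exact ⟨fun ⟨_, _, h⟩ => h, fun h => ⟨PUnit.unit, Set.mem_singleton _, h⟩⟩⟩⟩
      have := (Scheme.presieve₀_mem_qcPrecoverage_iff (E := E.toPreZeroHypercover)).2 inferInstance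
      simpa [E] using this
    · have := (q.cover (P := @Flat) inferInstance : Scheme.Cover.{u} _ Y).mem₀
      simpa using this
  intro Z' Y' i₁ i₂ q' H
  have hq' : Presieve.singleton q' ∈ Scheme.fpqcPrecoverage Y' := by
    rw [← Presieve.ofArrows_pUnit.{u + 1}] at hq ⊢
    exact Precoverage.mem_coverings_of_isPullback (J := Scheme.fpqcPrecoverage) _ hq i₂ (fun _ => q') (fun _ => i₁)
      fun _ => H
  show EffectiveEpi q'
  rw [← Sieve.effectiveEpimorphic_singleton, Presieve.EffectiveEpimorphic.iff_forall_isSheafFor_yoneda]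
  exact fun T => (GrothendieckTopology.Subcanonical.isSheaf_of_isRepresentable (J := Scheme.fpqcTopology) _).isSheafFor _
    (Precoverage.generate_mem_toGrothendieck hq')

/-- Universally effective epimorphisms of schemes are such in `Over S`. -/
theorem uee_over {S : Scheme.{u}} {A B : Over S} (p : A ⟶ B) (hp : UEffEpi.UEE p.left) : UEffEpi.UEE p := by
  intro A' B' i₁ i₂ p' H
  haveI : EffectiveEpi p'.left := hp _ _ _ (H.map (Over.forget S))
  have hd : ∀ {W : Over S} (e : A' ⟶ W),
      (∀ {Z : Over S} (g₁ g₂ : Z ⟶ A'), g₁ ≫ p' = g₂ ≫ p' → g₁ ≫ e = g₂ ≫ e) → ∃! d : B' ⟶ W, p' ≫ d = e :=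
    fun e h => Groth.L25.Actions.existsUnique_desc p' e fun _ g₁ g₂ => h g₁ g₂
  exact ⟨⟨⟨fun e h => (hd e h).choose, fun e h => (hd e h).choose_spec.1,
    fun e h m hm => (hd e h).choose_spec.2 m hm⟩⟩⟩

end Groth.Lead.FpqcQuot
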