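import Groth.Agent.L26.AV.FrobData
import Mathlib.Tactic.ComputeDegree

/-!
# The equality case of the bound on the trace of Frobenius
-/

set_option autoImplicit false
set_option linter.style.haveILetI false
set_option backward.isDefEq.respectTransparency false
set_option backward.isDefEq.respectTransparency.types false

noncomputable section

namespace Groth.Agent.AV.FrobData

open Polynomial

/-- All roots have the same trace when the bound is attained. -/
theorem two_re_eq_of_extremal (P : ℤ[X]) (hP : P.Monic) (g q : ℕ) (hd : P.natDegree = 2 * g) (hq : 0 < q)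
    (h0 : P.eval 0 = (q : ℤ) ^ g) (hroots : ∀ α ∈ (P.map (Int.castRingHom ℂ)).roots, ‖α‖ = Real.sqrt q)
    (ε : ℤ) (hε : ε = 1 ∨ ε = -1)
    (heq : (ε : ℝ) * (P.nextCoeff : ℝ) = -((g : ℝ) * (⌊2 * Real.sqrt q⌋ : ℝ))) :
    ∀ α ∈ (P.map (Int.castRingHom ℂ)).roots, (ε : ℝ) * (2 * α.re) = (⌊2 * Real.sqrt q⌋ : ℝ) := by
  let Pc := P.map (Int.castRingHom ℂ)
  let m := ⌊2 * Real.sqrt q⌋
  have hn : Pc.natDegree = 2 * g := by rw [hP.natDegree_map, hd]
  have hcard : Multiset.card Pc.roots = 2 * g := IsAlgClosed.card_roots_eq_natDegree.trans hn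
  have hsum : Pc.roots.sum = -(P.nextCoeff : ℂ) := by
    rw [← neg_neg Pc.roots.sum, ← (IsAlgClosed.splits Pc).nextCoeff_eq_neg_sum_roots_of_monic (hP.map _),
      nextCoeff_map Int.cast_injective]
    rfl
  have hresum : (Pc.roots.map Complex.re).sum = -(P.nextCoeff : ℝ) := by
    have h := congrArg Complex.re hsum
    rw [show Complex.re = ⇑Complex.reLm from rfl] at h ⊢
    rw [map_multiset_sum] at h
    rw [h]
    simp
  have hconj : ∀ α ∈ Pc.roots, α * (starRingEnd ℂ α) = (q : ℂ) := fun α hα => by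
    rw [Complex.mul_conj, Complex.normSq_eq_norm_sq, hroots α hα, Real.sq_sqrt (Nat.cast_nonneg q)]
    simp
  have hprodroots : Pc.roots.prod = (q : ℂ) ^ g := by
    have h1 := (IsAlgClosed.splits Pc).coeff_zero_eq_prod_roots_of_monic (hP.map _)
    rw [hn, pow_mul, neg_one_sq, one_pow, _root_.one_mul, coeff_map, coeff_zero_eq_eval_zero, h0] at h1
    rw [← h1]
    simp
  let v : ℂ → ℝ := fun α => (m : ℝ) + 1 + (ε : ℝ) * (2 * α.re) * (-1)
  have hpos : ∀ α ∈ Pc.roots, 0 < v α := fun α hα => by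
    have h1 : |α.re| ≤ Real.sqrt q := (hroots α hα) ▸ Complex.abs_re_le_norm α
    have h2 := Int.lt_floor_add_one (2 * Real.sqrt q)
    have h3 := abs_le.1 h1
    simp only [v, m]
    rcases hε with rfl | rfl <;> push_cast <;> linarith [h3.1, h3.2]
  let G : ℤ[X] := C (m + 1) * X - C ε * (X ^ 2 + C (q : ℤ))
  obtain ⟨z, hz⟩ := exists_int_prod_eval P G hP
  have hG : ∀ α ∈ Pc.roots, aeval α G = α * (v α : ℂ) := fun α hα => by
    have h1 : (starRingEnd ℂ α) + α = 2 * (α.re : ℂ) := by
      rw [add_comm, Complex.add_conj]; push_cast; ring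
    simp only [G, v, map_sub, map_mul, map_add, map_pow, aeval_X, map_one, eq_intCast, map_intCast,
      Int.cast_natCast, map_natCast]
    push_cast
    linear_combination (ε : ℂ) * hconj α hα - (ε : ℂ) * α * h1
  have hzv : (z : ℂ) = (q : ℂ) ^ g * ((Pc.roots.map v).prod : ℂ) := by
    rw [← hz, Multiset.map_congr rfl hG, Multiset.prod_map_mul, Multiset.map_id', hprodroots,
      show ((Pc.roots.map v).prod : ℂ) = Complex.ofRealHom (Pc.roots.map v).prod from rfl,
      map_multiset_prod Complex.ofRealHom, Multiset.map_map]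
    rfl
  have hint : _root_.IsIntegral ℤ ((Pc.roots.map fun α => (v α : ℂ)).prod) := by
    refine IsIntegral.multiset_prod fun x hx => ?_
    obtain ⟨α, hα, rfl⟩ := Multiset.mem_map.1 hx
    have hαi : _root_.IsIntegral ℤ α := ⟨P, hP, by
      rw [← Polynomial.eval_map]
      exact (mem_roots'.1 hα).2⟩
    have hαc : _root_.IsIntegral ℤ (starRingEnd ℂ α) := hαi.map (starRingEnd ℂ).toIntAlgHom
    have e : (v α : ℂ) = ((m + 1 : ℤ) : ℂ) - (ε : ℂ) * (α + starRingEnd ℂ α) := by
      rw [Complex.add_conj]; simp only [v]; push_cast; ring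
    rw [e]
    have hi : ∀ n : ℤ, _root_.IsIntegral ℤ (n : ℂ) := fun n => isIntegral_algebraMap (x := n)
    exact (hi _).sub ((hi _).mul (hαi.add hαc))
  have hpv : 0 < (Pc.roots.map v).prod := Multiset.prod_pos fun x hx => by
    obtain ⟨α, hα, rfl⟩ := Multiset.mem_map.1 hx
    exact hpos α hα
  have hge : 1 ≤ (Pc.roots.map v).prod := by
    have hq' : (q : ℂ) ^ g ≠ 0 := pow_ne_zero _ (Nat.cast_ne_zero.2 hq.ne')
    have e : ((Pc.roots.map v).prod : ℂ) = algebraMap ℚ ℂ ((z : ℚ) / (q : ℚ) ^ g) := by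
      simp only [map_div₀, map_intCast, map_pow, map_natCast]
      rw [hzv]; field_simp
    have e' : ((Pc.roots.map fun α => (v α : ℂ)).prod) = ((Pc.roots.map v).prod : ℂ) := by
      rw [show ((Pc.roots.map v).prod : ℂ) = Complex.ofRealHom (Pc.roots.map v).prod from rfl,
      map_multiset_prod Complex.ofRealHom, Multiset.map_map]; rfl
    rw [e', e, isIntegral_algebraMap_iff (algebraMap ℚ ℂ).injective] at hint
    obtain ⟨w, hw⟩ := IsIntegrallyClosed.isIntegral_iff.1 hint
    have e2 : (Pc.roots.map v).prod = (w : ℝ) := by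
      refine Complex.ofReal_injective (e.trans ?_)
      rw [← hw]
      simp
    rw [e2] at hpv ⊢
    exact_mod_cast (show (0 : ℤ) < w by exact_mod_cast hpv)
  -- the arithmetic mean is at least the geometric mean
  have hv : (Pc.roots.map v).sum = (2 * g : ℕ) * ((m : ℝ) + 1) + (ε : ℝ) * 2 * (P.nextCoeff : ℝ) := by
    have : v = fun α => ((m : ℝ) + 1) + (-(ε : ℝ) * 2) * α.re := by funext α; simp only [v]; ring
    rw [this, Multiset.sum_map_add, Multiset.sum_map_mul_left, hresum]
    simp only [Multiset.map_const', Multiset.sum_replicate, nsmul_eq_mul, hcard]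
    ring
  rw [show (ε : ℝ) * 2 * (P.nextCoeff : ℝ) = 2 * ((ε : ℝ) * (P.nextCoeff : ℝ)) by ring, heq] at hv
  push_cast at hv
  have hlog := Real.log_nonneg hge
  rw [Real.log_multiset_prod (fun x hx => by
    obtain ⟨α, hα, rfl⟩ := Multiset.mem_map.1 hx
    exact (hpos α hα).ne'), Multiset.map_map] at hlog
  intro α hα
  by_contra hne
  have hv1 : v α ≠ 1 := fun h => hne (by simp only [v] at h; linarith)
  have hlt : Real.log (v α) + 1 < v α := by linarith [Real.log_lt_sub_one_of_pos (hpos α hα) hv1]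
  have hle : ∀ β ∈ Pc.roots, Real.log (v β) + 1 ≤ v β := fun β hβ => by
    linarith [Real.log_le_sub_one_of_pos (hpos β hβ)]
  obtain ⟨s, hs⟩ := Multiset.exists_cons_of_mem hα
  have h2 := Multiset.sum_map_le_sum_map (s := s) _ _ fun β hβ => hle β (hs ▸ Multiset.mem_cons_of_mem hβ)
  have h3 : (Multiset.card s : ℝ) + 1 = 2 * g := by
    have h := hcard
    rw [show Pc.roots = α ::ₘ s from hs, Multiset.card_cons] at h
    exact_mod_cast h
  rw [show Pc.roots = α ::ₘ s from hs, Multiset.map_cons, Multiset.sum_cons] at hv hlog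
  rw [Multiset.sum_map_add, Multiset.map_const', Multiset.sum_replicate, nsmul_eq_mul, _root_.mul_one] at h2
  simp only [Function.comp_apply] at hlog
  linarith

/-- The polynomial is a power of a quadratic when all roots have the same trace. -/
theorem eq_pow_of_two_re_eq (P : ℤ[X]) (hP : P.Monic) (g : ℕ) (q : ℕ) (c : ℤ) (hd : P.natDegree = 2 * g)
    (hroots : ∀ α ∈ (P.map (Int.castRingHom ℂ)).roots, ‖α‖ = Real.sqrt q)
    (hre : ∀ α ∈ (P.map (Int.castRingHom ℂ)).roots, 2 * α.re = (c : ℝ)) :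
    P = (X ^ 2 - C c * X + C (q : ℤ)) ^ g := by
  have hQm : (X ^ 2 - C c * X + C (q : ℤ)).Monic := by monicity!
  refine Polynomial.map_injective _ (Int.castRingHom ℂ).injective_int ?_
  set Pc := P.map (Int.castRingHom ℂ) with hPc
  set Q := (X ^ 2 - C c * X + C (q : ℤ)).map (Int.castRingHom ℂ) with hQ
  have hcard : Multiset.card Pc.roots = 2 * g :=
    IsAlgClosed.card_roots_eq_natDegree.trans (by rw [hP.natDegree_map, hd])
  have hprod : Pc = (Pc.roots.map fun α => X - C α).prod :=
    (IsAlgClosed.splits Pc).eq_prod_roots_of_monic (hP.map _)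
  have hfac : ∀ α ∈ Pc.roots, (X - C α) * (X - C (starRingEnd ℂ α)) = Q := fun α hα => by
    have h1 : α + starRingEnd ℂ α = (c : ℂ) := by
      rw [Complex.add_conj, hre α hα]; norm_num
    have h2 : α * starRingEnd ℂ α = (q : ℂ) := by
      rw [Complex.mul_conj, Complex.normSq_eq_norm_sq, hroots α hα, Real.sq_sqrt (Nat.cast_nonneg q)]
      simp
    rw [hQ]
    simp only [Polynomial.map_add, Polynomial.map_sub, Polynomial.map_mul, Polynomial.map_pow, map_X, map_C,
      Int.coe_castRingHom, Int.cast_natCast]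
    rw [← h1, ← h2, map_add, map_mul]
    ring
  have hsq : Pc ^ 2 = (Q ^ g) ^ 2 := by
    have h' : Pc = (Pc.roots.map fun α => X - C (starRingEnd ℂ α)).prod := by
      conv_lhs => rw [hprod, hPc, ← roots_conj P, ← hPc, Multiset.map_map]
      rfl
    conv_lhs => rw [pow_two]; arg 1; rw [hprod]
    conv_lhs => arg 2; rw [h']
    rw [← Multiset.prod_map_mul, Multiset.map_congr rfl hfac, Multiset.map_const', Multiset.prod_replicate,
      hcard, ← pow_mul, mul_comm]
  rw [Polynomial.map_pow, ← hQ]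
  rcases sq_eq_sq_iff_eq_or_eq_neg.1 hsq with h | h
  · exact h
  · exfalso
    have h1 := congrArg leadingCoeff h
    rw [leadingCoeff_neg, ((hP.map (Int.castRingHom ℂ))).leadingCoeff, ((hQm.map _).pow g).leadingCoeff] at h1
    norm_num at h1

end Groth.Agent.AV.FrobData
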