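import Groth.Agent.L17.BC.Bc0Apply
import Groth.Agent.L07.GabQ.Homeo
import Groth.Agent.L21.Mod.Stalks
import Groth.Agent.L26.Pic0.Support
import Groth.Agent.L15.Ref.FreeLocus
import Groth.Agent.L18.AmpleGG
import Groth.Agent.L21.Extend.Semilocal
import Groth.Agent.L19.LimMod.Generated
import Groth.Agent.L29.DCoh.QCohOps
import Groth.Agent.S4357
import Mathlib.CategoryTheory.Adjunction.Unique
import Groth.Prelude.Def_Curv2

/-!
Global generation from global generation on the fibres over closed points and of the direct image.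
-/

set_option autoImplicit false
set_option linter.style.haveILetI false
set_option backward.defeqAttrib.useBackward true
set_option backward.isDefEq.respectTransparency false
set_option backward.isDefEq.respectTransparency.types false

universe u v₁ v₂ u₁ u₂

open CategoryTheory CategoryTheory.Limits AlgebraicGeometry Scheme.Modules

noncomputable section

namespace Groth.Lead.GGFib

/-- transfer of epimorphisms between two left adjoints -/
theorem epi_symm_of_natIso {C : Type u₁} [Category.{v₁} C] {D : Type u₂} [Category.{v₂} D] {F F' : C ⥤ D}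
    {G G' : D ⥤ C} (adj : F ⊣ G) (adj' : F' ⊣ G') (e : G ≅ G') {a : C} {b : D} (φ : a ⟶ G.obj b)
    (h : Epi ((adj'.homEquiv a b).symm (φ ≫ e.hom.app b))) : Epi ((adj.homEquiv a b).symm φ) := by
  let adj'' := adj'.ofNatIsoRight e.symm
  have h1 : (adj''.homEquiv a b).symm φ = (adj'.homEquiv a b).symm (φ ≫ e.hom.app b) := by
    apply (adj''.homEquiv a b).injective
    rw [Equiv.apply_symm_apply, Adjunction.homEquiv_unit, Adjunction.homEquiv_counit]
    simp only [adj'', Adjunction.ofNatIsoRight, Adjunction.mkOfHomEquiv_unit_app]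
    simp [Adjunction.homEquiv_unit]
    have n1 : ∀ {x y : D} (t : x ⟶ y) {z : C} (r : G.obj y ⟶ z),
        e.inv.app x ≫ G.map t ≫ r = G'.map t ≫ e.inv.app y ≫ r :=
      fun t _ r => (e.inv.naturality_assoc t r).symm
    erw [n1, n1, ← e.inv.naturality, adj'.unit_naturality_assoc, adj'.unit_naturality_assoc,
      adj'.right_triangle_components_assoc]
    simp
  have h2 : (adj.homEquiv a b).symm φ = ((adj.leftAdjointUniq adj'').hom.app a) ≫ (adj''.homEquiv a b).symm φ := by
    rw [Adjunction.homEquiv_counit, Adjunction.homEquiv_counit, ← Category.assoc,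
      ← (adj.leftAdjointUniq adj'').hom.naturality φ, Category.assoc,
      Adjunction.leftAdjointUniq_hom_app_counit]
  rw [h2, h1]
  exact epi_comp _ _

theorem epi_counit_of_gg {X Y : Scheme.{u}} (f : X ⟶ Y) (M : X.Modules) (h : Curv2.IsGloballyGenerated M) :
    Epi ((pullbackPushforwardAdjunction f).counit.app M) := by
  obtain ⟨ι, p, hp⟩ := h
  let e : (Scheme.Modules.pullback f).obj (SheafOfModules.free ι : Y.Modules) ≅ (SheafOfModules.free ι : X.Modules) :=
    SheafOfModules.pullbackObjFreeIso _ ι
  haveI := hp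
  exact Groth.L19.LimMod.epi_counit_of_epi f (A := (SheafOfModules.free ι : Y.Modules)) (e.hom ≫ p)

/-- the counit restricted to a fibre is surjective -/
theorem epi_pullback_counit {X Y X' Y' : Scheme.{u}} (f : X ⟶ Y) (s : Y' ⟶ Y) (q : X' ⟶ Y') (i : X' ⟶ X)
    (w : i ≫ f = q ≫ s) (L : X.Modules) (hbc : Epi (CohBC.bc0 f s q i w L))
    (hq : Epi ((pullbackPushforwardAdjunction q).counit.app ((Scheme.Modules.pullback i).obj L))) :
    Epi ((Scheme.Modules.pullback i).map ((pullbackPushforwardAdjunction f).counit.app L)) := by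
  let adjA := (pullbackPushforwardAdjunction f).comp (pullbackPushforwardAdjunction i)
  let adjB := (pullbackPushforwardAdjunction s).comp (pullbackPushforwardAdjunction q)
  let e : pushforward i ⋙ pushforward f ≅ pushforward q ⋙ pushforward s :=
    pushforwardComp i f ≪≫ pushforwardCongr w ≪≫ (pushforwardComp q s).symm
  let φ := (pushforward f).map ((pullbackPushforwardAdjunction i).unit.app L)
  have h1 : (adjA.homEquiv _ ((Scheme.Modules.pullback i).obj L)).symm φ =
      (Scheme.Modules.pullback i).map ((pullbackPushforwardAdjunction f).counit.app L) := by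
    simp only [adjA, Adjunction.comp_homEquiv, Equiv.symm_trans_apply, Adjunction.homEquiv_counit, φ,
      Functor.id_obj]
    erw [Adjunction.homEquiv_counit, Adjunction.homEquiv_counit]
    erw [(pullbackPushforwardAdjunction f).counit_naturality, Functor.map_comp, Category.assoc,
      Adjunction.left_triangle_components, Category.comp_id]
  rw [← h1]
  refine epi_symm_of_natIso adjA adjB e φ ?_
  have h2 : (adjB.homEquiv _ _).symm (φ ≫ e.hom.app _) =
      (Scheme.Modules.pullback q).map (CohBC.bc0 f s q i w L) ≫ (pullbackPushforwardAdjunction q).counit.app _ := by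
    simp only [adjB, Adjunction.comp_homEquiv, Equiv.symm_trans_apply, CohBC.bc0, CohBC.bc0Adj, e, φ,
      Iso.trans_hom, Iso.symm_hom, NatTrans.comp_app, Adjunction.homEquiv_counit, Category.assoc]
    rfl
  rw [h2]
  haveI := hbc
  haveI := hq
  haveI : PreservesColimitsOfSize.{0, 0} (Scheme.Modules.pullback q) := (pullbackPushforwardAdjunction q).leftAdjoint_preservesColimits
  exact epi_comp _ _

variable {k : Type u} [Field k]

set_option maxHeartbeats 800000 in
theorem isGloballyGenerated (X Y : Scheme.{u}) (g : Y ⟶ Spec (CommRingCat.of k)) [IsProper g]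
    (f : X ⟶ Y) [IsProper f] [Flat f] (L : X.Modules) (hL : PicF.IsInvertible L)
    (h2 : ∀ y : Y, IsClosed ({y} : Set Y) →
      Subsingleton (Coh.HH (f.fiber y) ((Scheme.Modules.pullback (f.fiberι y)).obj L) 1))
    (hfib : ∀ y : Y, IsClosed ({y} : Set Y) → Curv2.IsGloballyGenerated ((Scheme.Modules.pullback (f.fiberι y)).obj L))
    (hE : Curv2.IsGloballyGenerated ((pushforward f).obj L)) :
    Curv2.IsGloballyGenerated L := by
  haveI : IsLocallyNoetherian Y := LocallyOfFiniteType.isLocallyNoetherian g
  haveI : IsLocallyNoetherian X := LocallyOfFiniteType.isLocallyNoetherian f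
  haveI : LocallyOfFinitePresentation f := inferInstance
  haveI : JacobsonSpace X := LocallyOfFiniteType.jacobsonSpace (f ≫ g)
  haveI : Coh.IsQCoh L := Groth.L21.Extend.isQCoh_of_isInvertible hL
  have hLft := Groth.L18.Ample.isFT_of_isInvertible hL
  have hfp : CohB1.IsFP L := Groth.L15.Ref.isFP_of_isCoh ⟨inferInstance, hLft⟩
  haveI := Groth.L17.PushQCoh.hasInjectiveResolutions X
  have hfl := Groth.Agent.Pic0.isFlatOver_of_isInvertible f hL
  let ε : (Scheme.Modules.pullback f).obj ((pushforward f).obj L) ⟶ L := (pullbackPushforwardAdjunction f).counit.app L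
  haveI hε : Epi ε := by
    refine Preadditive.epi_of_isZero_cokernel ε ?_
    haveI : Coh.IsQCoh ((pushforward f).obj L) := Groth.L16.QcqsPush.isQCoh_push L f
    haveI : Coh.IsQCoh ((Scheme.Modules.pullback f).obj ((pushforward f).obj L)) :=
      Groth.L16.AffineBC.isQCoh_pullback f _
    haveI hQ : Coh.IsQCoh (cokernel ε) := Groth.L29.DC.isQCoh_cokernel' ε inferInstance inferInstance
    have hQft : CohB1.IsFT (cokernel ε) := Groth.L17.Approx.isFT_of_epi (cokernel.π ε) hLft
    by_contra hne
    obtain ⟨x, hx⟩ := Set.nonempty_iff_ne_empty.2 fun h => hne ((Groth.L21.Mod.isZero_iff_support_eq_empty _).2 h)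
    obtain ⟨x₀, hx₀, hx₀c⟩ : ∃ x₀ ∈ CohB1.support (cokernel ε), x₀ ∈ closedPoints X :=
      nonempty_inter_closedPoints ⟨x, hx⟩ (Groth.L07.GabQ.isClosed_support_of_isFT hQ hQft).isLocallyClosed
    have hy : IsClosed ({f x₀} : Set Y) := by
      have := f.isClosedMap _ hx₀c
      rwa [Set.image_singleton] at this
    let y := f x₀
    obtain ⟨V, hV, l, hyV⟩ := Groth.L17.BC.Classes.exists_freeBC0 f L hfp hfl y
    have hbc := (Groth.L17.BC.Classes.epi_bc0_iff_split hV l hyV).2 (l.split_of_vanishing hV hyV (h2 y hy))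
    have hι := epi_pullback_counit f (Y.fromSpecResidueField y) (f.fiberToSpecResidueField y) (f.fiberι y)
      (f.fiber_fac y) L hbc (epi_counit_of_gg _ _ (hfib y hy))
    have hz : IsZero ((Scheme.Modules.pullback (f.fiberι y)).obj (cokernel ε)) := by
      haveI := hι
      haveI : PreservesColimitsOfSize.{0, 0} (Scheme.Modules.pullback (f.fiberι y)) :=
        (pullbackPushforwardAdjunction (f.fiberι y)).leftAdjoint_preservesColimits
      exact IsZero.of_iso (isZero_cokernel_of_epi ((Scheme.Modules.pullback (f.fiberι y)).map ε))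
        (PreservesCokernel.iso (Scheme.Modules.pullback (f.fiberι y)) ε)
    rw [Groth.L21.Mod.isZero_iff_support_eq_empty, Groth.Agent.S4357.result (f.fiberι y) _ hQft] at hz
    obtain ⟨w, hw⟩ : x₀ ∈ Set.range (f.fiberι y) := by
      rw [Scheme.Hom.range_fiberι]; rfl
    have hw' : w ∈ (f.fiberι y).base ⁻¹' CohB1.support (cokernel ε) := by
      show f.fiberι y w ∈ CohB1.support (cokernel ε)
      rw [hw]; exact hx₀
    rw [hz] at hw'
    exact hw'
  obtain ⟨ι, p, hp⟩ := hE
  haveI := hp
  haveI : PreservesColimitsOfSize.{0, 0} (Scheme.Modules.pullback f) := (pullbackPushforwardAdjunction f).leftAdjoint_preservesColimits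
  let e : (Scheme.Modules.pullback f).obj (SheafOfModules.free ι : Y.Modules) ≅ (SheafOfModules.free ι : X.Modules) :=
    SheafOfModules.pullbackObjFreeIso _ ι
  exact ⟨ι, e.inv ≫ (Scheme.Modules.pullback f).map p ≫ ε, inferInstance⟩

end Groth.Lead.GGFib
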