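import Mathlib.AlgebraicGeometry.Fiber
import Mathlib.AlgebraicGeometry.Pullbacks
import Mathlib.AlgebraicGeometry.Morphisms.Finite
import Mathlib.AlgebraicGeometry.Morphisms.Preimmersion
import Mathlib.AlgebraicGeometry.Morphisms.FiniteType
import Mathlib.AlgebraicGeometry.Morphisms.ClosedImmersion
import Mathlib.RingTheory.Etale.Field
import Mathlib.RingTheory.Jacobson.Ring
import Mathlib.RingTheory.ZariskisMainTheorem
import Mathlib.FieldTheory.IsAlgClosed.AlgebraicClosure
import Mathlib.LinearAlgebra.Dimension.Constructions

/-!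
Over a perfect field the number of geometric points over a closed point is the degree of its residue field.
-/

set_option autoImplicit false
set_option linter.style.haveILetI false
set_option backward.defeqAttrib.useBackward true
set_option backward.isDefEq.respectTransparency false
set_option backward.isDefEq.respectTransparency.types false

universe u

open CategoryTheory CategoryTheory.Limits AlgebraicGeometry TensorProduct

noncomputable section

namespace Groth.Lead.GeomPointCount

theorem card_primeSpectrum (k K : Type u) [Field k] [Field K] [Algebra k K] [PerfectField k]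
    [Module.Finite k K] :
    Finite (PrimeSpectrum (K ⊗[k] AlgebraicClosure k)) ∧
      Nat.card (PrimeSpectrum (K ⊗[k] AlgebraicClosure k)) = Module.finrank k K := by
  let L := AlgebraicClosure k
  haveI : Algebra.FormallyEtale k K := Algebra.FormallyEtale.of_isSeparable k K
  let e := PrimeSpectrum.comapEquiv (Algebra.TensorProduct.comm k K L).toRingEquiv
  haveI : Module.Finite L (L ⊗[k] K) := inferInstance
  haveI : IsArtinianRing (L ⊗[k] K) := isArtinian_of_tower L inferInstance
  haveI : Finite (PrimeSpectrum (L ⊗[k] K)) := inferInstance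
  refine ⟨Finite.of_equiv _ e.symm.toEquiv, ?_⟩
  rw [Nat.card_congr e.toEquiv]
  haveI := Fintype.ofFinite (PrimeSpectrum (L ⊗[k] K))
  have h1 := (Algebra.FormallyEtale.equivPiOfIsSepClosed L (L ⊗[k] K)).toLinearEquiv.finrank_eq
  rw [Module.finrank_baseChange, Module.finrank_fintype_fun_eq_card, ← Nat.card_eq_fintype_card] at h1
  exact h1.symm

variable {k : Type u} [Field k] {X : Scheme.{u}} (sX : X ⟶ Spec (CommRingCat.of k))

/-- the structure map of a residue field -/
def resAlg (x : X) : CommRingCat.of k ⟶ X.residueField x := Spec.preimage (X.fromSpecResidueField x ≫ sX)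

theorem finite_resAlg [LocallyOfFiniteType sX] (x : X) (hx : IsClosed ({x} : Set X)) :
    (resAlg sX x).hom.Finite := by
  haveI : IsClosedImmersion (X.fromSpecResidueField x) := IsClosedImmersion.of_isPreimmersion _ (by
    rw [Scheme.range_fromSpecResidueField]; exact hx)
  have h : LocallyOfFiniteType (Spec.map (resAlg sX x)) := by
    rw [resAlg, Spec.map_preimage]; infer_instance
  have h1 : (resAlg sX x).hom.FiniteType := (HasRingHomProperty.Spec_iff (P := @LocallyOfFiniteType)).1 h
  algebraize [(resAlg sX x).hom]
  haveI : Algebra.FiniteType k (X.residueField x) := h1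
  have h2 : Module.Finite k (X.residueField x) := finite_of_finite_type_of_isJacobsonRing k _
  exact h2

theorem encard_fibre [PerfectField k] [LocallyOfFiniteType sX] (x : X) (hx : IsClosed ({x} : Set X))
    (i : Spec (CommRingCat.of (AlgebraicClosure k)) ⟶ Spec (CommRingCat.of k))
    (hi : i = Spec.map (CommRingCat.ofHom (algebraMap k (AlgebraicClosure k)))) :
    ((pullback.fst sX i).base ⁻¹' {x}).encard =
      (letI := (resAlg sX x).hom.toAlgebra; Module.finrank k (X.residueField x) : ℕ∞) := by
  letI := (resAlg sX x).hom.toAlgebra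
  haveI : Module.Finite k (X.residueField x) := finite_resAlg sX x hx
  subst hi
  have hs : X.fromSpecResidueField x ≫ sX =
      Spec.map (CommRingCat.ofHom (algebraMap k (X.residueField x))) := by
    exact (Spec.map_preimage _).symm
  let π := pullback.fst sX (Spec.map (CommRingCat.ofHom (algebraMap k (AlgebraicClosure k))))
  let e : π.fiber x ≅ Spec (CommRingCat.of (X.residueField x ⊗[k] AlgebraicClosure k)) :=
    pullbackSymmetry _ _ ≪≫ pullbackRightPullbackFstIso sX _ (X.fromSpecResidueField x) ≪≫
      pullback.congrHom hs rfl ≪≫ pullbackSpecIso k (X.residueField x) (AlgebraicClosure k)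
  obtain ⟨hfin, hcard⟩ := card_primeSpectrum k (X.residueField x)
  let E : ↥(π.base ⁻¹' {x}) ≃ PrimeSpectrum (X.residueField x ⊗[k] AlgebraicClosure k) :=
    (π.fiberHomeo x).symm.toEquiv.trans (Scheme.homeoOfIso e).toEquiv
  rw [← hcard]
  show (π.base ⁻¹' {x}).encard = _
  haveI : Finite ↥(π.base ⁻¹' {x}) := Finite.of_equiv _ E.symm
  rw [← Nat.card_congr E, Nat.card_coe_set_eq]
  exact (Set.Finite.cast_ncard_eq (Set.toFinite _)).symm

variable [PerfectField k] {Y : Scheme.{u}} (sY : Y ⟶ Spec (CommRingCat.of k))

theorem le_and_iff [LocallyOfFiniteType sX] [LocallyOfFiniteType sY] (φ : X ⟶ Y) (hφ : φ ≫ sY = sX) [IsFinite φ]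
    (i : Spec (CommRingCat.of (AlgebraicClosure k)) ⟶ Spec (CommRingCat.of k))
    (hi : i = Spec.map (CommRingCat.ofHom (algebraMap k (AlgebraicClosure k))))
    (φbar : pullback sX i ⟶ pullback sY i)
    (h1 : φbar ≫ pullback.fst sY i = pullback.fst sX i ≫ φ) (x : X) (hx : IsClosed ({x} : Set X)) :
    ((pullback.fst sY i).base ⁻¹' {φ.base x}).encard ≤ ((pullback.fst sX i).base ⁻¹' {x}).encard ∧
      (((pullback.fst sY i).base ⁻¹' {φ.base x}).encard = ((pullback.fst sX i).base ⁻¹' {x}).encard ↔
          Function.Bijective (φ.residueFieldMap x).hom) ∧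
      (Set.InjOn φbar.base ((pullback.fst sX i).base ⁻¹' {x}) →
        ((pullback.fst sY i).base ⁻¹' {φ.base x}).encard = ((pullback.fst sX i).base ⁻¹' {x}).encard) := by
  have hy : IsClosed ({φ.base x} : Set Y) := by
    have := φ.isClosedMap _ hx
    rwa [Set.image_singleton] at this
  have hc : resAlg sY (φ.base x) ≫ φ.residueFieldMap x = resAlg sX x := by
    apply Spec.map_injective
    rw [Spec.map_comp, resAlg, resAlg, Spec.map_preimage, Spec.map_preimage,
      Scheme.Hom.SpecMap_residueFieldMap_fromSpecResidueField_assoc, hφ]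
  rw [encard_fibre sX x hx i hi, encard_fibre sY (φ.base x) hy i hi]
  letI := (resAlg sX x).hom.toAlgebra
  letI := (resAlg sY (φ.base x)).hom.toAlgebra
  haveI : Module.Finite k (X.residueField x) := finite_resAlg sX x hx
  haveI : Module.Finite k (Y.residueField (φ.base x)) := finite_resAlg sY _ hy
  let l : Y.residueField (φ.base x) →ₐ[k] X.residueField x :=
    { (φ.residueFieldMap x).hom with commutes' := fun r => congr(($hc).hom r) }
  have hinj : Function.Injective l.toLinearMap := (φ.residueFieldMap x).hom.injective
  have hle := LinearMap.finrank_le_finrank_of_injective hinj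
  refine ⟨by exact_mod_cast hle, ⟨fun he => ⟨hinj, ?_⟩, fun hb => ?_⟩, fun hinjOn => ?_⟩
  · exact (LinearMap.injective_iff_surjective_of_finrank_eq_finrank (by exact_mod_cast he)).1 hinj
  · exact_mod_cast (LinearEquiv.ofBijective l.toLinearMap hb).finrank_eq
  · refine le_antisymm (by exact_mod_cast hle) ?_
    rw [← encard_fibre sX x hx i hi, ← encard_fibre sY (φ.base x) hy i hi]
    refine Set.encard_le_encard_of_injOn (fun w hw => ?_) hinjOn
    show pullback.fst sY i (φbar w) = φ x
    rw [← Scheme.Hom.comp_apply, h1, Scheme.Hom.comp_apply]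
    exact congrArg φ hw

end Groth.Lead.GeomPointCount
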