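import Groth.Agent.S4113
import Groth.Agent.L05.Point.FibreGlobal
import Mathlib.AlgebraicGeometry.Morphisms.FlatRank
import Mathlib.AlgebraicGeometry.Morphisms.QuasiFinite
import Mathlib.AlgebraicGeometry.Group.Affine

/-! # Quasi-finite flat group schemes of invertible order are étale -/

set_option autoImplicit false
set_option linter.style.haveILetI false
set_option backward.isDefEq.respectTransparency.types false

universe u

open CategoryTheory AlgebraicGeometry Limits MonObj CartesianMonoidalCategory

namespace Groth.Lead.GrpEtale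

/-- A finite group scheme over a field of order prime to the characteristic is étale. -/
theorem etale_field {k : Type u} [Field k] (P : Over (Spec (CommRingCat.of k))) [GrpObj P]
    [IsFinite P.hom] (h : ∀ s, (P.hom.finrank s : k) ≠ 0) : Etale P.hom := by
  haveI : IsAffine P.left := isAffine_of_isAffineHom P.hom
  obtain ⟨H', ⟨e⟩⟩ := (essImage_hopfSpec (G := Grp.mk P)).mpr ‹IsAffine P.left›
  let H : Type u := H'.unop
  let χ : (Spec (CommRingCat.of H)).asOver (Spec (CommRingCat.of k)) ⟶ P := e.hom.hom.hom
  haveI : IsIso χ := ⟨e.inv.hom.hom, congrArg (fun f => f.hom.hom) e.hom_inv_id,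
    congrArg (fun f => f.hom.hom) e.inv_hom_id⟩
  let χl : Spec (CommRingCat.of H) ⟶ P.left := χ.left
  haveI : IsIso χl := inferInstanceAs (IsIso ((Over.forget _).map χ))
  have hw : χl ≫ P.hom = Spec.map (CommRingCat.ofHom (algebraMap k H)) := Over.w χ
  haveI hf : IsFinite (Spec.map (CommRingCat.ofHom (algebraMap k H))) := hw ▸ inferInstance
  haveI : Module.Finite k H := RingHom.finite_algebraMap.mp ((IsFinite.SpecMap_iff _).mp hf)
  haveI : Module.Flat k H := Module.Flat.of_free
  haveI : Flat P.hom := by
    haveI : Flat (χl ≫ P.hom) := by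
      rw [hw]; exact Flat.SpecMap_iff.mpr (RingHom.flat_algebraMap_iff.mpr inferInstance)
    exact (MorphismProperty.cancel_left_of_respectsIso @Flat χl P.hom).mp inferInstance
  have hrank : (Module.finrank k H : k) ≠ 0 := by
    let s : Spec (CommRingCat.of k) := IsLocalRing.closedPoint k
    have h1 : P.hom.finrank s = Module.finrank k H := by
      rw [← Scheme.Hom.finrank_comp_left_of_isIso χl P.hom, hw,
        Scheme.Hom.finrank_SpecMap_algebraMap, Module.rankAtStalk_eq_finrank_of_free]
      rfl
    rw [← h1]
    exact h s
  haveI : Algebra.Etale k H := Groth.Agent.S4113.result k H hrank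
  haveI : Etale (χl ≫ P.hom) := by
    rw [hw]
    exact (HasRingHomProperty.Spec_iff (P := @Etale)).mpr (RingHom.etale_algebraMap.mpr inferInstance)
  exact (MorphismProperty.cancel_left_of_respectsIso @Etale χl P.hom).mp inferInstance

/-- A flat group scheme whose fibres are finite of invertible order is étale. -/
theorem etale_of_fibres {S : Scheme.{u}} (G : Over S) [GrpObj G] [Flat G.hom]
    [LocallyOfFinitePresentation G.hom] [LocallyQuasiFinite G.hom] [QuasiCompact G.hom]
    (h : ∀ (s : S) (x : ↥(Spec (S.residueField s))),
      ((pullback.snd G.hom (S.fromSpecResidueField s)).finrank x : S.residueField s) ≠ 0) :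
    Etale G.hom := by
  refine (Groth.L05.Point.etale_iff_fibres (𝟙 S) G.hom G.hom (Category.comp_id _)).2 fun s => ?_
  let t := S.fromSpecResidueField s
  let P : Over (Spec (CommRingCat.of (S.residueField s))) := (Over.pullback t).obj G
  letI : GrpObj P := Functor.grpObjObj
  haveI : IsFinite P.hom := IsFinite.of_locallyQuasiFinite (pullback.snd G.hom t)
  have hP : Etale (pullback.snd G.hom t) := etale_field P (fun x => h s x)
  let e : (𝟙 S : S ⟶ S).fiber s ⟶ Spec (S.residueField s) := pullback.snd _ _
  have hι : (𝟙 S : S ⟶ S).fiberι s = e ≫ t := (Category.comp_id _).symm.trans pullback.condition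
  have h1 : Etale (pullback.snd G.hom (e ≫ t)) := by
    rw [← pullbackLeftPullbackSndIso_inv_snd_snd G.hom t e]
    exact (MorphismProperty.cancel_left_of_respectsIso @Etale _ _).mpr
      (MorphismProperty.pullback_snd (P := @Etale) _ _ hP)
  rw [hι]
  exact h1

end Groth.Lead.GrpEtale
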