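import Groth.Agent.S5319
import Groth.Agent.L08.AbelianGrp
import Groth.Agent.L08.GrpDim
import Mathlib.AlgebraicGeometry.ZariskisMainTheorem

/-!
# Where a homomorphism of group schemes is quasi-finite
-/

set_option autoImplicit false
set_option linter.style.haveILetI false
universe u

open CategoryTheory CategoryTheory.Limits MonoidalCategory CartesianMonoidalCategory MonObj GrpObj AlgebraicGeometry

set_option backward.isDefEq.respectTransparency.types false

namespace Groth.Lead.HomLocus

/-- Quasi-finite at a point means isolated in its fibre. -/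
theorem quasiFiniteAt_iff_isolated {X Y : Scheme.{u}} (f : X ⟶ Y) [LocallyOfFiniteType f] (x : X) :
    f.QuasiFiniteAt x ↔ ∃ O : Set X, IsOpen O ∧ x ∈ O ∧ ∀ z ∈ O, f z = f x → z = x := by
  rw [Scheme.Hom.quasiFiniteAt_iff_isOpen_singleton_asFiber, ← (f.fiberHomeo (f x)).isOpen_image]
  simp only [Set.image_singleton, Scheme.Hom.asFiber, Homeomorph.apply_symm_apply]
  rw [isOpen_induced_iff]
  constructor
  · rintro ⟨O, hO, he⟩
    exact ⟨O, hO, he.ge (Set.mem_singleton _), fun z hz hzx =>
      congrArg Subtype.val (he.le (show (⟨z, hzx⟩ : f ⁻¹' {f x}) ∈ Subtype.val ⁻¹' O from hz))⟩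
  · rintro ⟨O, hO, hx, h⟩
    refine ⟨O, hO, Set.ext fun z => ⟨fun hz => Subtype.ext (h z.1 hz z.2), ?_⟩⟩
    rintro rfl
    exact hx

section Field

variable {k : Type u} [Field k]

/-- A group scheme locally of finite type over a field with open unit is discrete. -/
theorem discrete_of_isOpen_one (G : Over (Spec (CommRingCat.of k))) [GrpObj G] [LocallyOfFiniteType G.hom]
    (h : IsOpen ({Groth.L25.Component.one G} : Set G.left)) : DiscreteTopology G.left := by
  obtain ⟨n, hn, hdim⟩ := Groth.L08.GrpDim.exists_dim G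
  have hc := Groth.L08.GrpDim.isClosed_one G
  have h0 := hn (Groth.L25.Component.one G) fun w hw => hw.mem_open h rfl
  rw [hc.closure_eq] at h0
  haveI : IsLocallyNoetherian G.left := LocallyOfFiniteType.isLocallyNoetherian G.hom
  haveI : IsLocallyArtinian G.left := IsLocallyArtinian.of_topologicalKrullDim_le_zero <| by
    rw [hdim, ← h0]
    exact topologicalKrullDim_zero_of_discreteTopology _
  infer_instance

/-- A homomorphism over a field which is quasi-finite at one point is locally quasi-finite. -/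
theorem locallyQuasiFinite_of_quasiFiniteAt (G H : Over (Spec (CommRingCat.of k))) [GrpObj G] [GrpObj H]
    [LocallyOfFiniteType G.hom] (v : G ⟶ H) [IsMonHom v] [LocallyOfFiniteType v.left] {x : G.left}
    (hx : v.left.QuasiFiniteAt x) : LocallyQuasiFinite v.left := by
  obtain ⟨K, _, i, _, _, -, hK⟩ := Groth.L08.AbelianGrp.exists_kernel v
  haveI : LocallyOfFiniteType K.hom := by
    rw [← Over.w i]; infer_instance
  let a₀ := G.left.fromSpecResidueField x
  let T : Over (Spec (CommRingCat.of k)) := Over.mk (a₀ ≫ G.hom)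
  let a : T ⟶ G := Over.homMk a₀ rfl
  let F := pullback v (a ≫ v)
  have hp : ((pullback.fst v (a ≫ v)) * (pullback.snd v (a ≫ v) ≫ a)⁻¹) ≫ v = toUnit F ≫ η[H] := by
    rw [MonObj.mul_comp, GrpObj.inv_comp, pullback.condition, Category.assoc, mul_inv_cancel, Hom.one_def]
  let q : F ⟶ K := hK.lift (pullback.fst v (a ≫ v) * (pullback.snd v (a ≫ v) ≫ a)⁻¹) (toUnit F) hp
  have hq : q ≫ i = pullback.fst v (a ≫ v) * (pullback.snd v (a ≫ v) ≫ a)⁻¹ := hK.lift_fst _ _ _
  haveI : Mono i := Over.mono_of_mono_left i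
  have hl : ∀ {W : Over (Spec (CommRingCat.of k))} (b : W ⟶ K) (c : W ⟶ T),
      ((b ≫ i) * (c ≫ a)) ≫ v = c ≫ a ≫ v := by
    intro W b c
    rw [MonObj.mul_comp, Category.assoc, hK.w, ← Category.assoc,
      Subsingleton.elim (b ≫ toUnit K) (toUnit W), ← Hom.one_def, _root_.one_mul, Category.assoc]
  have hsq : IsPullback q (pullback.snd v (a ≫ v)) (toUnit K) (toUnit T) := by
    refine ⟨⟨Subsingleton.elim _ _⟩, ⟨PullbackCone.IsLimit.mk _
      (fun s => pullback.lift ((s.fst ≫ i) * (s.snd ≫ a)) s.snd (hl _ _))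
      (fun s => ?_) (fun s => pullback.lift_snd _ _ _) (fun s m h₁ h₂ => ?_)⟩⟩
    · rw [← cancel_mono i, Category.assoc, hq, MonObj.comp_mul, GrpObj.comp_inv,
        pullback.lift_fst, pullback.lift_snd_assoc, mul_inv_cancel_right]
    · apply pullback.hom_ext
      · rw [pullback.lift_fst, ← h₁, ← h₂, Category.assoc, hq, MonObj.comp_mul, GrpObj.comp_inv,
          ← Category.assoc m _ a, inv_mul_cancel_right]
      · rw [pullback.lift_snd, ← h₂]
  let δ : T ⟶ F := pullback.lift a (𝟙 T) (by rw [Category.id_comp])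
  have hδ : δ ≫ q = toUnit T ≫ η[K] := by
    rw [← cancel_mono i, Category.assoc, hq, Category.assoc, IsMonHom.one_hom i, MonObj.comp_mul,
      GrpObj.comp_inv, pullback.lift_fst, pullback.lift_snd_assoc, Category.id_comp, mul_inv_cancel,
      Hom.one_def]
  have hq' : IsPullback q.left (pullback.snd v (a ≫ v)).left (toUnit K).left (toUnit T).left :=
    IsPullback.map (Over.forget _) hsq
  haveI : UniversallyOpen q.left := by
    refine MorphismProperty.of_isPullback hq'.flip ?_
    have e : (toUnit T).left = T.hom := (Category.comp_id _).symm.trans (Over.w (toUnit T))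
    rw [e]
    haveI : Subsingleton (Spec (CommRingCat.of k) : Scheme.{u}) := inferInstanceAs (Subsingleton (PrimeSpectrum k))
    exact inferInstanceAs (UniversallyOpen (a₀ ≫ G.hom : Spec (G.left.residueField x) ⟶ Spec (CommRingCat.of k)))
  have hF : IsPullback (pullback.fst v (a ≫ v)).left (pullback.snd v (a ≫ v)).left v.left (a ≫ v).left :=
    IsPullback.map (Over.forget _) (IsPullback.of_hasPullback v (a ≫ v))
  obtain ⟨O, hO, hxO, hiso⟩ := (quasiFiniteAt_iff_isolated v.left x).1 hx
  let W := v.left.quasiFiniteLocus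
  haveI : LocallyOfFiniteType (W.ι ≫ v.left) := inferInstance
  haveI : LocallyQuasiFinite (W.ι ≫ v.left) := by
    rw [← Scheme.Hom.quasiFiniteLocus_eq_top_iff, Scheme.Hom.quasiFiniteLocus_comp]
    ext z
    exact ⟨fun _ => trivial, fun _ => z.2⟩
  let j := pullback.fst (pullback.fst v (a ≫ v)).left W.ι
  haveI : LocallyQuasiFinite (j ≫ (pullback.snd v (a ≫ v)).left) :=
    MorphismProperty.of_isPullback
      (((IsPullback.of_hasPullback (pullback.fst v (a ≫ v)).left W.ι).paste_horiz hF.flip).flip)
      ‹LocallyQuasiFinite (W.ι ≫ v.left)›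
  haveI : IsLocallyArtinian T.left := inferInstanceAs (IsLocallyArtinian (Spec (G.left.residueField x)))
  haveI := IsLocallyArtinian.of_locallyQuasiFinite (j ≫ (pullback.snd v (a ≫ v)).left)
  let c : T.left := IsLocalRing.closedPoint (G.left.residueField x)
  have hfst : (pullback.fst v (a ≫ v)).left (δ.left c) = x := by
    rw [← Scheme.Hom.comp_apply, ← Over.comp_left, pullback.lift_fst]
    exact Scheme.fromSpecResidueField_apply x c
  obtain ⟨z, hz⟩ : δ.left c ∈ Set.range j := by
    rw [Scheme.Pullback.range_fst]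
    exact ⟨⟨x, hx⟩, hfst.symm⟩
  have hopen := q.left.isOpenMap _ (j.isOpenEmbedding.isOpenMap _ (isOpen_discrete ({z} : Set _)))
  rw [Set.image_singleton, Set.image_singleton, hz] at hopen
  have hqc : q.left (δ.left c) = Groth.L25.Component.one K := by
    rw [← Scheme.Hom.comp_apply, ← Over.comp_left, hδ, Over.comp_left, Scheme.Hom.comp_apply]
    exact congrArg η[K].left (Subsingleton.elim (α := PrimeSpectrum k) _ _)
  haveI : DiscreteTopology K.left := discrete_of_isOpen_one K (hqc ▸ hopen)
  have hG : ∀ s : Spec (CommRingCat.of k), LocallyOfFiniteType (G.hom.fiberToSpecResidueField s) :=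
    fun s => inferInstanceAs (LocallyOfFiniteType (pullback.snd _ _))
  exact (Groth.Agent.S5319.result _ G H v hG K i hK).2.2.2 fun s => inferInstance

end Field

/-- The quasi-finite locus of a homomorphism is the preimage of the quasi-finite fibres. -/
theorem quasiFiniteAt_iff_fibre {S : Scheme.{u}} {G H : Over S} [GrpObj G] [GrpObj H] (v : G ⟶ H)
    [IsMonHom v] [LocallyOfFiniteType v.left]
    (hG : ∀ s : S, LocallyOfFiniteType (G.hom.fiberToSpecResidueField s)) (x : G.left) :
    v.left.QuasiFiniteAt x ↔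
      LocallyQuasiFinite ((Over.pullback (S.fromSpecResidueField (G.hom x))).map v).left := by
  let t := S.fromSpecResidueField (G.hom x)
  let G' : Over (Spec (CommRingCat.of (S.residueField (G.hom x)))) := (Over.pullback t).obj G
  let H' : Over (Spec (CommRingCat.of (S.residueField (G.hom x)))) := (Over.pullback t).obj H
  letI : GrpObj G' := Functor.grpObjObj
  letI : GrpObj H' := Functor.grpObjObj
  let vk : G' ⟶ H' := (Over.pullback t).map v
  have sq : IsPullback vk.left (pullback.fst G.hom t) (pullback.fst H.hom t) v.left :=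
    Groth.L08.MulEtale.isPullback_map t v
  haveI : LocallyOfFiniteType vk.left := MorphismProperty.of_isPullback sq.flip ‹LocallyOfFiniteType v.left›
  haveI : IsMonHom vk := inferInstanceAs (IsMonHom ((Over.pullback t).map v))
  haveI : LocallyOfFiniteType G'.hom := hG (G.hom x)
  let p : G'.left ⟶ G.left := pullback.fst G.hom t
  let r : H'.left ⟶ H.left := pullback.fst H.hom t
  have hrange : ∀ y, y ∈ Set.range p ↔ G.hom y = G.hom x := fun y => by
    rw [show Set.range p = G.hom ⁻¹' Set.range t from Scheme.Pullback.range_fst _ _,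
      Scheme.range_fromSpecResidueField]
    rfl
  have hp : Topology.IsEmbedding p := (G.hom.fiberι (G.hom x)).isEmbedding
  have hr : Function.Injective r := (H.hom.fiberι (G.hom x)).isEmbedding.injective
  have hcomm : ∀ z, r (vk.left z) = v.left (p z) := fun z => by
    rw [← Scheme.Hom.comp_apply, ← Scheme.Hom.comp_apply]
    exact congrArg (fun φ : G'.left ⟶ H.left => φ z) sq.w
  obtain ⟨x', hx'⟩ := (hrange x).2 rfl
  rw [quasiFiniteAt_iff_isolated]
  constructor
  · rintro ⟨O, hO, hxO, h⟩
    refine locallyQuasiFinite_of_quasiFiniteAt G' H' vk (x := x')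
      ((quasiFiniteAt_iff_isolated _ _).2 ⟨p ⁻¹' O, hO.preimage p.continuous,
        show p x' ∈ O from hx'.symm ▸ hxO, fun z hz hzx => ?_⟩)
    exact hp.injective ((h (p z) hz (((hcomm z).symm.trans (congrArg r hzx)).trans ((hcomm x').trans (congrArg v.left hx')))).trans hx'.symm)
  · intro hlq
    haveI : LocallyQuasiFinite vk.left := hlq
    obtain ⟨O', hO', hxO', h⟩ := (quasiFiniteAt_iff_isolated _ _).1 (vk.left.quasiFiniteAt x')
    obtain ⟨O, hO, rfl⟩ := hp.toIsInducing.isOpen_iff.1 hO'
    refine ⟨O, hO, hx' ▸ hxO', fun z hz hzx => ?_⟩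
    have hz' : G.hom z = G.hom x := by
      rw [← Over.w v, Scheme.Hom.comp_apply, Scheme.Hom.comp_apply, hzx]
    obtain ⟨z', hz2⟩ := (hrange z).2 hz'
    exact hz2.symm.trans ((congrArg p (h z' (show p z' ∈ O from hz2.symm ▸ hz) (hr ((hcomm z').trans ((congrArg v.left hz2).trans (hzx.trans ((congrArg v.left hx').symm.trans (hcomm x').symm))))))).trans hx')

end Groth.Lead.HomLocus
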