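import Groth.Agent.L08.MulEtaleBC
import Groth.Agent.L11.Magnet.Factor
import Groth.Agent.S3034
import Groth.Prelude.Def_Red

/-!
# Properties of homomorphisms of group schemes read off the kernel
-/

set_option autoImplicit false
set_option linter.style.haveILetI false
universe u

open CategoryTheory CategoryTheory.Limits MonoidalCategory CartesianMonoidalCategory MonObj GrpObj AlgebraicGeometry

set_option backward.isDefEq.respectTransparency.types false

namespace Groth.Lead.HomProper

/-- The self base change of a homomorphism is a base change of its kernel. -/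
theorem snd_self_of_ker {P : MorphismProperty Scheme.{u}} [P.IsStableUnderBaseChange]
    {S : Scheme.{u}} {G H : Over S} [GrpObj G] [GrpObj H] (v : G ⟶ H) [IsMonHom v]
    (h : P (pullback.snd v.left (η[H] : 𝟙_ (Over S) ⟶ H).left)) :
    P (pullback.snd v.left v.left) := by
  let N := pullback v η[H]
  let i : N ⟶ G := pullback.fst v η[H]
  have hK : IsPullback i (toUnit N) v η[H] := by
    have h0 := IsPullback.of_hasPullback v η[H]
    rwa [show pullback.snd v η[H] = toUnit N from Subsingleton.elim _ _] at h0
  have hN : P (toUnit N).left := by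
    have e : IsPullback i.left (toUnit N).left v.left η[H].left := IsPullback.map (Over.forget S) hK
    rw [← e.isoPullback_hom_snd]
    exact (MorphismProperty.cancel_left_of_respectsIso P _ _).mpr h
  let Q := pullback v v
  let p₁ : Q ⟶ G := pullback.fst v v
  let p₂ : Q ⟶ G := pullback.snd v v
  have hp : (p₁ * p₂⁻¹) ≫ v = toUnit Q ≫ η[H] := by
    rw [MonObj.mul_comp, GrpObj.inv_comp, pullback.condition, mul_inv_cancel, Hom.one_def]
  let q : Q ⟶ N := hK.lift (p₁ * p₂⁻¹) (toUnit Q) hp
  have hq : q ≫ i = p₁ * p₂⁻¹ := hK.lift_fst _ _ _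
  have hmono : Mono i := by
    haveI : Mono η[H] := by
      haveI : IsSplitMono η[H] := IsSplitMono.mk' ⟨toUnit H, Subsingleton.elim _ _⟩
      infer_instance
    exact hK.mono_fst_of_mono
  have hl : ∀ {T : Over S} (a : T ⟶ N) (b : T ⟶ G), ((a ≫ i) * b) ≫ v = b ≫ v := by
    intro T a b
    rw [MonObj.mul_comp, Category.assoc, hK.w, ← Category.assoc,
      Subsingleton.elim (a ≫ toUnit N) (toUnit T), ← Hom.one_def, _root_.one_mul]
  have hsq : IsPullback q p₂ (toUnit N) (toUnit G) := by
    refine ⟨⟨Subsingleton.elim _ _⟩, ⟨PullbackCone.IsLimit.mk _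
      (fun s => pullback.lift ((s.fst ≫ i) * s.snd) s.snd (hl _ _))
      (fun s => ?_) (fun s => pullback.lift_snd _ _ _) (fun s m h₁ h₂ => ?_)⟩⟩
    · rw [← cancel_mono i, Category.assoc, hq, MonObj.comp_mul, GrpObj.comp_inv,
        pullback.lift_fst, pullback.lift_snd, mul_inv_cancel_right]
    · apply pullback.hom_ext
      · rw [pullback.lift_fst, ← h₁, ← h₂, Category.assoc, hq, MonObj.comp_mul, GrpObj.comp_inv,
          inv_mul_cancel_right]
      · rw [pullback.lift_snd, ← h₂]
  have hQ : IsPullback p₁.left p₂.left v.left v.left :=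
    IsPullback.map (Over.forget S) (IsPullback.of_hasPullback v v)
  rw [← hQ.isoPullback_inv_snd]
  exact (MorphismProperty.cancel_left_of_respectsIso P _ _).mpr
    (MorphismProperty.of_isPullback (IsPullback.map (Over.forget S) hsq) hN)

/-- The self base change of a base change is a base change of the self base change. -/
theorem snd_self_bc {P : MorphismProperty Scheme.{u}} [P.IsStableUnderBaseChange]
    {X Y X' Y' : Scheme.{u}} {f : X ⟶ Y} {g : X' ⟶ Y'} {a : X' ⟶ X} {b : Y' ⟶ Y}
    (sq : IsPullback a g f b) (h : P (pullback.snd f f)) : P (pullback.snd g g) := by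
  have h2 : P (pullback.snd f (a ≫ f)) := by
    rw [← pullbackLeftPullbackSndIso_inv_snd_snd f f a]
    exact (MorphismProperty.cancel_left_of_respectsIso P _ _).mpr
      (MorphismProperty.pullback_snd (P := P) _ _ h)
  have sq2 : IsPullback (pullback.fst g g ≫ a) (pullback.snd g g) f (a ≫ f) := by
    rw [sq.w]
    exact (IsPullback.of_hasPullback g g).paste_horiz sq
  rw [← sq2.isoPullback_hom_snd]
  exact (MorphismProperty.cancel_left_of_respectsIso P _ _).mpr h2

/-- Over a field, a quasi-compact homomorphism inherits from its kernel the properties which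
descend along fppf covers and hold for closed immersions. -/
theorem field_case {P : MorphismProperty Scheme.{u}} [P.IsStableUnderBaseChange]
    [P.IsStableUnderComposition]
    [P.DescendsAlong (@Surjective ⊓ @Flat ⊓ @QuasiCompact : MorphismProperty Scheme.{u})]
    (hci : ∀ {X Y : Scheme.{u}} (j : X ⟶ Y), IsClosedImmersion j → P j)
    {k : Type u} [Field k] {G H : Over (Spec (CommRingCat.of k))} [GrpObj G] [GrpObj H]
    [LocallyOfFiniteType G.hom] [LocallyOfFiniteType H.hom] (v : G ⟶ H) [IsMonHom v]
    [QuasiCompact v.left] (h : P (pullback.snd v.left v.left)) : P v.left := by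
  haveI : Flat G.hom := Groth.L11.Magnet.flat_of_field G
  obtain ⟨C, _, p, i, _, _, hpi, hpf, hps, -, hi⟩ := Groth.Agent.S3034.result k G H v
    (Groth.L11.Magnet.flat_of_field (Over.mk (pullback.snd v.left
      (η[H] : 𝟙_ (Over (Spec (CommRingCat.of k))) ⟶ H).left)))
  subst hpi
  haveI := hi
  haveI : QuasiCompact (p.left ≫ i.left) := ‹QuasiCompact (p ≫ i).left›
  haveI : QuasiCompact p.left := QuasiCompact.of_comp p.left i.left
  have hk : IsKernelPair (p.left ≫ i.left) (pullback.fst p.left p.left) (pullback.snd p.left p.left) :=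
    IsKernelPair.comp_of_mono (IsPullback.of_hasPullback p.left p.left)
  have hpp : P (pullback.snd p.left p.left) := by
    rw [← hk.isoPullback_hom_snd]
    exact (MorphismProperty.cancel_left_of_respectsIso P _ _).mpr h
  exact P.comp_mem p.left i.left (MorphismProperty.of_isPullback_of_descendsAlong
    (Q := @Surjective ⊓ @Flat ⊓ @QuasiCompact) (IsPullback.of_hasPullback p.left p.left).flip
    ⟨⟨hps, hpf⟩, ‹_›⟩ hpp) (hci i.left hi)

end Groth.Lead.HomProper
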