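import Groth.Agent.Lead.HomProper
import Groth.Agent.L25.Artinian.Reduce
import Groth.Agent.L20.ThickeningTopology

/-! # Reduction to the closed fibre for properness and finiteness of homomorphisms -/

set_option autoImplicit false
set_option linter.style.haveILetI false
universe u

open CategoryTheory CategoryTheory.Limits MonoidalCategory CartesianMonoidalCategory MonObj GrpObj AlgebraicGeometry

set_option backward.isDefEq.respectTransparency.types false

namespace Groth.Lead.HomProper

theorem comp_fst_of_ker {A : Type u} [CommRing A] [IsArtinianRing A] [IsLocalRing A]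
    {G H : Over (Spec (CommRingCat.of A))} [GrpObj G] [GrpObj H]
    [LocallyOfFiniteType G.hom] [LocallyOfFiniteType H.hom] (v : G ⟶ H) [IsMonHom v] [QuasiCompact v.left]
    {P : MorphismProperty Scheme.{u}} [P.IsStableUnderBaseChange] [P.IsStableUnderComposition]
    [P.DescendsAlong (@Surjective ⊓ @Flat ⊓ @QuasiCompact : MorphismProperty Scheme.{u})]
    (hci : ∀ {X Y : Scheme.{u}} (j : X ⟶ Y), IsClosedImmersion j → P j)
    (h : P (pullback.snd v.left (η[H] : 𝟙_ (Over (Spec (CommRingCat.of A))) ⟶ H).left)) :
    IsClosedImmersion (pullback.fst G.hom (Groth.L25.Artinian.res A)) ∧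
      Surjective (pullback.fst G.hom (Groth.L25.Artinian.res A)) ∧
      P (pullback.fst G.hom (Groth.L25.Artinian.res A) ≫ v.left) := by
  let θ := Groth.L25.Artinian.res A
  haveI hθ : IsClosedImmersion θ := (Groth.L25.Artinian.res_props A).1
  haveI hθs : Surjective θ := (Groth.L25.Artinian.res_props A).2
  haveI : LocallyOfFiniteType (Red.bc θ G).hom := MorphismProperty.pullback_snd _ _ ‹_›
  haveI : LocallyOfFiniteType (Red.bc θ H).hom := MorphismProperty.pullback_snd _ _ ‹_›
  have sq : IsPullback (pullback.fst G.hom θ) ((Over.pullback θ).map v).left v.left (pullback.fst H.hom θ) :=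
    (Groth.L08.MulEtale.isPullback_map θ v).flip
  haveI : QuasiCompact ((Over.pullback θ).map v).left :=
    MorphismProperty.of_isPullback sq ‹QuasiCompact v.left›
  have hk : P ((Over.pullback θ).map v).left :=
    field_case hci (G := Red.bc θ G) (H := Red.bc θ H) ((Over.pullback θ).map v) (snd_self_bc sq (snd_self_of_ker v h))
  refine ⟨MorphismProperty.pullback_fst _ _ hθ, MorphismProperty.pullback_fst _ _ hθs, ?_⟩
  rw [sq.w]
  exact P.comp_mem _ _ hk (hci _ (MorphismProperty.pullback_fst _ _ hθ))

end Groth.Lead.HomProper
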