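import Groth.Agent.Lead.AcyclicBC
import Mathlib.AlgebraicGeometry.Morphisms.QuasiFinite
import Mathlib.AlgebraicGeometry.Morphisms.Integral

/-! # Integrality of strict henselizations along integral and quasi-finite morphisms -/

set_option autoImplicit false
set_option linter.style.haveILetI false

universe u

open CategoryTheory CategoryTheory.Limits AlgebraicGeometry Opposite IsLocalRing

namespace Groth.Lead.AcyclicBC

/-- An affine chart on which the ring map is ind-quasi-finite gives integrality. -/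
theorem isIntegral_of_chart {S S' : Scheme.{u}} (g : S' ⟶ S) (s' : S') (U : S.Opens) (hU : IsAffineOpen U)
    (V : S'.Opens) (hV : IsAffineOpen V) (e : V ≤ g ⁻¹ᵁ U) (hs' : s' ∈ V)
    (H : letI := (g.appLE U V e).hom.toAlgebra
      ∀ t : Finset Γ(S', V), ∃ B₀ : Subalgebra Γ(S, U) Γ(S', V), (↑t : Set Γ(S', V)) ⊆ ↑B₀ ∧
        Algebra.FiniteType Γ(S, U) ↥B₀ ∧ Algebra.QuasiFinite Γ(S, U) ↥B₀)
    (RS RS' : Type u) [CommRing RS] [IsLocalRing RS] [CommRing RS'] [IsLocalRing RS']
    [Algebra (S.presheaf.stalk (g.base s')) RS] [IsLocalHom (algebraMap (S.presheaf.stalk (g.base s')) RS)]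
    [hR : Hensel.IsStrictHenselization (S.presheaf.stalk (g.base s')) RS]
    [Algebra (S'.presheaf.stalk s') RS'] [IsLocalHom (algebraMap (S'.presheaf.stalk s') RS')]
    [hR' : Hensel.IsStrictHenselization (S'.presheaf.stalk s') RS']
    [Algebra RS RS'] [IsLocalHom (algebraMap RS RS')]
    (h : (algebraMap RS RS').comp (algebraMap (S.presheaf.stalk (g.base s')) RS) =
      (algebraMap (S'.presheaf.stalk s') RS').comp (g.stalkMap s').hom) : Algebra.IsIntegral RS RS' := by
  letI := (g.appLE U V e).hom.toAlgebra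
  have hgs : g.base s' ∈ U := e hs'
  haveI := hR.henselian
  haveI := hR'.henselian
  haveI : IsSepClosed (ResidueField RS) := hR.isSepClosure.sep_closed
  letI a1 : Algebra Γ(S, U) (S.presheaf.stalk (g.base s')) := (S.presheaf.germ U _ hgs).hom.toAlgebra
  letI a2 : Algebra Γ(S', V) (S'.presheaf.stalk s') := (S'.presheaf.germ V _ hs').hom.toAlgebra
  haveI := hU.isLocalization_stalk ⟨g.base s', hgs⟩
  haveI := hV.isLocalization_stalk ⟨s', hs'⟩
  letI : Algebra Γ(S, U) RS :=
    ((algebraMap (S.presheaf.stalk (g.base s')) RS).comp (algebraMap Γ(S, U) _)).toAlgebra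
  letI : Algebra Γ(S', V) RS' :=
    ((algebraMap (S'.presheaf.stalk s') RS').comp (algebraMap Γ(S', V) _)).toAlgebra
  haveI : IsScalarTower Γ(S, U) (S.presheaf.stalk (g.base s')) RS := IsScalarTower.of_algebraMap_eq' rfl
  haveI : IsScalarTower Γ(S', V) (S'.presheaf.stalk s') RS' := IsScalarTower.of_algebraMap_eq' rfl
  haveI : Algebra.WeaklyEtale Γ(S, U) RS :=
    Groth.L05.HensTensor.weaklyEtale_of_localization_trans _ (S.presheaf.stalk (g.base s')) RS
      (hU.primeIdealOf ⟨g.base s', hgs⟩).asIdeal.primeCompl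
      (Groth.L05.Henselization.isIndEtale_of_isStrictHenselization _ RS)
  haveI : Algebra.WeaklyEtale Γ(S', V) RS' :=
    Groth.L05.HensTensor.weaklyEtale_of_localization_trans _ (S'.presheaf.stalk s') RS'
      (hV.primeIdealOf ⟨s', hs'⟩).asIdeal.primeCompl
      (Groth.L05.Henselization.isIndEtale_of_isStrictHenselization _ RS')
  letI : Algebra Γ(S, U) RS' := ((algebraMap Γ(S', V) RS').comp (g.appLE U V e).hom).toAlgebra
  haveI : IsScalarTower Γ(S, U) Γ(S', V) RS' := IsScalarTower.of_algebraMap_eq' rfl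
  haveI : IsScalarTower Γ(S, U) RS RS' := IsScalarTower.of_algebraMap_eq fun r => by
    have h1 : (g.stalkMap s').hom (S.presheaf.germ U _ hgs r) =
        S'.presheaf.germ V _ hs' (g.appLE U V e r) := by
      rw [← CommRingCat.comp_apply, ← CommRingCat.comp_apply, Scheme.Hom.germ_stalkMap,
        Scheme.Hom.appLE, Category.assoc, TopCat.Presheaf.germ_res]
    show algebraMap (S'.presheaf.stalk s') RS' (S'.presheaf.germ V _ hs' (g.appLE U V e r)) =
      algebraMap RS RS' (algebraMap (S.presheaf.stalk (g.base s')) RS (S.presheaf.germ U _ hgs r))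
    rw [← h1]
    exact (RingHom.congr_fun h _).symm
  exact Groth.L05.HensTensor.isIntegral_of_indQuasiFinite (R := Γ(S, U)) (S := Γ(S', V)) H

theorem integralSH_of_isIntegralHom {S S' : Scheme.{u}} (g : S' ⟶ S) [IsIntegralHom g] : IntegralSH g := by
  intro s' RS RS' _ _ _ _ _ _ _ _ _ _ _ _ h
  obtain ⟨_, ⟨U, hU, rfl⟩, hxU, -⟩ := S.isBasis_affineOpens.exists_subset_of_mem_open
    (Set.mem_univ (g.base s')) isOpen_univ
  refine isIntegral_of_chart g s' U hU (g ⁻¹ᵁ U) (hU.preimage g) le_rfl hxU ?_ RS RS' h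
  letI := (g.appLE U (g ⁻¹ᵁ U) le_rfl).hom.toAlgebra
  haveI : Algebra.IsIntegral Γ(S, U) Γ(S', g ⁻¹ᵁ U) := ⟨fun x => by
    have := IsIntegralHom.isIntegral_app g U hU x
    rwa [Scheme.Hom.app_eq_appLE] at this⟩
  intro t
  refine ⟨Algebra.adjoin Γ(S, U) ↑t, Algebra.subset_adjoin, ?_⟩
  haveI : Module.Finite Γ(S, U) (Algebra.adjoin Γ(S, U) (↑t : Set Γ(S', g ⁻¹ᵁ U))) :=
    ⟨(Submodule.fg_top _).mpr (fg_adjoin_of_finite t.finite_toSet fun x _ => Algebra.IsIntegral.isIntegral x)⟩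
  exact ⟨inferInstance, inferInstance⟩

theorem integralSH_of_locallyQuasiFinite {S S' : Scheme.{u}} (g : S' ⟶ S) [LocallyOfFiniteType g]
    [LocallyQuasiFinite g] : IntegralSH g := by
  intro s' RS RS' _ _ _ _ _ _ _ _ _ _ _ _ h
  obtain ⟨_, ⟨U, hU, rfl⟩, hxU, -⟩ := S.isBasis_affineOpens.exists_subset_of_mem_open
    (Set.mem_univ (g.base s')) isOpen_univ
  obtain ⟨_, ⟨V, hV, rfl⟩, hxV, e⟩ := S'.isBasis_affineOpens.exists_subset_of_mem_open
    (show s' ∈ g ⁻¹ᵁ U from hxU) (g ⁻¹ᵁ U).2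
  refine isIntegral_of_chart g s' U hU V hV e hxV ?_ RS RS' h
  letI := (g.appLE U V e).hom.toAlgebra
  haveI hft : Algebra.FiniteType Γ(S, U) Γ(S', V) := g.finiteType_appLE hU hV e
  haveI hqf : Algebra.QuasiFinite Γ(S, U) Γ(S', V) := LocallyQuasiFinite.quasiFinite_appLE (f := g) hU hV e
  intro t
  refine ⟨⊤, by simp, ?_, ?_⟩
  · exact Algebra.FiniteType.equiv hft Subalgebra.topEquiv.symm
  · exact .of_surjective_algHom (f := (Subalgebra.topEquiv (R := Γ(S, U)) (A := Γ(S', V))).symm.toAlgHom) (Subalgebra.topEquiv.symm).surjective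

end Groth.Lead.AcyclicBC
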