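import Groth.Agent.L08.InvFinite
import Mathlib.RingTheory.FiniteType

/-!
# Invariants of algebras of finite type over a noetherian base algebra
-/

set_option linter.style.haveILetI false

universe u v w w'

open TensorProduct

noncomputable section

namespace Groth.Lead.InvFiniteRel

open Groth.L08

variable {k : Type u} [Field k] {A : Type v} [CommRing A] [HopfAlgebra k A]
  {R : Type w} [CommRing R] [Algebra k R] [HopfRep.Comod k A R] [GLin.IsCoactAlg k A R]

section Poly

variable {σ : Type w'} [Finite σ] [HopfRep.Comod k A (MvPolynomial σ R)]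
  [GLin.IsCoactAlg k A (MvPolynomial σ R)]

/-- homogeneous parts as `k`-subspaces -/
abbrev hom (σ : Type w') (k : Type u) [Field k] (R : Type w) [CommRing R] [Algebra k R] (d : ℕ) :
    Submodule k (MvPolynomial σ R) := (MvPolynomial.homogeneousSubmodule σ R d).restrictScalars k

theorem isSubcomod_hom
    (hC : Hoch.IsComodHom A (IsScalarTower.toAlgHom k R (MvPolynomial σ R)).toLinearMap)
    (hlin : ∀ i : σ, HopfRep.Comod.coact (k := k) (A := A) (MvPolynomial.X i : MvPolynomial σ R) ∈
      LinearMap.range ((hom σ k R 1).subtype.rTensor A)) (d : ℕ) :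
    HopfRep.IsSubcomod (k := k) (A := A) (hom σ k R d) := by
  classical
  let L : ℕ → Submodule k (MvPolynomial σ R ⊗[k] A) := fun m =>
    LinearMap.range ((hom σ k R m).subtype.rTensor A)
  have hmul : ∀ {a b : ℕ} {x y : MvPolynomial σ R ⊗[k] A}, x ∈ L a → y ∈ L b → x * y ∈ L (a + b) := by
    rintro a b _ _ ⟨x, rfl⟩ ⟨y, rfl⟩
    induction x with
    | zero => simp [L]
    | add u v hu hv => simpa only [map_add, add_mul] using add_mem hu hv
    | tmul p s =>
      induction y with
      | zero => simp [L]
      | add u v hu hv => simpa only [map_add, mul_add] using add_mem hu hv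
      | tmul q t =>
        exact ⟨⟨_, MvPolynomial.IsHomogeneous.mul p.2 q.2⟩ ⊗ₜ[k] (s * t), by simp⟩
  have hone : (1 : MvPolynomial σ R ⊗[k] A) ∈ L 0 :=
    ⟨⟨1, MvPolynomial.isHomogeneous_one σ R⟩ ⊗ₜ[k] 1, by simp [Algebra.TensorProduct.one_def]⟩
  let ρ : MvPolynomial σ R →ₐ[k] MvPolynomial σ R ⊗[k] A := GLin.coactAlgHom k A (MvPolynomial σ R)
  have hcst : ∀ r : R, ρ (MvPolynomial.C r) ∈ L 0 := by
    intro r
    refine ⟨((IsScalarTower.toAlgHom k R (MvPolynomial σ R)).toLinearMap.codRestrict (hom σ k R 0)
      fun x => MvPolynomial.isHomogeneous_C σ x).rTensor A (HopfRep.Comod.coact (k := k) (A := A) r), ?_⟩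
    rw [← LinearMap.rTensor_comp_apply]
    erw [LinearMap.subtype_comp_codRestrict]
    exact (LinearMap.congr_fun hC r).symm
  have hpow : ∀ (i : σ) (m : ℕ), ρ (MvPolynomial.X i ^ m) ∈ L m := by
    intro i m
    induction m with
    | zero => simpa using hone
    | succ m ih => rw [pow_succ, map_mul]; exact hmul ih (hlin i)
  have hmon : ∀ e : σ →₀ ℕ, ρ (MvPolynomial.monomial e 1) ∈ L e.degree := by
    intro e
    induction e using Finsupp.induction with
    | zero => simpa using hone
    | single_add i m e _ _ ih =>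
      rw [MvPolynomial.monomial_single_add, map_mul, map_add Finsupp.degree, Finsupp.degree_single]
      exact hmul (hpow i m) ih
  intro p hp
  change ρ p ∈ L d
  rw [MvPolynomial.as_sum p, map_sum]
  refine sum_mem fun e he => ?_
  have hdeg : e.degree = d := by
    have := (show MvPolynomial.IsHomogeneous p d from hp) (MvPolynomial.mem_support_iff.1 he)
    rwa [Finsupp.degree_eq_weight_one]
  rw [← hdeg, ← mul_one (p.coeff e), ← MvPolynomial.C_mul_monomial, map_mul]
  simpa using hmul (hcst _) (hmon e)

/-- Hilbert's theorem over a noetherian base algebra. -/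
theorem exists_finset_invariants_poly [IsNoetherianRing R] (h : HopfRep.IsLinearlyReductive k A)
    (hC : Hoch.IsComodHom A (IsScalarTower.toAlgHom k R (MvPolynomial σ R)).toLinearMap)
    (hlin : ∀ i : σ, HopfRep.Comod.coact (k := k) (A := A) (MvPolynomial.X i : MvPolynomial σ R) ∈
      LinearMap.range ((hom σ k R 1).subtype.rTensor A)) :
    ∃ s : Finset (MvPolynomial σ R),
      (∀ f ∈ s, f ∈ HopfRep.fixedPts k A (MvPolynomial σ R)) ∧
      ∀ f ∈ HopfRep.fixedPts k A (MvPolynomial σ R),
        f ∈ Algebra.adjoin k (⇑(MvPolynomial.C : R →+* MvPolynomial σ R) '' ↑(GLin.invariants k A R) ∪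
          (s : Set (MvPolynomial σ R))) := by
  classical
  obtain ⟨α, hα⟩ := exists_isIntegral h
  let Φ := HopfRep.fixedPts k A (MvPolynomial σ R)
  have hcomp : ∀ f ∈ Φ, ∀ d, MvPolynomial.homogeneousComponent d f ∈ Φ := by
    intro f hf d
    have hd : ∀ j, rey _ α (MvPolynomial.homogeneousComponent j f) ∈
        MvPolynomial.homogeneousSubmodule σ R j := fun j =>
      rey_mem_of_isSubcomod (isSubcomod_hom hC hlin j) α
        (MvPolynomial.homogeneousComponent_mem j f)
    have key : MvPolynomial.homogeneousComponent d f =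
        rey _ α (MvPolynomial.homogeneousComponent d f) := by
      conv_lhs => rw [← hα.rey_eq hf, ← MvPolynomial.sum_homogeneousComponent f, map_sum, map_sum]
      rw [Finset.sum_eq_single d]
      · rw [MvPolynomial.homogeneousComponent_of_mem (hd d), if_pos rfl]
      · intro j _ hj
        rw [MvPolynomial.homogeneousComponent_of_mem (hd j), if_neg (Ne.symm hj)]
      · intro hd'
        rw [MvPolynomial.homogeneousComponent_eq_zero d f (by simpa using hd'), map_zero, map_zero]
    rw [key]
    exact hα.rey_mem _
  let G : Set (MvPolynomial σ R) :=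
    {f | f ∈ Φ ∧ ∃ e, 0 < e ∧ f ∈ MvPolynomial.homogeneousSubmodule σ R e}
  obtain ⟨s, hsG, hspan⟩ := (Submodule.fg_span_iff_fg_span_finset_subset
    (R := MvPolynomial σ R) G).1 (IsNoetherian.noetherian _)
  refine ⟨s, fun f hf => (hsG hf).1, ?_⟩
  suffices hd : ∀ d, ∀ f ∈ Φ, f ∈ MvPolynomial.homogeneousSubmodule σ R d →
      f ∈ Algebra.adjoin k (⇑(MvPolynomial.C : R →+* MvPolynomial σ R) '' ↑(GLin.invariants k A R) ∪
          (s : Set (MvPolynomial σ R))) by
    intro f hf
    rw [← MvPolynomial.sum_homogeneousComponent f]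
    exact sum_mem fun j _ => hd j _ (hcomp f hf j) (MvPolynomial.homogeneousComponent_mem j f)
  intro d
  induction d using Nat.strong_induction_on with
  | _ d ih =>
    intro f hf hfd
    rcases Nat.eq_zero_or_pos d with rfl | hd
    · have h0 := MvPolynomial.homogeneousComponent_of_mem (m := 0) hfd
      rw [if_pos rfl, MvPolynomial.homogeneousComponent_zero] at h0
      rw [← h0]
      refine Algebra.subset_adjoin (Or.inl ⟨_, ?_, rfl⟩)
      have hf' : HopfRep.Comod.coact (k := k) (A := A) f = f ⊗ₜ[k] (1 : A) := hf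
      rw [← h0] at hf'
      let c₀ : MvPolynomial σ R →ₗ[k] R :=
        (MvPolynomial.lcoeff R (0 : σ →₀ ℕ)).restrictScalars k
      have hid : c₀ ∘ₗ (IsScalarTower.toAlgHom k R (MvPolynomial σ R)).toLinearMap = LinearMap.id :=
        LinearMap.ext fun r => MvPolynomial.coeff_zero_C r
      have hCc : HopfRep.Comod.coact (k := k) (A := A) (MvPolynomial.C (f.coeff 0)) =
          (IsScalarTower.toAlgHom k R (MvPolynomial σ R)).toLinearMap.rTensor A
            (HopfRep.Comod.coact (k := k) (A := A) (f.coeff 0)) := LinearMap.congr_fun hC _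
      have e := congrArg (c₀.rTensor A) (hCc.symm.trans hf')
      rw [← LinearMap.rTensor_comp_apply, hid, LinearMap.rTensor_id, LinearMap.id_apply,
        LinearMap.rTensor_tmul] at e
      exact e.trans (by simp [c₀])
    · obtain ⟨c, -, hc⟩ := (Submodule.mem_span_finset (R := MvPolynomial σ R)).1
        (hspan ▸ Submodule.subset_span ⟨hf, d, hd, hfd⟩ :
          f ∈ Submodule.span (MvPolynomial σ R) (s : Set (MvPolynomial σ R)))
      have e : f = ∑ y ∈ s, MvPolynomial.homogeneousComponent d (rey _ α (c y) * y) := by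
        rw [← map_sum]
        have e1 : ∑ y ∈ s, rey _ α (c y) * y = f := by
          rw [← hα.rey_eq hf]
          conv_rhs => rw [← hc, map_sum]
          refine Finset.sum_congr rfl fun y hy => ?_
          rw [smul_eq_mul, rey_mul_fixed α (c y) (hsG hy).1]
        rw [e1, MvPolynomial.homogeneousComponent_of_mem hfd, if_pos rfl]
      rw [e]
      refine sum_mem fun y hy => ?_
      obtain ⟨hyΦ, ey, hey, hyP⟩ := hsG hy
      conv in rey _ α (c y) * y => rw [← MvPolynomial.sum_homogeneousComponent (rey _ α (c y))]
      rw [Finset.sum_mul, map_sum]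
      refine sum_mem fun j _ => ?_
      rw [MvPolynomial.homogeneousComponent_of_mem
        (MvPolynomial.IsHomogeneous.mul (MvPolynomial.homogeneousComponent_isHomogeneous j _) hyP)]
      split_ifs with hdj
      · exact mul_mem (ih j (by omega) _ (hcomp _ (hα.rey_mem _) j)
          (MvPolynomial.homogeneousComponent_mem j _)) (Algebra.subset_adjoin (Or.inr hy))
      · exact zero_mem _

end Poly

/-- Invariants of an algebra of finite type over a noetherian base algebra. -/
theorem exists_finset_invariants [IsNoetherianRing R] {C : Type w'} [CommRing C] [Algebra k C]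
    [Algebra R C] [IsScalarTower k R C] [Algebra.FiniteType R C]
    [HopfRep.Comod k A C] [GLin.IsCoactAlg k A C] (h : HopfRep.IsLinearlyReductive k A)
    (hRC : Hoch.IsComodHom A (IsScalarTower.toAlgHom k R C).toLinearMap) :
    ∃ s : Finset C, GLin.invariants k A C =
      Algebra.adjoin k (⇑(algebraMap R C) '' ↑(GLin.invariants k A R) ∪ ↑s) := by
  classical
  obtain ⟨α, hα⟩ := exists_isIntegral h
  obtain ⟨t, ht⟩ := (‹Algebra.FiniteType R C›).out
  obtain ⟨W, hW1, htW, hW2⟩ := exists_finite_subcomod_of_finset (k := k) (A := A) t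
  haveI := hW1
  letI cW := ComodSub.Comod.restr ‹HopfRep.Comod k A C› W hW2
  let ι := Fin (Module.finrank k W)
  let b' : Module.Basis ι k W := Module.finBasis k W
  let τ := ULift.{w'} ι
  let lin : W →ₗ[k] MvPolynomial τ R := b'.constr k fun i => MvPolynomial.X ⟨i⟩
  have hlinb : ∀ i, lin (b' i) = MvPolynomial.X ⟨i⟩ := fun i => b'.constr_basis k _ i
  let Cₐ : R →ₐ[k] MvPolynomial τ R := IsScalarTower.toAlgHom k R (MvPolynomial τ R)
  let ψ : R →ₐ[k] MvPolynomial τ R ⊗[k] A :=
    (Algebra.TensorProduct.map Cₐ (AlgHom.id k A)).comp (GLin.coactAlgHom k A R)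
  let ρ₀ : MvPolynomial τ R →ₐ[k] MvPolynomial τ R ⊗[k] A :=
    { MvPolynomial.eval₂Hom ψ.toRingHom fun i => lin.rTensor A (cW.coact (b' i.down)) with
      commutes' := fun c => by
        change MvPolynomial.eval₂Hom ψ.toRingHom _ (MvPolynomial.C (algebraMap k R c)) = _
        rw [MvPolynomial.eval₂Hom_C]
        exact ψ.commutes c }
  have hρC : ∀ r, ρ₀ (MvPolynomial.C r) = ψ r := fun r => MvPolynomial.eval₂Hom_C _ _ r
  have hρX : ∀ i, ρ₀ (MvPolynomial.X i) = lin.rTensor A (cW.coact (b' i.down)) := fun i =>
    MvPolynomial.eval₂Hom_X' _ _ i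
  have hψ : ∀ r, ψ r = Cₐ.toLinearMap.rTensor A (HopfRep.Comod.coact (k := k) (A := A) r) := fun _ => rfl
  have hρc : ρ₀.toLinearMap ∘ₗ Cₐ.toLinearMap =
      Cₐ.toLinearMap.rTensor A ∘ₗ HopfRep.Comod.coact (k := k) (A := A) :=
    LinearMap.ext fun r => (hρC r).trans (hψ r)
  have hρlin : ρ₀.toLinearMap ∘ₗ lin = lin.rTensor A ∘ₗ cW.coact := by
    refine b'.ext fun i => ?_
    simp only [LinearMap.comp_apply, hlinb, AlgHom.toLinearMap_apply, hρX]
  have hext : ∀ {B : Type (max (max w w') v)} [CommRing B] [Algebra k B] (f g : MvPolynomial τ R →ₐ[k] B),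
      (∀ r, f (MvPolynomial.C r) = g (MvPolynomial.C r)) → (∀ i, f (MvPolynomial.X i) = g (MvPolynomial.X i)) →
      f = g := fun f g h1 h2 => AlgHom.coe_ringHom_injective (MvPolynomial.ringHom_ext h1 h2)
  letI cP : HopfRep.Comod k A (MvPolynomial τ R) :=
    { coact := ρ₀.toLinearMap
      coassoc := by
        have key : (Algebra.TensorProduct.assoc k k k (MvPolynomial τ R) A A).toAlgHom.comp
            ((Algebra.TensorProduct.map ρ₀ (AlgHom.id k A)).comp ρ₀) =
            (Algebra.TensorProduct.map (AlgHom.id k (MvPolynomial τ R))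
              (Bialgebra.comulAlgHom k A)).comp ρ₀ := by
          refine AlgHom.coe_ringHom_injective (MvPolynomial.ringHom_ext (fun r => ?_) fun i => ?_)
          · exact ComodTens.coassoc_apply_of_hom ‹HopfRep.Comod k A R› ρ₀.toLinearMap Cₐ.toLinearMap hρc r
          · have hX : MvPolynomial.X i = lin (b' i.down) := (hlinb i.down).symm
            rw [hX]
            exact ComodTens.coassoc_apply_of_hom cW ρ₀.toLinearMap lin hρlin (b' i.down)
        exact LinearMap.ext fun x => AlgHom.congr_fun key x
      counit_comp := by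
        have key : (Algebra.TensorProduct.map (AlgHom.id k (MvPolynomial τ R))
              (Bialgebra.counitAlgHom k A)).comp ρ₀ =
            (Algebra.TensorProduct.includeLeft : MvPolynomial τ R →ₐ[k] MvPolynomial τ R ⊗[k] k) := by
          refine AlgHom.coe_ringHom_injective (MvPolynomial.ringHom_ext (fun r => ?_) fun i => ?_)
          · exact ComodTens.counit_apply_of_hom ‹HopfRep.Comod k A R› ρ₀.toLinearMap Cₐ.toLinearMap hρc r
          · have hX : MvPolynomial.X i = lin (b' i.down) := (hlinb i.down).symm
            rw [hX]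
            exact ComodTens.counit_apply_of_hom cW ρ₀.toLinearMap lin hρlin (b' i.down)
        exact LinearMap.ext fun x => AlgHom.congr_fun key x }
  haveI : GLin.IsCoactAlg k A (MvPolynomial τ R) := ⟨map_one ρ₀, map_mul ρ₀⟩
  have hlin : ∀ i : τ, HopfRep.Comod.coact (k := k) (A := A) (MvPolynomial.X i : MvPolynomial τ R) ∈
      LinearMap.range ((hom τ k R 1).subtype.rTensor A) := by
    intro i
    have hmem : ∀ x, lin x ∈ hom τ k R 1 := by
      intro x
      rw [show lin x = ∑ j, b'.repr x j • MvPolynomial.X (⟨j⟩ : τ) from b'.constr_apply_fintype k _ x]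
      exact sum_mem fun j _ => Submodule.smul_mem _ _ (MvPolynomial.isHomogeneous_X R _)
    refine ⟨(lin.codRestrict _ hmem).rTensor A (cW.coact (b' i.down)), ?_⟩
    rw [← LinearMap.rTensor_comp_apply, LinearMap.subtype_comp_codRestrict]
    exact (hρX i).symm
  obtain ⟨s, hs, hs'⟩ := exists_finset_invariants_poly h hρc hlin
  let π₀ : MvPolynomial τ R →ₐ[R] C := MvPolynomial.aeval fun i => ((b' i.down : W) : C)
  let π : MvPolynomial τ R →ₐ[k] C := π₀.restrictScalars k
  have hπlin : π.toLinearMap ∘ₗ lin = W.subtype := b'.ext fun i => by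
    simp only [LinearMap.comp_apply, hlinb, AlgHom.toLinearMap_apply, π, π₀, AlgHom.restrictScalars_apply,
      MvPolynomial.aeval_X, Submodule.subtype_apply]
  have hπs : Function.Surjective π := by
    change Function.Surjective π₀
    rw [← AlgHom.range_eq_top, eq_top_iff, ← ht]
    refine Algebra.adjoin_le fun x hx => ⟨lin ⟨x, htW hx⟩, ?_⟩
    exact LinearMap.congr_fun hπlin ⟨x, htW hx⟩
  have hπ : Hoch.IsComodHom A π.toLinearMap := by
    have key : (GLin.coactAlgHom k A C).comp π =
        (Algebra.TensorProduct.map π (AlgHom.id k A)).comp ρ₀ := by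
      refine AlgHom.coe_ringHom_injective (MvPolynomial.ringHom_ext (fun r => ?_) fun i => ?_)
      · have h1 : π (MvPolynomial.C r) = algebraMap R C r := π₀.commutes r
        have h2 : π.toLinearMap ∘ₗ Cₐ.toLinearMap = (IsScalarTower.toAlgHom k R C).toLinearMap :=
          LinearMap.ext fun x => π₀.commutes x
        change HopfRep.Comod.coact (k := k) (A := A) (π (MvPolynomial.C r)) =
          π.toLinearMap.rTensor A (ρ₀ (MvPolynomial.C r))
        rw [h1, hρC, hψ, ← LinearMap.rTensor_comp_apply, h2]
        exact LinearMap.congr_fun hRC r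
      · have h1 : π (MvPolynomial.X i) = ((b' i.down : W) : C) := by simp [π, π₀]
        change HopfRep.Comod.coact (k := k) (A := A) (π (MvPolynomial.X i)) =
          π.toLinearMap.rTensor A (ρ₀ (MvPolynomial.X i))
        rw [h1, hρX, ← LinearMap.rTensor_comp_apply, hπlin]
        exact LinearMap.congr_fun (ComodSub.isComodHom_subtype _ W hW2) (b' i.down)
    exact LinearMap.ext fun x => AlgHom.congr_fun key x
  refine ⟨s.image π, le_antisymm (fun f hf => ?_) (Algebra.adjoin_le ?_)⟩
  · obtain ⟨g, hg, rfl⟩ := hα.exists_fixed_lift hπ hπs (w := f) hf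
    have h1 : π g ∈ (Algebra.adjoin k (⇑(MvPolynomial.C : R →+* MvPolynomial τ R) ''
        ↑(GLin.invariants k A R) ∪ (s : Set (MvPolynomial τ R)))).map π := ⟨g, hs' g hg, rfl⟩
    rw [← Algebra.adjoin_image, Set.image_union, Set.image_image] at h1
    rw [Finset.coe_image]
    refine Algebra.adjoin_mono (Set.union_subset_union_left _ ?_) h1
    rintro _ ⟨r, hr, rfl⟩
    exact ⟨r, hr, (π₀.commutes r).symm⟩
  · rintro f (⟨r, hr, rfl⟩ | hf)
    · have hr' : HopfRep.Comod.coact (k := k) (A := A) r = r ⊗ₜ[k] (1 : A) := hr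
      exact (LinearMap.congr_fun hRC r).trans (by simp [hr'])
    · obtain ⟨g, hg, rfl⟩ := Finset.mem_image.1 hf
      have hg' : HopfRep.Comod.coact (k := k) (A := A) g = g ⊗ₜ[k] (1 : A) := hs g hg
      exact (LinearMap.congr_fun hπ g).trans (by simp [hg'])

/-- `Σ coact(r₀) * (1 ⊗ S r₁) = r ⊗ 1`. -/
theorem untwist (r : R) :
    LinearMap.mul' k (R ⊗[k] A) (TensorProduct.map (GLin.coactAlgHom k A R).toLinearMap
      ((Algebra.TensorProduct.includeRight (R := k) (A := R) (B := A)).toLinearMap ∘ₗ
        HopfAlgebraStruct.antipode (R := k)) (HopfRep.Comod.coact (k := k) (A := A) r)) =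
      r ⊗ₜ[k] (1 : A) := by
  let U : R ⊗[k] (A ⊗[k] A) →ₗ[k] R ⊗[k] A :=
    (LinearMap.mul' k A ∘ₗ (HopfAlgebraStruct.antipode (R := k)).lTensor A).lTensor R
  let T : R ⊗[k] A →ₗ[k] R ⊗[k] A := LinearMap.mul' k (R ⊗[k] A) ∘ₗ TensorProduct.map
    (GLin.coactAlgHom k A R).toLinearMap
    ((Algebra.TensorProduct.includeRight : A →ₐ[k] R ⊗[k] A).toLinearMap ∘ₗ
      HopfAlgebraStruct.antipode (R := k))
  have h1 : ∀ z : R ⊗[k] A, T z = U (TensorProduct.assoc k R A A
      ((HopfRep.Comod.coact (k := k) (A := A) (V := R)).rTensor A z)) := by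
    intro z
    induction z with
    | zero => simp
    | add u v hu hv => simp only [map_add, hu, hv]
    | tmul p q =>
      simp only [T, LinearMap.comp_apply, TensorProduct.map_tmul, LinearMap.mul'_apply,
        LinearMap.rTensor_tmul, AlgHom.toLinearMap_apply, GLin.coactAlgHom_apply]
      induction HopfRep.Comod.coact (k := k) (A := A) p with
      | zero => simp
      | add u v hu hv => simp only [map_add, add_mul, add_tmul, hu, hv]
      | tmul m n => simp [U]
  have h2 : ∀ z : R ⊗[k] A, U ((Coalgebra.comul (R := k) (A := A)).lTensor R z) =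
      TensorProduct.rid k R ((Coalgebra.counit (R := k) (A := A)).lTensor R z) ⊗ₜ[k] (1 : A) := by
    intro z
    induction z with
    | zero => simp
    | add u v hu hv => simp only [map_add, add_tmul, hu, hv]
    | tmul p q => simp [U, Algebra.algebraMap_eq_smul_one, TensorProduct.smul_tmul']
  change T _ = _
  rw [h1, coassoc_apply, h2, counit_apply]
  simp

set_option maxHeartbeats 1000000 in
/-- A noetherian coaction algebra is of finite type over its invariants. -/
theorem finiteType_invariants [IsNoetherianRing R] [Algebra.FiniteType k A]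
    (h : HopfRep.IsLinearlyReductive k A) :
    Algebra.FiniteType ↥(GLin.invariants k A R) R := by
  classical
  let co : R →ₐ[k] R ⊗[k] A := GLin.coactAlgHom k A R
  letI : Algebra R (R ⊗[k] A) := co.toRingHom.toAlgebra
  haveI : @IsScalarTower k R (R ⊗[k] A) _ co.toRingHom.toAlgebra.toSMul _ :=
    IsScalarTower.of_algebraMap_eq fun c => (co.commutes c).symm
  let δ : R ⊗[k] A →ₐ[k] (R ⊗[k] A) ⊗[k] A :=
    (Algebra.TensorProduct.assoc k k k R A A).symm.toAlgHom.comp
      (Algebra.TensorProduct.map (AlgHom.id k R) (Bialgebra.comulAlgHom k A))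
  have hδ : ∀ z, δ z = (TensorProduct.assoc k R A A).symm
      ((Coalgebra.comul (R := k) (A := A)).lTensor R z) := fun z => by
    induction z with
    | zero => simp
    | add x y hx hy => simp only [map_add, hx, hy]
    | tmul x y =>
      simp only [δ, AlgHom.comp_apply, Algebra.TensorProduct.map_tmul, AlgHom.id_apply,
        Bialgebra.comulAlgHom_apply, LinearMap.lTensor_tmul]
      induction Coalgebra.comul (R := k) y with
      | zero => simp
      | add a b ha hb => simp only [TensorProduct.tmul_add, map_add, ha, hb]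
      | tmul a b => rfl
  letI cC : HopfRep.Comod k A (R ⊗[k] A) :=
    { coact := δ.toLinearMap
      coassoc := by
        refine TensorProduct.ext' fun r a => ?_
        have hc := LinearMap.congr_fun (Coalgebra.coassoc (R := k) (A := A)) a
        simp only [LinearMap.comp_apply, LinearEquiv.coe_coe] at hc
        let F : A ⊗[k] (A ⊗[k] A) →ₗ[k] (R ⊗[k] A) ⊗[k] (A ⊗[k] A) :=
          (TensorProduct.mk k R A r).rTensor (A ⊗[k] A)
        have hF := congrArg F hc
        have h1 : ∀ w : A ⊗[k] A, δ.toLinearMap.rTensor A ((TensorProduct.mk k R A r).rTensor A w) =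
            (TensorProduct.assoc k (R ⊗[k] A) A A).symm
              (F (TensorProduct.assoc k A A A ((Coalgebra.comul (R := k) (A := A)).rTensor A w))) := by
          intro w
          induction w with
          | zero => simp
          | add x y hx hy => simp only [map_add, hx, hy]
          | tmul x y =>
            simp only [LinearMap.rTensor_tmul, TensorProduct.mk_apply, AlgHom.toLinearMap_apply, hδ,
              LinearMap.lTensor_tmul]
            induction Coalgebra.comul (R := k) x with
            | zero => simp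
            | add a b ha hb => simp only [TensorProduct.add_tmul, TensorProduct.tmul_add, map_add, ha, hb]
            | tmul a b => simp [F]
        have h2 : δ.toLinearMap (r ⊗ₜ[k] a) =
            (TensorProduct.mk k R A r).rTensor A (Coalgebra.comul (R := k) a) := by
          simp only [AlgHom.toLinearMap_apply, hδ, LinearMap.lTensor_tmul]
          induction Coalgebra.comul (R := k) a with
          | zero => simp
          | add x y hx hy => simp only [TensorProduct.tmul_add, map_add, hx, hy]
          | tmul x y => simp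
        simp only [LinearMap.comp_apply, LinearEquiv.coe_coe, h2, h1, LinearEquiv.apply_symm_apply, hF]
        simp only [F]
        generalize Coalgebra.comul (R := k) a = w
        induction w with
        | zero => simp
        | add x y hx hy => simp only [map_add, hx, hy]
        | tmul x y => simp
      counit_comp := by
        refine TensorProduct.ext' fun r a => ?_
        simp only [LinearMap.comp_apply, AlgHom.toLinearMap_apply, hδ, LinearMap.lTensor_tmul]
        have hu : (Coalgebra.counit (R := k) (A := A)).lTensor A (Coalgebra.comul (R := k) a) = a ⊗ₜ[k] (1 : k) := by simp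
        have key : ∀ w : A ⊗[k] A, (Coalgebra.counit (R := k) (A := A)).lTensor (R ⊗[k] A)
            ((TensorProduct.assoc k R A A).symm (r ⊗ₜ[k] w)) =
            (TensorProduct.mk k R A r).rTensor k ((Coalgebra.counit (R := k) (A := A)).lTensor A w) := by
          intro w
          induction w with
          | zero => simp
          | add x y hx hy => simp only [TensorProduct.tmul_add, map_add, hx, hy]
          | tmul x y => simp
        rw [key, hu]
        simp }
  haveI : GLin.IsCoactAlg k A (R ⊗[k] A) := ⟨by
      change (TensorProduct.assoc k R A A).symm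
        ((Coalgebra.comul (R := k) (A := A)).lTensor R 1) = 1
      rw [← hδ, map_one], fun f g => by
      change (TensorProduct.assoc k R A A).symm ((Coalgebra.comul (R := k) (A := A)).lTensor R (f * g)) =
        (TensorProduct.assoc k R A A).symm ((Coalgebra.comul (R := k) (A := A)).lTensor R f) *
        (TensorProduct.assoc k R A A).symm ((Coalgebra.comul (R := k) (A := A)).lTensor R g)
      rw [← hδ, ← hδ, ← hδ, map_mul]⟩
  have hco : Hoch.IsComodHom A (IsScalarTower.toAlgHom k R (R ⊗[k] A)).toLinearMap := by
    refine LinearMap.ext fun r => ?_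
    change (TensorProduct.assoc k R A A).symm ((Coalgebra.comul (R := k) (A := A)).lTensor R
      (HopfRep.Comod.coact (k := k) (A := A) r)) = _
    rw [← coassoc_apply, LinearEquiv.symm_apply_apply]
    rfl
  haveI : Algebra.FiniteType R (R ⊗[k] A) := by
    obtain ⟨t, ht⟩ := (‹Algebra.FiniteType k A›).out
    refine ⟨⟨t.image Algebra.TensorProduct.includeRight, eq_top_iff.2 fun z _ => ?_⟩⟩
    let S := Algebra.adjoin R ((t.image (Algebra.TensorProduct.includeRight (R := k) (A := R) (B := A)) :
      Finset (R ⊗[k] A)) : Set (R ⊗[k] A))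
    have hA : ∀ a : A, (1 : R) ⊗ₜ[k] a ∈ S := by
      intro a
      have : a ∈ (S.restrictScalars k).comap (Algebra.TensorProduct.includeRight (R := k) (A := R) (B := A)) := by
        have hle : Algebra.adjoin k (t : Set A) ≤
            (S.restrictScalars k).comap (Algebra.TensorProduct.includeRight (R := k) (A := R) (B := A)) :=
          Algebra.adjoin_le fun x hx => Algebra.subset_adjoin (Finset.mem_image_of_mem _ hx)
        exact hle (ht ▸ Algebra.mem_top)
      exact this
    induction z with
    | zero => exact zero_mem _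
    | add x y hx hy => exact add_mem (hx trivial) (hy trivial)
    | tmul r a =>
      have key : ∀ w : R ⊗[k] A,
          LinearMap.mul' k (R ⊗[k] A) (TensorProduct.map co.toLinearMap
            ((Algebra.TensorProduct.includeRight (R := k) (A := R) (B := A)).toLinearMap ∘ₗ
              HopfAlgebraStruct.antipode (R := k)) w) ∈ S := by
        intro w
        induction w with
        | zero => simp
        | add x y hx hy => simpa only [map_add] using add_mem hx hy
        | tmul p q => exact mul_mem (S.algebraMap_mem p) (hA _)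
      have e : LinearMap.mul' k (R ⊗[k] A) (TensorProduct.map co.toLinearMap
            ((Algebra.TensorProduct.includeRight (R := k) (A := R) (B := A)).toLinearMap ∘ₗ
              HopfAlgebraStruct.antipode (R := k)) (HopfRep.Comod.coact (k := k) (A := A) r)) =
          r ⊗ₜ[k] (1 : A) := untwist r
      have := mul_mem (key (HopfRep.Comod.coact (k := k) (A := A) r)) (hA a)
      rw [e] at this
      simpa [S] using this
  obtain ⟨s, hs⟩ := exists_finset_invariants (C := R ⊗[k] A) h hco
  let ε : R ⊗[k] A →ₐ[k] R :=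
    (Algebra.TensorProduct.rid k k R).toAlgHom.comp
      (Algebra.TensorProduct.map (AlgHom.id k R) (Bialgebra.counitAlgHom k A))
  have hε : ∀ z, ε z = TensorProduct.rid k R ((Coalgebra.counit (R := k) (A := A)).lTensor R z) := fun z => by
    induction z with
    | zero => simp
    | add x y hx hy => simp only [map_add, hx, hy]
    | tmul x y => simp [ε]
  refine ⟨⟨s.image ε, eq_top_iff.2 fun r _ => ?_⟩⟩
  have hr : r ⊗ₜ[k] (1 : A) ∈ GLin.invariants k A (R ⊗[k] A) := by
    change (TensorProduct.assoc k R A A).symm
      ((Coalgebra.comul (R := k) (A := A)).lTensor R (r ⊗ₜ[k] (1 : A))) = _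
    simp [Algebra.TensorProduct.one_def]
  rw [hs] at hr
  have h1 : r ∈ (Algebra.adjoin k (⇑(algebraMap R (R ⊗[k] A)) '' ↑(GLin.invariants k A R) ∪ ↑s)).map ε :=
    ⟨_, hr, by simp [hε]⟩
  rw [← Algebra.adjoin_image, Set.image_union, Set.image_image] at h1
  have hle : Algebra.adjoin k ((fun x => ε (algebraMap R (R ⊗[k] A) x)) '' ↑(GLin.invariants k A R) ∪ ⇑ε '' ↑s) ≤
      (Algebra.adjoin ↥(GLin.invariants k A R) ((s.image ε : Finset R) : Set R)).restrictScalars k := by
    refine Algebra.adjoin_le ?_
    rintro _ (⟨c, hc, rfl⟩ | ⟨c, hc, rfl⟩)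
    · have hc' : HopfRep.Comod.coact (k := k) (A := A) c = c ⊗ₜ[k] (1 : A) := hc
      change ε (HopfRep.Comod.coact (k := k) (A := A) c) ∈ _
      rw [hε, counit_apply]
      rw [TensorProduct.rid_tmul, one_smul]
      exact Subalgebra.algebraMap_mem
        (Algebra.adjoin ↥(GLin.invariants k A R) ((s.image ε : Finset R) : Set R))
        (⟨c, hc⟩ : GLin.invariants k A R)
    · exact Algebra.subset_adjoin (Finset.mem_coe.2 (Finset.mem_image_of_mem _ hc))
  exact hle h1

end Groth.Lead.InvFiniteRel
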