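import Groth.Agent.L08.DeligneScheme
import Groth.Agent.L08.KilledByOrder

/-!
# A finite locally free group scheme over a reduced base is killed by its rank
-/

set_option autoImplicit false
set_option linter.style.haveILetI false
set_option backward.isDefEq.respectTransparency.types false

universe u

open CategoryTheory CategoryTheory.Limits AlgebraicGeometry MonoidalCategory MonObj CartesianMonoidalCategory
open Opposite TensorProduct
open WithConv
open Groth.L08.Deligne (finrank_eq_of_iso)

noncomputable section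

namespace Groth.Lead.KilledReduced

/-- The affine case. -/
theorem id_pow_eq_one_spec {R A : Type u} [CommRing R] [_root_.IsReduced R] [CommRing A] [HopfAlgebra R A]
    [Module.Finite R A] [Module.Projective R A] (n : ℕ)
    (hn : ∀ p : PrimeSpectrum R, Module.rankAtStalk (R := R) A p = n) :
    (𝟙 ((Spec (CommRingCat.of A)).asOver (Spec (CommRingCat.of R))) : _ ⟶ _) ^ n = 1 := by
  have h := Groth.L08.KilledByOrder.id_pow_eq_one (R₀ := R) (A := A) n hn
  have h' := congrArg (Spec.mapMulEquiv (R := R) (S := A) (T := A)) h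
  rw [map_pow, map_one] at h'
  convert h' using 2
  ext1
  show 𝟙 _ = Spec.map (CommRingCat.ofHom (AlgHom.id R A).toRingHom)
  exact (Spec.map_id _).symm

/-- Finite locally free group over a reduced affine base. -/
theorem pow_eq_one_affine {R : CommRingCat.{u}} [IsReduced (Spec R)] (G : Over (Spec R)) [GrpObj G]
    [IsFinite G.hom] [Flat G.hom] [LocallyOfFinitePresentation G.hom] (r : ℕ)
    (hr : ∀ s : Spec R, Scheme.Hom.finrank G.hom s = r) : (𝟙 G : G ⟶ G) ^ r = 1 := by
  haveI : IsAffine G.left := isAffine_of_isAffineHom G.hom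
  obtain ⟨H, ⟨e⟩⟩ := (essImage_hopfSpec (G := Grp.mk G)).mpr ‹IsAffine G.left›
  let X : Over (Spec R) := (Spec (CommRingCat.of H.unop)).asOver (Spec R)
  let φ : X ⟶ G := e.hom.hom.hom
  let ψ : G ⟶ X := e.inv.hom.hom
  have h1 : φ ≫ ψ = 𝟙 X := congrArg (fun f => f.hom.hom) e.hom_inv_id
  have h2 : ψ ≫ φ = 𝟙 G := congrArg (fun f => f.hom.hom) e.inv_hom_id
  haveI : IsMonHom φ := e.hom.hom.isMonHom_hom
  haveI : IsMonHom ψ := e.inv.hom.isMonHom_hom
  haveI : IsIso φ := ⟨ψ, h1, h2⟩
  haveI : IsIso φ.left := inferInstanceAs (IsIso ((Over.forget _).map φ))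
  let A := H.unop
  have hX : X.hom = Spec.map (CommRingCat.ofHom (algebraMap R A)) := rfl
  have hw : φ.left ≫ G.hom = X.hom := Over.w φ
  haveI hf : IsFinite X.hom := hw ▸ inferInstance
  haveI hfl : Flat X.hom := hw ▸ inferInstance
  haveI hfp : LocallyOfFinitePresentation X.hom := hw ▸ inferInstance
  rw [hX] at hf hfl hfp
  haveI : Module.Finite R A := RingHom.finite_algebraMap.mp ((IsFinite.SpecMap_iff _).mp hf)
  haveI : Module.Flat R A := RingHom.flat_algebraMap_iff.mp (Flat.SpecMap_iff.mp hfl)
  haveI : Algebra.FinitePresentation R A := RingHom.finitePresentation_algebraMap.mp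
    ((HasRingHomProperty.Spec_iff (P := @LocallyOfFinitePresentation)).mp hfp)
  have hn : ∀ p : PrimeSpectrum R, Module.rankAtStalk (R := R) A p = r := fun p => by
    rw [← Scheme.Hom.finrank_SpecMap_algebraMap R A p, ← hr p]
    exact (finrank_eq_of_iso φ.left G.hom (Spec.map (CommRingCat.ofHom (algebraMap R A))) (hw.trans hX) p)
  haveI : _root_.IsReduced R := (affine_isReduced_iff R).mp inferInstance
  haveI := Module.FinitePresentation.of_finite_of_finitePresentation R A
  haveI : Module.Projective R A := Module.Flat.projective_of_finitePresentation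
  have h : (𝟙 X : X ⟶ X) ^ r = 1 := id_pow_eq_one_spec (R := R) (A := A) r hn
  calc (𝟙 G : G ⟶ G) ^ r = (ψ ≫ (𝟙 X : X ⟶ X) ^ r) ≫ φ := by
        rw [MonObj.comp_pow, Category.comp_id, MonObj.pow_comp, h2]
    _ = 1 := by rw [h, MonObj.comp_one, MonObj.one_comp]

theorem pullback_fst_comp_pow {S : Scheme.{u}} [IsReduced S] (G : Over S) [GrpObj G]
    [IsFinite G.hom] [Flat G.hom] [LocallyOfFinitePresentation G.hom]
    (r : ℕ) (hr : ∀ s : S, Scheme.Hom.finrank G.hom s = r) {R : CommRingCat.{u}} (U : Spec R ⟶ S) (hU : IsReduced (Spec R)) :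
    pullback.fst G.hom U ≫ ((𝟙 G : G ⟶ G) ^ r).left = pullback.fst G.hom U ≫ (1 : G ⟶ G).left := by
  let GU := Red.bc U G
  letI : GrpObj GU := inferInstanceAs (GrpObj (Red.bc U G))
  haveI : IsFinite GU.hom := inferInstanceAs (IsFinite (pullback.snd G.hom U))
  haveI : Flat GU.hom := inferInstanceAs (Flat (pullback.snd G.hom U))
  haveI : LocallyOfFinitePresentation GU.hom := inferInstanceAs (LocallyOfFinitePresentation (pullback.snd G.hom U))
  have h := pow_eq_one_affine GU r fun s => (Scheme.Hom.finrank_pullback_snd G.hom U s).trans (hr _)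
  let he := (Over.mapPullbackAdj U).homEquiv GU G
  have hone : he 1 = 1 := by
    have h' := AlgGrp.Action.homEquiv_mul U (T' := GU) (1 : (Over.map U).obj GU ⟶ G) 1
    rw [_root_.mul_one] at h'
    exact left_eq_mul.mp h'
  have hpow : ∀ (k : ℕ) (γ : (Over.map U).obj GU ⟶ G), he (γ ^ k) = he γ ^ k := by
    intro k γ
    induction k with
    | zero => rw [pow_zero, pow_zero, hone]
    | succ k ih => rw [pow_succ, pow_succ, AlgGrp.Action.homEquiv_mul, ih]
  let ε : (Over.map U).obj GU ⟶ G := he.symm (𝟙 GU)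
  have hε : ε ^ r = 1 := he.injective (by rw [hpow, Equiv.apply_symm_apply, h, hone])
  have hεl : ε.left = pullback.fst G.hom U := by
    rw [← Groth.L08.ActSep.he_fst U ε, Equiv.apply_symm_apply]
    exact Category.id_comp _
  have hc : ε ≫ (𝟙 G : G ⟶ G) ^ r = ε ≫ 1 := by
    rw [MonObj.comp_pow, Category.comp_id, MonObj.comp_one, hε]
  have hl := congrArg (fun f => f.left) hc
  simp only [Over.comp_left, hεl] at hl
  exact hl


/-- A finite locally free group scheme over a reduced base is killed by its rank. -/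
theorem pow_eq_one {S : Scheme.{u}} [IsReduced S] (G : Over S) [GrpObj G]
    [IsFinite G.hom] [Flat G.hom] [LocallyOfFinitePresentation G.hom]
    (r : ℕ) (hr : ∀ s : S, Scheme.Hom.finrank G.hom s = r) : (𝟙 G : G ⟶ G) ^ r = 1 :=
  Over.OverMorphism.ext (Scheme.Cover.hom_ext (S.affineCover.pullback₁ G.hom) _ _ fun i =>
    pullback_fst_comp_pow G r hr (S.affineCover.f i) (@isReduced_of_isOpenImmersion _ _ (S.affineCover.f i) (S.affineCover.map_prop i) _))

end Groth.Lead.KilledReduced
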