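import Mathlib.AlgebraicGeometry.Morphisms.QuasiFinite
import Mathlib.AlgebraicGeometry.Morphisms.FiniteType
import Mathlib.AlgebraicGeometry.Morphisms.Finite
import Mathlib.AlgebraicGeometry.PullbackCarrier

/-! # Descending local quasi-finiteness along field extensions -/

set_option autoImplicit false
set_option linter.style.haveILetI false

universe u

open CategoryTheory CategoryTheory.Limits AlgebraicGeometry

namespace Groth.Lead.LqfDescent

theorem locallyQuasiFinite_of_field_baseChange {k L : Type u} [Field k] [Field L] {X : Scheme.{u}}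
    (a : X ⟶ Spec (CommRingCat.of k)) [LocallyOfFiniteType a]
    (b : Spec (CommRingCat.of L) ⟶ Spec (CommRingCat.of k)) [LocallyQuasiFinite (pullback.snd a b)] :
    LocallyQuasiFinite a := by
  haveI : Surjective b := ⟨fun y => ⟨default,
    Subsingleton.elim (α := Spec (CommRingCat.of k)) _ _⟩⟩
  haveI : JacobsonSpace X := LocallyOfFiniteType.jacobsonSpace a
  haveI : DiscreteTopology X := discreteTopology_iff_isOpen_singleton.mpr fun x => by
    obtain ⟨_, ⟨V, hV, rfl⟩, hxV, -⟩ :=
      X.isBasis_affineOpens.exists_subset_of_mem_open (Set.mem_univ x) isOpen_univ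
    change X.Opens at V
    haveI : IsAffine V.toScheme := hV
    haveI : LocallyQuasiFinite (pullback.snd (V.ι ≫ a) b) := by
      rw [← pullbackRightPullbackFstIso_inv_snd_snd a b V.ι]
      infer_instance
    haveI : QuasiCompact (pullback.snd (V.ι ≫ a) b) := inferInstance
    haveI : Finite ↥(pullback (V.ι ≫ a) b) := by
      rw [← Set.finite_univ_iff]
      exact ((pullback.snd (V.ι ≫ a) b).finite_preimage_singleton default).subset
        fun z _ => Subsingleton.elim (α := Spec (CommRingCat.of L)) _ _
    haveI : Finite V.toScheme :=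
      Finite.of_surjective _ (Scheme.Hom.surjective (pullback.fst (V.ι ≫ a) b))
    haveI : JacobsonSpace V.toScheme := LocallyOfFiniteType.jacobsonSpace (V.ι ≫ a)
    have h1 : IsOpen ({⟨x, hxV⟩} : Set V.toScheme) := isOpen_discrete _
    have h2 := V.ι.isOpenEmbedding.isOpenMap _ h1
    rwa [Set.image_singleton] at h2
  exact locallyQuasiFinite_iff_isDiscrete_preimage_singleton.mpr fun _ =>
    ⟨inferInstance⟩

end Groth.Lead.LqfDescent
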