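import Groth.Agent.L25.Actions
import Groth.Agent.L25.GrpBasics
import Groth.Agent.L20.ThickeningTopology
import Groth.Agent.L24.LocQ.Descent
import Groth.Agent.L24.Alg.SourceFppf
import Groth.Agent.S2155
import Groth.Agent.S9697

/-!
# The largest open of a group on which a homomorphism has a property, and translations
-/

set_option autoImplicit false
universe u
open CategoryTheory CategoryTheory.Limits MonoidalCategory CartesianMonoidalCategory MonObj GrpObj AlgebraicGeometry

namespace Groth.Lead.MaxSubgroup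

theorem of_comp_mono {P : MorphismProperty Scheme.{u}} [P.IsStableUnderBaseChange] {A B C : Scheme.{u}}
    (f : A ⟶ B) (g : B ⟶ C) [Mono g] (h : P (f ≫ g)) : P f :=
  MorphismProperty.of_isPullback (IsPullback.of_horiz_isIso_mono (fst := 𝟙 A) (snd := f) (f := f ≫ g) (g := g)
    ⟨by simp⟩) h

variable {S : Scheme.{u}}

/-- `(t, h) ↦ x(t) * h`. -/
noncomputable abbrev act {T K : Over S} [GrpObj K] (x : T ⟶ K) : T ⊗ K ⟶ K := (fst T K ≫ x) * snd T K

/-- The automorphism `(t, h) ↦ (t, x(t) * h)`. -/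
noncomputable def shear {T K : Over S} [GrpObj K] (x : T ⟶ K) : T ⊗ K ≅ T ⊗ K where
  hom := lift (fst T K) (act x)
  inv := lift (fst T K) ((fst T K ≫ x)⁻¹ * snd T K)
  hom_inv_id := by
    ext1
    · simp
    · simp [MonObj.comp_mul, GrpObj.comp_inv, ← Category.assoc, _root_.mul_assoc]
  inv_hom_id := by
    ext1
    · simp
    · simp [MonObj.comp_mul, GrpObj.comp_inv, ← Category.assoc, _root_.mul_assoc]

theorem act_prop (P : MorphismProperty Scheme.{u}) [P.IsStableUnderBaseChange] {T K : Over S} [GrpObj K]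
    (x : T ⟶ K) (h : P T.hom) : P (act x).left := by
  have hs : P (snd T K).left := MorphismProperty.of_isPullback (Groth.L25.Actions.isPullback_snd T K) h
  haveI : IsIso (shear x).hom.left := inferInstanceAs (IsIso ((Over.forget S).map (shear x).hom))
  rw [← show (shear x).hom ≫ snd T K = act x from lift_snd _ _, Over.comp_left, P.cancel_left_of_respectsIso]
  exact hs

variable {G H : Over S} [GrpObj G] [GrpObj H] (u : G ⟶ H) [IsMonHom u]

theorem isPullback_act {T : Over S} (x : T ⟶ G) : IsPullback (T ◁ u) (act x) (act (x ≫ u)) u := by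
  have hc : (T ◁ u) ≫ (shear (x ≫ u)).hom = (shear x).hom ≫ (T ◁ u) := by
    ext1
    · simp [shear]
    · simp [shear, MonObj.comp_mul, MonObj.mul_comp]
  have h := (IsPullback.of_vert_isIso ⟨hc⟩).paste_vert (Groth.L25.GrpBasics.isPullback_whiskerLeft T u)
  rwa [show (shear x).hom ≫ snd T G = act x from lift_snd _ _,
    show (shear (x ≫ u)).hom ≫ snd T H = act (x ≫ u) from lift_snd _ _] at h

variable (V : G.left.Opens)

/-- `V` as an object over `S`. -/
abbrev ob : Over S := Over.mk (V.ι ≫ G.hom)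
/-- The inclusion of `V`. -/
abbrev incl : ob V ⟶ G := Over.homMk V.ι rfl

/-- The open of pairs of points of `V`. -/
noncomputable abbrev pairs : (G ⊗ G).left.Opens := (fst G G).left ⁻¹ᵁ V ⊓ (snd G G).left ⁻¹ᵁ V

/-- The data used in the proofs. -/
theorem exists_data : ∃ (l : (pairs V).toScheme ⟶ (ob V ⊗ G).left) (q : (pairs V).toScheme ⟶ (ob V ⊗ H).left),
    IsOpenImmersion l ∧ l ≫ (act (incl V)).left = (pairs V).ι ≫ μ[G].left ∧
    l ≫ (ob V ◁ u).left = q ∧
    ∃ (k : (pairs V).toScheme ⟶ (ob V ⊗ ob V).left), IsOpenImmersion k ∧ q = k ≫ (ob V ◁ (incl V ≫ u)).left := by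
  let O := pairs V
  let Oo : Over S := Over.mk (O.ι ≫ (G ⊗ G).hom)
  let iO : Oo ⟶ G ⊗ G := Over.homMk O.ι rfl
  have r₁ : Set.range (O.ι ≫ (fst G G).left) ⊆ Set.range V.ι := by
    rintro _ ⟨z, rfl⟩; rw [Scheme.Opens.range_ι]; exact z.2.1
  have r₂ : Set.range (O.ι ≫ (snd G G).left) ⊆ Set.range V.ι := by
    rintro _ ⟨z, rfl⟩; rw [Scheme.Opens.range_ι]; exact z.2.2
  let p₁ : Oo ⟶ ob V := Over.homMk (IsOpenImmersion.lift V.ι _ r₁) (by
    show _ ≫ V.ι ≫ G.hom = O.ι ≫ (G ⊗ G).hom
    rw [IsOpenImmersion.lift_fac_assoc, Category.assoc, Over.w (fst G G)])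
  let p₂ : Oo ⟶ ob V := Over.homMk (IsOpenImmersion.lift V.ι _ r₂) (by
    show _ ≫ V.ι ≫ G.hom = O.ι ≫ (G ⊗ G).hom
    rw [IsOpenImmersion.lift_fac_assoc, Category.assoc, Over.w (snd G G)])
  have e₁ : p₁ ≫ incl V = iO ≫ fst G G := by ext; simp [p₁, iO]
  have e₂ : p₂ ≫ incl V = iO ≫ snd G G := by ext; simp [p₂, iO]
  let k := lift p₁ p₂
  let l := k ≫ (ob V ◁ incl V)
  haveI hi : Mono (incl V) := Over.mono_of_mono_left _
  haveI hm₁ : Mono (incl V ▷ G) := ⟨fun a b h => by
    apply CartesianMonoidalCategory.hom_ext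
    · rw [← cancel_mono (incl V)]
      simpa using congr($h ≫ fst G G)
    · simpa using congr($h ≫ snd G G)⟩
  haveI hm₂ : Mono (ob V ◁ incl V) := ⟨fun a b h => by
    apply CartesianMonoidalCategory.hom_ext
    · simpa using congr($h ≫ fst (ob V) G)
    · rw [← cancel_mono (incl V)]
      simpa using congr($h ≫ snd (ob V) G)⟩
  have el : l ≫ (incl V ▷ G) = iO := by
    apply CartesianMonoidalCategory.hom_ext
    · simp [l, k, e₁]
    · simp [l, k, e₂]
  have hl : IsOpenImmersion l.left := of_comp_mono (P := @IsOpenImmersion) l.left (incl V ▷ G).left (by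
    rw [← Over.comp_left, el]; exact inferInstanceAs (IsOpenImmersion O.ι))
  have hk : IsOpenImmersion k.left := of_comp_mono (P := @IsOpenImmersion) k.left (ob V ◁ incl V).left (by
    rw [← Over.comp_left]; exact hl)
  refine ⟨l.left, (k ≫ (ob V ◁ (incl V ≫ u))).left, hl, ?_, ?_, k.left, hk, by simp⟩
  · rw [← Over.comp_left, show O.ι = iO.left from rfl, ← Over.comp_left]
    congr 1
    rw [show μ[G] = fst G G * snd G G from MonObj.mul_eq_mul G, ← el]
    simp [MonObj.comp_mul]
  · rw [← Over.comp_left]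
    simp [l]

theorem mul_univOpen (hS : UniversallyOpen (V.ι ≫ G.hom)) (hV : UniversallyOpen (V.ι ≫ u.left)) :
    ∃ W : G.left.Opens, (∀ z ∈ pairs V, μ[G].left z ∈ W) ∧ UniversallyOpen (W.ι ≫ u.left) := by
  obtain ⟨l, q, hl, e₁, e₂, k, hk, rfl⟩ := exists_data u V
  haveI : UniversallyOpen (act (incl V)).left := act_prop @UniversallyOpen _ hS
  haveI : UniversallyOpen (act (incl V ≫ u)).left := act_prop @UniversallyOpen _ hS
  haveI : UniversallyOpen (ob V ◁ (incl V ≫ u)).left :=
    MorphismProperty.of_isPullback (Groth.L25.Actions.isPullback_whiskerLeft_left (ob V) (incl V ≫ u)).flip hV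
  let m := l ≫ (act (incl V)).left
  let W : G.left.Opens := ⟨Set.range m, m.isOpenMap.isOpen_range⟩
  let m₀ := IsOpenImmersion.lift W.ι m (by rw [Scheme.Opens.range_ι]; rfl)
  have hm₀ : m₀ ≫ W.ι = m := IsOpenImmersion.lift_fac _ _ _
  haveI : Surjective m₀ := ⟨fun w => by
    obtain ⟨z, hz⟩ := w.2
    refine ⟨z, W.ι.isOpenEmbedding.injective ?_⟩
    rw [← Scheme.Hom.comp_apply, hm₀]; exact hz⟩
  refine ⟨W, fun z hz => ⟨⟨z, hz⟩, by rw [show m = _ from e₁]; rfl⟩, ?_⟩
  haveI : UniversallyOpen (m₀ ≫ W.ι ≫ u.left) := by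
    rw [reassoc_of% hm₀, Category.assoc, ← Over.comp_left, ← (isPullback_act u (incl V)).w, Over.comp_left,
      reassoc_of% e₂]
    infer_instance
  exact Groth.L20.Thick.universallyOpen_of_comp_surjective m₀ _

theorem mul_flatFP (hSf : Flat (V.ι ≫ G.hom)) (hSp : LocallyOfFinitePresentation (V.ι ≫ G.hom))
    (hf : Flat (V.ι ≫ u.left)) (hp : LocallyOfFinitePresentation (V.ι ≫ u.left)) :
    ∃ W : G.left.Opens, (∀ z ∈ pairs V, μ[G].left z ∈ W) ∧
      Flat (W.ι ≫ u.left) ∧ LocallyOfFinitePresentation (W.ι ≫ u.left) ∧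
      (Smooth (V.ι ≫ u.left) → Smooth (W.ι ≫ u.left)) ∧
      (FormallyUnramified (V.ι ≫ u.left) → FormallyUnramified (W.ι ≫ u.left)) := by
  obtain ⟨l, q, hl, e₁, e₂, k, hk, eq⟩ := exists_data u V
  haveI : Flat (act (incl V)).left := act_prop @Flat _ hSf
  haveI : LocallyOfFinitePresentation (act (incl V)).left := act_prop @LocallyOfFinitePresentation _ hSp
  haveI : Flat (act (incl V ≫ u)).left := act_prop @Flat _ hSf
  haveI : LocallyOfFinitePresentation (act (incl V ≫ u)).left := act_prop @LocallyOfFinitePresentation _ hSp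
  have hbc : ∀ (P : MorphismProperty Scheme.{u}) [P.IsStableUnderBaseChange], P (V.ι ≫ u.left) →
      P (ob V ◁ (incl V ≫ u)).left := fun P _ h =>
    MorphismProperty.of_isPullback (Groth.L25.Actions.isPullback_whiskerLeft_left (ob V) (incl V ≫ u)).flip h
  haveI := hbc @Flat hf
  haveI := hbc @LocallyOfFinitePresentation hp
  let m := l ≫ (act (incl V)).left
  let W : G.left.Opens := ⟨Set.range m, m.isOpenMap.isOpen_range⟩
  let m₀ := IsOpenImmersion.lift W.ι m (by rw [Scheme.Opens.range_ι]; rfl)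
  have hm₀ : m₀ ≫ W.ι = m := IsOpenImmersion.lift_fac _ _ _
  haveI : Surjective m₀ := ⟨fun w => by
    obtain ⟨z, hz⟩ := w.2
    refine ⟨z, W.ι.isOpenEmbedding.injective ?_⟩
    rw [← Scheme.Hom.comp_apply, hm₀]; exact hz⟩
  haveI : Flat m₀ := of_comp_mono (P := @Flat) m₀ W.ι (by rw [hm₀]; infer_instance)
  haveI : LocallyOfFinitePresentation m₀ :=
    of_comp_mono (P := @LocallyOfFinitePresentation) m₀ W.ι (by rw [hm₀]; infer_instance)
  let h := W.ι ≫ u.left
  have hcomp : m₀ ≫ h = q ≫ (act (incl V ≫ u)).left := by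
    rw [show h = W.ι ≫ u.left from rfl, reassoc_of% hm₀, Category.assoc, ← Over.comp_left,
      ← (isPullback_act u (incl V)).w, Over.comp_left, reassoc_of% e₂]
  haveI hh : Flat h := Groth.L24.LocQ.flat_of_comp_surjective m₀ h (by rw [hcomp, eq]; infer_instance)
  haveI hh' : LocallyOfFinitePresentation h :=
    Groth.L24.Alg.locallyOfFinitePresentation_of_fppf_comp m₀ h (by rw [hcomp, eq]; infer_instance)
  -- the pairs of points map openly to the base change of `h`
  have sq₀ : IsPullback (act (incl V)).left (ob V ◁ u).left u.left (act (incl V ≫ u)).left :=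
    (IsPullback.map (Over.forget S) (isPullback_act u (incl V))).flip
  have sq : IsPullback ((act (incl V)).left ∣_ W) (((act (incl V)).left ⁻¹ᵁ W).ι ≫ (ob V ◁ u).left) h
      (act (incl V ≫ u)).left :=
    (isPullback_morphismRestrict (act (incl V)).left W).paste_vert sq₀
  let j' := IsOpenImmersion.lift ((act (incl V)).left ⁻¹ᵁ W).ι l (by
    rw [Scheme.Opens.range_ι]; rintro _ ⟨z, rfl⟩; exact ⟨z, rfl⟩)
  haveI : IsOpenImmersion j' :=
    of_comp_mono (P := @IsOpenImmersion) j' _ (by rw [IsOpenImmersion.lift_fac]; exact hl)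
  let j := j' ≫ sq.isoPullback.hom
  have hj₁ : j ≫ pullback.fst _ _ = m₀ := by
    rw [Category.assoc, sq.isoPullback_hom_fst, ← cancel_mono W.ι, Category.assoc, morphismRestrict_ι,
      IsOpenImmersion.lift_fac_assoc, hm₀]
  have hj₂ : j ≫ pullback.snd _ _ = q := by
    rw [Category.assoc, sq.isoPullback_hom_snd, IsOpenImmersion.lift_fac_assoc]
    exact e₂
  refine ⟨W, fun z hz => ⟨⟨z, hz⟩, by rw [show m = _ from e₁]; rfl⟩, hh, hh', fun hs => ?_, fun hu => ?_⟩
  · haveI := hbc @Smooth hs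
    rw [← Scheme.Hom.smoothLocus_eq_top_iff (f := h)]
    refine eq_top_iff.2 fun w _ => ?_
    obtain ⟨z, rfl⟩ := m₀.surjective w
    have hz : z ∈ (j ≫ pullback.snd h (act (incl V ≫ u)).left).smoothLocus := by
      haveI : Smooth (j ≫ pullback.snd h (act (incl V ≫ u)).left) := by rw [hj₂, eq]; infer_instance
      rw [Scheme.Hom.smoothLocus_eq_top]; trivial
    rw [← Scheme.Hom.preimage_smoothLocus_eq,
      Groth.Agent.S2155.result h (act (incl V ≫ u)).left (pullback.snd _ _) (pullback.fst _ _)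
        (IsPullback.of_hasPullback _ _) (Or.inl hh)] at hz
    rw [← hj₁, Scheme.Hom.comp_apply]
    exact hz
  · haveI := hbc @FormallyUnramified hu
    have key : ∀ w : W.toScheme, ∃ U : W.toScheme.Opens, w ∈ U ∧ FormallyUnramified (U.ι ≫ h) := fun w => by
      obtain ⟨z, rfl⟩ := m₀.surjective w
      have := (Groth.Agent.S9697.result h (act (incl V ≫ u)).left (j z)).1 ⟨j.opensRange, ⟨z, rfl⟩, ?_⟩
      · rwa [← Scheme.Hom.comp_apply, hj₁] at this
      · rw [← MorphismProperty.cancel_left_of_respectsIso @FormallyUnramified j.isoOpensRange.hom,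
          Scheme.Hom.isoOpensRange_hom_ι_assoc, hj₂, eq]
        haveI : Etale k := inferInstance
        exact MorphismProperty.comp_mem @FormallyUnramified k _ inferInstance ‹_›
    choose U hmem hU using key
    exact (IsZariskiLocalAtSource.iff_of_iSup_eq_top (P := @FormallyUnramified) U
      (eq_top_iff.2 fun w _ => TopologicalSpace.Opens.mem_iSup.2 ⟨w, hmem w⟩)).2 hU

theorem inv_mem (P : MorphismProperty Scheme.{u}) [P.RespectsIso] (hV : P (V.ι ≫ u.left))
    (hmax : ∀ W : G.left.Opens, P (W.ι ≫ u.left) → W ≤ V) (g : G.left) (hg : g ∈ V) : ι[G].left g ∈ V := by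
  have hι : ι[G] ≫ ι[G] = 𝟙 G := by simp
  haveI : IsIso ι[G] := ⟨ι[G], hι, hι⟩
  haveI : IsIso ι[H] := ⟨ι[H], by simp, by simp⟩
  haveI : IsIso ι[G].left := inferInstanceAs (IsIso ((Over.forget S).map ι[G]))
  haveI : IsIso ι[H].left := inferInstanceAs (IsIso ((Over.forget S).map ι[H]))
  let W := ι[G].left ⁻¹ᵁ V
  have hu : ι[G] ≫ u ≫ ι[H] = u := by simp [GrpObj.inv_comp, GrpObj.comp_inv]
  have hW : P (W.ι ≫ u.left) := by
    rw [← hu, Over.comp_left, Over.comp_left, ← morphismRestrict_ι_assoc, P.cancel_left_of_respectsIso,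
      ← Category.assoc, P.cancel_right_of_respectsIso]
    exact hV
  refine hmax W hW (show ι[G].left (ι[G].left g) ∈ V from ?_)
  rw [← Scheme.Hom.comp_apply, ← Over.comp_left, hι]
  exact hg

theorem unit_mem (hinv : ∀ g ∈ V, ι[G].left g ∈ V) (hmul : ∀ z ∈ pairs V, μ[G].left z ∈ V)
    (g : G.left) (hg : g ∈ V) (p : ↥(𝟙_ (Over S)).left) (hp : (𝟙_ (Over S)).hom.base p = G.hom.base g) :
    η[G].left p ∈ V := by
  let l := lift ι[G] (𝟙 G)
  have e : l ≫ μ[G] = toUnit G ≫ η[G] := GrpObj.left_inv G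
  have h : (toUnit G).left g = p := (congrArg (fun φ : G.left ⟶ S => φ g) (Over.w (toUnit G))).trans hp.symm
  rw [← h, ← Scheme.Hom.comp_apply, ← Over.comp_left, ← e, Over.comp_left, Scheme.Hom.comp_apply]
  refine hmul _ ⟨?_, ?_⟩
  · show (fst G G).left (l.left g) ∈ V
    rw [show (fst G G).left (l.left g) = ι[G].left g from congr(($(lift_fst ι[G] (𝟙 G))).left g)]
    exact hinv g hg
  · show (snd G G).left (l.left g) ∈ V
    rw [show (snd G G).left (l.left g) = g from congr(($(lift_snd ι[G] (𝟙 G))).left g)]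
    exact hg

theorem isOpen_image [UniversallyOpen (V.ι ≫ G.hom)] : IsOpen (G.hom '' (V : Set G.left)) := by
  have := (V.ι ≫ G.hom).isOpenMap.isOpen_range
  rwa [show Set.range (V.ι ≫ G.hom) = G.hom '' (V : Set G.left) by
    rw [Scheme.Hom.comp_base, TopCat.coe_comp, Set.range_comp, Scheme.Opens.range_ι]] at this

end Groth.Lead.MaxSubgroup
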