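import Groth.Agent.Lead.MuFun
import Groth.Prelude.Def_HopfRep
import Mathlib.RingTheory.Coalgebra.GroupLike
import Mathlib.LinearAlgebra.Basis.Basic

/-!
# The numerical function for a diagonalizable group
-/

set_option autoImplicit false

universe u v

open TensorProduct LaurentPolynomial

noncomputable section

namespace Groth.Lead.MuFun

theorem exists_weights_isMu {k : Type u} [Field k] {A : Type v} [CommRing A] [Bialgebra k A]
    (hdiag : HopfRep.IsDiagonalizable k A)
    {ι : Type u} [Fintype ι] [HopfRep.Comod k A (MvPolynomial ι k)] [GLin.IsCoactAlg k A (MvPolynomial ι k)]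
    (hlin : GLin.IsLinear k A ι) :
    ∃ (N : ℕ) (χ : Fin N → A), (∀ j, IsGroupLikeElem k (χ j)) ∧
      ∀ v : ι → k, v ≠ 0 → ∃ I : Finset (Fin N), I.Nonempty ∧
        ∀ (lam : A →ₐc[k] k[T;T⁻¹]) (e : Fin N → ℤ), (∀ j, lam (χ j) = LaurentPolynomial.T (e j)) →
          ∀ m : ℤ, GLin.IsMu k A lam v m ↔ ((∀ j ∈ I, -e j ≤ m) ∧ ∃ j ∈ I, m = -e j) := by
  classical
  let G : Set A := {a | IsGroupLikeElem k a}
  let b : Module.Basis G k A := Module.Basis.mk (linearIndepOn_isGroupLikeElem (R := k) (A := A))
    (by rw [← Set.image_eq_range, Set.image_id]; exact hdiag.ge)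
  have hb : ∀ g : G, b g = g.1 := fun g => Module.Basis.mk_apply _ _ g
  choose m hm using hlin
  -- coefficients
  let P : G → ι → ι → k := fun g i j => b.repr (m i j) g
  have hP : ∀ (g h : G) (i j : ι), ∑ l, P g l j * P h i l = if g = h then P g i j else 0 := by
    intro g h i j
    have hco := LinearMap.congr_fun (HopfRep.Comod.coassoc (k := k) (A := A) (V := MvPolynomial ι k))
      (MvPolynomial.X i)
    simp only [LinearMap.comp_apply, LinearEquiv.coe_coe, hm i, map_sum, LinearMap.rTensor_tmul,
      LinearMap.lTensor_tmul, hm, TensorProduct.sum_tmul, TensorProduct.assoc_tmul] at hco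
    let cj : MvPolynomial ι k →ₗ[k] k := MvPolynomial.lcoeff k (Finsupp.single j 1)
    let F : MvPolynomial ι k ⊗[k] (A ⊗[k] A) →ₗ[k] k :=
      (TensorProduct.lid k k).toLinearMap ∘ₗ TensorProduct.map cj
        ((TensorProduct.lid k k).toLinearMap ∘ₗ TensorProduct.map (b.coord g) (b.coord h))
    have hcj : ∀ l, cj (MvPolynomial.X l) = if l = j then 1 else 0 := fun l => by
      simp [cj, MvPolynomial.coeff_X', Finsupp.single_eq_single_iff, eq_comm]
    have hcomul : ∀ a : A, TensorProduct.lid k k (TensorProduct.map (b.coord g) (b.coord h)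
        (Coalgebra.comul (R := k) a)) = if g = h then b.repr a g else 0 := by
      intro a
      have e : (TensorProduct.lid k k).toLinearMap ∘ₗ TensorProduct.map (b.coord g) (b.coord h) ∘ₗ
          (Coalgebra.comul (R := k) (A := A)) = if g = h then b.coord g else 0 := by
        refine b.ext fun x => ?_
        have hx : Coalgebra.comul (R := k) (b x) = b x ⊗ₜ[k] b x := by
          rw [hb x]; exact x.2.comul_eq_tmul_self
        simp only [LinearMap.comp_apply, hx, TensorProduct.map_tmul, LinearEquiv.coe_coe, TensorProduct.lid_tmul]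
        by_cases hgh : g = h
        · subst hgh
          simp [Finsupp.single_apply]
        · simp [hgh, Finsupp.single_apply]
          intro hxg; exact fun hxh => hgh (hxg.symm.trans hxh).symm
      have e' := LinearMap.congr_fun e a
      simp only [LinearMap.comp_apply, LinearEquiv.coe_coe] at e'
      rw [e']
      split_ifs <;> rfl
    have := congrArg F hco
    simp only [F, map_sum, LinearMap.comp_apply, TensorProduct.map_tmul, LinearEquiv.coe_coe,
      TensorProduct.lid_tmul, hcj, hcomul, smul_eq_mul, ite_mul, one_mul, zero_mul, Finset.sum_ite_eq',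
      Finset.mem_univ, if_true] at this
    exact this
  let S : Finset G := Finset.univ.biUnion fun p : ι × ι => (b.repr (m p.1 p.2)).support
  have hS : ∀ g i j, g ∉ S → P g i j = 0 := fun g i j hg => by
    by_contra hne
    exact hg (Finset.mem_biUnion.2 ⟨(i, j), Finset.mem_univ _, Finsupp.mem_support_iff.2 hne⟩)
  have hmS : ∀ i j, m i j = ∑ g ∈ S, P g i j • (g : A) := fun i j => by
    conv_lhs => rw [← b.linearCombination_repr (m i j)]
    rw [Finsupp.linearCombination_apply, Finsupp.sum_of_support_subset (b.repr (m i j)) (s := S)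
      (fun g hg => Finset.mem_biUnion.2 ⟨(i, j), Finset.mem_univ _, hg⟩) (fun g a => a • b g) (fun _ _ => zero_smul _ _)]
    exact Finset.sum_congr rfl fun g _ => by rw [hb]
  let e₀ := S.equivFin
  refine ⟨S.card, fun t => ((e₀.symm t).1 : A), fun t => (e₀.symm t).1.2, fun v hv => ?_⟩
  let w : G → ι → k := fun g i => ∑ j, v j * P g i j
  have hwP : ∀ (g h : G) (i : ι), ∑ l, w g l * P h i l = if g = h then w g i else 0 := by
    intro g h i
    simp only [w, Finset.sum_mul]
    rw [Finset.sum_comm]
    simp only [mul_assoc, ← Finset.mul_sum, hP]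
    split_ifs <;> simp
  let I : Finset (Fin S.card) := Finset.univ.filter fun t => ∃ i, w (e₀.symm t).1 i ≠ 0
  -- the coordinates
  have hv' : ∀ (lam : A →ₐc[k] k[T;T⁻¹]) (i : ι), co lam v i = ∑ g ∈ S, w g i • lam (g : A) := by
    intro lam i
    rw [co, GLin.lamOrbit, AlgHom.comp_apply, GLin.orbitHom]
    simp only [AlgHom.comp_apply, GLin.coactAlgHom_apply, hm i, map_sum, Algebra.TensorProduct.map_tmul,
      MvPolynomial.aeval_X, AlgHom.id_apply]
    simp only [w, Finset.sum_smul]
    rw [Finset.sum_comm]
    refine Finset.sum_congr rfl fun j _ => ?_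
    simp [hmS i j, Finset.smul_sum, smul_smul, map_sum, Algebra.TensorProduct.lid_tmul]
  have hI : I.Nonempty := by
    by_contra hne
    rw [Finset.not_nonempty_iff_eq_empty, Finset.filter_eq_empty_iff] at hne
    refine hv (funext fun i => ?_)
    have h0 : ∀ g ∈ S, w g i = 0 := fun g hg => by
      by_contra h
      refine hne (x := e₀ ⟨g, hg⟩) (Finset.mem_univ _) ⟨i, ?_⟩
      simpa using h
    let F : A →ₗ[k] k := Coalgebra.counit (R := k)
    have hc : v i = ∑ g ∈ S, w g i * F g := by
      have hc := LinearMap.congr_fun (HopfRep.Comod.counit_comp (k := k) (A := A) (V := MvPolynomial ι k))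
        (MvPolynomial.X i)
      simp only [LinearMap.comp_apply, hm i, map_sum, LinearMap.lTensor_tmul, LinearMap.flip_apply,
        TensorProduct.mk_apply] at hc
      have h2 := congrArg (fun z => GLin.vecPt k ι v (TensorProduct.rid k _ z)) hc
      simp only [map_sum, TensorProduct.rid_tmul, map_smul, MvPolynomial.aeval_X, smul_eq_mul, one_mul] at h2
      rw [← h2]
      simp only [hmS i, map_sum, map_smul, smul_eq_mul, w, Finset.sum_mul, Finset.mul_sum]
      rw [Finset.sum_comm]
      exact Finset.sum_congr rfl fun j _ => Finset.sum_congr rfl fun g _ => by simp [F]; ring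
    rw [hc, Finset.sum_eq_zero fun g hg => by rw [h0 g hg, zero_mul]]
    rfl
  refine ⟨I, hI, fun lam e he μ => ?_⟩
  have hcoeff : ∀ (i : ι) (n : ℤ), (co lam v i).coeff n =
      ∑ g : S, if e (e₀ g) = n then w g.1 i else 0 := by
    intro i n
    rw [hv' lam i, ← Finset.sum_coe_sort S, AddMonoidAlgebra.coeff_sum, Finsupp.finsetSum_apply]
    refine Finset.sum_congr rfl fun g _ => ?_
    have : lam (g.1 : A) = T (e (e₀ g)) := by
      rw [← he (e₀ g)]; simp
    rw [this, AddMonoidAlgebra.coeff_smul, Finsupp.smul_apply, T_apply, smul_eq_mul, mul_ite, mul_one, mul_zero]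
  have hne : ∀ n, (∃ i, (co lam v i).coeff n ≠ 0) ↔ ∃ t ∈ I, e t = n := by
    intro n
    constructor
    · rintro ⟨i, hi⟩
      by_contra hcon
      push Not at hcon
      refine hi ?_
      rw [hcoeff]
      refine Finset.sum_eq_zero fun g _ => ?_
      split_ifs with hg
      · by_contra hw
        exact hcon (e₀ g) (Finset.mem_filter.2 ⟨Finset.mem_univ _, i, by simpa using hw⟩) hg
      · rfl
    · rintro ⟨t, ht, rfl⟩
      obtain ⟨i, hi⟩ := (Finset.mem_filter.1 ht).2
      by_contra hcon
      push Not at hcon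
      refine hi ?_
      have h1 : ∑ l, (co lam v l).coeff (e t) * P (e₀.symm t).1 i l = 0 :=
        Finset.sum_eq_zero fun l _ => by rw [hcon l, zero_mul]
      rw [← h1]
      simp only [hcoeff, Finset.sum_mul]
      rw [Finset.sum_comm, Finset.sum_eq_single (e₀.symm t)]
      · simp only [Equiv.apply_symm_apply, if_true]
        rw [hwP]
        simp
      · intro g _ hg
        split_ifs
        · rw [hwP, if_neg (fun hh => hg (Subtype.ext hh))]
        · simp
      · exact fun h => absurd (Finset.mem_univ _) h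
  rw [isMu_iff]
  constructor
  · rintro ⟨h1, h2⟩
    obtain ⟨t, ht, htn⟩ := (hne _).1 h2
    refine ⟨fun j hj => ?_, t, ht, by omega⟩
    obtain ⟨i, hi⟩ := (hne (e j)).2 ⟨j, hj, rfl⟩
    have := h1 i _ hi
    omega
  · rintro ⟨h1, t, ht, htμ⟩
    refine ⟨fun i n hn => ?_, (hne _).2 ⟨t, ht, by omega⟩⟩
    obtain ⟨j, hj, hjn⟩ := (hne n).1 ⟨i, hn⟩
    have := h1 j hj
    omega

end Groth.Lead.MuFun
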