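import Groth.Agent.Lead.FibreAssemble
import Groth.Agent.Lead.SmoothPerf
import Groth.Agent.L10.DRing.FlatDescent
import Groth.Agent.L29.DCoh.PerfDescent
import Groth.Agent.L29.DCoh.PerfectIff

/-!
# Perfectness from stalks and from fibres
-/

set_option autoImplicit false
set_option linter.style.haveILetI false
set_option linter.unusedSectionVars false
set_option backward.isDefEq.respectTransparency false
set_option backward.isDefEq.respectTransparency.types false
set_option backward.defeqAttrib.useBackward true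

universe u

open CategoryTheory CategoryTheory.Limits AlgebraicGeometry

noncomputable section

attribute [local instance] HasDerivedCategory.standard

namespace Groth.Lead.PerfFibre

open Groth.Lead.SmoothStalk Groth.Lead.FibreBounded Groth.L29.DC Groth.L02.PC

variable {X S : Scheme.{u}}

/-- the stalks of a pseudo-coherent object -/
theorem pc_stk' (G : CochainComplex X.Modules ℤ) (hG : ∀ m, DCoh.IsPseudoCoherentD m (DCoh.toD X G)) (x : X) :
    DRing.IsPseudoCoherent' (X.presheaf.stalk x) (DRing.toD (stk x G)) := by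
  obtain ⟨_, ⟨U₀, hU, rfl⟩, hx, -⟩ :=
    X.isBasis_affineOpens.exists_subset_of_mem_open (Set.mem_univ x) isOpen_univ
  obtain ⟨z, hz⟩ : x ∈ Set.range hU.fromSpec := hU.range_fromSpec ▸ hx
  subst hz
  let j := hU.fromSpec
  let R' := Scheme.Modules.restrictFunctor j
  let GY := (R'.mapHomologicalComplex (ComplexShape.up ℤ)).obj G
  have hGY : ∀ m, DCoh.IsPseudoCoherentD m (DCoh.toD _ GY) := fun m =>
    isPseudoCoherentD_of_iso (R'.mapDerivedCategoryFactors.app G) (PCStalk.pc_res j (hG m))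
  let φ := Groth.L00.PullStalk.φ j z
  let ψ := (asIso (j.stalkMap z)).commRingCatIsoToRingEquiv.symm.toRingHom
  have hψ : ψ.Flat := RingHom.Flat.of_bijective (asIso (j.stalkMap z)).commRingCatIsoToRingEquiv.symm.bijective
  have hcomp : ψ.comp φ = RingHom.id _ := RingHom.ext fun r =>
    (asIso (j.stalkMap z)).commRingCatIsoToRingEquiv.symm_apply_apply r
  let PY := ((Scheme.Modules.pullback j).mapHomologicalComplex (ComplexShape.up ℤ)).obj G
  let e1 : stk z GY ≅ ((ModuleCat.extendScalars φ).mapHomologicalComplex (ComplexShape.up ℤ)).obj (stk (j z) G) :=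
    (((Groth.L00.Stk.F _ z).mapHomologicalComplex (ComplexShape.up ℤ)).mapIso
      ((NatIso.mapHomologicalComplex (Scheme.Modules.restrictFunctorIsoPullback j) (ComplexShape.up ℤ)).app G)) ≪≫
      Groth.L00.KFlat.pullCxIso j G z
  let e2 : (bcCx ψ).obj ((bcCx φ).obj (stk (j z) G)) ≅ stk (j z) G :=
    ((NatIso.mapHomologicalComplex ((ModuleCat.extendScalarsComp.{u, u} φ ψ).symm) (ComplexShape.up ℤ)).app _) ≪≫
      ((NatIso.mapHomologicalComplex (eqToIso (congrArg ModuleCat.extendScalars.{u, u, u} hcomp) ≪≫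
        ModuleCat.extendScalarsId _) (ComplexShape.up ℤ)).app _)
  refine pc'_of_forall fun m => ?_
  exact pc_of_iso (DerivedCategory.Q.mapIso e2)
    (Groth.L10.FlatDescent.pc_bcCx ψ hψ (pc_of_iso (DerivedCategory.Q.mapIso e1)
      (pc_of_pc' (Groth.Lead.FibreLocal.pc_stk GY hGY z) m)))

/-- perfect from pseudo-coherence, a local lower bound and finite tor amplitude at every stalk -/
theorem perfect_of_stk_amp (G : CochainComplex X.Modules ℤ) (hG : ∀ m, DCoh.IsPseudoCoherentD m (DCoh.toD X G))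
    (hlo : ∀ x : X, ∃ (V : X.Opens) (c : ℤ), x ∈ V ∧
      ∀ i, i < c → ∀ y ∈ V, IsZero ((Groth.L00.Stk.F X y).obj (DCoh.HD (DCoh.toD X G) i)))
    (hamp : ∀ x : X, ∃ a b : ℤ, DRing.HasTorAmplitudeIn (X.presheaf.stalk x) a b (DRing.toD (stk x G))) :
    DCoh.IsPerfect (DCoh.toD X G) := by
  refine perfect_of_on fun x => ?_
  obtain ⟨V₁, c, hx₁, hc⟩ := hlo x
  obtain ⟨V₂, hx₂, hV₂⟩ := (isPC_iff_wit 0 (DCoh.toD X G)).1 (hG 0) x
  obtain ⟨N, -, hN⟩ := hV₂.exists_isZero
  obtain ⟨a, b, hab⟩ := hamp x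
  let V : X.Opens := V₁ ⊓ V₂
  let K := DCoh.toD X G
  have hzV : ∀ i, (i < c ∨ N ≤ i) → IsZero (DCoh.HD ((resD V).obj K) i) := fun i hi =>
    (PCStalk.isZero_HD_iff_stk _ i).2 fun v => (PCStalk.isZero_res_iff V.ι K i v).2
      (hi.elim (fun h => hc i h _ v.2.1) fun h =>
        (PCStalk.isZero_res_iff V₂.ι K i ⟨V.ι v, v.2.2⟩).1 ((PCStalk.isZero_HD_iff_stk _ i).1 (hN i h) _))
  obtain ⟨Q, hQ, -, hf, ⟨eQ⟩⟩ := exists_flat_representative_le ((resD V).obj K) N fun i hi => hzV i (Or.inr hi.le)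
  have hQb : ∀ i, N < i → IsZero (Q.X i) := fun i hi =>
    haveI := hQ; CochainComplex.isZero_of_isStrictlyLE Q N i hi
  let low := min c a
  let v : (V : Scheme.{u}) := ⟨x, hx₁, hx₂⟩
  have hgood : PerfDesc.Good Q low v := by
    let F := Groth.L00.Stk.F _ v
    refine PerfDesc.goodAlg_of_amp (PerfDesc.flat_S hf v) (PerfDesc.vanishesAbove_S hQb v)
      (K := DRing.toD (stk v ((DCoh.restrictCx V).obj G)))
      ((F.mapDerivedCategoryFactors.app Q).symm ≪≫ F.mapDerivedCategory.mapIso (eQ ≪≫ resQIso V G) ≪≫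
        F.mapDerivedCategoryFactors.app _) ?_ (b := b)
    have h1 := Groth.L10.DR.amp_mono hab (show low ≤ a from min_le_right _ _) (le_refl b)
    refine Groth.L10.DR.amp_of_iso (DerivedCategory.Q.mapIso ?_)
      (Groth.L10.FlatDescent.amp_bcCx (Groth.L00.PullStalk.φ V.ι v) (Flat.stalkMap V.ι v) h1)
    exact ((((Groth.L00.Stk.F _ v).mapHomologicalComplex (ComplexShape.up ℤ)).mapIso
      ((NatIso.mapHomologicalComplex (Scheme.Modules.restrictFunctorIsoPullback V.ι) (ComplexShape.up ℤ)).app G)) ≪≫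
        Groth.L00.KFlat.pullCxIso V.ι G v).symm
  obtain ⟨U, j, _, hj, hw⟩ := PerfDesc.exists_pwit_of_good hf hQb low
    (fun i hi => (hzV i (Or.inl (lt_of_lt_of_le hi (min_le_left _ _)))).of_iso
      ((DerivedCategory.homologyFunctor _ i).mapIso eQ))
    (isPseudoCoherentD_of_iso eQ.symm (PCStalk.pc_res V.ι (hG _))) v hgood
  obtain ⟨z, hz⟩ := hj
  exact ⟨U, j ≫ V.ι, inferInstance, ⟨z, congrArg V.ι.base hz⟩,
    hw.of_iso ((DCoh.restrictD j).mapIso eQ ≪≫ (resTransD V.ι j (j ≫ V.ι) rfl).app K)⟩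

/-- the stalk has tor amplitude as soon as the stalk of the derived restriction to its fibre has -/
theorem amp_of_fibre (f : X ⟶ S) (s : S) (y : ↥(f.fiber s)) [DCoh.HasLpull (f.fiberι s)]
    (G : CochainComplex X.Modules ℤ) (hG : ∀ m, DCoh.IsPseudoCoherentD m (DCoh.toD X G))
    (h : DCoh.IsPerfect ((DCoh.Lpull (f.fiberι s)).obj (DCoh.toD X G))) :
    ∃ a b : ℤ, DRing.HasTorAmplitudeIn (X.presheaf.stalk (f.fiberι s y)) a b
      (DRing.toD (stk (f.fiberι s y) G)) := by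
  obtain ⟨P, r, hP, -, hr, -⟩ := Groth.L00.KFlat.exists_resolution G
  haveI : IsIso (DerivedCategory.Q.map r) := (DerivedCategory.isIso_Q_map_iff_quasiIso _ _).2 hr
  let e : DCoh.toD X P ≅ DCoh.toD X G := asIso (DerivedCategory.Q.map r)
  let ι := f.fiberι s
  let PY := ((Scheme.Modules.pullback ι).mapHomologicalComplex (ComplexShape.up ℤ)).obj P
  have hPY : DCoh.IsPerfect (DCoh.toD _ PY) := isPerfect_of_iso ((DCoh.Lpull ι).mapIso e.symm ≪≫
    Groth.L00.DerivedApi.objIso (Groth.L00.DerivedApi.acyclicKFlat_pullback ι) P hP) h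
  obtain ⟨O, a, b, hO, -, hfl⟩ := (locFiniteTorDim_iff _).1 (locFiniteTorDim_of_perfect hPY) y
  let R' := Scheme.Modules.restrictFunctor O.ι
  have h1 := Groth.Lead.SmoothPerf.stk_of_flatAmp ((DCoh.restrictCx O).obj PY)
    (flatAmp_of_iso (resQIso O PY) hfl) ⟨y, hO⟩
  let χ := Groth.L00.PullStalk.φ O.ι ⟨y, hO⟩
  let χ' := (asIso (O.ι.stalkMap ⟨y, hO⟩)).commRingCatIsoToRingEquiv.symm.toRingHom
  let x := ι y
  let A := X.presheaf.stalk x
  obtain ⟨hs, hk⟩ := Groth.L18.stalkMap_fiberι f s y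
  let φ := Groth.L00.PullStalk.φ ι y
  let eB : (f.fiber s).presheaf.stalk y ≃+* A ⧸ J f x :=
    (RingHom.quotientKerEquivOfSurjective hs).symm.trans (Ideal.quotEquivOfEq hk)
  let θ : (O : Scheme.{u}).presheaf.stalk ⟨y, hO⟩ →+* A ⧸ J f x := eB.toRingHom.comp χ'
  have hθ : θ.Flat := RingHom.Flat.comp
    (RingHom.Flat.of_bijective (asIso (O.ι.stalkMap ⟨y, hO⟩)).commRingCatIsoToRingEquiv.symm.bijective)
    (RingHom.Flat.of_bijective eB.bijective)
  have h2 := Groth.L10.FlatDescent.amp_bcCx θ hθ h1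
  have hcomp : (θ.comp χ).comp φ = Ideal.Quotient.mk (J f x) := RingHom.ext fun r => by
    show eB ((asIso (O.ι.stalkMap ⟨y, hO⟩)).commRingCatIsoToRingEquiv.symm
      ((asIso (O.ι.stalkMap ⟨y, hO⟩)).commRingCatIsoToRingEquiv (φ r))) = _
    rw [RingEquiv.symm_apply_apply]
    show Ideal.quotEquivOfEq hk ((RingHom.quotientKerEquivOfSurjective hs).symm (φ r)) = _
    rw [show φ r = RingHom.quotientKerEquivOfSurjective hs (Ideal.Quotient.mk _ r) from rfl,
      RingEquiv.symm_apply_apply]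
    rfl
  let i1 : stk (⟨y, hO⟩ : (O : Scheme.{u})) ((DCoh.restrictCx O).obj PY) ≅ (bcCx χ).obj (stk y PY) :=
    (((Groth.L00.Stk.F _ _).mapHomologicalComplex (ComplexShape.up ℤ)).mapIso
      ((NatIso.mapHomologicalComplex (Scheme.Modules.restrictFunctorIsoPullback O.ι) (ComplexShape.up ℤ)).app PY)) ≪≫
      Groth.L00.KFlat.pullCxIso O.ι PY ⟨y, hO⟩
  let i2 : stk y PY ≅ (bcCx φ).obj (stk x P) := Groth.L00.KFlat.pullCxIso ι P y
  let i3 : (bcCx θ).obj ((bcCx χ).obj ((bcCx φ).obj (stk x P))) ≅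
      (bcCx (Ideal.Quotient.mk (J f x))).obj (stk x P) :=
    ((NatIso.mapHomologicalComplex ((ModuleCat.extendScalarsComp.{u, u} χ θ).symm) (ComplexShape.up ℤ)).app _) ≪≫
      ((NatIso.mapHomologicalComplex ((ModuleCat.extendScalarsComp.{u, u} φ (θ.comp χ)).symm ≪≫
        eqToIso (congrArg ModuleCat.extendScalars.{u, u, u} hcomp)) (ComplexShape.up ℤ)).app _)
  haveI := Groth.L10.KFlatLBC.hasLBaseChange (Ideal.Quotient.mk (J f x))
  let F := Groth.L00.Stk.F X x
  have hle : J f x ≤ Ideal.jacobson (⊥ : Ideal A) := by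
    rw [IsLocalRing.jacobson_eq_maximalIdeal ⊥ bot_ne_top, Ideal.map_le_iff_le_comap]
    intro t ht
    rw [Ideal.mem_comap, IsLocalRing.mem_maximalIdeal, mem_nonunits_iff] at *
    exact fun hu => ht (isUnit_of_map_unit (f.stalkMap x).hom t hu)
  refine ⟨a, b, (Groth.L10.DR.perfect_and_amp_of_jacobson (J f x) hle (DRing.toD (stk x G))
    (pc_stk' G hG x) a b ?_).2⟩
  refine Groth.L10.DR.amp_of_iso ((Groth.L10.KFlatLBC.lbcKF _ _ (isKFlat_stk hP x)).symm ≪≫
    (DRing.LBaseChange _).mapIso ((F.mapDerivedCategoryFactors.app P).symm ≪≫ F.mapDerivedCategory.mapIso e ≪≫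
      F.mapDerivedCategoryFactors.app G)) ?_
  exact Groth.L10.DR.amp_of_iso (DerivedCategory.Q.mapIso ((bcCx θ).mapIso (i1 ≪≫ (bcCx χ).mapIso i2) ≪≫ i3)) h2

end Groth.Lead.PerfFibre
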