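import Groth.Agent.L29.RelPC.Terms
import Groth.Agent.L29.RelPC.PerfPush
import Groth.Agent.L29.RelPC.PerfSmooth
import Groth.Agent.L29.BC.PerfectPush
import Groth.Agent.L29.DCoh.Gen.Loc
import Groth.Agent.Lead.ClosedRpush

/-!
Perfect objects push forward to perfect objects along perfect closed immersions.
-/

set_option autoImplicit false
set_option linter.style.haveILetI false
set_option backward.defeqAttrib.useBackward true
set_option backward.isDefEq.respectTransparency false
set_option backward.isDefEq.respectTransparency.types false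

universe u

open CategoryTheory CategoryTheory.Limits CategoryTheory.Pretriangulated AlgebraicGeometry

attribute [local instance] HasDerivedCategory.standard

namespace Groth.Lead.PerfPD

open Groth.L29.DC Groth.L29.DC.ClosedPC

attribute [local instance] ClosedPC.additive ClosedPC.exactLeft ClosedPC.exactRight

variable {X Z W : Scheme.{u}}

theorem perfect_single {i : ℤ} {M : X.Modules} (h : DCoh.IsPerfect (DCoh.inD X M)) :
    DCoh.IsPerfect ((DerivedCategory.singleFunctor X.Modules i).obj M) :=
  isPerfect_of_iso (((DerivedCategory.singleFunctors _).shiftIso (-i) i 0 (by omega)).app M) (perfect_shift h (-i))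

/-- perfection from the terms -/
theorem perfect_of_terms (a : ℤ) : ∀ (k : ℕ) (F : CochainComplex X.Modules ℤ),
    (∀ i, i < a ∨ a + (k : ℤ) ≤ i → IsZero (F.X i)) →
    (∀ i, DCoh.IsPerfect (DCoh.inD X (F.X i))) → DCoh.IsPerfect (DCoh.toD X F) := by
  intro k
  induction k with
  | zero =>
    intro F hF _
    refine EvalMain.isPerfect_of_isZero (Functor.map_isZero _ ((IsZero.iff_id_eq_zero _).2
      (HomologicalComplex.hom_ext _ _ fun i => ?_)))
    exact (hF i ((lt_or_ge i a).imp id fun h => by push_cast; omega)).eq_of_src _ _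
  | succ k ih =>
    intro F hF h
    let b : ℤ := a + k
    let S₁ := (HomologicalComplex.single X.Modules (ComplexShape.up ℤ) b).obj (F.X b)
    let s : S₁ ⟶ F := HomologicalComplex.mkHomFromSingle (𝟙 _) fun j hj => by
      obtain rfl : b + 1 = j := hj
      exact (hF (b + 1) (Or.inr (by simp only [b]; push_cast; omega))).eq_of_tgt _ _
    haveI : ∀ i, Mono (s.f i) := fun i => by
      by_cases hi : i = b
      · subst hi
        rw [HomologicalComplex.mkHomFromSingle_f]
        infer_instance
      · exact (HomologicalComplex.isZero_single_obj_X _ _ _ _ hi).mono _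
    haveI : Mono s := HomologicalComplex.mono_of_mono_f s inferInstance
    let S : ShortComplex (CochainComplex X.Modules ℤ) := ShortComplex.mk s (cokernel.π s) (cokernel.condition s)
    have hS : S.ShortExact := ShortComplex.ShortExact.mk (ShortComplex.exact_of_g_is_cokernel _ (cokernelIsCokernel s))
    have hSi : ∀ i, (S.map (HomologicalComplex.eval X.Modules (ComplexShape.up ℤ) i)).ShortExact := fun i =>
      hS.map_of_exact _
    have hb : IsZero (S.X₃.X b) := by
      haveI : IsIso (s.f b) := by
        rw [HomologicalComplex.mkHomFromSingle_f]; infer_instance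
      haveI : Epi (S.map (HomologicalComplex.eval X.Modules (ComplexShape.up ℤ) b)).f := inferInstanceAs (Epi (s.f b))
      haveI := (hSi b).epi_g
      exact IsZero.of_epi_eq_zero (S.map (HomologicalComplex.eval X.Modules (ComplexShape.up ℤ) b)).g
        ((cancel_epi (S.map (HomologicalComplex.eval X.Modules (ComplexShape.up ℤ) b)).f).1 (by
          rw [comp_zero]; exact (S.map _).zero))
    have hne : ∀ i, i ≠ b → IsIso ((cokernel.π s).f i) := fun i hi => by
      exact (hSi i).isIso_g_iff.2 (HomologicalComplex.isZero_single_obj_X (ComplexShape.up ℤ) b (F.X b) i hi)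
    refine (perfect_two_out_of_three (DerivedCategory.triangleOfSES_distinguished hS)).2.1 ?_ (ih S.X₃ ?_ ?_)
    · exact isPerfect_of_iso ((DerivedCategory.singleFunctorIsoCompQ X.Modules b).app (F.X b))
        (perfect_single (h b))
    · intro i hi
      by_cases hib : i = b
      · subst hib; exact hb
      · haveI := hne i hib
        exact (hF i (hi.imp id fun h' => by simp only [b] at hib; push_cast; omega)).of_iso (asIso ((cokernel.π s).f i)).symm
    · intro i
      by_cases hib : i = b
      · subst hib
        exact EvalMain.isPerfect_of_isZero ((DerivedCategory.singleFunctor _ 0).map_isZero hb)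
      · haveI := hne i hib
        exact isPerfect_of_iso ((DerivedCategory.singleFunctor _ 0).mapIso (asIso ((cokernel.π s).f i))) (h i)

theorem perfect_push_free (i : Z ⟶ W) [IsClosedImmersion i]
    (hO : DCoh.IsPerfect (DCoh.inD W ((Scheme.Modules.pushforward i).obj (Coh.structureModule Z)))) (q : ℕ) :
    DCoh.IsPerfect ((pD i).obj (DCoh.inD Z (FlatMod.freeMod Z q))) := by
  induction q with
  | zero =>
    refine EvalMain.isPerfect_of_isZero ((pD i).map_isZero
      ((DerivedCategory.singleFunctor Z.Modules 0).map_isZero ?_))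
    exact (IsZero.iff_id_eq_zero _).2 (Sigma.hom_ext _ _ fun j => j.elim0)
  | succ q ih =>
    let F := pD i
    let s := DerivedCategory.singleFunctor Z.Modules 0
    haveI := preservesBinaryBiproducts_of_preservesBiproducts F
    haveI := preservesBinaryBiproducts_of_preservesBiproducts s
    let e : F.obj (DCoh.inD Z (FlatMod.freeMod Z (q + 1))) ≅
        F.obj (s.obj (Coh.structureModule Z)) ⊞ F.obj (s.obj (FlatMod.freeMod Z q)) :=
      F.mapIso (s.mapIso (coprodFinSuccIso fun _ : Fin (q + 1) => Coh.structureModule Z) ≪≫ s.mapBiprod _ _) ≪≫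
        F.mapBiprod _ _
    exact isPerfect_of_iso e.symm ((perfect_two_out_of_three (binaryBiproductTriangle_distinguished _ _)).2.1
      (isPerfect_of_iso
        (((Scheme.Modules.pushforward i).mapDerivedCategorySingleFunctor 0).app _).symm hO) ih)

theorem isPerfect_pD (i : Z ⟶ W) [IsClosedImmersion i] (hi : MoreMor.IsPerfectMor i) {E : DCoh.D Z}
    (hE : DCoh.IsPerfect E) : DCoh.IsPerfect ((pD i).obj E) := by
  have hO := Groth.L29.RelPC.perfect_push i hi
  refine EvalMain.isPerfect_of_local fun w => ?_
  by_cases hw : w ∈ Set.range i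
  · obtain ⟨z, rfl⟩ := hw
    obtain ⟨U, hzU, hU⟩ := (isPerfect_iff_free E).1 hE z
    obtain ⟨O, hO', hOU⟩ := i.isClosedEmbedding.isInducing.isOpen_iff.1 U.isOpen
    let V : W.Opens := ⟨O, hO'⟩
    obtain rfl : i ⁻¹ᵁ V = U := TopologicalSpace.Opens.ext hOU
    obtain ⟨P, a, b, hv, hfree, ⟨eP⟩⟩ := hU _ ⟨DerivedCategory.Q.objObjPreimageIso E⟩
    obtain ⟨e⟩ := nonempty_res i V
    let G := Scheme.Modules.pushforward (i ∣_ V)
    have hOV : DCoh.IsPerfect (DCoh.inD V.toScheme (G.obj (Coh.structureModule (i ⁻¹ᵁ V).toScheme))) :=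
      isPerfect_of_iso ((((Scheme.Modules.restrictFunctor V.ι).mapDerivedCategorySingleFunctor 0).app _) ≪≫
        (DerivedCategory.singleFunctor _ 0).mapIso
          ((Groth.L17.PushQCoh.pushRestrictIso i V.ι (i ⁻¹ᵁ V).ι (i ∣_ V) (by simp) (morphismRestrict_ι i V)).app
              (Coh.structureModule Z) ≪≫
            G.mapIso (Scheme.Modules.restrictUnitIso (i ⁻¹ᵁ V).ι)))
        (Gen.isPerfect_restrictD V.ι hO)
    refine ⟨V, hzU, isPerfect_of_iso (e.app E).symm (isPerfect_of_iso
      ((pD (i ∣_ V)).mapIso (((resD (i ⁻¹ᵁ V)).mapIso (DerivedCategory.Q.objObjPreimageIso E)).symm ≪≫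
        resQIso (i ⁻¹ᵁ V) _ ≪≫ eP)).symm
      (isPerfect_of_iso (G.mapDerivedCategoryFactors.app P).symm
        (perfect_of_terms a (b + 1 - a).toNat _ (fun j hj => G.map_isZero (hv j (hj.imp id fun h => by omega)))
          fun j => ?_)))⟩
    obtain ⟨n, ⟨en⟩⟩ := hfree j
    exact isPerfect_of_iso ((G.mapDerivedCategorySingleFunctor 0).app _ ≪≫
        (DerivedCategory.singleFunctor _ 0).mapIso (G.mapIso en.symm))
      (perfect_push_free (i ∣_ V) hOV n)
  · let V : W.Opens := ⟨(Set.range i)ᶜ, i.isClosedEmbedding.isClosed_range.isOpen_compl⟩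
    obtain ⟨e⟩ := nonempty_res i V
    refine ⟨V, hw, isPerfect_of_iso (e.app E).symm (EvalMain.isPerfect_of_isZero ((pD (i ∣_ V)).map_isZero ?_))⟩
    haveI : IsEmpty (i ⁻¹ᵁ V).toScheme := ⟨fun z => z.2 ⟨(i ⁻¹ᵁ V).ι z, rfl⟩⟩
    exact Gen.isZero_of_hd fun j => (PCStalk.isZero_HD_iff_stk _ _).2 fun z => isEmptyElim z

end Groth.Lead.PerfPD
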