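import Groth.Agent.Lead.PerfProj
import Groth.Agent.Lead.RelPCTest
import Groth.Agent.L12.PushFree.ProjUnit
import Groth.Agent.L12.PushFree.KReg
import Groth.Agent.L17.ToAbRpush
import Groth.Agent.L00.TensorColim

/-!
Twists of projective space over a base, on the derived category.
-/

set_option autoImplicit false
set_option linter.style.haveILetI false
set_option backward.defeqAttrib.useBackward true
set_option backward.isDefEq.respectTransparency false
set_option backward.isDefEq.respectTransparency.types false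

universe u

open CategoryTheory CategoryTheory.Limits CategoryTheory.Pretriangulated AlgebraicGeometry

attribute [local instance] HasDerivedCategory.standard

noncomputable section

namespace Groth.Lead.ProjTwT

open Groth.L00 Groth.L29.DC Groth.L29.BC Groth.Lead.TwistEquiv
open Groth.L00.Tensor (tensorMap tensorIso)

local notation "up" => ComplexShape.up ℤ

variable {X : Scheme.{u}}

/-- isomorphic modules give isomorphic tensor functors -/
def congrIso {A B : X.Modules} (e : A ≅ B) : DCoh.tensorRightMod A ≅ DCoh.tensorRightMod B :=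
  NatIso.ofComponents (fun M => tensorIso (Iso.refl M) e) fun {M M'} f => by
    change (DCoh.tensorRightMod A).map f ≫ tensorMap (𝟙 M') e.hom =
      tensorMap (𝟙 M) e.hom ≫ (DCoh.tensorRightMod B).map f
    rw [KoszulTwist.rightMod_map, KoszulTwist.rightMod_map, ← Groth.L00.Tensor.tensorMap_comp,
      ← Groth.L00.Tensor.tensorMap_comp]
    simp only [Category.id_comp, Category.comp_id]

/-- composing twists -/
theorem nonempty_T_comp {A B C : X.Modules} (hA : FlatMod.IsFinLocFree A) (hB : FlatMod.IsFinLocFree B)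
    (hC : FlatMod.IsFinLocFree C) (e : CohB1.tensorMod A B ≅ C) (E : DCoh.D X) :
    Nonempty ((T B hB).obj ((T A hA).obj E) ≅ (T C hC).obj E) := by
  let G := DerivedCategory.Q.objPreimage E
  let eG := DerivedCategory.Q.objObjPreimageIso E
  let c := compIso A B ≪≫ congrIso e
  exact ⟨(T B hB).mapIso ((T A hA).mapIso eG.symm ≪≫ (TFactors A hA).app G) ≪≫ (TFactors B hB).app _ ≪≫
    DerivedCategory.Q.mapIso (HomologicalComplex.Hom.isoOfComponents (fun i => c.app (G.X i))
      (fun i j _ => (c.hom.naturality (G.d i j)).symm) :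
        ((DCoh.tensorRightMod B).mapHomologicalComplex up).obj (((DCoh.tensorRightMod A).mapHomologicalComplex up).obj G) ≅
          ((DCoh.tensorRightMod C).mapHomologicalComplex up).obj G) ≪≫
    ((TFactors C hC).app G).symm ≪≫ (T C hC).mapIso eG⟩

/-- twisting by the structure sheaf -/
theorem nonempty_T_unit {A : X.Modules} (hA : FlatMod.IsFinLocFree A) (e : A ≅ Coh.structureModule X) (E : DCoh.D X) :
    Nonempty ((T A hA).obj E ≅ E) := by
  let G := DerivedCategory.Q.objPreimage E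
  let eG := DerivedCategory.Q.objObjPreimageIso E
  let c := unitIso e
  exact ⟨(T A hA).mapIso eG.symm ≪≫ (TFactors A hA).app G ≪≫
    DerivedCategory.Q.mapIso (HomologicalComplex.Hom.isoOfComponents (fun i => c.app (G.X i))
      fun i j _ => (c.hom.naturality (G.d i j)).symm) ≪≫ eG⟩

/-- the left tensor functor on the derived category is the twist -/
theorem nonempty_left_T {L : X.Modules} (hL : FlatMod.IsFinLocFree L)
    [PreservesFiniteLimits ((DCoh.tensorBi (X := X)).obj L)] [PreservesFiniteColimits ((DCoh.tensorBi (X := X)).obj L)]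
    (E : DCoh.D X) : Nonempty ((((DCoh.tensorBi (X := X)).obj L).mapDerivedCategory).obj E ≅ (T L hL).obj E) := by
  let G := DerivedCategory.Q.objPreimage E
  let eG := DerivedCategory.Q.objObjPreimageIso E
  let c : DCoh.tensorRightMod L ≅ (DCoh.tensorBi (X := X)).obj L := Groth.L00.Tensor.tensorFlipIso L
  exact ⟨((DCoh.tensorBi (X := X)).obj L).mapDerivedCategory.mapIso eG.symm ≪≫
    ((DCoh.tensorBi (X := X)).obj L).mapDerivedCategoryFactors.app G ≪≫
    DerivedCategory.Q.mapIso (HomologicalComplex.Hom.isoOfComponents (fun i => (c.app (G.X i)).symm)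
      (fun i j _ => (c.inv.naturality (G.d i j)).symm) :
        (((DCoh.tensorBi (X := X)).obj L).mapHomologicalComplex up).obj G ≅
          ((DCoh.tensorRightMod L).mapHomologicalComplex up).obj G) ≪≫
    ((TFactors L hL).app G).symm ≪≫ (T L hL).mapIso eG⟩

/-- twisting preserves perfect objects -/
theorem isPerfect_T {L : X.Modules} (hL : FlatMod.IsFinLocFree L) {E : DCoh.D X} (hE : DCoh.IsPerfect E) :
    DCoh.IsPerfect ((T L hL).obj E) := by
  let O := Groth.Lead.LTMod.S0 L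
  have hO : DCoh.IsKFlat O := KFlat.single _ (isFlat_of_isFinLocFree hL) 0
  haveI := KFlat.hasLTensorCx O
  haveI := DerivedApi.hasLTensorMod L
  have hOp : DCoh.IsPerfect (DCoh.toD _ O) :=
    isPerfect_of_iso ((DerivedCategory.singleFunctorIsoCompQ _ 0).app L) (Groth.Lead.PCProj.isPerfect_inD hL)
  exact isPerfect_of_iso ((Groth.Lead.LTMod.iso L).symm.app E ≪≫ (ltIso L hL).app E)
    (isPerfect_LTensorCx O hO hOp _ hE)

/-- twisting preserves quasi-coherent cohomology -/
theorem isQCohD_T {L : X.Modules} (hL : FlatMod.IsFinLocFree L) {E : DCoh.D X} (hE : DCoh.IsQCohD E) :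
    DCoh.IsQCohD ((T L hL).obj E) := by
  let O := Groth.Lead.LTMod.S0 L
  have hO : DCoh.IsKFlat O := KFlat.single _ (isFlat_of_isFinLocFree hL) 0
  haveI := KFlat.hasLTensorCx O
  haveI := DerivedApi.hasLTensorMod L
  exact isQCohD_of_iso ((Groth.Lead.LTMod.iso L).symm.app E ≪≫ (ltIso L hL).app E)
    (isQCohD_LTensorCx O (PCQCoh.isQCohD_of_perfect (isPerfect_of_iso
      ((DerivedCategory.singleFunctorIsoCompQ _ 0).app L) (Groth.Lead.PCProj.isPerfect_inD hL))) hE)

/-- projection formula for twists -/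
theorem nonempty_push_twist {S : Scheme.{u}} (p : X ⟶ S) [QuasiCompact p] [QuasiSeparated p] [DCoh.HasRpush p]
    [DCoh.HasLpull p] {L : X.Modules} (hL : FlatMod.IsFinLocFree L) (K : CochainComplex S.Modules ℤ)
    (hK : DCoh.IsQCohD (DCoh.toD S K)) [DCoh.HasLTensorCx K] :
    Nonempty ((DCoh.LTensorCx K).obj ((DCoh.Rpush p).obj (DCoh.inD X L)) ≅
      (DCoh.Rpush p).obj ((T L hL).obj ((DCoh.Lpull p).obj (DCoh.toD S K)))) := by
  haveI := Groth.L29.RelPC.additive_pullback p
  obtain ⟨P, r, hP, -, hr, -⟩ := KFlat.exists_resolution K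
  haveI := (DerivedCategory.isIso_Q_map_iff_quasiIso _ r).2 hr
  let M := ((Scheme.Modules.pullback p).mapHomologicalComplex up).obj P
  have hM : DCoh.IsKFlat M := KFlat.pullback_kflat p P hP
  let eM : DCoh.toD _ M ≅ (DCoh.Lpull p).obj (DCoh.toD S K) :=
    (DerivedApi.objIso (DerivedApi.acyclicKFlat_pullback p) P hP).symm ≪≫
      (DCoh.Lpull p).mapIso (asIso (DerivedCategory.Q.map r))
  haveI := KFlat.hasLTensorCx M
  let O := Groth.Lead.LTMod.S0 L
  have hO : DCoh.IsKFlat O := KFlat.single _ (isFlat_of_isFinLocFree hL) 0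
  haveI := KFlat.hasLTensorCx O
  haveI := DerivedApi.hasLTensorMod L
  let eO : DCoh.inD X L ≅ DCoh.toD X O := (DerivedCategory.singleFunctorIsoCompQ _ 0).app L
  obtain ⟨v⟩ := ProjQC.nonempty_projection p (DCoh.inD X L)
    (PCQCoh.isQCohD_of_perfect (Groth.Lead.PCProj.isPerfect_inD hL)) K hK M ⟨eM⟩
  exact ⟨v ≪≫ (DCoh.Rpush p).mapIso ((DCoh.LTensorCx M).mapIso eO ≪≫ (Assoc.allIso M hM).app O ≪≫
    DerivedCategory.Q.mapIso (KFlat.commIso M O) ≪≫ ((Assoc.allIso O hO).app M).symm ≪≫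
    (DCoh.LTensorCx O).mapIso eM ≪≫ (Groth.Lead.LTMod.iso L).symm.app _ ≪≫ (ltIso L hL).app _)⟩

/-- the twist through the derived tensor product -/
theorem nonempty_T_tensor {L : X.Modules} (hL : FlatMod.IsFinLocFree L) (G : CochainComplex X.Modules ℤ) :
    Nonempty ((T L hL).obj (DCoh.toD X G) ≅
      DCoh.toD X ((DCoh.tensorCx.obj G).obj (Groth.Lead.LTMod.S0 L))) := by
  let O := Groth.Lead.LTMod.S0 L
  have hO : DCoh.IsKFlat O := KFlat.single _ (isFlat_of_isFinLocFree hL) 0
  haveI := KFlat.hasLTensorCx O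
  haveI := DerivedApi.hasLTensorMod L
  exact ⟨((Groth.Lead.LTMod.iso L).symm.app _ ≪≫ (ltIso L hL).app _).symm ≪≫ (Assoc.allIso O hO).app G⟩

/-- twists and open restriction -/
theorem nonempty_restrict_T {W : Scheme.{u}} (e : W ⟶ X) [IsOpenImmersion e] {L : X.Modules}
    (hL : FlatMod.IsFinLocFree L) {L' : W.Modules} (hL' : FlatMod.IsFinLocFree L')
    (a : (Scheme.Modules.restrictFunctor e).obj L ≅ L') (E : DCoh.D X) :
    Nonempty ((DCoh.restrictD e).obj ((T L hL).obj E) ≅ (T L' hL').obj ((DCoh.restrictD e).obj E)) := by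
  let G := DerivedCategory.Q.objPreimage E
  let eG := DerivedCategory.Q.objObjPreimageIso E
  let rs := (Scheme.Modules.restrictFunctor e).mapHomologicalComplex up
  let fac := fun N : CochainComplex X.Modules ℤ =>
    (Scheme.Modules.restrictFunctor e).mapDerivedCategoryFactors.app N
  obtain ⟨u⟩ := nonempty_T_tensor hL G
  obtain ⟨v⟩ := nonempty_T_tensor hL' (rs.obj G)
  let σ : rs.obj (Groth.Lead.LTMod.S0 L) ≅ Groth.Lead.LTMod.S0 L' :=
    (HomologicalComplex.singleMapHomologicalComplex (Scheme.Modules.restrictFunctor e) up 0).app L ≪≫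
      (HomologicalComplex.single W.Modules up 0).mapIso a
  exact ⟨(DCoh.restrictD e).mapIso ((T L hL).mapIso eG.symm ≪≫ u) ≪≫ fac _ ≪≫
    DerivedCategory.Q.mapIso ((restrictTensorCxIso e G (Groth.Lead.LTMod.S0 L)).symm ≪≫
      (DCoh.tensorCx.obj (rs.obj G)).mapIso σ) ≪≫ v.symm ≪≫
    (T L' hL').mapIso ((fac G).symm ≪≫ (DCoh.restrictD e).mapIso eG)⟩

/-- projection formula for a twist of a direct image -/
theorem nonempty_T_push {S : Scheme.{u}} (g : X ⟶ S) [QuasiCompact g] [QuasiSeparated g] [DCoh.HasRpush g]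
    {L : S.Modules} (hL : FlatMod.IsFinLocFree L) {L' : X.Modules} (hL' : FlatMod.IsFinLocFree L')
    (a : (Scheme.Modules.pullback g).obj L ≅ L') (E : DCoh.D X) (hE : DCoh.IsQCohD E) :
    Nonempty ((T L hL).obj ((DCoh.Rpush g).obj E) ≅ (DCoh.Rpush g).obj ((T L' hL').obj E)) := by
  haveI := KFlat.hasLpull g
  haveI := Groth.L29.RelPC.additive_pullback g
  let O := Groth.Lead.LTMod.S0 L
  have hO : DCoh.IsKFlat O := KFlat.single _ (isFlat_of_isFinLocFree hL) 0
  let O' := Groth.Lead.LTMod.S0 L'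
  have hO' : DCoh.IsKFlat O' := KFlat.single _ (isFlat_of_isFinLocFree hL') 0
  haveI := KFlat.hasLTensorCx O
  haveI := KFlat.hasLTensorCx O'
  haveI := DerivedApi.hasLTensorMod L
  haveI := DerivedApi.hasLTensorMod L'
  let σ : ((Scheme.Modules.pullback g).mapHomologicalComplex up).obj O ≅ O' :=
    (HomologicalComplex.singleMapHomologicalComplex (Scheme.Modules.pullback g) up 0).app L ≪≫
      (HomologicalComplex.single X.Modules up 0).mapIso a
  obtain ⟨v⟩ := ProjQC.nonempty_projection g E hE O (PCQCoh.isQCohD_of_perfect (isPerfect_of_iso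
      ((DerivedCategory.singleFunctorIsoCompQ _ 0).app L) (Groth.Lead.PCProj.isPerfect_inD hL))) O'
    ⟨DerivedCategory.Q.mapIso σ.symm ≪≫ (DerivedApi.objIso (DerivedApi.acyclicKFlat_pullback g) O hO).symm⟩
  exact ⟨((Groth.Lead.LTMod.iso L).symm.app _ ≪≫ (ltIso L hL).app _).symm ≪≫ v ≪≫
    (DCoh.Rpush g).mapIso ((Groth.Lead.LTMod.iso L').symm.app _ ≪≫ (ltIso L' hL').app _)⟩

end Groth.Lead.ProjTwT

namespace Groth.Lead.ProjTwT

open Groth.L00 Groth.L29.DC Groth.L29.DC.Gen Groth.L29.BC Groth.L22.Reg Groth.Lead.TwistEquiv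

variable (n : ℕ) (S : Scheme.{u})

theorem hfl (d : ℤ) : FlatMod.IsFinLocFree (Twist.twistOver n S d) := Groth.L12.KReg.isFinLocFree_O d

variable [DCoh.HasRpush (KRR.pr n S)]

/-- the direct images of the structure sheaf and of its first negative twists -/
theorem push_twistOver (d : ℤ) (hd : -(n : ℤ) ≤ d) (hd0 : d ≤ 0) :
    (d < 0 → IsZero ((DCoh.Rpush (KRR.pr n S)).obj (DCoh.inD _ (Twist.twistOver n S d)))) ∧
    (d = 0 → Nonempty ((DCoh.Rpush (KRR.pr n S)).obj (DCoh.inD _ (Twist.twistOver n S d)) ≅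
      DCoh.inD S (Coh.structureModule S))) := by
  haveI : IsProper (KRR.pr n S) := Groth.L16.ProjSpace.isProper_toBase n S
  haveI := Groth.L17.PushQCoh.hasInjectiveResolutions (KRR.PY n S)
  haveI : HasInjectiveResolutions (CohB1.ProjSpaceOver n S).Modules := ‹HasInjectiveResolutions (KRR.PY n S).Modules›
  haveI := Groth.L17.PushQCoh.additive_push (KRR.pr n S)
  let T := (DCoh.Rpush (KRR.pr n S)).obj (DCoh.inD _ (Twist.twistOver n S d))
  have hz : ∀ i : ℤ, (i ≠ 0 ∨ d < 0) → IsZero (DCoh.HD T i) := fun i h => by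
    rcases lt_or_ge i 0 with hi | hi
    · haveI : (DCoh.inD (KRR.PY n S) (Twist.twistOver n S d)).IsGE 0 := inferInstance
      haveI := RpushQC.isGE_Rpush (KRR.pr n S) (DCoh.inD (KRR.PY n S) (Twist.twistOver n S d)) 0
      exact DerivedCategory.isZero_of_isGE _ 0 i hi
    · obtain ⟨q, rfl⟩ : ∃ q : ℕ, i = q := ⟨i.toNat, by omega⟩
      obtain ⟨e⟩ := Groth.Lead.RpushHD.nonempty_HD_Rpush_inD (KRR.pr n S) (Twist.twistOver n S d) q
      refine IsZero.of_iso ?_ e
      obtain ⟨e'⟩ := Groth.L17.nonempty_toAb_Rpush_iso (KRR.pr n S) (Twist.twistOver n S d) q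
      refine Groth.L17.PushQCoh.isZero_of_toAb (IsZero.of_iso ?_ e')
      exact Groth.L16.ProjSpace.isZero_RpushAb_twistOver n d q fun R _ =>
        Groth.L16.ProjSpace.subsingleton_HH_twist n R d q (by rintro ⟨rfl, h0⟩; omega) (by omega)
  refine ⟨fun h => Groth.Lead.PerfProj.isZero_D_of_HD fun i => hz i (Or.inr h), fun h => ?_⟩
  subst h
  haveI : T.IsGE 0 := (DerivedCategory.isGE_iff _ _).2 fun i hi => hz i (Or.inl (by omega))
  haveI : T.IsLE 0 := (DerivedCategory.isLE_iff _ _).2 fun i hi => hz i (Or.inl (by omega))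
  obtain ⟨Y, ⟨eY⟩⟩ := DerivedCategory.exists_iso_singleFunctor_obj_of_isGE_of_isLE T 0
  obtain ⟨a⟩ := Groth.L29.RelPC.nonempty_HD0_inD Y
  obtain ⟨b⟩ := Groth.Lead.RpushHD.nonempty_HD_Rpush_inD (KRR.pr n S) (Twist.twistOver n S 0) 0
  obtain ⟨z⟩ := nonempty_OT_zero (n := n) (T := S)
  obtain ⟨c⟩ := Groth.L12.PushFree.nonempty_push_structure_iso n S
  exact ⟨eY ≪≫ (DerivedCategory.singleFunctor _ 0).mapIso (a.symm ≪≫
    (DerivedCategory.homologyFunctor _ 0).mapIso eY.symm ≪≫ b ≪≫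
    (Scheme.Modules.pushforward (KRR.pr n S)).rightDerivedZeroIsoSelf.app (Twist.twistOver n S 0) ≪≫
    (Scheme.Modules.pushforward (KRR.pr n S)).mapIso z ≪≫ c.symm)⟩

/-- twisted direct images detect zero over the base ring -/
theorem isZero_of_twists_affine (A : Type u) [CommRing A] [DCoh.HasRpush (CohB1.ProjSpace.toSpec n A)]
    {W : DCoh.D (CohB1.ProjSpace n A)} (hW : DCoh.IsQCohD W)
    (h : ∀ d : ℕ, d ≤ n → IsZero ((Groth.Lead.PCProj.NF n A d).obj W)) : IsZero W := by
  open Groth.Lead.PCProj in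
  refine Groth.Lead.PerfProj.isZero_D_of_HD fun j => ?_
  obtain ⟨e'⟩ : Nonempty (DCoh.HD (W⟦j - 1⟧) 1 ≅ DCoh.HD W j) :=
    ⟨((DerivedCategory.homologyFunctor _ 0).shiftIso (j - 1) 1 j (by omega)).app W⟩
  exact IsZero.of_iso (Groth.Lead.PCProj.isZero_HD_pos (isQCohD_shift hW _) (fun d hd i _ =>
    (DerivedCategory.homologyFunctor _ i).map_isZero (((shiftFunctor _ (j - 1)).map_isZero (h d hd)).of_iso
      (((Groth.Lead.PCProj.NF n A (d : ℤ)).commShiftIso (j - 1)).app W))) 1 one_pos) e'.symm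

set_option maxHeartbeats 1600000 in
/-- twisted direct images detect zero -/
theorem isZero_of_push_twists {K : DCoh.D (KRR.PY n S)} (hK : DCoh.IsQCohD K)
    (h : ∀ j : ℕ, j ≤ n → IsZero ((DCoh.Rpush (KRR.pr n S)).obj
      ((T (Twist.twistOver n S (-(j : ℤ))) (hfl n S _)).obj K))) : IsZero K := by
  refine Gen.isZero_of_cover fun x => ?_
  obtain ⟨_, ⟨(V : S.Opens), hV, rfl⟩, hxV, -⟩ :=
    S.isBasis_affineOpens.exists_subset_of_mem_open (Set.mem_univ (KRR.pr n S x)) isOpen_univ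
  let p := KRR.pr n S
  haveI : IsProper p := Groth.L16.ProjSpace.isProper_toBase n S
  refine ⟨p ⁻¹ᵁ V, hxV, ?_⟩
  let e := (p ⁻¹ᵁ V).ι
  let pU := p ∣_ V
  let R := ULift.{u} ℤ
  let t := CohB1.ProjSpace.toSpec n R
  haveI : IsProper t := Groth.L16.ProjSpace.isProper_toSpec n R
  let τ := specULiftZIsTerminal.from (V : Scheme.{u})
  let fs := pullback.fst t (specULiftZIsTerminal.from S)
  have hbig : IsPullback (e ≫ fs) pU t τ := by
    have := (isPullback_morphismRestrict p V).flip.paste_horiz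
      (IsPullback.of_hasPullback t (specULiftZIsTerminal.from S))
    rwa [specULiftZIsTerminal.hom_ext (V.ι ≫ specULiftZIsTerminal.from S) τ] at this
  let g := e ≫ fs
  haveI : IsAffine (V : Scheme.{u}) := hV
  haveI : IsAffineHom τ := inferInstance
  haveI : IsAffineHom g := MorphismProperty.of_isPullback (P := @IsAffineHom) hbig.flip inferInstance
  haveI := fun {Y Z : Scheme.{u}} (k : Y ⟶ Z) => RpushQC.hasRpush k
  let E := (DCoh.restrictD e).obj K
  have hE : DCoh.IsQCohD E := isQCohD_restrictD e hK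
  refine IsZero.of_iso ?_ (Iso.refl E)
  refine RpushQC.isZero_of_isZero_Rpush g E hE ?_
  let W := (DCoh.Rpush g).obj E
  have hW : DCoh.IsQCohD W := RpushQC.isQCohD_Rpush g E hE
  suffices hz : IsZero ((Groth.Lead.PCProj.Tw n R (-(n : ℤ))).obj W) by
    obtain ⟨e'⟩ := Groth.Lead.PCProj.nonempty_inverse n R (-(n : ℤ))
    rw [neg_neg] at e'
    obtain ⟨c⟩ := nonempty_T_comp (Groth.Lead.PCProj.hfl n R (-(n : ℤ))) (Groth.Lead.PCProj.hfl n R (n : ℤ))
      (Groth.Lead.PCProj.hfl n R 0) (e' ≪≫ (Groth.L16.ProjTwist.nonempty_twist_zero_iso (CohB1.polyGrading n R)).some.symm) W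
    obtain ⟨c'⟩ := nonempty_T_unit (Groth.Lead.PCProj.hfl n R 0)
      (Groth.L16.ProjTwist.nonempty_twist_zero_iso (CohB1.polyGrading n R)).some W
    exact ((Groth.Lead.PCProj.Tw n R (n : ℤ)).map_isZero hz).of_iso (c ≪≫ c').symm
  refine isZero_of_twists_affine n R (Groth.Lead.PCProj.isQCohD_Tw n R _ hW) fun d hd => ?_
  let j := n - d
  have hj : -(n : ℤ) + (d : ℤ) = -(j : ℤ) := by omega
  obtain ⟨m⟩ := nonempty_O_add (n := n) (R := R) hj
  obtain ⟨c⟩ := nonempty_T_comp (Groth.Lead.PCProj.hfl n R (-(n : ℤ))) (Groth.Lead.PCProj.hfl n R (d : ℤ))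
    (Groth.Lead.PCProj.hfl n R (-(j : ℤ))) m W
  let LS := Twist.twistOver n S (-(j : ℤ))
  let L' := (Scheme.Modules.restrictFunctor e).obj LS
  let a : (Scheme.Modules.pullback g).obj (Twist.twistProjSpace n R (-(j : ℤ))) ≅ L' :=
    ((Scheme.Modules.pullbackComp e fs).app _).symm ≪≫
      ((Scheme.Modules.restrictFunctorIsoPullback e).app LS).symm
  have hL' : FlatMod.IsFinLocFree L' := Groth.L29.LocFree.of_iso a
    (Groth.L29.LocFree.pullback g (Groth.Lead.PCProj.hfl n R (-(j : ℤ))))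
  obtain ⟨u⟩ := nonempty_T_push g (Groth.Lead.PCProj.hfl n R (-(j : ℤ))) hL' a E hE
  obtain ⟨v⟩ := nonempty_restrict_T e (hfl n S (-(j : ℤ))) hL' (Iso.refl _) K
  obtain ⟨eV⟩ := RpushRes.nonempty_iso p V.ι e pU (by simp [e]) (morphismRestrict_ι p V)
  have h0 : IsZero ((DCoh.Rpush pU).obj ((T L' hL').obj E)) :=
    ((DCoh.restrictD V.ι).map_isZero (h j (by omega))).of_iso
      ((DCoh.Rpush pU).mapIso v.symm ≪≫ (eV.app _).symm)
  have h1 : IsZero ((DCoh.Rpush τ).obj ((DCoh.Rpush pU).obj ((T L' hL').obj E))) := by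
    letI := Gen.commShiftRpush τ
    haveI := Gen.isTriangulated_Rpush τ
    exact (DCoh.Rpush τ).map_isZero h0
  exact h1.of_iso ((DCoh.Rpush t).mapIso (c ≪≫ u) ≪≫
    (cR (g := g) (f := t) (h := pU ≫ τ) hbig.w).app _ ≪≫
    ((cR (g := pU) (f := τ) (h := pU ≫ τ) rfl).app _).symm)

end Groth.Lead.ProjTwT
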