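import Mathlib.FieldTheory.PurelyInseparable.Exponent
import Mathlib.FieldTheory.PurelyInseparable.PerfectClosure
import Mathlib.FieldTheory.SeparablyGenerated
import Mathlib.RingTheory.EssentialFiniteness

/-!
# Purely inseparable subfields of function fields of curves over perfect fields

A subfield `K` of a field `L` which is separable over `k(t)`, `k` perfect, over which `L` is purely
inseparable of degree `q`, is the field of `q`-th powers of `L`.
-/

set_option autoImplicit false

universe u

open Polynomial IntermediateField

namespace Groth.Lead.PurInsepCurveField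

/-- A finitely generated field of transcendence degree at most one over a perfect field is separable
over a simple subextension. -/
theorem exists_sep_element (k : Type u) [Field k] [PerfectField k] (A : Type u) [CommRing A]
    [IsDomain A] [Algebra k A] [Algebra.FiniteType k A] (L : Type u) [Field L] [Algebra A L]
    [IsFractionRing A L] [Algebra k L] [IsScalarTower k A L] (h : Algebra.trdeg k L ≤ 1) :
    ∃ t : L, Algebra.IsSeparable (IntermediateField.adjoin k ({t} : Set L)) L := by
  haveI : Algebra.EssFiniteType A L := Algebra.EssFiniteType.of_isLocalization L (nonZeroDivisors A)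
  haveI : Algebra.EssFiniteType k L := Algebra.EssFiniteType.comp k A L
  obtain ⟨s, hs, hsep⟩ := exists_isTranscendenceBasis_and_isSeparable_of_perfectField k L
  have hc : s.card ≤ 1 := by
    have h1 := hs.cardinalMk_eq_trdeg
    rw [Cardinal.mk_coe_finset] at h1
    rw [← h1] at h
    exact_mod_cast h
  obtain ⟨t, ht⟩ : ∃ t, (s : Set L) ⊆ {t} := by
    rcases Finset.eq_empty_or_nonempty s with rfl | ⟨t, ht⟩
    · exact ⟨0, by simp⟩
    · exact ⟨t, fun x hx => Finset.card_le_one.1 hc x hx t ht⟩
  refine ⟨t, ?_⟩
  have hle : IntermediateField.adjoin k (s : Set L) ≤ IntermediateField.adjoin k {t} :=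
    IntermediateField.adjoin.mono k _ _ ht
  letI := (IntermediateField.inclusion hle).toRingHom.toAlgebra
  haveI : IsScalarTower (IntermediateField.adjoin k (s : Set L)) (IntermediateField.adjoin k ({t} : Set L)) L :=
    IsScalarTower.of_algebraMap_eq fun _ => rfl
  exact Algebra.isSeparable_tower_top_of_isSeparable (IntermediateField.adjoin k (s : Set L)) _ L

/-- Every element of a purely inseparable extension of degree `p ^ n` has its `p ^ n`-th power in
the base. -/
theorem pow_mem_range {K L : Type u} [Field K] [Field L] [Algebra K L] [FiniteDimensional K L]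
    [IsPurelyInseparable K L] (p : ℕ) [ExpChar K p] {n : ℕ} (hn : Module.finrank K L = p ^ n)
    (x : L) : x ^ p ^ n ∈ (algebraMap K L).range := by
  have hd : p ^ IsPurelyInseparable.elemExponent K x ≤ p ^ n := by
    rw [← IsPurelyInseparable.minpoly_natDegree_eq' K p x, ← hn]
    exact minpoly.natDegree_le x
  have hdvd : p ^ IsPurelyInseparable.elemExponent K x ∣ p ^ n := by
    rcases eq_or_lt_of_le (Nat.one_le_iff_ne_zero.2 (expChar_pos K p).ne') with h | h
    · simp [← h]
    · exact pow_dvd_pow _ ((Nat.pow_le_pow_iff_right h).1 hd)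
  obtain ⟨c, hc⟩ := hdvd
  rw [hc, pow_mul]
  exact pow_mem (IsPurelyInseparable.elemExponent_def' K p x) _

/-- The base is contained in the `q`-th powers. -/
theorem exists_pow_eq {k K L : Type u} [Field k] [PerfectField k] [Field K] [Field L] [Algebra k L]
    [Algebra K L] [FiniteDimensional K L] [IsPurelyInseparable K L] (p : ℕ) [ExpChar L p] {n : ℕ}
    (hn : Module.finrank K L = p ^ n) (t : L)
    [Algebra.IsSeparable (IntermediateField.adjoin k ({t} : Set L)) L] (a : K) :
    ∃ b : L, b ^ p ^ n = algebraMap K L a := by
  haveI : ExpChar K p := (algebraMap K L).expChar (algebraMap K L).injective p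
  haveI : ExpChar k p := (algebraMap k L).expChar (algebraMap k L).injective p
  haveI : ExpChar (IntermediateField.adjoin k ({t} : Set L)) p :=
    expChar_of_injective_ringHom (algebraMap k _).injective p
  haveI : PerfectRing k p := PerfectField.toPerfectRing p
  let M : Subfield L := (iterateFrobenius L p n).fieldRange
  have hM : ∀ x : L, x ^ p ^ n ∈ M := fun x => ⟨x, iterateFrobenius_def p n x⟩
  have hMk : ∀ c : k, algebraMap k L c ∈ M := fun c => by
    obtain ⟨d, rfl⟩ := (bijective_iterateFrobenius k p n).2 c
    rw [iterateFrobenius_def, map_pow]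
    exact hM _
  have hpos : 0 < p ^ n := pow_pos (expChar_pos L p) n
  have ht : IsIntegral M t := by
    refine ⟨X ^ (p ^ n) - C (⟨t ^ p ^ n, hM t⟩ : M), monic_X_pow_sub_C _ hpos.ne', ?_⟩
    rw [← aeval_def, map_sub, map_pow, aeval_X, aeval_C]
    exact sub_self _
  have htop : IntermediateField.adjoin M ({t} : Set L) = ⊤ := by
    refine eq_top_iff.2 fun x _ => ?_
    have hx : x ∈ IntermediateField.adjoin (IntermediateField.adjoin k ({t} : Set L))
        ((· ^ p ^ n) '' (Set.univ : Set L)) := by
      rw [← adjoin_eq_adjoin_pow_expChar_pow_of_isSeparable' _ L Set.univ p n]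
      exact IntermediateField.subset_adjoin _ _ (Set.mem_univ x)
    have key : ∀ y : L, y ∈ IntermediateField.adjoin (IntermediateField.adjoin k ({t} : Set L))
        ((· ^ p ^ n) '' (Set.univ : Set L)) → y ∈ IntermediateField.adjoin M ({t} : Set L) := by
      intro y hy
      refine IntermediateField.adjoin_induction _ (p := fun z _ => z ∈ IntermediateField.adjoin M ({t} : Set L))
        ?_ ?_ (fun _ _ _ _ => add_mem) (fun _ _ => inv_mem) (fun _ _ _ _ => mul_mem) hy
      · rintro _ ⟨z, -, rfl⟩
        exact IntermediateField.algebraMap_mem _ (⟨z ^ p ^ n, hM z⟩ : M)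
      · rintro ⟨z, hz⟩
        refine IntermediateField.adjoin_induction k (p := fun w _ => w ∈ IntermediateField.adjoin M ({t} : Set L))
          ?_ ?_ (fun _ _ _ _ => add_mem) (fun _ _ => inv_mem) (fun _ _ _ _ => mul_mem) hz
        · rintro _ rfl
          exact IntermediateField.mem_adjoin_simple_self _ _
        · exact fun c => IntermediateField.algebraMap_mem _ (⟨_, hMk c⟩ : M)
    exact key x hx
  have hfin : Module.finrank M L ≤ p ^ n := by
    rw [← IntermediateField.finrank_top', ← htop, IntermediateField.adjoin.finrank ht]
    refine (Polynomial.natDegree_le_of_dvd (minpoly.dvd M t (p := X ^ (p ^ n) - C (⟨t ^ p ^ n, hM t⟩ : M)) ?_)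
      (monic_X_pow_sub_C _ hpos.ne').ne_zero).trans ?_
    · rw [map_sub, map_pow, aeval_X, aeval_C]
      exact sub_self _
    · rw [natDegree_X_pow_sub_C]
  haveI : FiniteDimensional M L := by
    have := IntermediateField.adjoin.finiteDimensional ht
    rw [htop] at this
    exact Module.Finite.equiv IntermediateField.topEquiv.toLinearEquiv
  let K' : IntermediateField M L :=
    (algebraMap K L).fieldRange.toIntermediateField fun m => by
      obtain ⟨y, hy⟩ := m.2
      have := pow_mem_range p hn y
      rw [← iterateFrobenius_def, hy] at this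
      exact this
  let φ : K →+* K' :=
    { toFun := fun c => ⟨algebraMap K L c, ⟨c, rfl⟩⟩
      map_one' := Subtype.ext (map_one _)
      map_mul' := fun c d => Subtype.ext (map_mul _ c d)
      map_zero' := Subtype.ext (map_zero _)
      map_add' := fun c d => Subtype.ext (map_add _ c d) }
  have hφ : Function.Bijective φ :=
    ⟨φ.injective, fun ⟨z, c, hc⟩ => ⟨c, Subtype.ext hc⟩⟩
  have h2 : Module.finrank K' L = p ^ n := by
    rw [← hn]
    exact (Algebra.finrank_eq_of_equiv_equiv (RingEquiv.ofBijective φ hφ) (RingEquiv.refl L)
      (RingHom.ext fun c => rfl)).symm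
  have h3 : Module.finrank M K' = 1 := by
    have h := Module.finrank_mul_finrank M K' L
    rw [h2] at h
    rw [← h] at hfin
    have : 0 < Module.finrank M K' := Module.finrank_pos
    by_contra hne
    have : 2 * p ^ n ≤ Module.finrank M K' * p ^ n := Nat.mul_le_mul_right _ (by omega)
    omega
  have h4 : algebraMap K L a ∈ (⊥ : IntermediateField M L) := by
    rw [← IntermediateField.finrank_eq_one_iff.1 h3]
    exact ⟨a, rfl⟩
  obtain ⟨⟨_, b, rfl⟩, hm⟩ := IntermediateField.mem_bot.1 h4
  exact ⟨b, (iterateFrobenius_def p n b).symm.trans hm⟩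

end Groth.Lead.PurInsepCurveField
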