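import Groth.Agent.L19.NormalSections
import Groth.Agent.Lead.PurInsepCurveField

/-!
# Schemes related by a finite purely inseparable morphism

If `f : X ⟶ Y` is a finite morphism of normal integral schemes and the function field of `Y` is the
field of `q`-th powers of that of `X`, then `X` and `Y` are isomorphic.
-/

set_option autoImplicit false
set_option linter.style.haveILetI false
set_option backward.isDefEq.respectTransparency.types false

universe u

open CategoryTheory AlgebraicGeometry TopologicalSpace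

namespace Groth.Lead.PurInsepCurveIso

variable {X Y : Scheme.{u}} [IsIntegral X] [IsIntegral Y] (f : X ⟶ Y) [IsFinite f]
  (e : f (genericPoint X) = genericPoint Y)

/-- The map of function fields. -/
noncomputable def χ : Y.functionField ⟶ X.functionField :=
  Y.presheaf.stalkSpecializes (specializes_of_eq e) ≫ f.stalkMap (genericPoint X)

theorem germ_χ (V : Y.Opens) (hη : genericPoint Y ∈ V) :
    Y.presheaf.germ V (genericPoint Y) hη ≫ χ f e =
      f.app V ≫ X.presheaf.germ (f ⁻¹ᵁ V) (genericPoint X) (show f (genericPoint X) ∈ V from e.symm ▸ hη) := by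
  rw [χ, ← Category.assoc, TopCat.Presheaf.germ_stalkSpecializes, Scheme.Hom.germ_stalkMap]

include e in
theorem app_injective (V : Y.Opens) (hη : genericPoint Y ∈ V) : Function.Injective (f.app V) := by
  intro a b hab
  apply germ_injective_of_isIntegral Y (genericPoint Y) hη
  apply (χ f e).hom.injective
  have h := germ_χ f e V hη
  exact (congrArg (fun g => g a) h).trans ((congrArg (X.presheaf.germ (f ⁻¹ᵁ V) (genericPoint X) _) hab).trans
    (congrArg (fun g => g b) h).symm)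

variable (p : ℕ) [ExpChar X.functionField p] (n : ℕ)
  (hq : ∀ x : X.functionField, x ^ p ^ n ∈ (χ f e).hom.range)
  (hsurj : ∀ a : Y.functionField, ∃ b : X.functionField, b ^ p ^ n = χ f e a)
  (hX : ∀ x : X, IsIntegrallyClosed (X.presheaf.stalk x))
  (hY : ∀ y : Y, IsIntegrallyClosed (Y.presheaf.stalk y))

include e in
theorem mem_preimage {V : Y.Opens} (hη : genericPoint Y ∈ V) : genericPoint X ∈ f ⁻¹ᵁ V := by
  show f (genericPoint X) ∈ V
  rw [e]; exact hη

include hq hY e in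
theorem exists_root {V : Y.Opens} (hV : IsAffineOpen V) (hη : genericPoint Y ∈ V) (b : Γ(X, f ⁻¹ᵁ V)) :
    ∃ a : Γ(Y, V), f.app V a = b ^ p ^ n := by
  obtain ⟨z, hz⟩ := hq (X.presheaf.germ (f ⁻¹ᵁ V) (genericPoint X) (mem_preimage f e hη) b)
  have hint : ((Y.presheaf.germ V (genericPoint Y) hη).hom.comp (RingHom.id _)).IsIntegralElem z := by
    obtain ⟨P, hP, hPb⟩ := ((f.finite_app V hV).to_isIntegral) (b ^ p ^ n)
    refine ⟨P, hP, (χ f e).hom.injective ?_⟩
    have hc : (χ f e).hom.comp ((Y.presheaf.germ V (genericPoint Y) hη).hom.comp (RingHom.id _)) =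
        (X.presheaf.germ (f ⁻¹ᵁ V) (genericPoint X) (mem_preimage f e hη)).hom.comp (f.app V).hom := by
      rw [RingHom.comp_id, ← CommRingCat.hom_comp, germ_χ, CommRingCat.hom_comp]
    rw [Polynomial.hom_eval₂, hc, map_zero, hz, ← map_pow, ← Polynomial.hom_eval₂, hPb, map_zero]
  obtain ⟨a, ha⟩ := Groth.L19.NormalSec.exists_section_of_isIntegral hY V hη (RingHom.id _) z hint
  refine ⟨a, germ_injective_of_isIntegral X (genericPoint X) (mem_preimage f e hη) ?_⟩
  rw [map_pow, ← hz, ← ha]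
  exact (congrArg (fun g => g a) (germ_χ f e V hη)).symm

include hsurj hX e in
theorem exists_preimage {V : Y.Opens} (hV : IsAffineOpen V) (hη : genericPoint Y ∈ V) (a : Γ(Y, V)) :
    ∃ b : Γ(X, f ⁻¹ᵁ V), b ^ p ^ n = f.app V a := by
  obtain ⟨z, hz⟩ := hsurj (Y.presheaf.germ V (genericPoint Y) hη a)
  have hpos : 0 < p ^ n := pow_pos (expChar_pos X.functionField p) n
  have hint : ((X.presheaf.germ (f ⁻¹ᵁ V) (genericPoint X) (mem_preimage f e hη)).hom.comp
      (f.app V).hom).IsIntegralElem z := by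
    refine ⟨Polynomial.X ^ (p ^ n) - Polynomial.C a, Polynomial.monic_X_pow_sub_C _ hpos.ne', ?_⟩
    rw [Polynomial.eval₂_sub, Polynomial.eval₂_pow, Polynomial.eval₂_X, Polynomial.eval₂_C, hz,
      sub_eq_zero]
    exact congrArg (fun g => g a) (germ_χ f e V hη)
  obtain ⟨b, hb⟩ := Groth.L19.NormalSec.exists_section_of_isIntegral hX (f ⁻¹ᵁ V) (mem_preimage f e hη) _ z hint
  refine ⟨b, germ_injective_of_isIntegral X (genericPoint X) (mem_preimage f e hη) ?_⟩
  rw [map_pow, hb, hz]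
  exact congrArg (fun g => g a) (germ_χ f e V hη)

include hq hsurj hX hY e in
theorem exists_ringEquiv {V : Y.Opens} (hV : IsAffineOpen V) (hη : genericPoint Y ∈ V) :
    ∃ φ : Γ(X, f ⁻¹ᵁ V) ≅ Γ(Y, V), ∀ b, f.app V (φ.hom b) = b ^ p ^ n := by
  haveI : ExpChar Γ(X, f ⁻¹ᵁ V) p :=
    ((X.presheaf.germ (f ⁻¹ᵁ V) (genericPoint X) (mem_preimage f e hη)).hom).expChar
      (germ_injective_of_isIntegral X _ _) p
  have hinj := app_injective f e V hη
  choose φ hφ using exists_root f e p n hq hY hV hη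
  let φ' : Γ(X, f ⁻¹ᵁ V) →+* Γ(Y, V) :=
    { toFun := φ
      map_one' := hinj (by rw [hφ, map_one, one_pow])
      map_mul' := fun a b => hinj (by rw [hφ, map_mul, hφ, hφ, mul_pow])
      map_zero' := hinj (by rw [hφ, map_zero, zero_pow (pow_pos (expChar_pos X.functionField p) n).ne'])
      map_add' := fun a b => hinj (by rw [hφ, map_add, hφ, hφ, add_pow_expChar_pow]) }
  have hbij : Function.Bijective φ' := by
    refine ⟨fun a b hab => ?_, fun a => ?_⟩
    · haveI : Nonempty (f ⁻¹ᵁ V : X.Opens) := ⟨⟨_, mem_preimage f e hη⟩⟩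
      apply iterateFrobenius_inj Γ(X, f ⁻¹ᵁ V) p n
      rw [iterateFrobenius_def, iterateFrobenius_def, ← hφ, ← hφ]
      exact congrArg _ hab
    · obtain ⟨b, hb⟩ := exists_preimage f e p n hsurj hX hV hη a
      exact ⟨b, hinj ((hφ b).trans hb)⟩
  exact ⟨(RingEquiv.ofBijective φ' hbij).toCommRingCatIso, hφ⟩

include hq hsurj hX hY e in
theorem nonempty_iso : Nonempty (X ≅ Y) := by
  -- the sections over the affine opens
  have hgen : ∀ V : Y.affineOpens, Nonempty V.1 → genericPoint Y ∈ V.1 := fun V hne =>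
    ((genericPoint_spec Y).mem_open_set_iff V.1.isOpen).mpr (by simpa using hne)
  classical
  have key : ∀ V : Y.affineOpens, ∃ (g : V.1.toScheme ⟶ X) (_ : IsOpenImmersion g),
      g.opensRange = f ⁻¹ᵁ V.1 ∧ (∀ v : V.1, f (g v) = v.1) ∧
      ∀ W : Y.affineOpens, ∀ hle : W.1 ≤ V.1, ∀ φW : Γ(X, f ⁻¹ᵁ W.1) ⟶ Γ(Y, W.1),
        (∀ b, f.app W.1 (φW b) = b ^ p ^ n) → genericPoint Y ∈ W.1 →
        Y.homOfLE hle ≫ g = W.1.toSpecΓ ≫ Spec.map φW ≫ (W.2.preimage f).fromSpec := by
    intro V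
    by_cases hne : Nonempty V.1
    · obtain ⟨φ, hφ⟩ := exists_ringEquiv f e p n hq hsurj hX hY V.2 (hgen V hne)
      let g : V.1.toScheme ⟶ X := V.2.isoSpec.hom ≫ Spec.map φ.hom ≫ (V.2.preimage f).fromSpec
      haveI hgi : IsOpenImmersion g := inferInstanceAs (IsOpenImmersion (V.2.isoSpec.hom ≫ Spec.map φ.hom ≫ (V.2.preimage f).fromSpec))
      refine ⟨g, hgi, ?_, fun v => ?_, fun W hle φW hφW hηW => ?_⟩
      · rw [Scheme.Hom.opensRange_comp_of_isIso, Scheme.Hom.opensRange_comp_of_isIso,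
          IsAffineOpen.opensRange_fromSpec]
      · have hsq := V.2.SpecMap_appLE_fromSpec f (V.2.preimage f) (le_refl (f ⁻¹ᵁ V.1))
        have : g ≫ f = V.2.isoSpec.hom ≫ Spec.map (f.app V.1 ≫ φ.hom) ≫ V.2.fromSpec := by
          simp only [g, Category.assoc, ← hsq, Spec.map_comp, Scheme.Hom.app_eq_appLE]
        have h2 : V.1.ι v = v.1 := rfl
        rw [← Scheme.Hom.comp_apply, this, ← h2, ← IsAffineOpen.isoSpec_inv_ι]
        simp only [Scheme.Hom.comp_apply]
        congr 1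
        have hid : Spec.map (f.app V.1 ≫ φ.hom) (V.2.isoSpec.hom v) = V.2.isoSpec.hom v := by
          refine PrimeSpectrum.ext (Ideal.ext fun a => ?_)
          have ha : φ.hom (f.app V.1 a) = a ^ p ^ n :=
            app_injective f e V.1 (hgen V hne) (by rw [hφ, map_pow])
          show φ.hom (f.app V.1 a) ∈ (V.2.isoSpec.hom v).asIdeal ↔ _
          rw [ha]
          exact ⟨fun h => (V.2.isoSpec.hom v).isPrime.mem_of_pow_mem _ h,
            fun h => Ideal.pow_mem_of_mem _ h _ (pow_pos (expChar_pos X.functionField p) n)⟩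
        rw [hid, ← Scheme.Hom.comp_apply, Iso.hom_inv_id]; rfl
      · have hnat : X.presheaf.map (homOfLE (f.preimage_mono hle)).op ≫ φW =
            φ.hom ≫ Y.presheaf.map (homOfLE hle).op := by
          ext b
          refine app_injective f e W.1 hηW ?_
          show f.app W.1 (φW (X.presheaf.map _ b)) = f.app W.1 (Y.presheaf.map (homOfLE hle).op (φ.hom b))
          rw [hφW]
          refine Eq.trans ?_ (congrArg (fun h => h (φ.hom b)) (f.naturality (homOfLE hle).op)).symm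
          show _ = X.presheaf.map _ (f.app V.1 (φ.hom b))
          rw [hφ, map_pow]
          rfl
        show Y.homOfLE hle ≫ V.1.toSpecΓ ≫ _ = _
        rw [← Scheme.Opens.toSpecΓ_SpecMap_presheaf_map_assoc _ _ hle, ← Spec.map_comp_assoc, ← hnat,
          Spec.map_comp_assoc]
        rw [IsAffineOpen.map_fromSpec]
    · haveI : IsEmpty V.1.toScheme := not_nonempty_iff.1 hne
      refine ⟨(isInitialOfIsEmpty (X := V.1.toScheme)).to X, inferInstance, ?_, fun v => (hne ⟨v⟩).elim,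
        fun W hle _ _ hηW => absurd ⟨⟨_, hle hηW⟩⟩ hne⟩
      refine TopologicalSpace.Opens.ext (Set.ext fun x => ⟨fun ⟨v, _⟩ => (hne ⟨v⟩).elim, fun hx => ?_⟩)
      exact (hne ⟨⟨f x, hx⟩⟩).elim
  choose g hopen hrange hfg hcomp using key
  let ψ : Y ⟶ X := Y.directedAffineCover.glueMorphismsOfLocallyDirected g fun {W V} i => by
    refine (congrArg (· ≫ g V) (Scheme.directedAffineCover_trans (leOfHom i))).trans ?_
    by_cases hne : Nonempty W.1
    · obtain ⟨φW, hφW⟩ := exists_ringEquiv f e p n hq hsurj hX hY W.2 (hgen W hne)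
      have h1 := hcomp V W (leOfHom i) φW.hom hφW (hgen W hne)
      have h2 := hcomp W W le_rfl φW.hom hφW (hgen W hne)
      rw [Scheme.homOfLE_rfl, Category.id_comp] at h2
      exact h1.trans h2.symm
    · haveI : IsEmpty ↥(Y.directedAffineCover.X W) := not_nonempty_iff.1 hne
      exact isInitialOfIsEmpty.hom_ext _ _
  have hψ : ∀ V : Y.affineOpens, V.1.ι ≫ ψ = g V := fun V =>
    Y.directedAffineCover.map_glueMorphismsOfLocallyDirected g _ V
  have hfψ : ∀ y : Y, f (ψ y) = y := fun y => by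
    obtain ⟨_, ⟨U, hU, rfl⟩, hy, -⟩ :=
      Y.isBasis_affineOpens.exists_subset_of_mem_open (Set.mem_univ y) isOpen_univ
    have h := congrArg (fun m : Scheme.Opens.toScheme (X := Y) U ⟶ X => f (m ⟨y, hy⟩)) (hψ ⟨U, hU⟩)
    exact h.trans (hfg ⟨U, hU⟩ ⟨y, hy⟩)
  have hpre : ∀ V : Y.affineOpens, ψ ⁻¹ᵁ (f ⁻¹ᵁ V.1) = V.1 := fun V =>
    TopologicalSpace.Opens.ext (Set.ext fun y => by
      show f (ψ y) ∈ V.1 ↔ y ∈ V.1
      rw [hfψ])
  have hcov : IsOpenCover fun V : Y.affineOpens => f ⁻¹ᵁ V.1 :=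
    (IsOpenCover.mk (iSup_affineOpens_eq_top Y)).comap ⟨f, f.continuous⟩
  haveI : IsIso ψ := by
    refine (MorphismProperty.isomorphisms.iff ψ).1 ((IsZariskiLocalAtTarget.iff_of_iSup_eq_top
      (P := MorphismProperty.isomorphisms Scheme.{u}) _ hcov.iSup_eq_top).2 fun V => ?_)
    refine (MorphismProperty.isomorphisms.iff _).2 ?_
    haveI := hopen V
    let e₁ : (ψ ⁻¹ᵁ (f ⁻¹ᵁ V.1)).toScheme ≅ V.1.toScheme := Y.isoOfEq (hpre V)
    let e₂ : V.1.toScheme ≅ (f ⁻¹ᵁ V.1).toScheme := (g V).isoOpensRange ≪≫ X.isoOfEq (hrange V)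
    have : ψ ∣_ (f ⁻¹ᵁ V.1) = e₁.hom ≫ e₂.hom := by
      rw [← cancel_mono (f ⁻¹ᵁ V.1).ι, morphismRestrict_ι, Category.assoc, Iso.trans_hom,
        Category.assoc, Scheme.isoOfEq_hom_ι, Scheme.Hom.isoOpensRange_hom_ι, ← hψ, ← Category.assoc,
        Scheme.isoOfEq_hom_ι]
    rw [this]
    infer_instance
  exact ⟨(asIso ψ).symm⟩

end Groth.Lead.PurInsepCurveIso
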