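import Groth.Agent.L25.Actions

/-!
# Transfer of properties between a subgroup and the projection onto the quotient
-/

set_option autoImplicit false
set_option linter.style.haveILetI false
set_option backward.isDefEq.respectTransparency.types false
universe u
open CategoryTheory CategoryTheory.Limits MonoidalCategory CartesianMonoidalCategory MonObj AlgebraicGeometry

namespace Groth.Lead.QuotTransfer

variable {S : Scheme.{u}} {G G' G'' : Over S} [GrpObj G] {u : G' ⟶ G} {p : G ⟶ G''}

/-- A property of the subgroup is a property of the projection, and conversely. -/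
theorem hom_iff_proj (P : MorphismProperty Scheme.{u}) [P.IsStableUnderBaseChange] [IsZariskiLocalAtTarget P]
    [P.DescendsAlong (@Surjective ⊓ @Flat ⊓ @QuasiCompact)]
    (hcov : (∃ (Z : Scheme.{u}) (q : Z ⟶ G''.left) (r : Z ⟶ G.left), r ≫ p.left = q ∧ Surjective q ∧ Flat q ∧
        ∀ V : G''.left.Opens, IsAffineOpen V → ∃ W : Z.Opens, IsCompact (W : Set Z) ∧ q.base '' (W : Set Z) = (V : Set G''.left)))
    (hsq : IsPullback ((G ◁ u) ≫ μ[G]) (fst G G') p p) : P G'.hom ↔ P p.left := by
  obtain ⟨Z, q, r, hr, hqs, hqf, hqW⟩ := hcov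
  refine ⟨fun hG' => ?_, fun hp => ?_⟩
  · have hfst : P (fst G G').left :=
      MorphismProperty.of_isPullback (Groth.L25.Actions.isPullback_snd G G').flip hG'
    have sq := hsq.map (Over.forget S)
    have hpp : P (pullback.snd p.left p.left) := by
      show P (pullback.snd ((Over.forget S).map p) ((Over.forget S).map p))
      rw [← sq.isoPullback_inv_snd]; exact (P.cancel_left_of_respectsIso sq.isoPullback.inv _).2 hfst
    have hpp' : P (pullback.fst p.left p.left) := by
      rw [← pullbackSymmetry_hom_comp_snd]; exact (P.cancel_left_of_respectsIso _ _).2 hpp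
    rw [IsZariskiLocalAtTarget.iff_of_iSup_eq_top (P := P) _ (iSup_affineOpens_eq_top G''.left)]
    intro V
    obtain ⟨W, hWc, hWV⟩ := hqW V V.2
    haveI : CompactSpace W.toScheme := isCompact_iff_compactSpace.mp hWc
    haveI : IsAffine (V : G''.left.Opens).toScheme := V.2
    let e := IsOpenImmersion.lift (V : G''.left.Opens).ι (W.ι ≫ q) (by
      rintro _ ⟨z, rfl⟩; rw [Scheme.Opens.range_ι, ← hWV]; exact ⟨z.1, z.2, rfl⟩)
    have he : e ≫ (V : G''.left.Opens).ι = W.ι ≫ q := IsOpenImmersion.lift_fac _ _ _
    haveI : QuasiCompact e := quasiCompact_of_compactSpace e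
    haveI : Surjective e := ⟨fun y => by
      obtain ⟨z, hz, hzy⟩ := hWV.ge y.2
      refine ⟨⟨z, hz⟩, (V : G''.left.Opens).ι.isOpenEmbedding.injective ?_⟩
      rw [← Scheme.Hom.comp_apply, he]
      exact hzy⟩
    haveI : Flat e := MorphismProperty.of_isPullback (IsPullback.of_horiz_isIso_mono (fst := 𝟙 _) (snd := e) (f := W.ι ≫ q)
        (g := (V : G''.left.Opens).ι) ⟨by simp [he]⟩) (inferInstance : Flat (W.ι ≫ q))
    refine MorphismProperty.of_pullback_fst_of_descendsAlong (P := P) (Q := @Surjective ⊓ @Flat ⊓ @QuasiCompact)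
      (f := e) ⟨⟨inferInstance, inferInstance⟩, inferInstance⟩ ?_
    have hA := ((IsPullback.of_hasPullback e (p.left ∣_ (V : G''.left.Opens))).flip.paste_horiz
      (isPullback_morphismRestrict p.left (V : G''.left.Opens)).flip).flip
    have hB := ((IsPullback.of_hasPullback (W.ι ≫ r) (pullback.fst p.left p.left)).flip.paste_horiz
      (IsPullback.of_hasPullback p.left p.left).flip).flip
    rw [he, ← hr, ← Category.assoc] at hA
    rw [← hA.isoIsPullback_hom_fst _ _ hB, P.cancel_left_of_respectsIso]
    exact MorphismProperty.pullback_fst _ _ hpp'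
  · have h : P (fst G G').left := MorphismProperty.of_isPullback (hsq.map (Over.forget S)) hp
    have sq' : IsPullback (lift (toUnit G' ≫ η[G]) (𝟙 G') : G' ⟶ G ⊗ G').left G'.hom (fst G G').left η[G].left := by
      refine IsPullback.of_right ?_ ?_ (Groth.L25.Actions.isPullback_snd G G').flip
      · rw [← Over.comp_left, lift_snd, Over.id_left, Over.w η[G]]
        haveI : IsIso (𝟙_ (Over S)).hom := inferInstanceAs (IsIso (𝟙 S))
        exact IsPullback.of_horiz_isIso ⟨by simp⟩
      · rw [← Over.comp_left, lift_fst, Over.comp_left]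
        rfl
    exact MorphismProperty.of_isPullback sq' h

omit [GrpObj G] in
/-- The base change of a morphism of `S`-schemes is its base change along the projection. -/
theorem isPullback_bc {S' : Scheme.{u}} (b : S' ⟶ S) (q : G ⟶ G'') :
    IsPullback ((Over.pullback b).map q).left (pullback.fst G.hom b) (pullback.fst G''.hom b) q.left := by
  refine IsPullback.of_right ?_ (pullback.lift_fst _ _ _) (IsPullback.of_hasPullback G''.hom b).flip
  rw [show ((Over.pullback b).map q).left ≫ pullback.snd G''.hom b = pullback.snd G.hom b from pullback.lift_snd _ _ _,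
    Over.w q]
  exact (IsPullback.of_hasPullback G.hom b).flip

end Groth.Lead.QuotTransfer
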