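import Mathlib.AlgebraicGeometry.AffineScheme
import Mathlib.AlgebraicGeometry.Morphisms.QuasiCompact
import Mathlib.RingTheory.Regular.RegularSequence
import Mathlib.RingTheory.Ideal.MinimalPrime.Localization
import Groth.Agent.L22.LocalDim

/-!
Functions extend across closed sets at whose points the local ring has a regular pair.
-/

set_option autoImplicit false
set_option linter.style.haveILetI false

universe u

open IsLocalRing

namespace Groth.Lead.RegPairExt

/-- A regular pair stays regular after raising to powers. -/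
theorem pow_regular {L : Type u} [CommRing L] {a b : L} (ha : IsSMulRegular L a)
    (hb : ∀ x z : L, b * x = a * z → ∃ y, x = a * y) (N M : ℕ) :
    IsSMulRegular L (a ^ N) ∧ ∀ x z : L, b ^ M * x = a ^ N * z → ∃ y, x = a ^ N * y := by
  refine ⟨ha.pow N, ?_⟩
  have h1 : ∀ (k : ℕ) (x z : L), b * x = a ^ k * z → ∃ y, x = a ^ k * y := by
    intro k
    induction k with
    | zero => exact fun x z _ => ⟨x, by simp⟩
    | succ k ih =>
      intro x z hxz
      obtain ⟨x', rfl⟩ := hb x (a ^ k * z) (by rw [hxz]; ring)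
      obtain ⟨y, rfl⟩ := ih x' z (ha (by show a * (b * x') = a * (a ^ k * z); rw [mul_left_comm, hxz]; ring))
      exact ⟨y, by ring⟩
  induction M with
  | zero => exact fun x z hxz => ⟨z, by simpa using hxz⟩
  | succ M ih =>
    intro x z hxz
    obtain ⟨y, hy⟩ := ih (b * x) z (by rw [← hxz]; ring)
    exact h1 N x y hy

variable {A : Type u} [CommRing A] {ι : Type u} [Fintype ι] (f : ι → A)

/-- Where all `f i` vanish, the local ring has a weakly regular pair in its maximal ideal. -/
def Cond : Prop :=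
  ∀ (p : PrimeSpectrum A), (∀ i, f i ∈ p.asIdeal) →
    ∃ a b : Localization.AtPrime p.asIdeal, a ∈ maximalIdeal _ ∧ b ∈ maximalIdeal _ ∧
      IsSMulRegular (Localization.AtPrime p.asIdeal) a ∧
        ∀ x z, b * x = a * z → ∃ y, x = a * y

variable {f} (h : Cond f)
include h

/-- An element killed by powers of all `f i` vanishes. -/
theorem eq_zero (y : A) (m : ι → ℕ) (hy : ∀ i, f i ^ m i * y = 0) : y = 0 := by
  by_contra hne
  let J : Ideal A := LinearMap.ker (LinearMap.toSpanSingleton A A y)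
  have hJ : ∀ r, r ∈ J ↔ r * y = 0 := fun r => Iff.rfl
  have hJtop : J ≠ ⊤ := fun e => hne (by simpa using (hJ 1).mp (e ▸ Submodule.mem_top))
  obtain ⟨M, hM, hJM⟩ := Ideal.exists_le_maximal J hJtop
  haveI := hM.isPrime
  obtain ⟨P, hP, -⟩ := Ideal.exists_minimalPrimes_le hJM
  haveI := hP.1.1
  have hf : ∀ i, f i ∈ P := fun i => hP.1.1.mem_of_pow_mem _ (hP.1.2 ((hJ _).mpr (hy i)))
  obtain ⟨a, b, ha, -, har, -⟩ := h ⟨P, hP.1.1⟩ hf
  have hrad : maximalIdeal (Localization.AtPrime P) = (J.map (algebraMap A (Localization.AtPrime P))).radical := by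
    rw [IsLocalization.AtPrime.radical_map_of_mem_minimalPrimes _ P J hP, IsLocalization.AtPrime.map_eq_maximalIdeal P]
  rw [hrad] at ha
  obtain ⟨N, hN⟩ := ha
  obtain ⟨⟨⟨r, hr⟩, s⟩, hrs⟩ := (IsLocalization.mem_map_algebraMap_iff P.primeCompl (Localization.AtPrime P)).mp hN
  have h0 : algebraMap A (Localization.AtPrime P) y = 0 := by
    apply har.pow N
    show a ^ N * _ = a ^ N * 0
    rw [mul_zero]
    apply (IsLocalization.map_units (Localization.AtPrime P) s).mul_left_cancel
    rw [mul_zero, ← mul_assoc, mul_comm (algebraMap A (Localization.AtPrime P) s), hrs, ← map_mul,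
      (hJ r).mp hr, map_zero]
  obtain ⟨⟨t, ht⟩, hty⟩ := (IsLocalization.map_eq_zero_iff P.primeCompl _ y).mp h0
  exact ht (hP.1.2 ((hJ t).mpr hty))

/-- Compatible families come from elements. -/
theorem exists_eq (d : ι → A) (m : ℕ) (hd : ∀ i j, f j ^ m * d i = f i ^ m * d j) :
    ∃ b, ∀ i, f i ^ m * b = d i := by
  classical
  by_contra hne
  let I : Ideal A :=
    { carrier := {r | ∃ c, ∀ i, f i ^ m * c = r * d i}
      add_mem' := fun {x y} hx hy => by
        obtain ⟨c, hc⟩ := hx
        obtain ⟨c', hc'⟩ := hy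
        exact ⟨c + c', fun i => by rw [mul_add, hc, hc', add_mul]⟩
      zero_mem' := ⟨0, fun i => by simp⟩
      smul_mem' := fun r x hx => by
        obtain ⟨c, hc⟩ := hx
        exact ⟨r * c, fun i => by rw [smul_eq_mul, mul_left_comm, hc, mul_assoc]⟩ }
  have hItop : I ≠ ⊤ := fun e => by
    obtain ⟨c, hc⟩ : (1 : A) ∈ I := e ▸ Submodule.mem_top
    exact hne ⟨c, fun i => by rw [hc, one_mul]⟩
  obtain ⟨M, hM, hIM⟩ := Ideal.exists_le_maximal I hItop
  haveI := hM.isPrime
  obtain ⟨P, hP, -⟩ := Ideal.exists_minimalPrimes_le hIM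
  haveI := hP.1.1
  have hf : ∀ i, f i ∈ P := fun i =>
    hP.1.1.mem_of_pow_mem m (hP.1.2 ⟨d i, fun j => hd i j⟩)
  obtain ⟨a, b, ha, hb, har, hbr⟩ := h ⟨P, hP.1.1⟩ hf
  let L := Localization.AtPrime P
  have hrad : maximalIdeal L = (I.map (algebraMap A L)).radical := by
    rw [IsLocalization.AtPrime.radical_map_of_mem_minimalPrimes _ P I hP, IsLocalization.AtPrime.map_eq_maximalIdeal P]
  have hloc : ∀ x ∈ I.map (algebraMap A L), ∃ c : L, ∀ i,
      algebraMap A L (f i) ^ m * c = x * algebraMap A L (d i) := by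
    intro x hx
    obtain ⟨⟨⟨r, c, hc⟩, s⟩, hrs⟩ := (IsLocalization.mem_map_algebraMap_iff P.primeCompl L).mp hx
    refine ⟨IsLocalization.mk' L c s, fun i => ?_⟩
    apply (IsLocalization.map_units L s).mul_left_cancel
    rw [mul_left_comm, IsLocalization.mk'_spec', ← mul_assoc, mul_comm (algebraMap A L s), hrs,
      ← map_pow, ← map_mul, ← map_mul, hc]
  have hinj : ∀ z : L, (∀ i, algebraMap A L (f i) ^ m * z = 0) → z = 0 := by
    intro z hz
    obtain ⟨⟨c, s⟩, hcs⟩ := IsLocalization.surj P.primeCompl z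
    have : ∀ i, ∃ t : P.primeCompl, (t : A) * (f i ^ m * c) = 0 := fun i => by
      refine (IsLocalization.map_eq_zero_iff P.primeCompl L _).mp ?_
      rw [map_mul, map_pow, ← hcs, ← mul_assoc, hz, zero_mul]
    choose t ht using this
    have h0 : (∏ i, (t i : A)) * c = 0 := by
      refine eq_zero h _ (fun _ => m) fun i => ?_
      rw [← Finset.mul_prod_erase Finset.univ _ (Finset.mem_univ i)]
      rw [show f i ^ m * ((t i : A) * (∏ x ∈ Finset.univ.erase i, (t x : A)) * c) =
        (∏ x ∈ Finset.univ.erase i, (t x : A)) * ((t i : A) * (f i ^ m * c)) by ring, ht, mul_zero]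
    have hu : IsUnit (algebraMap A L (∏ i, (t i : A))) :=
      IsLocalization.map_units L (⟨∏ i, (t i : A), by
        have := (∏ i, t i).2
        simpa using this⟩ : P.primeCompl)
    apply (IsLocalization.map_units L s).mul_right_cancel
    rw [zero_mul, hcs]
    apply hu.mul_left_cancel
    rw [← map_mul, h0, map_zero, mul_zero]
  rw [hrad] at ha hb
  obtain ⟨N, hN⟩ := ha
  obtain ⟨N', hN'⟩ := hb
  obtain ⟨c₁, hc₁⟩ := hloc _ hN
  obtain ⟨c₂, hc₂⟩ := hloc _ hN'
  obtain ⟨har', hbr'⟩ := pow_regular har hbr N N'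
  have hcc : b ^ N' * c₁ = a ^ N * c₂ := sub_eq_zero.mp (hinj _ fun i => by
    rw [mul_sub, mul_left_comm, hc₁, mul_left_comm _ (a ^ N) c₂, hc₂]; ring)
  obtain ⟨e, he⟩ := hbr' c₁ c₂ hcc
  have he' : ∀ i, algebraMap A L (f i) ^ m * e = algebraMap A L (d i) := fun i => har' (by
    show a ^ N * _ = a ^ N * _
    rw [← hc₁ i, he]; ring)
  obtain ⟨⟨c, s⟩, hcs⟩ := IsLocalization.surj P.primeCompl e
  have : ∀ i, ∃ t : P.primeCompl, (t : A) * (f i ^ m * c) = (t : A) * ((s : A) * d i) := fun i => by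
    refine IsLocalization.exists_of_eq (S := L) ?_
    rw [map_mul, map_mul, map_pow, ← hcs, ← he' i]
    ring
  choose t ht using this
  have hmem : (((∏ i, t i) * s : P.primeCompl) : A) ∈ I := by
    refine ⟨((∏ i, t i : P.primeCompl) : A) * c, fun i => ?_⟩
    rw [Submonoid.coe_mul, ← Finset.mul_prod_erase Finset.univ _ (Finset.mem_univ i), Submonoid.coe_mul]
    linear_combination ((∏ x ∈ Finset.univ.erase i, t x : P.primeCompl) : A) * ht i
  exact ((∏ i, t i) * s).2 (hP.1.2 hmem)

end Groth.Lead.RegPairExt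

open CategoryTheory AlgebraicGeometry TopologicalSpace Opposite IsLocalRing
open scoped Pointwise

namespace Groth.Lead.RegPairExt

theorem res_res {X : Scheme.{u}} {W₁ W₂ W₃ : X.Opens} (h₂ : W₂ ≤ W₁) (h₃ : W₃ ≤ W₂) (s : Γ(X, W₁)) :
    X.presheaf.map (homOfLE h₃).op (X.presheaf.map (homOfLE h₂).op s) =
      X.presheaf.map (homOfLE (h₃.trans h₂)).op s := by
  rw [← ConcreteCategory.comp_apply, ← Functor.map_comp]
  rfl

theorem res_bijective {S : Scheme.{u}} (U : S.Opens) [QuasiCompact U.ι]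
    (hU : ∀ z : S, z ∉ U → ∃ a b : S.presheaf.stalk z, a ∈ maximalIdeal (S.presheaf.stalk z) ∧
      b ∈ maximalIdeal (S.presheaf.stalk z) ∧
        RingTheory.Sequence.IsWeaklyRegular (S.presheaf.stalk z) [a, b])
    {V : S.Opens} (hV : IsAffineOpen V) :
    Function.Bijective (S.presheaf.map (homOfLE (inf_le_left : V ⊓ U ≤ V)).op) := by
  classical
  have hcomp : IsCompact ((V ⊓ U : S.Opens) : Set S) := by
    have h := U.ι.isCompact_preimage (hU := hV.isCompact) (U := V)
    have := h.image U.ι.continuous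
    convert this using 1
    rw [Scheme.Hom.coe_preimage, Set.image_preimage_eq_inter_range, Scheme.Opens.range_ι]
    rfl
  have hbas : ∀ x ∈ ((V ⊓ U : S.Opens) : Set S), ∃ g : Γ(S, V),
      S.basicOpen g ≤ V ⊓ U ∧ x ∈ S.basicOpen g := fun x hx => by
    obtain ⟨g, hle, hxg⟩ := hV.exists_basicOpen_le (V := V ⊓ U) ⟨x, hx⟩ hx.1
    exact ⟨g, hle, hxg⟩
  choose g₀ hg₀le hg₀mem using hbas
  obtain ⟨F, hF⟩ := hcomp.elim_finite_subcover
    (fun x : ((V ⊓ U : S.Opens) : Set S) => (S.basicOpen (g₀ x.1 x.2) : Set S))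
    (fun x => (S.basicOpen _).2) (fun x hx => Set.mem_iUnion.mpr ⟨⟨x, hx⟩, hg₀mem x hx⟩)
  let g : F → Γ(S, V) := fun i => g₀ i.1.1 i.1.2
  have hgle : ∀ i, S.basicOpen (g i) ≤ V ⊓ U := fun i => hg₀le _ _
  have hcond : Cond g := by
    intro p hp
    have hmem : hV.fromSpec p ∈ V := L22.LocalDim.fromSpec_mem hV p
    have hnot : hV.fromSpec p ∉ U := fun hpU => by
      obtain ⟨i, hi, hpi⟩ := Set.mem_iUnion₂.mp (hF (show hV.fromSpec p ∈ _ from ⟨hmem, hpU⟩))
      have := (L22.LocalDim.mem_basicOpen_iff hV hmem _).1 hpi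
      rw [L22.LocalDim.primeIdealOf_fromSpec hV p hmem] at this
      exact this (hp ⟨i, hi⟩)
    letI : Algebra Γ(S, V) (S.presheaf.stalk (hV.fromSpec p)) :=
      TopCat.Presheaf.algebra_section_stalk S.presheaf ⟨hV.fromSpec p, hmem⟩
    have hloc := hV.isLocalization_stalk ⟨hV.fromSpec p, hmem⟩
    rw [L22.LocalDim.primeIdealOf_fromSpec hV p hmem] at hloc
    let e := (IsLocalization.algEquiv p.asIdeal.primeCompl (S.presheaf.stalk (hV.fromSpec p))
      (Localization.AtPrime p.asIdeal)).toRingEquiv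
    obtain ⟨a, b, ha, hb, hreg⟩ := hU _ hnot
    rw [RingTheory.Sequence.isWeaklyRegular_cons_iff, RingTheory.Sequence.isWeaklyRegular_singleton_iff] at hreg
    refine ⟨e a, e b, ?_, ?_, ?_, ?_⟩
    · exact (mem_maximalIdeal _).mpr fun hu => (mem_maximalIdeal _).mp ha (by simpa using hu.map e.symm)
    · exact (mem_maximalIdeal _).mpr fun hu => (mem_maximalIdeal _).mp hb (by simpa using hu.map e.symm)
    · intro x y hxy
      apply e.symm.injective
      apply hreg.1
      show a * e.symm x = a * e.symm y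
      have := congrArg e.symm hxy
      simpa [smul_eq_mul] using this
    · intro x z hxz
      have h2 : b * e.symm x = a * e.symm z := by
        have := congrArg e.symm hxz
        simpa using this
      have h3 : Submodule.Quotient.mk (p := a • (⊤ : Submodule (S.presheaf.stalk (hV.fromSpec p)) (S.presheaf.stalk (hV.fromSpec p)))) (e.symm x) = 0 := by
        apply hreg.2
        show b • _ = b • _
        rw [smul_zero]
        refine (Submodule.Quotient.mk_eq_zero _).mpr ?_
        exact ⟨e.symm z, Submodule.mem_top, by simpa [smul_eq_mul] using h2.symm⟩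
      obtain ⟨y, -, hy⟩ := (Submodule.Quotient.mk_eq_zero _).mp h3
      refine ⟨e y, e.symm.injective ?_⟩
      simpa [smul_eq_mul] using hy.symm
  have hW := hV
  have hcov : (V ⊓ U : S.Opens) ≤ ⨆ i, S.basicOpen (g i) := fun w hw => by
    obtain ⟨i, hi, hwi⟩ := Set.mem_iUnion₂.mp (hF hw)
    exact Opens.mem_iSup.mpr ⟨⟨i, hi⟩, hwi⟩
  constructor
  · rw [injective_iff_map_eq_zero]
    intro b hb
    have hk : ∀ i, ∃ n, g i ^ n * b = 0 := fun i =>
      exists_pow_mul_eq_zero_of_res_basicOpen_eq_zero_of_isCompact S hW.isCompact b _ (by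
        show S.presheaf.map (homOfLE (S.basicOpen_le _)).op b = 0
        rw [← res_res (inf_le_left : V ⊓ U ≤ V) (hgle i)]
        exact (congrArg _ hb).trans (map_zero _))
    choose n hn using hk
    exact eq_zero hcond b n hn
  · intro s
    let r : ∀ i, Γ(S, V) →+* Γ(S, S.basicOpen (g i)) := fun i =>
      (S.presheaf.map (homOfLE (S.basicOpen_le (g i))).op).hom
    let sr : ∀ i, Γ(S, S.basicOpen (g i)) := fun i => S.presheaf.map (homOfLE (hgle i)).op s
    have hk : ∀ i, ∃ n, ∃ c, sr i * r i (g i) ^ n = r i c := fun i => by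
      haveI := hW.isLocalization_basicOpen (g i)
      obtain ⟨n, b, hb⟩ := IsLocalization.Away.surj (g i) (sr i)
      exact ⟨n, b, hb⟩
    choose n c hc using hk
    let m := Finset.univ.sum n
    obtain ⟨c', hc'def⟩ : ∃ c' : F → Γ(S, V), ∀ i, c' i = g i ^ (m - n i) * c i := ⟨_, fun _ => rfl⟩
    have hnm : ∀ i, n i ≤ m := fun i =>
      Finset.single_le_sum (f := n) (fun _ _ => Nat.zero_le _) (Finset.mem_univ i)
    have hc' : ∀ i, sr i * r i (g i) ^ m = r i (c' i) := fun i => by
      simp only [hc'def, map_mul, map_pow]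
      conv_lhs => rw [← Nat.sub_add_cancel (hnm i), pow_add, mul_left_comm, hc i]
    have hij : ∀ q : F × F, ∃ K, (g q.1 * g q.2) ^ K * (g q.2 ^ m * c' q.1 - g q.1 ^ m * c' q.2) = 0 :=
        fun ⟨i, j⟩ => by
      apply exists_pow_mul_eq_zero_of_res_basicOpen_eq_zero_of_isCompact S hW.isCompact
      have hi : S.basicOpen (g i * g j) ≤ S.basicOpen (g i) := by
        rw [Scheme.basicOpen_mul]; exact inf_le_left
      have hj : S.basicOpen (g i * g j) ≤ S.basicOpen (g j) := by
        rw [Scheme.basicOpen_mul]; exact inf_le_right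
      have ei := congrArg (S.presheaf.map (homOfLE hi).op) (hc' i)
      have ej := congrArg (S.presheaf.map (homOfLE hj).op) (hc' j)
      simp only [r, sr, map_mul, map_pow, res_res] at ei ej
      dsimp only
      show S.presheaf.map (homOfLE (S.basicOpen_le _)).op (_ - _) = 0
      rw [map_sub, map_mul, map_mul, map_pow, map_pow, ← ei, ← ej, sub_eq_zero]
      ring
    choose K hK using hij
    let k := Finset.univ.sum K
    let d : F → Γ(S, V) := fun i => g i ^ k * c' i
    obtain ⟨b, hb⟩ := exists_eq hcond d (m + k) fun i j => by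
      obtain ⟨l, hl⟩ := Nat.exists_eq_add_of_le
        (Finset.single_le_sum (f := K) (fun _ _ => Nat.zero_le _) (Finset.mem_univ (i, j)))
      show g j ^ (m + k) * (g i ^ k * c' i) = g i ^ (m + k) * (g j ^ k * c' j)
      rw [← sub_eq_zero]
      have := congrArg ((g i * g j) ^ l * ·) (hK (i, j))
      simp only [mul_zero] at this
      rw [show k = K (i, j) + l from hl, ← this]
      ring
    refine ⟨b, TopCat.Sheaf.eq_of_locally_eq' S.sheaf (fun i => S.basicOpen (g i)) (V ⊓ U)
      (fun i => homOfLE (hgle i)) hcov _ _ fun i => ?_⟩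
    show S.presheaf.map (homOfLE (hgle i)).op (S.presheaf.map _ b) = sr i
    rw [res_res]
    have hu : IsUnit (r i (g i) ^ (m + k)) :=
      (RingedSpace.isUnit_res_basicOpen _ (g i)).pow _
    apply hu.mul_left_cancel
    show _ * r i b = _
    rw [← map_pow, ← map_mul, hb i, map_pow, pow_add]
    simp only [d, map_mul, map_pow, ← hc' i]
    ring

end Groth.Lead.RegPairExt
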