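import Groth.Agent.Lead.ResProp
import Groth.Agent.L29.DCoh.Cpt.Compact
import Groth.Agent.L29.DCoh.RpushAffine
import Groth.Agent.L29.DCoh.RpushAcyclic
import Groth.Agent.L29.DCoh.RpushQCoh
import Groth.Agent.L29.DCoh.TildeD
import Groth.Agent.L10.ClassRes
import Groth.Agent.L12.ResAffDiag
import Groth.Agent.L17.QCohGab.Groth
import Mathlib.Algebra.Homology.DerivedCategory.SingleTriangle
import Mathlib.Algebra.Homology.DerivedCategory.FullyFaithful

/-!
Quasi-coherent modules without higher extensions from quasi-coherent modules (pushforwards of injective modules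
along affine charts), resolutions by them, and the comparison of `K` and `D` for maps into them.
-/

set_option autoImplicit false
set_option linter.style.haveILetI false
set_option backward.defeqAttrib.useBackward true
set_option backward.isDefEq.respectTransparency false
set_option backward.isDefEq.respectTransparency.types false

universe u

open CategoryTheory CategoryTheory.Limits AlgebraicGeometry CochainComplex
  CategoryTheory.Pretriangulated TopologicalSpace

attribute [local instance] HasDerivedCategory.standard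

noncomputable section

namespace Groth.Lead.ResInj

open Groth.L29.DC
open scoped ZeroObject

variable {X : Scheme.{u}}

/-- no higher extensions from quasi-coherent modules -/
def RI (T : X.Modules) : Prop :=
  ∀ H : X.Modules, Coh.IsQCoh H → ∀ i : ℤ, 0 < i → ∀ f : DCoh.inD X H ⟶ (DCoh.inD X T)⟦i⟧, f = 0

theorem ri_of_iso {A B : X.Modules} (e : A ≅ B) (h : RI A) : RI B := fun H hH i hi f => by
  rw [← cancel_mono (((DerivedCategory.singleFunctor X.Modules 0).map e.inv)⟦i⟧'), zero_comp]
  exact h H hH i hi _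

theorem ri_of_isZero {T : X.Modules} (h : IsZero T) : RI T := fun _ _ i _ _ =>
  ((CategoryTheory.shiftFunctor (DCoh.D X) i).map_isZero ((DerivedCategory.singleFunctor X.Modules 0).map_isZero h)).eq_of_tgt _ _

theorem ri_of_joint {n : ℕ} (T : Fin n → X.Modules) (h : ∀ k, RI (T k)) : RI (⨁ T) := fun H hH i hi f => by
  let F := DerivedCategory.singleFunctor X.Modules 0 ⋙ CategoryTheory.shiftFunctor (DCoh.D X) i
  have hid : F.map (∑ k, biproduct.π T k ≫ biproduct.ι T k) = 𝟙 _ := by rw [biproduct.total]; exact F.map_id _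
  rw [← Category.comp_id f]
  change f ≫ 𝟙 (F.obj (⨁ T)) = 0
  rw [← hid, Functor.map_sum, Preadditive.comp_sum]
  refine Finset.sum_eq_zero fun k _ => ?_
  rw [F.map_comp, ← Category.assoc,
    show f ≫ F.map (biproduct.π T k) = 0 from h k H hH i hi _, zero_comp]

/-- a quotient of modules without higher extensions has none -/
theorem ri_of_ses {S : ShortComplex X.Modules} (hS : S.ShortExact) (h₁ : RI S.X₁) (h₂ : RI S.X₂) : RI S.X₃ := by
  intro H hH i hi f
  obtain ⟨g, hg⟩ := Triangle.coyoneda_exact₃ _ (Triangle.shift_distinguished _ hS.singleTriangle_distinguished i) f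
    (by
      let e : ((DerivedCategory.singleFunctor X.Modules 0).obj S.X₁)⟦i⟧⟦(1 : ℤ)⟧ ≅
          ((DerivedCategory.singleFunctor X.Modules 0).obj S.X₁)⟦i + 1⟧ := (CategoryTheory.shiftFunctorAdd' _ i 1 (i + 1) rfl).symm.app _
      rw [← cancel_mono e.hom, zero_comp]
      exact h₁ H hH (i + 1) (by omega) _)
  rw [hg, h₂ H hH i hi g]
  exact zero_comp

/-- lifting along an epimorphism with kernel without extensions -/
theorem exists_lift_of_ses {S : ShortComplex X.Modules} (hS : S.ShortExact) (h₁ : RI S.X₁) {H : X.Modules}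
    (hH : Coh.IsQCoh H) (z : H ⟶ S.X₃) : ∃ w : H ⟶ S.X₂, w ≫ S.g = z := by
  obtain ⟨g, hg⟩ := Triangle.coyoneda_exact₃ _ hS.singleTriangle_distinguished
    ((DerivedCategory.singleFunctor X.Modules 0).map z) (h₁ H hH 1 one_pos _)
  obtain ⟨w, rfl⟩ := (DerivedCategory.singleFunctor X.Modules 0).map_surjective g
  exact ⟨w, (DerivedCategory.singleFunctor X.Modules 0).map_injective (by rw [Functor.map_comp]; exact hg.symm)⟩

section Chart

variable {R : CommRingCat.{u}} (j : Spec R ⟶ X) [IsOpenImmersion j]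

theorem hom_single_injective_eq_zero (M I : ModuleCat.{u} R) [Injective I] {p : ℤ} (hp : p ≠ 0)
    (f : (DerivedCategory.singleFunctor (ModuleCat.{u} R) 0).obj M ⟶
      (DerivedCategory.singleFunctor (ModuleCat.{u} R) p).obj I) : f = 0 := by
  let A := ModuleCat.{u} R
  let J := (CochainComplex.singleFunctor A p).obj I
  haveI : ∀ n, Injective (J.X n) := fun n => by
    by_cases hn : n = p
    · subst hn
      exact Injective.of_iso (HomologicalComplex.singleObjXSelf (ComplexShape.up ℤ) n I).symm inferInstance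
    · exact (HomologicalComplex.isZero_single_obj_X (ComplexShape.up ℤ) p I n hn).injective
  haveI : J.IsStrictlyGE p := (CochainComplex.isStrictlyGE_iff _ _).2 fun n hn =>
    HomologicalComplex.isZero_single_obj_X (ComplexShape.up ℤ) p I n (by omega)
  haveI := CochainComplex.isKInjective_of_injective J p
  let e₀ := ((SingleFunctors.evaluation _ _ 0).mapIso (DerivedCategory.singleFunctorsPostcompQIso A)).app M
  let eₚ := ((SingleFunctors.evaluation _ _ p).mapIso (DerivedCategory.singleFunctorsPostcompQIso A)).app I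
  let q := DerivedCategory.quotientCompQhIso A
  obtain ⟨g, hg⟩ := (CochainComplex.IsKInjective.Qh_map_bijective
    ((HomotopyCategory.quotient A (ComplexShape.up ℤ)).obj ((CochainComplex.singleFunctor A 0).obj M)) J).2
    ((q.hom.app _) ≫ (e₀.inv ≫ f ≫ eₚ.hom) ≫ q.inv.app J)
  obtain ⟨g', rfl⟩ := (HomotopyCategory.quotient A (ComplexShape.up ℤ)).map_surjective g
  have h0 : g' = 0 := by
    ext n : 1
    by_cases hn : n = 0
    · exact (HomologicalComplex.isZero_single_obj_X (ComplexShape.up ℤ) p I n (by omega)).eq_of_tgt _ _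
    · exact (HomologicalComplex.isZero_single_obj_X (ComplexShape.up ℤ) 0 M n hn).eq_of_src _ _
  subst h0
  rw [Functor.map_zero, Functor.map_zero] at hg
  have h1 : e₀.inv ≫ f ≫ eₚ.hom = 0 := by
    rw [← cancel_epi (q.hom.app _), ← cancel_mono (q.inv.app J), comp_zero, zero_comp, Category.assoc]
    exact hg.symm
  rw [← cancel_epi e₀.inv, ← cancel_mono eₚ.hom, comp_zero, zero_comp, Category.assoc]
  exact h1

theorem hom_tilde_injective_eq_zero (M I : ModuleCat.{u} R) [Injective I] {p : ℤ} (hp : p ≠ 0)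
    (f : (DerivedCategory.singleFunctor (Spec R).Modules 0).obj ((tilde.functor R).obj M) ⟶
      (DerivedCategory.singleFunctor (Spec R).Modules p).obj ((tilde.functor R).obj I)) : f = 0 := by
  haveI := Groth.L18.TildeF.tilde_preservesFiniteLimits (R := R)
  obtain ⟨hfull, -⟩ := TildeD.fullyFaithful (R := R)
  let e₀ := ((tilde.functor R).mapDerivedCategorySingleFunctor 0).app M
  let eₚ := ((tilde.functor R).mapDerivedCategorySingleFunctor p).app I
  obtain ⟨g, hg⟩ := (DCoh.tildeD R).map_surjective (e₀.hom ≫ f ≫ eₚ.inv)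
  rw [hom_single_injective_eq_zero M I hp g, Functor.map_zero] at hg
  rw [← cancel_epi e₀.hom, ← cancel_mono eₚ.inv, comp_zero, zero_comp, Category.assoc]
  exact hg.symm

/-- the pushforward of an injective module from an affine chart -/
abbrev pushInj (I : ModuleCat.{u} R) : X.Modules := (Scheme.Modules.pushforward j).obj ((tilde.functor R).obj I)

variable [IsAffineHom j]

theorem ri_pushInj (I : ModuleCat.{u} R) [Injective I] : RI (pushInj j I) := by
  intro H hH i hi f
  let N := (tilde.functor R).obj I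
  have hN : Coh.IsQCoh N := (TildeD.isQCoh_iff_essImage _).2 (Functor.obj_mem_essImage _ _)
  haveI := Groth.L29.DC.RpushQC.hasRpush j
  haveI := Groth.L17.PushQCoh.hasInjectiveResolutions (Spec R)
  haveI := Groth.L17.PushQCoh.additive_push j
  haveI : PreservesFiniteLimits (Scheme.Modules.restrictFunctor j) := inferInstance
  let P := Scheme.Modules.pushforward j
  let K := (CochainComplex.singleFunctor (Spec R).Modules (-i)).obj N
  have hKX : ∀ n, IsZero (K.X n) ∨ Nonempty (K.X n ≅ N) := fun n => by
    by_cases hn : n = -i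
    · subst hn
      exact Or.inr ⟨HomologicalComplex.singleObjXSelf (ComplexShape.up ℤ) (-i) N⟩
    · exact Or.inl (HomologicalComplex.isZero_single_obj_X (ComplexShape.up ℤ) (-i) N n hn)
  haveI := RpushQC.isIso_unit_of_acyclic j K
    (fun n => (hKX n).elim isQCoh_of_isZero fun ⟨e⟩ => isQCoh_of_iso' e.symm hN)
    (fun n q hq => (hKX n).elim (fun hz => Groth.L17.GrothSS.rAcyclic_of_isZero _ hz q hq)
      fun ⟨e⟩ => (RpushQC.isZero_Rpush_affine j N hN q hq).of_iso ((Coh.Rpush j q).mapIso e))
  let η := ((DCoh.pushKh j).totalRightDerivedUnit DerivedCategory.Qh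
    (HomotopyCategory.quasiIso (Spec R).Modules (ComplexShape.up ℤ))).app
    ((HomotopyCategory.quotient (Spec R).Modules (ComplexShape.up ℤ)).obj K)
  -- the target is a derived direct image
  let eK : (DCoh.Rpush j).obj (DerivedCategory.Q.obj K) ≅
      DerivedCategory.Q.obj ((CochainComplex.singleFunctor X.Modules (-i)).obj (P.obj N)) :=
    (DCoh.Rpush j).mapIso ((DerivedCategory.quotientCompQhIso (Spec R).Modules).app K).symm ≪≫ (asIso η).symm ≪≫
      DerivedCategory.Qh.mapIso ((P.mapHomotopyCategoryFactors (ComplexShape.up ℤ)).app K) ≪≫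
      (DerivedCategory.quotientCompQhIso X.Modules).app ((P.mapHomologicalComplex (ComplexShape.up ℤ)).obj K) ≪≫
      DerivedCategory.Q.mapIso ((HomologicalComplex.singleMapHomologicalComplex P (ComplexShape.up ℤ) (-i)).app N)
  let eQ : ∀ (Y : Scheme.{u}) (M : Y.Modules) (p : ℤ),
      (DerivedCategory.singleFunctor Y.Modules p).obj M ≅
        DerivedCategory.Q.obj ((CochainComplex.singleFunctor Y.Modules p).obj M) := fun Y M p =>
    ((SingleFunctors.evaluation _ _ p).mapIso (DerivedCategory.singleFunctorsPostcompQIso Y.Modules)).app M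
  let eT : (DCoh.inD X (pushInj j I))⟦i⟧ ≅ (DCoh.Rpush j).obj ((DerivedCategory.singleFunctor _ (-i)).obj N) :=
    ((DerivedCategory.singleFunctors X.Modules).shiftIso i (-i) 0 (by omega)).app (P.obj N) ≪≫
      eQ X _ (-i) ≪≫ eK.symm ≪≫ (DCoh.Rpush j).mapIso (eQ _ N (-i)).symm
  haveI := hH
  haveI : Coh.IsQCoh (H.restrict j) := Scheme.Modules.isQuasicoherent_restrictFunctor _ _
  let eH : (DCoh.restrictD j).obj (DCoh.inD X H) ≅
      (DerivedCategory.singleFunctor (Spec R).Modules 0).obj ((tilde.functor R).obj (moduleSpecΓFunctor.obj (H.restrict j))) :=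
    ((Scheme.Modules.restrictFunctor j).mapDerivedCategorySingleFunctor 0).app H ≪≫
      (DerivedCategory.singleFunctor _ 0).mapIso (Groth.L18.TildeF.counitIso (H.restrict j)).symm
  let adj := Groth.L29.DC.Cpt.restrictRpushAdj j
  rw [← cancel_mono eT.hom, zero_comp]
  apply (adj.homEquiv _ _).symm.injective
  rw [← cancel_epi eH.inv]
  rw [hom_tilde_injective_eq_zero _ I (p := -i) (by omega) (eH.inv ≫ (adj.homEquiv _ _).symm (f ≫ eT.hom)),
    hom_tilde_injective_eq_zero _ I (p := -i) (by omega) (eH.inv ≫ (adj.homEquiv _ _).symm 0)]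

theorem isQCoh_pushInj (I : ModuleCat.{u} R) : Coh.IsQCoh (pushInj j I) := by
  haveI : Coh.IsQCoh ((tilde.functor R).obj I) := (TildeD.isQCoh_iff_essImage _).2 (Functor.obj_mem_essImage _ _)
  exact Groth.L16.QcqsPush.isQCoh_push _ j

end Chart

/-- quasi-coherent modules embed into quasi-coherent modules without higher extensions -/
theorem exists_mono_ri [CompactSpace X]
    (hd : ∀ U : X.Opens, IsAffineOpen U → IsAffineHom U.ι) (Y : X.Modules) (hY : Coh.IsQCoh Y) :
    ∃ (T : X.Modules) (ι : Y ⟶ T), Mono ι ∧ Coh.IsQCoh T ∧ RI T := by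
  classical
  haveI := hY
  obtain ⟨S, hS⟩ := isCompact_univ.elim_finite_subcover (fun U : X.affineOpens => ((U : X.Opens) : Set X))
    (fun U => (U : X.Opens).2) (fun x _ => by
      obtain ⟨_, ⟨U, hU, rfl⟩, hx, -⟩ := X.isBasis_affineOpens.exists_subset_of_mem_open (Set.mem_univ x) isOpen_univ
      exact Set.mem_iUnion.2 ⟨⟨U, hU⟩, hx⟩)
  let U : Fin S.card → X.affineOpens := fun k => (S.equivFin.symm k).1
  haveI hj : ∀ k, IsAffineHom (U k).2.fromSpec := fun k => by
    haveI := hd _ (U k).2
    rw [IsAffineOpen.fromSpec]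
    infer_instance
  haveI hq : ∀ k, Coh.IsQCoh (Y.restrict (U k).2.fromSpec) := fun k => Scheme.Modules.isQuasicoherent_restrictFunctor _ _
  let M := fun k => moduleSpecΓFunctor.obj (Y.restrict (U k).2.fromSpec)
  let I := fun k => Injective.under (M k)
  let ψ := fun k => (Groth.L18.TildeF.counitIso (Y.restrict (U k).2.fromSpec)).inv ≫
    (tilde.functor _).map (Injective.ι (M k))
  let T := fun k => pushInj (U k).2.fromSpec (I k)
  let ι : Y ⟶ ⨁ T := biproduct.lift fun k =>
    (Scheme.Modules.restrictAdjunction (U k).2.fromSpec).homEquiv _ _ (ψ k)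
  refine ⟨⨁ T, ι, ?_, (QCohCat.isQCoh X).prop_of_isLimit (biproduct.isLimit T) fun k => isQCoh_pushInj (U k.as).2.fromSpec (I k.as),
    ri_of_joint T fun k => ri_pushInj _ _⟩
  refine Preadditive.mono_of_kernel_zero (IsZero.eq_of_src ?_ _ _)
  refine Groth.L21.Mod.isZero_of_restrict (fun k => (U k).2.fromSpec) (fun x => ?_) _ fun k => ?_
  · obtain ⟨V, hV, hx⟩ := Set.mem_iUnion₂.1 (hS (Set.mem_univ x))
    exact ⟨S.equivFin ⟨V, hV⟩, (IsAffineOpen.opensRange_fromSpec _).ge (by simpa [U] using hx)⟩
  · let R := Scheme.Modules.restrictFunctor (U k).2.fromSpec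
    haveI := Groth.L18.TildeF.tilde_preservesFiniteLimits (R := Γ(X, (U k).1))
    haveI : Mono (ψ k) := mono_comp _ _
    have h1 : (kernel.ι ι ≫ ι) ≫ biproduct.π T k = 0 := by rw [kernel.condition, zero_comp]
    simp only [ι, Category.assoc, biproduct.lift_π, ← Adjunction.homEquiv_naturality_left] at h1
    have h2 : R.map (kernel.ι ι) ≫ ψ k = 0 := by
      apply ((Scheme.Modules.restrictAdjunction (U k).2.fromSpec).homEquiv _ _).injective
      rw [h1]
      exact ((Scheme.Modules.restrictAdjunction (U k).2.fromSpec).homAddEquiv _ _).map_zero.symm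
    exact IsZero.of_mono_eq_zero (R.map (kernel.ι ι)) (zero_of_comp_mono _ h2)

theorem exists_res [CompactSpace X] (hd : ∀ U : X.Opens, IsAffineOpen U → IsAffineHom U.ι)
    (F : CochainComplex X.Modules ℤ) (a : ℤ) [F.IsStrictlyGE a] (hF : ∀ n, Coh.IsQCoh (F.X n)) :
    ∃ (J : CochainComplex X.Modules ℤ) (ι : F ⟶ J), J.IsStrictlyGE a ∧ (∀ n, Coh.IsQCoh (J.X n)) ∧
      (∀ n, RI (J.X n)) ∧ QuasiIso ι := by
  let G := (QCohCat.isQCoh X).ι
  let Fq : CochainComplex (QCohCat.QCoh X) ℤ :=
    { X := fun n => ⟨F.X n, hF n⟩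
      d := fun i j => G.preimage (F.d i j)
      shape := fun i j h => G.map_injective (by rw [G.map_preimage, G.map_zero]; exact F.shape i j h)
      d_comp_d' := fun i j k _ _ => G.map_injective (by
        rw [G.map_comp, G.map_preimage, G.map_preimage, G.map_zero]; exact F.d_comp_d i j k) }
  haveI : Fq.IsStrictlyGE a := (CochainComplex.isStrictlyGE_iff _ _).2 fun i hi =>
    IsZero.of_full_of_faithful_of_isZero G _ (F.isZero_of_isStrictlyGE a i hi)
  obtain ⟨J, α, hJ, hJI, -, hα⟩ := Groth.L10.ClassRes.exists_res (fun Y : QCohCat.QCoh X => RI (G.obj Y))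
    (fun Y => by
      obtain ⟨T, i, hi, hT, hRI⟩ := exists_mono_ri hd Y.obj Y.property
      exact ⟨⟨T, hT⟩, G.preimage i, hRI, G.mono_of_mono_map (by rw [G.map_preimage]; exact hi)⟩)
    ⟨0, isZero_zero _, ri_of_isZero (G.map_isZero (isZero_zero _))⟩ Fq a
  let e : F ≅ (G.mapHomologicalComplex (ComplexShape.up ℤ)).obj Fq :=
    HomologicalComplex.Hom.isoOfComponents (fun n => Iso.refl _) (fun i j _ => by
      change 𝟙 _ ≫ G.map (Fq.d i j) = F.d i j ≫ 𝟙 _
      simp only [Fq, G.map_preimage]
      exact (Category.id_comp _).trans (Category.comp_id _).symm)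
  exact ⟨(G.mapHomologicalComplex _).obj J, e.hom ≫ (G.mapHomologicalComplex _).map α,
    (CochainComplex.isStrictlyGE_iff _ _).2 fun i hi => G.map_isZero (J.isZero_of_isStrictlyGE a i hi),
    fun n => (J.X n).property, hJI, inferInstance⟩

end Groth.Lead.ResInj
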