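import Groth.Agent.Lead.ResInj
import Groth.Agent.L29.DCoh.AffineKMap

/-!
Maps in `D` from bounded complexes of quasi-coherent modules into bounded below complexes without higher
extensions agree with maps in `K`.
-/

set_option autoImplicit false
set_option linter.style.haveILetI false
set_option backward.defeqAttrib.useBackward true
set_option backward.isDefEq.respectTransparency false

universe u

open CategoryTheory CategoryTheory.Limits AlgebraicGeometry CochainComplex
  CategoryTheory.Pretriangulated TopologicalSpace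

attribute [local instance] HasDerivedCategory.standard

noncomputable section

namespace Groth.Lead.ResKD

open Groth.L29.DC Groth.Lead.ResInj
open scoped ZeroObject

variable {X : Scheme.{u}}

theorem ri_biprod {A B : X.Modules} (hA : RI A) (hB : RI B) : RI (A ⊞ B) := fun H hH i hi f => by
  let F := DerivedCategory.singleFunctor X.Modules 0 ⋙ CategoryTheory.shiftFunctor (DCoh.D X) i
  have hid : F.map (biprod.fst ≫ biprod.inl + biprod.snd ≫ (biprod.inr : B ⟶ A ⊞ B)) = 𝟙 _ := by
    rw [biprod.total]; exact F.map_id _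
  rw [← Category.comp_id f]
  change f ≫ 𝟙 (F.obj (A ⊞ B)) = 0
  rw [← hid, F.map_add, Preadditive.comp_add, F.map_comp, F.map_comp, ← Category.assoc, ← Category.assoc,
    show f ≫ F.map (biprod.fst : A ⊞ B ⟶ A) = 0 from hA H hH i hi _,
    show f ≫ F.map (biprod.snd : A ⊞ B ⟶ B) = 0 from hB H hH i hi _, zero_comp, zero_comp, add_zero]

theorem hom_single_eq_zero_of_injective (M I : X.Modules) [Injective I] {p : ℤ} (hp : p ≠ 0)
    (f : (DerivedCategory.singleFunctor X.Modules 0).obj M ⟶
      (DerivedCategory.singleFunctor X.Modules p).obj I) : f = 0 := by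
  let A := X.Modules
  let J := (CochainComplex.singleFunctor A p).obj I
  haveI : ∀ n, Injective (J.X n) := fun n => by
    by_cases hn : n = p
    · subst hn
      exact Injective.of_iso (HomologicalComplex.singleObjXSelf (ComplexShape.up ℤ) n I).symm inferInstance
    · exact (HomologicalComplex.isZero_single_obj_X (ComplexShape.up ℤ) p I n hn).injective
  haveI : J.IsStrictlyGE p := (CochainComplex.isStrictlyGE_iff _ _).2 fun n hn =>
    HomologicalComplex.isZero_single_obj_X (ComplexShape.up ℤ) p I n (by omega)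
  haveI := CochainComplex.isKInjective_of_injective J p
  let e₀ := ((SingleFunctors.evaluation _ _ 0).mapIso (DerivedCategory.singleFunctorsPostcompQIso A)).app M
  let eₚ := ((SingleFunctors.evaluation _ _ p).mapIso (DerivedCategory.singleFunctorsPostcompQIso A)).app I
  let q := DerivedCategory.quotientCompQhIso A
  obtain ⟨g, hg⟩ := (CochainComplex.IsKInjective.Qh_map_bijective
    ((HomotopyCategory.quotient A (ComplexShape.up ℤ)).obj ((CochainComplex.singleFunctor A 0).obj M)) J).2
    ((q.hom.app _) ≫ (e₀.inv ≫ f ≫ eₚ.hom) ≫ q.inv.app J)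
  obtain ⟨g', rfl⟩ := (HomotopyCategory.quotient A (ComplexShape.up ℤ)).map_surjective g
  have h0 : g' = 0 := by
    ext n : 1
    by_cases hn : n = 0
    · exact (HomologicalComplex.isZero_single_obj_X (ComplexShape.up ℤ) p I n (by omega)).eq_of_tgt _ _
    · exact (HomologicalComplex.isZero_single_obj_X (ComplexShape.up ℤ) 0 M n hn).eq_of_src _ _
  subst h0
  rw [Functor.map_zero, Functor.map_zero] at hg
  have h1 : e₀.inv ≫ f ≫ eₚ.hom = 0 := by
    rw [← cancel_epi (q.hom.app _), ← cancel_mono (q.inv.app J), comp_zero, zero_comp, Category.assoc]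
    exact hg.symm
  rw [← cancel_epi e₀.inv, ← cancel_mono eₚ.hom, comp_zero, zero_comp, Category.assoc]
  exact h1

theorem ri_injective (I : X.Modules) [Injective I] : RI I := fun H _ i hi f => by
  let e := ((DerivedCategory.singleFunctors X.Modules).shiftIso i (-i) 0 (by omega)).app I
  rw [← cancel_mono e.hom, zero_comp]
  exact hom_single_eq_zero_of_injective H I (by omega) _

/-- the bottom-up induction: cycles have no higher extensions -/
theorem ri_cycles (N : CochainComplex X.Modules ℤ) (a : ℤ) (ha : ∀ i, i < a → IsZero (N.X i))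
    (hN : ∀ i, N.ExactAt i) (hT : ∀ i, RI (N.X i)) (i : ℤ) : RI (N.cycles i) := by
  obtain hi | ⟨k, rfl⟩ : i < a ∨ ∃ k : ℕ, i = a - 1 + k := by
    by_cases h : i < a
    · exact Or.inl h
    · exact Or.inr ⟨(i - (a - 1)).toNat, by omega⟩
  · exact ri_of_isZero (IsZero.of_mono (N.iCycles i) (ha i hi))
  · induction k with
    | zero => exact ri_of_isZero (IsZero.of_mono (N.iCycles _) (ha _ (by simp)))
    | succ k ih =>
      obtain ⟨j, hj⟩ : ∃ j, j = a - 1 + ((k + 1 : ℕ) : ℤ) := ⟨_, rfl⟩
      rw [← hj]
      let S : ShortComplex X.Modules := ShortComplex.mk (N.iCycles (a - 1 + k)) (N.toCycles (a - 1 + k) j)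
        (by rw [← cancel_mono (N.iCycles j), Category.assoc, HomologicalComplex.toCycles_i,
          HomologicalComplex.iCycles_d, zero_comp])
      haveI : Mono S.f := inferInstanceAs (Mono (N.iCycles _))
      haveI : Epi S.g := by
        refine Preadditive.epi_of_cancel_zero _ fun {Z} g hg => ?_
        obtain ⟨l, hl⟩ := CokernelCofork.IsColimit.desc' (N.homologyIsCokernel (a - 1 + k) j (by simp; omega)) g hg
        rw [← hl, ((HomologicalComplex.exactAt_iff_isZero_homology _ _).1 (hN j)).eq_of_src l 0]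
        exact comp_zero
      refine ri_of_ses (S := S) ⟨?_⟩ ih (hT _)
      refine ShortComplex.exact_of_f_is_kernel _ (KernelFork.IsLimit.ofι' _ _ fun {W} g hg => ?_)
      have h : g ≫ N.d (a - 1 + k) j = 0 := by
        have h' := congrArg (· ≫ N.iCycles j) hg
        simpa [S] using h'
      exact ⟨N.liftCycles g j (by simp; omega) h, N.liftCycles_i g j _ h⟩

variable (N : CochainComplex X.Modules ℤ) (a : ℤ) (ha : ∀ i, i < a → IsZero (N.X i))
  (hN : ∀ i, N.ExactAt i) (hT : ∀ i, RI (N.X i))

include ha hN hT in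
theorem exists_preimage_d {H : X.Modules} (hH : Coh.IsQCoh H) (i j : ℤ) (hij : i + 1 = j) (z : H ⟶ N.X j)
    (hz : z ≫ N.d j (j + 1) = 0) : ∃ w : H ⟶ N.X i, w ≫ N.d i j = z := by
  let z' := N.liftCycles z (j + 1) (by simp) hz
  let S : ShortComplex X.Modules := ShortComplex.mk (N.iCycles i) (N.toCycles i j)
    (by rw [← cancel_mono (N.iCycles j), Category.assoc, HomologicalComplex.toCycles_i,
      HomologicalComplex.iCycles_d, zero_comp])
  haveI : Mono S.f := inferInstanceAs (Mono (N.iCycles _))
  haveI : Epi S.g := by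
    refine Preadditive.epi_of_cancel_zero _ fun {Z} g hg => ?_
    obtain ⟨l, hl⟩ := CokernelCofork.IsColimit.desc' (N.homologyIsCokernel i j (by simp; omega)) g hg
    rw [← hl, ((HomologicalComplex.exactAt_iff_isZero_homology _ _).1 (hN j)).eq_of_src l 0]
    exact comp_zero
  have hS : S.ShortExact := by
    refine ⟨ShortComplex.exact_of_f_is_kernel _ (KernelFork.IsLimit.ofι' _ _ fun {W} g hg => ?_)⟩
    have h : g ≫ N.d i j = 0 := by
      have h' := congrArg (· ≫ N.iCycles j) hg
      simpa [S] using h'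
    exact ⟨N.liftCycles g j (by simp; omega) h, N.liftCycles_i g j _ h⟩
  obtain ⟨w, hw⟩ := exists_lift_of_ses hS (ri_cycles N a ha hN hT i) hH z'
  refine ⟨w, ?_⟩
  have h' := congrArg (· ≫ N.iCycles j) hw
  simpa [S, z'] using h'

include ha hN hT in
/-- chain maps from bounded complexes of quasi-coherent modules into such complexes are null homotopic -/
theorem nonempty_homotopy_zero (M : CochainComplex X.Modules ℤ) (p q : ℤ) (hM : DCoh.VanishesOutside M p q)
    (hMq : ∀ i, Coh.IsQCoh (M.X i)) (f : M ⟶ N) : Nonempty (Homotopy f 0) := by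
  classical
  have key : ∀ k : ℕ, ∃ h : ∀ i j, M.X i ⟶ N.X j, (∀ i j, ¬ (ComplexShape.up ℤ).Rel j i → h i j = 0) ∧
      ∀ i, q + 1 - k ≤ i → f.f i = M.d i (i + 1) ≫ h (i + 1) i + h i (i - 1) ≫ N.d (i - 1) i := by
    intro k
    induction k with
    | zero =>
      refine ⟨fun _ _ => 0, fun _ _ _ => rfl, fun i hi => ?_⟩
      exact (hM i (Or.inr (by simpa using hi))).eq_of_src _ _
    | succ k ih =>
      obtain ⟨h, hz, hc⟩ := ih
      let m := q - k
      let e : M.X m ⟶ N.X m := f.f m - M.d m (m + 1) ≫ h (m + 1) m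
      have he : e ≫ N.d m (m + 1) = 0 := by
        have h1 := hc (m + 1) (by omega)
        rw [show m + 1 - 1 = m by ring] at h1
        have h2 := congrArg (M.d m (m + 1) ≫ ·) h1
        simp only [Preadditive.comp_add, HomologicalComplex.d_comp_d_assoc, zero_comp, zero_add] at h2
        simp only [e, Preadditive.sub_comp, Category.assoc, f.comm, ← h2, sub_self]
      obtain ⟨w, hw⟩ := exists_preimage_d N a ha hN hT (hMq m) (m - 1) m (by ring) e he
      refine ⟨fun i j => if hi : i = m ∧ j = m - 1 then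
        (HomologicalComplex.XIsoOfEq M hi.1).hom ≫ w ≫ (HomologicalComplex.XIsoOfEq N hi.2).inv else h i j,
        fun i j hij => ?_, fun i hi => ?_⟩
      · dsimp only
        rw [dif_neg (fun h' => hij (by simp; omega))]
        exact hz i j hij
      · dsimp only
        rw [dif_neg (fun h' => by omega)]
        by_cases hm : i = m
        · subst hm
          rw [dif_pos ⟨rfl, rfl⟩]
          simp [hw, e]
        · rw [dif_neg (by omega)]
          exact hc i (by push_cast at hi ⊢; omega)
  obtain ⟨h, hz, hc⟩ := key (q + 1 - p).toNat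
  have hcomm : ∀ i, f.f i = dNext i h + prevD i h + (0 : M ⟶ N).f i := fun i => by
    rw [dNext_eq _ (show (ComplexShape.up ℤ).Rel i (i + 1) from rfl),
      prevD_eq _ (show (ComplexShape.up ℤ).Rel (i - 1) i by simp), HomologicalComplex.zero_f, add_zero]
    by_cases hi : q + 1 - ((q + 1 - p).toNat : ℤ) ≤ i
    · exact hc i hi
    · exact (hM i (Or.inl (by omega))).eq_of_src _ _
  exact ⟨{ hom := h, zero := hz, comm := hcomm }⟩

variable (X) in
/-- bounded complexes of quasi-coherent modules -/
def BQ (M : CochainComplex X.Modules ℤ) : Prop :=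
  (∃ p q, DCoh.VanishesOutside M p q) ∧ ∀ i, Coh.IsQCoh (M.X i)

include ha hN hT in
theorem hom_K_eq_zero (M : CochainComplex X.Modules ℤ) (hM : BQ X M)
    (f : (HomotopyCategory.quotient _ _).obj M ⟶ (HomotopyCategory.quotient _ _).obj N) : f = 0 := by
  obtain ⟨⟨p, q, hv⟩, hq⟩ := hM
  obtain ⟨g, rfl⟩ := (HomotopyCategory.quotient _ _).map_surjective f
  obtain ⟨H⟩ := nonempty_homotopy_zero N a ha hN hT M p q hv hq g
  rw [HomotopyCategory.eq_of_homotopy _ _ H, Functor.map_zero]

/-- maps in `D` and `K` agree -/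
theorem kd_bijective (J : CochainComplex X.Modules ℤ) (a : ℤ) [J.IsStrictlyGE a] (hJ : ∀ i, RI (J.X i))
    (M : CochainComplex X.Modules ℤ) (hM : BQ X M) : Groth.L29.DC.AffineKMap.KD M J := by
  obtain ⟨I, φ, hI, hII, -, hφ⟩ := Groth.L10.ClassRes.exists_res (fun Y : X.Modules => Injective Y)
    (fun Y => ⟨Injective.under Y, Injective.ι Y, inferInstance, inferInstance⟩)
    ⟨0, isZero_zero _, (isZero_zero _).injective⟩ J a
  haveI : ∀ n, Injective (I.X n) := hII
  haveI := CochainComplex.isKInjective_of_injective I a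
  let q := HomotopyCategory.quotient X.Modules (ComplexShape.up ℤ)
  let N := mappingCone φ
  have haN : ∀ i, i < a - 1 → IsZero (N.X i) := fun i hi =>
    ((biprod_isZero_iff _ _).2 ⟨J.isZero_of_isStrictlyGE a (i + 1) (by omega), I.isZero_of_isStrictlyGE a i (by omega)⟩).of_iso
      (HomologicalComplex.homotopyCofiber.XIsoBiprod φ i (i + 1) rfl)
  have hTN : ∀ i, RI (N.X i) := fun i => ri_of_iso
    (HomologicalComplex.homotopyCofiber.XIsoBiprod φ i (i + 1) rfl).symm (ri_biprod (hJ _) (ri_injective _))
  haveI : IsIso (DerivedCategory.Q.map φ) := (DerivedCategory.isIso_Q_map_iff_quasiIso _ _).2 hφ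
  have hNz : IsZero (DerivedCategory.Q.obj N) :=
    (Triangle.isZero₃_iff_isIso₁ _ (DerivedCategory.mappingCone_triangle_distinguished φ)).2 ((DerivedCategory.isIso_Q_map_iff_quasiIso _ _).2 hφ)
  have hexN : ∀ i, N.ExactAt i := fun i => by
    rw [HomologicalComplex.exactAt_iff_isZero_homology]
    exact ((DerivedCategory.homologyFunctor _ i).map_isZero hNz).of_iso (ResProp.hdIso N i).symm
  have hz := hom_K_eq_zero N (a - 1) haN hexN hTN
  have hM' : BQ X (M⟦(1 : ℤ)⟧) := by
    obtain ⟨⟨p, q', hv⟩, hq⟩ := hM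
    exact ⟨⟨p - 1, q' - 1, fun i hi => hv (i + 1) (by omega)⟩, fun i => hq (i + 1)⟩
  have hT := HomotopyCategory.mappingCone_triangleh_distinguished φ
  haveI : IsIso (DerivedCategory.Qh.map (q.map φ)) :=
    (NatIso.isIso_map_iff (DerivedCategory.quotientCompQhIso X.Modules) φ).2 inferInstance
  refine ⟨fun f g hfg => ?_, fun f => ?_⟩
  · rw [← sub_eq_zero]
    have h0 : (f - g) ≫ q.map φ = 0 := by
      apply (CochainComplex.IsKInjective.Qh_map_bijective _ I).1
      rw [Functor.map_comp, Functor.map_sub]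
      change (DerivedCategory.Qh.map f - DerivedCategory.Qh.map g) ≫ _ = _
      rw [show DerivedCategory.Qh.map f = DerivedCategory.Qh.map g from hfg, sub_self, zero_comp, Functor.map_zero]
    obtain ⟨k, hk⟩ := Triangle.coyoneda_exact₁ _ hT
      (((f - g))⟦(1 : ℤ)⟧') (by
        change _ ≫ (q.map φ)⟦(1 : ℤ)⟧' = 0
        rw [← Functor.map_comp, h0, Functor.map_zero])
    let ec := ((q.commShiftIso (1 : ℤ)).app M)
    have h1 : ec.hom ≫ k = 0 := hz _ hM' _
    have h2 : k = 0 := by rwa [← cancel_epi ec.hom, comp_zero]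
    apply (CategoryTheory.shiftFunctor (HomotopyCategory X.Modules (ComplexShape.up ℤ)) (1 : ℤ)).map_injective
    rw [hk, h2, Functor.map_zero]
    exact zero_comp
  · obtain ⟨g, hg⟩ := (CochainComplex.IsKInjective.Qh_map_bijective (q.obj M) I).2 (f ≫ DerivedCategory.Qh.map (q.map φ))
    obtain ⟨k, rfl⟩ := Triangle.coyoneda_exact₂ _ hT g (hz M hM _)
    refine ⟨k, (cancel_mono (DerivedCategory.Qh.map (q.map φ))).1 ?_⟩
    rw [← hg, Functor.map_comp]
    rfl

end Groth.Lead.ResKD
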