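import Groth.Agent.Lead.ResD

/-!
On a scheme with the resolution property the category of perfect objects is the localization of strictly perfect
complexes at the quasi-isomorphisms.
-/

set_option autoImplicit false
set_option linter.style.haveILetI false
set_option backward.defeqAttrib.useBackward true
set_option backward.isDefEq.respectTransparency false

universe u

open CategoryTheory CategoryTheory.Limits AlgebraicGeometry CochainComplex

attribute [local instance] HasDerivedCategory.standard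

noncomputable section

namespace Groth.Lead.ResLoc

variable (X : Scheme.{u})

/-- strictly perfect complexes -/
abbrev SP := ObjectProperty.FullSubcategory (fun E : CochainComplex X.Modules ℤ => DCoh.IsStrictlyPerfect E)

/-- the inclusion -/
abbrev incl : SP X ⥤ CochainComplex X.Modules ℤ :=
  ObjectProperty.ι (fun E : CochainComplex X.Modules ℤ => DCoh.IsStrictlyPerfect E)

/-- quasi-isomorphisms -/
abbrev W : MorphismProperty (SP X) :=
  (HomologicalComplex.quasiIso X.Modules (ComplexShape.up ℤ)).inverseImage (incl X)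

/-- perfect objects -/
abbrev Perf := ObjectProperty.FullSubcategory (fun K : DCoh.D X => DCoh.IsPerfect K)

variable {X}

theorem mem_W_iff {E F : SP X} (f : E ⟶ F) : W X f ↔ QuasiIso f.hom := Iff.rfl

/-- chain maps as morphisms of strictly perfect complexes -/
abbrev homMk {E F : SP X} (f : E.obj ⟶ F.obj) : E ⟶ F := ⟨f⟩

theorem isStrictlyPerfect_cylinder {E : CochainComplex X.Modules ℤ} (hE : DCoh.IsStrictlyPerfect E) :
    DCoh.IsStrictlyPerfect E.cylinder := by
  refine Groth.L29.DC.isStrictlyPerfect_cone _ hE ?_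
  obtain ⟨⟨a, b, hv⟩, hf⟩ := hE
  exact ⟨⟨a, b, fun i hi => ((biprod_isZero_iff _ _).2 ⟨hv i hi, hv i hi⟩).of_iso
      ((HomologicalComplex.eval _ _ i).mapBiprod E E)⟩,
    fun i => Groth.L29.LocFree.of_iso ((HomologicalComplex.eval _ _ i).mapBiprod E E).symm
      (Groth.L29.LocFree.biprod (hf i) (hf i))⟩

/-- homotopic maps agree in the localization -/
theorem map_eq_of_homotopy {E F : SP X} (f g : E ⟶ F) (H : Homotopy f.hom g.hom) :
    (W X).Q.map f = (W X).Q.map g := by
  let C : SP X := ⟨E.obj.cylinder, isStrictlyPerfect_cylinder E.property⟩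
  let π : C ⟶ E := homMk (HomologicalComplex.cylinder.π E.obj)
  have hπ : W X π := by
    rw [mem_W_iff]
    exact inferInstanceAs (QuasiIso (HomologicalComplex.cylinder.homotopyEquiv E.obj
      (fun j => ⟨j - 1, by simp⟩)).hom)
  haveI := Localization.inverts (W X).Q (W X) π hπ
  let i₀ : E ⟶ C := homMk (HomologicalComplex.cylinder.ι₀ E.obj)
  let i₁ : E ⟶ C := homMk (HomologicalComplex.cylinder.ι₁ E.obj)
  have h01 : (W X).Q.map i₀ = (W X).Q.map i₁ := by
    rw [← cancel_mono ((W X).Q.map π), ← Functor.map_comp, ← Functor.map_comp]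
    congr 1
    exact ObjectProperty.hom_ext _ ((HomologicalComplex.cylinder.ι₀_π E.obj).trans
      (HomologicalComplex.cylinder.ι₁_π E.obj).symm)
  let d : C ⟶ F := homMk (HomologicalComplex.cylinder.desc f.hom g.hom H)
  rw [show f = i₀ ≫ d from ObjectProperty.hom_ext _ (HomologicalComplex.cylinder.ι₀_desc _ _ H).symm,
    show g = i₁ ≫ d from ObjectProperty.hom_ext _ (HomologicalComplex.cylinder.ι₁_desc _ _ H).symm,
    Functor.map_comp, Functor.map_comp, h01]

variable [CompactSpace X] [QuasiSeparatedSpace X] (hX : PerfAux.HasResolutionProperty X)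

include hX in
/-- a cospan of quasi-isomorphisms can be completed, up to the localization -/
theorem exists_square {A B C : SP X} (h : A ⟶ C) (g : B ⟶ C) (hg : W X g) :
    ∃ (G : SP X) (k : G ⟶ A) (l : G ⟶ B), W X k ∧ (W X).Q.map (k ≫ h) = (W X).Q.map (l ≫ g) := by
  haveI : QuasiIso g.hom := hg
  haveI : IsIso (DerivedCategory.Q.map g.hom) := (DerivedCategory.isIso_Q_map_iff_quasiIso _ _).2 inferInstance
  obtain ⟨G₀, k₀, l₀, hG₀, hk₀, hkl⟩ := ResD.exists_roof hX A.obj B.obj A.property B.property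
    (DerivedCategory.Q.map h.hom ≫ inv (DerivedCategory.Q.map g.hom))
  obtain ⟨G₁, γ, hG₁, hγ, ⟨H⟩⟩ := ResD.exists_homotopy hX G₀ C.obj hG₀ C.property (k₀ ≫ h.hom) (l₀ ≫ g.hom)
    (by rw [Functor.map_comp, Functor.map_comp, ← hkl, Category.assoc, Category.assoc, IsIso.inv_hom_id,
      Category.comp_id])
  haveI := hk₀
  haveI := hγ
  let G : SP X := ⟨G₁, hG₁⟩
  refine ⟨G, homMk (γ ≫ k₀), homMk (γ ≫ l₀), (inferInstance : QuasiIso (γ ≫ k₀)), map_eq_of_homotopy _ _ ?_⟩
  exact (Homotopy.ofEq (Category.assoc _ _ _)).trans (H.trans (Homotopy.ofEq (Category.assoc _ _ _).symm))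

/-- the object of strictly perfect complexes underlying an object of the localization -/
abbrev un (A : (W X).Localization) : SP X := (Localization.Construction.objEquiv (W X)).symm A

theorem obj_un (A : (W X).Localization) : (W X).Q.obj (un A) = A :=
  (Localization.Construction.objEquiv (W X)).apply_symm_apply A

/-- morphisms given by roofs -/
def Roof : MorphismProperty (W X).Localization := fun A B f =>
  ∃ (G : SP X) (g : G ⟶ un A) (h : G ⟶ un B), W X g ∧
    (W X).Q.map g ≫ eqToHom (obj_un A) ≫ f ≫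
      eqToHom (obj_un B).symm = (W X).Q.map h

include hX in
theorem roof_comp : (Roof (X := X)).IsStableUnderComposition := by
  refine ⟨fun {A B C} f₁ f₂ => ?_⟩
  rintro ⟨G₁, g₁, h₁, hg₁, e₁⟩ ⟨G₂, g₂, h₂, hg₂, e₂⟩
  obtain ⟨G, k, l, hk, hkl⟩ := exists_square hX h₁ g₂ hg₂
  haveI : QuasiIso g₁.hom := hg₁
  haveI : QuasiIso k.hom := hk
  refine ⟨G, k ≫ g₁, l ≫ h₂, (inferInstance : QuasiIso (k.hom ≫ g₁.hom)), ?_⟩
  rw [Functor.map_comp, Functor.map_comp, Category.assoc, ← e₂, ← Category.assoc ((W X).Q.map l),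
    ← Functor.map_comp (W X).Q l g₂, ← hkl, Functor.map_comp, Category.assoc, ← e₁]
  simp only [Category.assoc, eqToHom_trans_assoc, eqToHom_refl, Category.id_comp]

include hX in
theorem roof_eq_top : (Roof (X := X)) = ⊤ := by
  haveI := roof_comp hX
  refine Localization.Construction.morphismProperty_eq_top _ (fun E F f => ?_) (fun E F w hw => ?_)
  · exact ⟨E, 𝟙 _, f, (inferInstance : QuasiIso (𝟙 E.obj)), by
      simp only [CategoryTheory.Functor.map_id, Category.id_comp]
      exact (Category.id_comp _).trans (Category.comp_id _)⟩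
  · exact ⟨E, w, 𝟙 _, hw, by
      simp only [CategoryTheory.Functor.map_id]
      change (W X).Q.map w ≫ 𝟙 _ ≫ Localization.Construction.wInv w hw ≫ 𝟙 _ = _
      rw [Category.id_comp, Category.comp_id]
      exact (Localization.Construction.wIso w hw).hom_inv_id⟩

include hX in
theorem isLocalization
    (h : ∀ E : SP X, DCoh.IsPerfect ((incl X ⋙ DerivedCategory.Q).obj E)) :
    (ObjectProperty.lift (fun K : DCoh.D X => DCoh.IsPerfect K) (incl X ⋙ DerivedCategory.Q) h).IsLocalization
      (W X) := by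
  let Ψ := ObjectProperty.lift (fun K : DCoh.D X => DCoh.IsPerfect K) (incl X ⋙ DerivedCategory.Q) h
  let ιP := ObjectProperty.ι (fun K : DCoh.D X => DCoh.IsPerfect K)
  have hinv : (W X).IsInvertedBy Ψ := fun E F f hf => by
    haveI : IsIso (ιP.map (Ψ.map f)) := by
      change IsIso (DerivedCategory.Q.map f.hom)
      exact (DerivedCategory.isIso_Q_map_iff_quasiIso _ _).2 hf
    exact isIso_of_fully_faithful ιP _
  let Φ := Localization.Construction.lift Ψ hinv
  have key : ∀ {E F : SP X} (f : (W X).Q.obj E ⟶ (W X).Q.obj F),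
      ∃ (G : SP X) (g : G ⟶ E) (k : G ⟶ F), W X g ∧ (W X).Q.map g ≫ f = (W X).Q.map k := fun {E F} f => by
    obtain ⟨G, g, k, hg, e⟩ := (congrFun (congrFun (congrFun (roof_eq_top hX) _) _) f).symm ▸
      (MorphismProperty.top_apply f)
    refine ⟨G, g, k, hg, ?_⟩
    rw [← e]
    change _ = (W X).Q.map g ≫ 𝟙 _ ≫ f ≫ 𝟙 _
    rw [Category.id_comp, Category.comp_id]
  haveI : Φ.Faithful := by
    refine ⟨fun {A B} f₁ f₂ hf => ?_⟩
    obtain ⟨E, rfl⟩ := (Localization.Construction.objEquiv (W X)).surjective A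
    obtain ⟨F, rfl⟩ := (Localization.Construction.objEquiv (W X)).surjective B
    obtain ⟨G₁, g₁, k₁, hg₁, e₁⟩ := key f₁
    obtain ⟨G₂, g₂, k₂, hg₂, e₂⟩ := key f₂
    obtain ⟨G, a, b, ha, hab⟩ := exists_square hX g₁ g₂ hg₂
    have hD : DerivedCategory.Q.map (a ≫ k₁).hom = DerivedCategory.Q.map (b ≫ k₂).hom := by
      have h1 : Φ.map ((W X).Q.map (a ≫ k₁)) = Φ.map ((W X).Q.map (b ≫ k₂)) := by
        rw [Functor.map_comp (W X).Q, Functor.map_comp (W X).Q, ← e₁, ← e₂, ← Category.assoc,
          ← Category.assoc ((W X).Q.map b), ← Functor.map_comp (W X).Q, ← Functor.map_comp (W X).Q, hab]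
        exact (Φ.map_comp _ _).trans ((congrArg (_ ≫ ·) hf).trans (Φ.map_comp _ _).symm)
      exact congrArg (fun φ => ιP.map φ) h1
    obtain ⟨G', γ, hG', hγ, ⟨H⟩⟩ := ResD.exists_homotopy hX G.obj F.obj G.property F.property
      (a ≫ k₁).hom (b ≫ k₂).hom hD
    let G'' : SP X := ⟨G', hG'⟩
    let γ' : G'' ⟶ G := homMk γ
    have h2 : (W X).Q.map (γ' ≫ a ≫ k₁) = (W X).Q.map (γ' ≫ b ≫ k₂) := map_eq_of_homotopy _ _ H
    haveI : QuasiIso γ := hγ
    haveI : QuasiIso a.hom := ha
    haveI : QuasiIso g₁.hom := hg₁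
    haveI : IsIso ((W X).Q.map (γ' ≫ a ≫ g₁)) :=
      Localization.inverts (W X).Q (W X) _ (inferInstance : QuasiIso (γ ≫ a.hom ≫ g₁.hom))
    rw [← cancel_epi ((W X).Q.map (γ' ≫ a ≫ g₁))]
    calc (W X).Q.map (γ' ≫ a ≫ g₁) ≫ f₁ = (W X).Q.map (γ' ≫ a ≫ k₁) := by
            simp only [Functor.map_comp, Category.assoc, e₁]
      _ = (W X).Q.map (γ' ≫ b ≫ k₂) := h2
      _ = (W X).Q.map γ' ≫ (W X).Q.map (b ≫ g₂) ≫ f₂ := by
            simp only [Functor.map_comp, Category.assoc, e₂]
      _ = (W X).Q.map (γ' ≫ a ≫ g₁) ≫ f₂ := by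
            rw [← hab]; simp only [Functor.map_comp, Category.assoc]
  haveI : Φ.Full := by
    refine ⟨fun {A B} φ => ?_⟩
    obtain ⟨E, rfl⟩ := (Localization.Construction.objEquiv (W X)).surjective A
    obtain ⟨F, rfl⟩ := (Localization.Construction.objEquiv (W X)).surjective B
    obtain ⟨G₀, g, k, hG₀, hg, e⟩ := ResD.exists_roof hX E.obj F.obj E.property F.property (ιP.map φ)
    let G : SP X := ⟨G₀, hG₀⟩
    let g' : G ⟶ E := homMk g
    let k' : G ⟶ F := homMk k
    haveI := Localization.inverts (W X).Q (W X) g' hg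
    haveI := hinv g' hg
    refine ⟨inv ((W X).Q.map g') ≫ (W X).Q.map k', ?_⟩
    rw [Functor.map_comp, Functor.map_inv, IsIso.inv_comp_eq]
    exact ιP.map_injective ((Functor.map_comp ιP (Ψ.map g') φ).trans e).symm
  haveI : Φ.EssSurj := ⟨fun K => by
    obtain ⟨E, hE, ⟨e⟩⟩ := ResD.exists_strictlyPerfect hX K.obj K.property
    exact ⟨(W X).Q.obj ⟨E, hE⟩, ⟨ObjectProperty.isoMk _ e⟩⟩⟩
  exact ⟨hinv, Functor.IsEquivalence.mk⟩

end Groth.Lead.ResLoc
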