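import Groth.Agent.Lead.ResStep
import Groth.Agent.L29.DCoh.Amplitude
import Groth.Agent.L29.DCoh.PCQCoh
import Groth.Agent.L29.DCoh.TopCoh
import Groth.Agent.L29.DCoh.PushPerfect
import Groth.Agent.L17.Approx.Pull
import Groth.Agent.L17.Approx.Extend
import Groth.Agent.L16.SchSupport
import Groth.Agent.L17.HTor.Acyc
import Groth.Prelude.Def_PerfAux

/-!
On schemes with the resolution property, bounded below complexes of quasi-coherent modules with perfect image
receive quasi-isomorphisms from strictly perfect complexes.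
-/

set_option autoImplicit false
set_option linter.style.haveILetI false
set_option backward.defeqAttrib.useBackward true
set_option backward.isDefEq.respectTransparency false

universe u

open CategoryTheory CategoryTheory.Limits AlgebraicGeometry CochainComplex
  CategoryTheory.Pretriangulated TopologicalSpace

attribute [local instance] HasDerivedCategory.standard

noncomputable section

namespace Groth.Lead.ResProp

open Groth.L29.DC
open scoped ZeroObject

variable {X : Scheme.{u}}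

/-- a surjection from a quasi-coherent module onto one of finite type is hit by a finite locally free module -/
theorem exists_epi_lift [CompactSpace X] [QuasiSeparatedSpace X] (hX : PerfAux.HasResolutionProperty X)
    {M H : X.Modules} (hM : Coh.IsQCoh M) (hH : Coh.IsQCoh H) (hft : CohB1.IsFT H) (p : M ⟶ H) [Epi p] :
    ∃ (G : X.Modules) (s : G ⟶ M), FlatMod.IsFinLocFree G ∧ Epi (s ≫ p) := by
  classical
  haveI := hM
  haveI := hH
  obtain ⟨S, hS⟩ := isCompact_univ.elim_finite_subcover (fun U : X.affineOpens => ((U : X.Opens) : Set X))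
    (fun U => (U : X.Opens).2) (fun x _ => by
      obtain ⟨_, ⟨U, hU, rfl⟩, hx, -⟩ := X.isBasis_affineOpens.exists_subset_of_mem_open (Set.mem_univ x) isOpen_univ
      exact Set.mem_iUnion.2 ⟨⟨U, hU⟩, hx⟩)
  have hfin : ∀ U : X.affineOpens, ∃ (m : ℕ) (t : Fin m → Γ(H, U.1)),
      Submodule.span Γ(X, U.1) (Set.range t) = ⊤ := fun U => by
    haveI := Groth.L16.SchSupport.finite_sections H ⟨hH, hft⟩ U
    exact Module.Finite.exists_fin
  choose m t ht using hfin
  choose t' ht' using fun (U : X.affineOpens) (k : Fin (m U)) =>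
    Groth.L16.AffineBC.surjective_app_of_epi p U.2 (t U k)
  obtain ⟨F, i, -, hF, hmem⟩ := Groth.L17.Approx.exists_submodule_finset M (fun U : X.affineOpens => U.1)
    (fun U => U.2.isCompact) (fun U => ULift.{u} (Fin (m U))) (fun U k => t' U k.down) S
  haveI : Coh.IsQCoh F := hF.1
  have he : Epi (i ≫ p) := by
    refine Groth.L17.Approx.epi_of_surjective_cover (i ≫ p) (ι := {U // U ∈ S}) (fun U => U.1.1)
      (fun U => U.1.2) (fun x => ?_) fun U h => ?_
    · obtain ⟨U, hU, hx⟩ := Set.mem_iUnion₂.1 (hS (Set.mem_univ x))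
      exact ⟨⟨U, hU⟩, hx⟩
    · induction (show h ∈ Submodule.span Γ(X, U.1.1) (Set.range (t U.1)) by rw [ht]; trivial) using
        Submodule.span_induction with
      | mem z hz =>
        obtain ⟨k, rfl⟩ := hz
        obtain ⟨y, hy⟩ := hmem U.1 U.2 ⟨k⟩
        exact ⟨y, (congrArg (p.app U.1.1) hy).trans (ht' U.1 k)⟩
      | zero => exact ⟨0, map_zero _⟩
      | add a b _ _ ha hb =>
        obtain ⟨a', rfl⟩ := ha
        obtain ⟨b', rfl⟩ := hb
        exact ⟨a' + b', map_add _ _ _⟩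
      | smul r a _ ha =>
        obtain ⟨a', rfl⟩ := ha
        exact ⟨r • a', Scheme.Modules.Hom.app_smul (i ≫ p) r a'⟩
  obtain ⟨G, π, hG, hπ⟩ := hX F hF.1 hF.2
  haveI := hπ
  exact ⟨G, π ≫ i, hG, by rw [Category.assoc]; exact epi_comp _ _⟩

/-- cohomology of a complex and of its image -/
def hdIso (C : CochainComplex X.Modules ℤ) (i : ℤ) : DCoh.HD (DCoh.toD X C) i ≅ C.homology i :=
  (DerivedCategory.homologyFunctorFactors X.Modules i).app C

theorem isZero_of_hd {K : DCoh.D X} (h : ∀ i, IsZero (DCoh.HD K i)) : IsZero K := by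
  haveI : IsIso (0 : K ⟶ (0 : DCoh.D X)) := (DerivedCategory.isIso_iff X.Modules _).2 fun i =>
    isIso_of_source_target_iso_zero _ (h i).isoZero
      ((DerivedCategory.homologyFunctor _ i).map_isZero (Limits.isZero_zero _)).isoZero
  exact (Limits.isZero_zero _).of_iso (asIso (0 : K ⟶ (0 : DCoh.D X)))

theorem isQCoh_cone {E F : CochainComplex X.Modules ℤ} (φ : E ⟶ F) (hE : ∀ i, Coh.IsQCoh (E.X i))
    (hF : ∀ i, Coh.IsQCoh (F.X i)) (i : ℤ) : Coh.IsQCoh ((mappingCone φ).X i) :=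
  Groth.L29.DC.isQCoh_of_iso' (HomologicalComplex.homotopyCofiber.XIsoBiprod φ i (i + 1) rfl).symm
    (Groth.L17.HTorRG.Acyc.isQCoh_biprod (hE (i + 1)) (hF i))

theorem isPerfect_cone {E F : CochainComplex X.Modules ℤ} (φ : E ⟶ F) (hE : DCoh.IsStrictlyPerfect E)
    (hF : DCoh.IsPerfect (DCoh.toD X F)) : DCoh.IsPerfect (DCoh.toD X (mappingCone φ)) :=
  (perfect_two_out_of_three (DerivedCategory.mappingCone_triangle_distinguished φ)).1
    (Groth.L29.DC.PushPerfect.isPerfect_of_strictly hE) hF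

variable (F : CochainComplex X.Modules ℤ)

/-- the state of the construction in degree `n` -/
def St (n : ℤ) : Prop :=
  ∃ (E : CochainComplex X.Modules ℤ) (φ : E ⟶ F), DCoh.IsStrictlyPerfect E ∧
    (∀ i, i < n → IsZero (E.X i)) ∧ ∀ i, n ≤ i → (mappingCone φ).ExactAt i

theorem isStrictlyPerfect_of_step {E E' : CochainComplex X.Modules ℤ} (hE : DCoh.IsStrictlyPerfect E) {n : ℤ}
    {G : X.Modules} (hG : FlatMod.IsFinLocFree G) (h1 : ∀ i, i < n - 1 → IsZero (E'.X i))
    (h2 : ∀ i, i ≠ n - 1 → Nonempty (E'.X i ≅ E.X i)) (h3 : Nonempty (E'.X (n - 1) ≅ G)) :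
    DCoh.IsStrictlyPerfect E' := by
  obtain ⟨⟨a, b, hv⟩, hf⟩ := hE
  refine ⟨⟨n - 1, max b (n - 1), fun i hi => ?_⟩, fun i => ?_⟩
  · rcases hi with hi | hi
    · exact h1 i hi
    · exact (hv i (Or.inr (by omega))).of_iso (h2 i (by omega)).some
  · by_cases hi : i = n - 1
    · subst hi
      exact Groth.L29.LocFree.of_iso h3.some.symm hG
    · exact Groth.L29.LocFree.of_iso (h2 i hi).some.symm (hf i)

theorem st_start (b : ℤ) (hb : ∀ i, b < i → IsZero (DCoh.HD (DCoh.toD X F) i)) : St F (b + 1) := by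
  refine ⟨0, 0, ⟨⟨0, 0, fun i _ => (HomologicalComplex.eval _ _ _).map_isZero (isZero_zero _)⟩,
    fun i => Groth.L29.LocFree.of_isZero ((HomologicalComplex.eval _ _ _).map_isZero (isZero_zero _))⟩,
    fun i _ => (HomologicalComplex.eval _ _ _).map_isZero (isZero_zero _), fun i hi => ?_⟩
  haveI : IsIso (DerivedCategory.Q.map (mappingCone.inr (0 : (0 : CochainComplex X.Modules ℤ) ⟶ F))) := by
    have h := DerivedCategory.mappingCone_triangle_distinguished (0 : (0 : CochainComplex X.Modules ℤ) ⟶ F)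
    exact (Triangle.isZero₁_iff_isIso₂ _ h).1 (DerivedCategory.Q.map_isZero (isZero_zero _))
  rw [HomologicalComplex.exactAt_iff_isZero_homology]
  exact ((hb i (by omega)).of_iso
    ((DerivedCategory.homologyFunctor _ i).mapIso (asIso (DerivedCategory.Q.map
      (mappingCone.inr (0 : (0 : CochainComplex X.Modules ℤ) ⟶ F)))).symm)).of_iso (hdIso _ i).symm

variable [CompactSpace X] [QuasiSeparatedSpace X] (hX : PerfAux.HasResolutionProperty X)
  (hFq : ∀ i, Coh.IsQCoh (F.X i)) (hF : DCoh.IsPerfect (DCoh.toD X F))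

include hX hFq hF in
theorem st_succ {n : ℤ} (h : St F n) : St F (n - 1) := by
  obtain ⟨E, φ, hE, hEz, hex⟩ := h
  let C := mappingCone φ
  have hCq : ∀ i, Coh.IsQCoh (C.X i) := fun i =>
    isQCoh_cone φ (fun j => PCQCoh.isQCoh_of_isFinLocFree (hE.2 j)) hFq i
  have hft : CohB1.IsFT (C.homology (n - 1)) := by
    have h := TopCoh.isFT_top (m := n - 1) (n := n - 1) le_rfl (pc_of_perfect (isPerfect_cone φ hE hF) _)
      (fun i hi => ((HomologicalComplex.exactAt_iff_isZero_homology _ _).1 (hex i (by omega))).of_iso (hdIso C i))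
    haveI : Epi (hdIso C (n - 1)).hom := inferInstance
    exact Groth.L17.Approx.isFT_of_epi (hdIso C (n - 1)).hom h
  obtain ⟨G, s₀, hG, hs₀⟩ := exists_epi_lift hX (PCQCoh.isQCoh_cycles hCq (n - 1))
    (PCQCoh.isQCoh_homology hCq (n - 1)) hft (C.homologyπ (n - 1))
  have hprev : (ComplexShape.up ℤ).prev (n - 1) = n - 2 := by simp; omega
  obtain ⟨E', φ', h1, h2, h3, h4, -⟩ := Groth.Lead.ResStep.exists_step φ n hEz hex (s₀ ≫ C.iCycles (n - 1))
    (by rw [Category.assoc, HomologicalComplex.iCycles_d, comp_zero]) (fun T z hz => by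
      let z' := C.liftCycles z n (by simp) hz
      obtain ⟨T₁, e₁, he₁, x, hx⟩ := surjective_up_to_refinements_of_epi (s₀ ≫ C.homologyπ (n - 1))
        (z' ≫ C.homologyπ (n - 1))
      have h : (e₁ ≫ z') ≫ C.homologyπ (n - 1) = (x ≫ s₀) ≫ C.homologyπ (n - 1) := by
        simpa only [Category.assoc] using hx
      obtain ⟨T₂, e₂, he₂, w, hw⟩ := (C.comp_homologyπ_eq_iff_up_to_refinements (n - 2) (n - 1) hprev _ _).1 h
      refine ⟨T₂, e₂ ≫ e₁, epi_comp _ _, e₂ ≫ x, w, ?_⟩
      have hw' := congrArg (· ≫ C.iCycles (n - 1)) hw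
      simpa [z', C, Preadditive.add_comp] using hw')
  exact ⟨E', φ', isStrictlyPerfect_of_step hE hG h1 h2 h3, h1, h4⟩

include hX hFq hF in
theorem st_all (b : ℤ) (hb : ∀ i, b < i → IsZero (DCoh.HD (DCoh.toD X F) i)) (k : ℕ) : St F (b + 1 - k) := by
  induction k with
  | zero => simpa using st_start F b hb
  | succ k ih =>
    have h := st_succ F hX hFq hF ih
    rwa [show b + 1 - ((k + 1 : ℕ) : ℤ) = b + 1 - k - 1 by push_cast; ring]

omit [CompactSpace X] [QuasiSeparatedSpace X] in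
/-- near a point the bottom cycles of the cone are finite locally free -/
theorem isFinLocFree_bottom_aux {E F : CochainComplex X.Modules ℤ} (φ : E ⟶ F) (hE : DCoh.IsStrictlyPerfect E)
    (n : ℤ) (hEz : ∀ i, i < n → IsZero (E.X i)) (hFz : ∀ i, i < n → IsZero (F.X i))
    (hex : ∀ i, n ≤ i → (mappingCone φ).ExactAt i) (P : CochainComplex X.Modules ℤ) (hP : DCoh.IsStrictlyPerfect P)
    (hPz : ∀ i, i < n → IsZero (P.X i)) (β : E ⟶ P) (e : DCoh.toD X F ≅ DCoh.toD X P)
    (hβ : DerivedCategory.Q.map φ ≫ e.hom = DerivedCategory.Q.map β) :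
    FlatMod.IsFinLocFree ((mappingCone φ).cycles (n - 1)) := by
  have hz : ∀ {K : CochainComplex X.Modules ℤ} (ψ : E ⟶ K), (∀ i, i < n → IsZero (K.X i)) →
      ∀ i, i < n - 1 → IsZero ((mappingCone ψ).X i) := fun ψ hK i hi =>
    ((biprod_isZero_iff _ _).2 ⟨hEz (i + 1) (by omega), hK i (by omega)⟩).of_iso
      (HomologicalComplex.homotopyCofiber.XIsoBiprod ψ i (i + 1) rfl)
  obtain ⟨eT, -, -⟩ := exists_iso_of_arrow_iso _ _ (DerivedCategory.mappingCone_triangle_distinguished φ)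
    (DerivedCategory.mappingCone_triangle_distinguished β) (Arrow.isoMk (Iso.refl _) e (by
      simp only [Iso.refl_hom]
      exact (Category.id_comp _).trans hβ.symm))
  let eQ : DCoh.toD X (mappingCone φ) ≅ DCoh.toD X (mappingCone β) := Triangle.π₃.mapIso eT
  let eH : ∀ i, (mappingCone φ).homology i ≅ (mappingCone β).homology i := fun i =>
    (hdIso _ i).symm ≪≫ (DerivedCategory.homologyFunctor _ i).mapIso eQ ≪≫ hdIso _ i
  obtain ⟨⟨a, b, hv⟩, hf⟩ := isStrictlyPerfect_cone β hE hP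
  have hexβ : ∀ i, n - 1 < i → (mappingCone β).ExactAt i := fun i hi => by
    rw [HomologicalComplex.exactAt_iff_isZero_homology]
    exact ((HomologicalComplex.exactAt_iff_isZero_homology _ _).1 (hex i (by omega))).of_iso (eH i).symm
  obtain ⟨-, hlf, -⟩ := isStrictlyPerfect_truncLE a b (n - 1) hv hf hexβ
  let eφ := (mappingCone φ).isoHomologyπ (n - 1 - 1) (n - 1) (by simp)
    ((hz φ hFz (n - 1 - 1) (by omega)).eq_of_src _ _)
  let eβ := (mappingCone β).isoHomologyπ (n - 1 - 1) (n - 1) (by simp)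
    ((hz β hPz (n - 1 - 1) (by omega)).eq_of_src _ _)
  exact Groth.L29.LocFree.of_iso ((mappingCone β).truncLEXIsoCycles (n - 1) ≪≫ eβ ≪≫ (eH (n - 1)).symm ≪≫ eφ.symm)
    (hlf (n - 1))

omit [CompactSpace X] [QuasiSeparatedSpace X] in
/-- cycles of a cone commute with restriction -/
theorem nonempty_cycles_restrict {E F : CochainComplex X.Modules ℤ} (φ : E ⟶ F) (V : X.Opens) (i : ℤ) :
    Nonempty ((mappingCone ((DCoh.restrictCx V).map φ)).cycles i ≅ ((mappingCone φ).cycles i).restrict V.ι) :=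
  ⟨(HomologicalComplex.cyclesFunctor _ _ i).mapIso
      (mappingCone.mapHomologicalComplexIso φ (Scheme.Modules.restrictFunctor V.ι)).symm ≪≫
    ((mappingCone φ).sc i).mapCyclesIso (Scheme.Modules.restrictFunctor V.ι)⟩

omit [CompactSpace X] [QuasiSeparatedSpace X] in
theorem exactAt_cone_restrict {E F : CochainComplex X.Modules ℤ} (φ : E ⟶ F) (V : X.Opens) {i : ℤ}
    (h : (mappingCone φ).ExactAt i) : (mappingCone ((DCoh.restrictCx V).map φ)).ExactAt i := by
  let R := Scheme.Modules.restrictFunctor V.ι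
  rw [HomologicalComplex.exactAt_iff_isZero_homology] at h ⊢
  exact ((R.map_isZero h).of_iso (((mappingCone φ).sc i).mapHomologyIso R)).of_iso
    ((HomologicalComplex.homologyFunctor _ _ i).mapIso (mappingCone.mapHomologicalComplexIso φ R)).symm

omit [CompactSpace X] [QuasiSeparatedSpace X] in
theorem isFinLocFree_bottom {E F : CochainComplex X.Modules ℤ} (φ : E ⟶ F) (hE : DCoh.IsStrictlyPerfect E)
    (n : ℤ) (hEz : ∀ i, i < n → IsZero (E.X i)) (hFz : ∀ i, i < n → IsZero (F.X i))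
    (hex : ∀ i, n ≤ i → (mappingCone φ).ExactAt i)
    (hw : ∀ x : X, ∃ (V : X.Opens) (P : CochainComplex (V : Scheme.{u}).Modules ℤ), x ∈ V ∧
      DCoh.IsStrictlyPerfect P ∧ (∀ i, i < n → IsZero (P.X i)) ∧
      Nonempty ((resD V).obj (DCoh.toD X F) ≅ DCoh.toD _ P)) :
    FlatMod.IsFinLocFree ((mappingCone φ).cycles (n - 1)) := by
  refine isFinLocFree_of_local fun x => ?_
  obtain ⟨V, P, hxV, hP, hPz, ⟨e⟩⟩ := hw x
  refine ⟨V, hxV, ?_⟩
  obtain ⟨ec⟩ := nonempty_cycles_restrict φ V (n - 1)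
  refine Groth.L29.LocFree.of_iso ec ?_
  let φV := (DCoh.restrictCx V).map φ
  have hEV : DCoh.IsStrictlyPerfect ((DCoh.restrictCx V).obj E) := isStrictlyPerfect_restrict V.ι hE
  refine isFinLocFree_of_local fun y => ?_
  let eV : DCoh.toD _ ((DCoh.restrictCx V).obj F) ≅ DCoh.toD _ P := (resQIso V F).symm ≪≫ e
  obtain ⟨W, β, hyW, hβ⟩ := exists_local_chainMap hEV (DerivedCategory.Q.map φV ≫ eV.hom) y
  refine ⟨W, hyW, ?_⟩
  obtain ⟨ec'⟩ := nonempty_cycles_restrict φV W (n - 1)
  refine Groth.L29.LocFree.of_iso ec' ?_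
  let φW := (DCoh.restrictCx W).map φV
  refine isFinLocFree_bottom_aux φW (isStrictlyPerfect_restrict W.ι hEV) n
    (fun i hi => (Scheme.Modules.restrictFunctor W.ι).map_isZero
      ((Scheme.Modules.restrictFunctor V.ι).map_isZero (hEz i hi)))
    (fun i hi => (Scheme.Modules.restrictFunctor W.ι).map_isZero
      ((Scheme.Modules.restrictFunctor V.ι).map_isZero (hFz i hi)))
    (fun i hi => exactAt_cone_restrict φV W (exactAt_cone_restrict φ V (hex i hi)))
    ((DCoh.restrictCx W).obj P) (isStrictlyPerfect_restrict W.ι hP)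
    (fun i hi => (Scheme.Modules.restrictFunctor W.ι).map_isZero (hPz i hi)) β
    ((resQIso W _).symm ≪≫ (resD W).mapIso eV ≪≫ resQIso W P) ?_
  let η := (Scheme.Modules.restrictFunctor W.ι).mapDerivedCategoryFactors
  have hn : (resD W).map (DerivedCategory.Q.map φV) ≫ η.hom.app _ =
      η.hom.app _ ≫ DerivedCategory.Q.map φW := η.hom.naturality φV
  simp only [Iso.trans_hom, Iso.symm_hom, Functor.mapIso_hom]
  rw [← cancel_epi (resQIso W ((DCoh.restrictCx V).obj E)).hom]
  change η.hom.app _ ≫ DerivedCategory.Q.map φW ≫ η.inv.app _ ≫ (resD W).map eV.hom ≫ η.hom.app _ = _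
  rw [← reassoc_of% hn, Iso.hom_inv_id_app_assoc, ← Functor.map_comp_assoc, hβ]
  change (_ ≫ _ ≫ η.inv.app _) ≫ η.hom.app _ = _
  simp

omit hX hFq in
theorem exists_bounds (hF : DCoh.IsPerfect (DCoh.toD X F)) :
    ∃ a b : ℤ, (∀ i, b < i → IsZero (DCoh.HD (DCoh.toD X F) i)) ∧
      ∀ n, n ≤ a → ∀ x : X, ∃ (V : X.Opens) (P : CochainComplex (V : Scheme.{u}).Modules ℤ), x ∈ V ∧
        DCoh.IsStrictlyPerfect P ∧ (∀ i, i < n → IsZero (P.X i)) ∧
        Nonempty ((resD V).obj (DCoh.toD X F) ≅ DCoh.toD _ P) := by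
  classical
  choose V hxV P hP e using (isPerfect_iff _).1 hF
  choose a b hv using fun x => (hP x).1
  obtain ⟨S, hS⟩ := isCompact_univ.elim_finite_subcover (fun x : X => (V x : Set X)) (fun x => (V x).2)
    fun x _ => Set.mem_iUnion.2 ⟨x, hxV x⟩
  obtain ⟨a₀, ha'⟩ := (S.image a).bddBelow
  have ha : ∀ x ∈ S, a₀ ≤ a x := fun x hx => ha' (Finset.mem_image_of_mem a hx)
  obtain ⟨b₀, hb'⟩ := (S.image b).bddAbove
  have hb : ∀ x ∈ S, b x ≤ b₀ := fun x hx => hb' (Finset.mem_image_of_mem b hx)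
  refine ⟨a₀, b₀, fun i hi => isZero_HD_of_local _ _ fun x => ?_, fun n hn x => ?_⟩
  · obtain ⟨y, hy, hxy⟩ := Set.mem_iUnion₂.1 (hS (Set.mem_univ x))
    have hby := hb y hy
    refine ⟨V y, hxy, IsZero.of_iso ?_ ((DerivedCategory.homologyFunctor _ i).mapIso (e y).some)⟩
    refine IsZero.of_iso ?_ (hdIso (P y) i)
    rw [← HomologicalComplex.exactAt_iff_isZero_homology]
    exact HomologicalComplex.ExactAt.of_isZero (hv y i (Or.inr (by omega)))
  · obtain ⟨y, hy, hxy⟩ := Set.mem_iUnion₂.1 (hS (Set.mem_univ x))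
    have hay := ha y hy
    exact ⟨V y, P y, hxy, hP y, fun i hi => hv y i (Or.inl (by omega)), e y⟩

include hX hFq hF in
/-- the quasi-isomorphism from a strictly perfect complex -/
theorem exists_strictlyPerfect_quasiIso (a₁ : ℤ) (hFb : ∀ i, i < a₁ → IsZero (F.X i)) :
    ∃ (E : CochainComplex X.Modules ℤ) (φ : E ⟶ F), DCoh.IsStrictlyPerfect E ∧ QuasiIso φ := by
  obtain ⟨a, b, hb, hw⟩ := exists_bounds F hF
  let n := min (b + 1) (min a a₁)
  obtain ⟨k, hk⟩ : ∃ k : ℕ, b + 1 - (k : ℤ) = n := ⟨(b + 1 - n).toNat, by omega⟩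
  obtain ⟨E, φ, hE, hEz, hex⟩ := hk ▸ st_all F hX hFq hF b hb k
  have hFz : ∀ i, i < n → IsZero (F.X i) := fun i hi => hFb i (by omega)
  let C := mappingCone φ
  have hG : FlatMod.IsFinLocFree (C.cycles (n - 1)) :=
    isFinLocFree_bottom φ hE n hEz hFz hex (hw n (by omega))
  obtain ⟨E', φ', h1, h2, h3, -, h5⟩ := Groth.Lead.ResStep.exists_step φ n hEz hex (C.iCycles (n - 1))
    (HomologicalComplex.iCycles_d _ _ _) (fun T z hz => ⟨T, 𝟙 T, inferInstance, C.liftCycles z n (by simp) hz, 0,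
      by simp [C]⟩)
  have hacy : ∀ i, (mappingCone φ').ExactAt i := h5 inferInstance fun i hi =>
    ((biprod_isZero_iff _ _).2 ⟨hEz (i + 1) (by omega), hFz i (by omega)⟩).of_iso
      (HomologicalComplex.homotopyCofiber.XIsoBiprod φ i (i + 1) rfl)
  refine ⟨E', φ', isStrictlyPerfect_of_step hE hG h1 h2 h3, ?_⟩
  rw [← DerivedCategory.isIso_Q_map_iff_quasiIso]
  refine (Triangle.isZero₃_iff_isIso₁ _ (DerivedCategory.mappingCone_triangle_distinguished φ')).1 ?_
  exact isZero_of_hd fun i =>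
    ((HomologicalComplex.exactAt_iff_isZero_homology _ _).1 (hacy i)).of_iso (hdIso _ i)

end Groth.Lead.ResProp
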