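import Groth.Agent.L08.InvFinite

universe u v w

namespace Groth.Lead.Reynolds

open Groth.L08

variable {k : Type u} [Field k] {A : Type v} [CommRing A] [HopfAlgebra k A]
  {V : Type w} [AddCommGroup V] [Module k V] [HopfRep.Comod k A V]

/-- A Reynolds operator is the averaging operator of an invariant integral. -/
theorem eq_rey {α : A →ₗ[k] k} (hα : IsIntegral α) {E : V →ₗ[k] V} (h₁ : Hoch.IsComodHom A E)
    (h₂ : E ∘ₗ E = E) (h₃ : ∀ x : V, E x = x ↔ x ∈ HopfRep.fixedPts k A V) : E = rey V α := by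
  refine LinearMap.ext fun x => ?_
  have hx : E x ∈ HopfRep.fixedPts k A V := (h₃ _).1 (LinearMap.congr_fun h₂ x)
  rw [← hα.rey_eq hx, ← rey_natural h₁, (h₃ _).2 (hα.rey_mem x)]

end Groth.Lead.Reynolds
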