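/-
p-torsion in the kernel of reduction when the absolute ramification is small.
-/
import Groth.Agent.L26.Neron.Torsion
import Mathlib.Algebra.Group.ForwardDiff
import Mathlib.RingTheory.DiscreteValuationRing.Basic
import Mathlib.RingTheory.Filtration
import Mathlib.RingTheory.TensorProduct.Maps
import Mathlib.Data.Nat.Choose.Dvd

set_option autoImplicit false
set_option linter.style.haveILetI false

universe u

open CategoryTheory MonoidalCategory CartesianMonoidalCategory MonObj GrpObj AlgebraicGeometry TensorProduct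

namespace Groth.Agent.Lead.SmallRamTorsion

variable {R : Type u} [CommRing R]

/-- The spectrum of an algebra as an object over the base. -/
noncomputable abbrev Sp (C : Type u) [CommRing C] [Algebra R C] : Over (Spec (CommRingCat.of R)) :=
  Over.mk (Spec.map (CommRingCat.ofHom (algebraMap R C)))

/-- The map of spectra of an algebra map. -/
noncomputable def res {C C' : Type u} [CommRing C] [Algebra R C] [CommRing C'] [Algebra R C']
    (φ : C →ₐ[R] C') : Sp (R := R) C' ⟶ Sp (R := R) C :=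
  Over.homMk (Spec.map (CommRingCat.ofHom φ.toRingHom)) (by
    show Spec.map _ ≫ Spec.map _ = Spec.map _
    rw [← Spec.map_comp]
    congr 1
    ext r
    exact φ.commutes r)

theorem res_comp {C C' C'' : Type u} [CommRing C] [Algebra R C] [CommRing C'] [Algebra R C']
    [CommRing C''] [Algebra R C''] (φ : C →ₐ[R] C') (ψ : C' →ₐ[R] C'') :
    res ψ ≫ res φ = res (ψ.comp φ) := by
  ext1
  show Spec.map _ ≫ Spec.map _ = Spec.map _
  rw [← Spec.map_comp]; rfl

variable {N : Over (Spec (CommRingCat.of R))} [GrpObj N]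
variable {B : Type u} [CommRing B] [Algebra R B] (ch : Sp (R := R) B ⟶ N) [Mono ch]

/-- `x` lifts to the chart `ch`. -/
def Lifts {C : Type u} [CommRing C] [Algebra R C] (x : Sp (R := R) C ⟶ N) (φ : B →ₐ[R] C) : Prop :=
  res φ ≫ ch = x

theorem Lifts.restrict {C C' : Type u} [CommRing C] [Algebra R C] [CommRing C'] [Algebra R C']
    {x : Sp (R := R) C ⟶ N} {φ : B →ₐ[R] C} (h : Lifts ch x φ) (ψ : C →ₐ[R] C') :
    Lifts ch (res ψ ≫ x) (ψ.comp φ) := by
  show _ ≫ ch = _
  rw [← h, ← res_comp, Category.assoc]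

theorem Lifts.unique {C : Type u} [CommRing C] [Algebra R C]
    {x : Sp (R := R) C ⟶ N} {φ φ' : B →ₐ[R] C} (h : Lifts ch x φ) (h' : Lifts ch x φ') : φ = φ' := by
  have := congrArg CommaMorphism.left ((cancel_mono ch).1 (h.trans h'.symm))
  exact AlgHom.ext fun b => congr($(Spec.map_injective this) b)

theorem exists_lifts [IsOpenImmersion ch.left] {C : Type u} [CommRing C] [Algebra R C]
    (x : Sp (R := R) C ⟶ N) (h : Set.range x.left ⊆ Set.range ch.left) : ∃ φ, Lifts ch x φ := by
  let l : Spec (CommRingCat.of C) ⟶ Spec (CommRingCat.of B) := IsOpenImmersion.lift ch.left x.left h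
  have hl : l ≫ ch.left = x.left := IsOpenImmersion.lift_fac _ _ _
  have h1 : l ≫ Spec.map (CommRingCat.ofHom (algebraMap R B)) = Spec.map (CommRingCat.ofHom (algebraMap R C)) := by
    have := congrArg (· ≫ N.hom) hl
    simp only [Category.assoc, Over.w] at this
    exact this
  rw [← Spec.map_preimage l, ← Spec.map_comp] at h1
  refine ⟨AlgHom.mk (Spec.preimage l).hom fun r => congr($(Spec.map_injective h1) r), ?_⟩
  ext1
  show Spec.map _ ≫ ch.left = x.left
  rw [← hl]
  congr 1
  exact Spec.map_preimage l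

variable (ε : B →ₐ[R] R) (hε : Lifts ch (1 : Sp (R := R) R ⟶ N) ε)

/-- The augmentation with values in an algebra. -/
noncomputable abbrev aug (C : Type u) [CommRing C] [Algebra R C] : B →ₐ[R] C := (Algebra.ofId R C).comp ε

include hε in
theorem lifts_one (C : Type u) [CommRing C] [Algebra R C] :
    Lifts ch (1 : Sp (R := R) C ⟶ N) (aug ε C) := by
  have := hε.restrict ch (Algebra.ofId R C)
  rwa [MonObj.comp_one] at this

/-- Points infinitely near the unit. -/
def Near {C : Type u} [CommRing C] [Algebra R C] (x : Sp (R := R) C ⟶ N) : Prop :=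
  res (Ideal.Quotient.mkₐ R (nilradical C)) ≫ x = 1

theorem near_one {C : Type u} [CommRing C] [Algebra R C] : Near (1 : Sp (R := R) C ⟶ N) :=
  MonObj.comp_one _

theorem Near.mul {C : Type u} [CommRing C] [Algebra R C] {x y : Sp (R := R) C ⟶ N} (hx : Near x)
    (hy : Near y) : Near (x * y) := by
  rw [Near, MonObj.comp_mul, hx, hy, _root_.one_mul]

theorem Near.pow {C : Type u} [CommRing C] [Algebra R C] {x : Sp (R := R) C ⟶ N} (hx : Near x) (n : ℕ) :
    Near (x ^ n) := by
  induction n with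
  | zero => exact near_one
  | succ n ih => rw [pow_succ]; exact ih.mul hx

theorem Near.restrict {C C' : Type u} [CommRing C] [Algebra R C] [CommRing C'] [Algebra R C']
    {x : Sp (R := R) C ⟶ N} (hx : Near x) (ψ : C →ₐ[R] C') : Near (res ψ ≫ x) := by
  have hle : nilradical C ≤ (nilradical C').comap ψ.toRingHom := fun a ha => by
    rw [Ideal.mem_comap]
    exact mem_nilradical.2 ((mem_nilradical.1 ha).map _)
  let ψ' : (C ⧸ nilradical C) →ₐ[R] C' ⧸ nilradical C' := Ideal.quotientMapₐ _ ψ hle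
  have : ψ'.comp (Ideal.Quotient.mkₐ R (nilradical C)) = (Ideal.Quotient.mkₐ R (nilradical C')).comp ψ :=
    AlgHom.ext fun _ => rfl
  rw [Near, ← Category.assoc, res_comp, ← this, ← res_comp, Category.assoc, hx, MonObj.comp_one]

include hε in
theorem Near.range_subset {C : Type u} [CommRing C] [Algebra R C] {x : Sp (R := R) C ⟶ N} (hx : Near x) :
    Set.range x.left ⊆ Set.range ch.left := by
  rintro _ ⟨s, rfl⟩
  obtain ⟨t, rfl⟩ : ∃ t, (res (Ideal.Quotient.mkₐ R (nilradical C))).left t = s := by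
    have : s ∈ Set.range (PrimeSpectrum.comap (Ideal.Quotient.mk (nilradical C))) := by
      rw [range_comap_of_surjective _ _ Ideal.Quotient.mk_surjective, Ideal.mk_ker]
      exact fun a ha => nilradical_le_prime s.asIdeal ha
    exact this
  rw [← Scheme.Hom.comp_apply, ← Over.comp_left, hx, ← lifts_one ch ε hε, Over.comp_left, Scheme.Hom.comp_apply]
  exact ⟨_, rfl⟩

include hε in
theorem near_iff [IsOpenImmersion ch.left] {C : Type u} [CommRing C] [Algebra R C] (x : Sp (R := R) C ⟶ N) :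
    Near x ↔ ∃ φ, Lifts ch x φ ∧ ∀ b, IsNilpotent (φ b - aug ε C b) := by
  constructor
  · intro hx
    obtain ⟨φ, hφ⟩ := exists_lifts ch x (hx.range_subset ch ε hε)
    refine ⟨φ, hφ, fun b => ?_⟩
    have h1 := hφ.restrict ch (Ideal.Quotient.mkₐ R (nilradical C))
    rw [hx] at h1
    have h2 := congr($((h1.unique ch (lifts_one ch ε hε _))) b)
    exact mem_nilradical.1 (Ideal.Quotient.eq.1 h2)
  · rintro ⟨φ, hφ, h⟩
    have : (Ideal.Quotient.mkₐ R (nilradical C)).comp φ = aug ε _ :=
      AlgHom.ext fun b => Ideal.Quotient.eq.2 (mem_nilradical.2 (h b))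
    rw [Near, ← hφ.restrict ch (Ideal.Quotient.mkₐ R (nilradical C)), this]
    exact lifts_one ch ε hε _

open Classical in
/-- The chart coordinate of a point. -/
noncomputable def ev {C : Type u} [CommRing C] [Algebra R C] (x : Sp (R := R) C ⟶ N) : B →ₐ[R] C :=
  if h : ∃ φ, Lifts ch x φ then h.choose else aug ε C

theorem ev_eq {C : Type u} [CommRing C] [Algebra R C] {x : Sp (R := R) C ⟶ N} {φ : B →ₐ[R] C}
    (h : Lifts ch x φ) : ev ch ε x = φ := by
  rw [ev, dif_pos ⟨φ, h⟩]
  exact Lifts.unique ch (Exists.choose_spec (p := Lifts ch x) ⟨φ, h⟩) h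

variable (f : B)

/-- Iterated differences of `f`. -/
noncomputable def dif {C : Type u} [CommRing C] [Algebra R C] (x : Sp (R := R) C ⟶ N) :
    ℕ → (Sp (R := R) C ⟶ N) → C
  | 0, y => ev ch ε y f
  | k + 1, y => dif x k (y * x) - dif x k y

include hε in
theorem dif_res [IsOpenImmersion ch.left] {C C' : Type u} [CommRing C] [Algebra R C] [CommRing C']
    [Algebra R C'] (ψ : C →ₐ[R] C') {x : Sp (R := R) C ⟶ N} (hx : Near x) (k : ℕ) :
    ∀ y, Near y → ψ (dif ch ε f x k y) = dif ch ε f (res ψ ≫ x) k (res ψ ≫ y) := by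
  induction k with
  | zero =>
    intro y hy
    obtain ⟨φ, hφ, -⟩ := (near_iff ch ε hε y).1 hy
    show ψ (ev ch ε y f) = ev ch ε _ f
    rw [ev_eq ch ε hφ, ev_eq ch ε (hφ.restrict ch ψ)]; rfl
  | succ k ih =>
    intro y hy
    show ψ (_ - _) = _ - _
    rw [map_sub, ih _ (hy.mul hx), ih _ hy, MonObj.comp_mul]

include hε in
theorem dif_mem [IsOpenImmersion ch.left] (M : ℕ) (hM : 0 < M) (k : ℕ) : ∀ {C : Type u} [CommRing C]
    [Algebra R C] (J : Ideal C), J ^ M = ⊥ → ∀ (x : Sp (R := R) C ⟶ N) (φ : B →ₐ[R] C), Lifts ch x φ →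
      (∀ b, φ b - aug ε C b ∈ J) → ∀ y, Near y → dif ch ε f x k y ∈ J ^ k := by
  induction k with
  | zero => intros; simp
  | succ k ih =>
    intro C _ _ J hJ x φ hφ hφJ y hy
    have hnil : ∀ b, IsNilpotent (φ b - aug ε C b) := fun b => ⟨M, by
      have := Ideal.pow_mem_pow (hφJ b) M
      rwa [hJ, Ideal.mem_bot] at this⟩
    have hxN : Near x := (near_iff ch ε hε x).2 ⟨φ, hφ, hnil⟩
    let I : Ideal B := RingHom.ker ε.toRingHom
    let BM := B ⧸ I ^ M
    let C' := C ⊗[R] BM
    let ξφ : B →ₐ[R] C' := (Algebra.TensorProduct.includeRight).comp (Ideal.Quotient.mkₐ R (I ^ M))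
    let ξ : Sp (R := R) C' ⟶ N := res ξφ ≫ ch
    let inl : C →ₐ[R] C' := Algebra.TensorProduct.includeLeft
    have hξN : Near ξ := (near_iff ch ε hε ξ).2 ⟨ξφ, rfl, fun b => by
      have hb : b - algebraMap R B (ε b) ∈ I := by
        rw [RingHom.mem_ker, AlgHom.toRingHom_eq_coe, RingHom.coe_coe, map_sub, AlgHom.commutes]
        exact sub_self _
      have : IsNilpotent (Ideal.Quotient.mkₐ R (I ^ M) (b - algebraMap R B (ε b))) := ⟨M, by
        rw [← map_pow]; exact Ideal.Quotient.eq_zero_iff_mem.2 (Ideal.pow_mem_pow hb M)⟩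
      have := this.map (Algebra.TensorProduct.includeRight : BM →ₐ[R] C')
      rw [map_sub, map_sub, AlgHom.commutes, AlgHom.commutes] at this
      exact this⟩
    -- the two evaluations of the universal point
    have hker : ∀ χ : B →ₐ[R] C, (∀ b, χ b - aug ε C b ∈ J) → ∀ b ∈ I ^ M, χ b = 0 := by
      intro χ hχ b hb
      have hle : I.map χ.toRingHom ≤ J := Ideal.map_le_iff_le_comap.2 fun a ha => by
        have := hχ a
        rw [Ideal.mem_comap]
        change χ a - algebraMap R C (ε a) ∈ J at this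
        rwa [show ε a = 0 from ha, map_zero, sub_zero] at this
      have := Ideal.pow_right_mono hle M ((Ideal.map_pow χ.toRingHom I M).le (Ideal.mem_map_of_mem _ hb))
      rwa [hJ, Ideal.mem_bot] at this
    let ev' : ∀ χ : B →ₐ[R] C, (∀ b, χ b - aug ε C b ∈ J) → (C' →ₐ[R] C) := fun χ hχ =>
      Algebra.TensorProduct.lift (AlgHom.id R C) (Ideal.Quotient.liftₐ (I ^ M) χ (hker χ hχ))
        (fun _ _ => mul_comm _ _)
    have haug : ∀ b, aug ε C b - aug ε C b ∈ J := fun b => by rw [sub_self]; exact zero_mem _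
    have hev : ∀ χ hχ, (ev' χ hχ).comp inl = AlgHom.id R C ∧ (ev' χ hχ).comp ξφ = χ := by
      intro χ hχ
      refine ⟨AlgHom.ext fun c => ?_, AlgHom.ext fun b => ?_⟩
      · exact (Algebra.TensorProduct.lift_tmul _ _ (fun _ _ => Commute.all _ _) c 1).trans (by rw [map_one]; exact _root_.mul_one c)
      · exact (Algebra.TensorProduct.lift_tmul _ _ (fun _ _ => Commute.all _ _) 1 _).trans (by rw [map_one, _root_.one_mul]; rfl)
    let J' : Ideal C' := J.map inl.toRingHom
    have hJ' : J' ^ M = ⊥ := by rw [← Ideal.map_pow, hJ, Ideal.map_bot]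
    have hG := ih J' hJ' (res inl ≫ x) (inl.comp φ) (hφ.restrict ch inl) (fun b => by
      have := Ideal.mem_map_of_mem inl.toRingHom (hφJ b)
      change inl (φ b - algebraMap R C (ε b)) ∈ J' at this
      rwa [map_sub, AlgHom.commutes] at this) (res inl ≫ y * ξ) ((hy.restrict inl).mul hξN)
    set G := dif ch ε f (res inl ≫ x) k (res inl ≫ y * ξ)
    have key : ∀ χ hχ (p : Sp (R := R) C ⟶ N), Lifts ch p χ → ev' χ hχ G = dif ch ε f x k (y * p) := by
      intro χ hχ p hp
      rw [dif_res ch ε hε f (ev' χ hχ) (hxN.restrict inl) k _ ((hy.restrict inl).mul hξN)]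
      congr 1
      · rw [← Category.assoc, res_comp, (hev χ hχ).1]
        show Over.homMk _ _ ≫ x = x
        exact (congrArg (· ≫ x) (Over.OverMorphism.ext (Spec.map_id _))).trans (Category.id_comp x)
      · rw [MonObj.comp_mul, ← Category.assoc, res_comp, (hev χ hχ).1, ← hp, ← Category.assoc, res_comp,
          (hev χ hχ).2]
        congr 1
        exact (congrArg (· ≫ y) (Over.OverMorphism.ext (Spec.map_id _))).trans (Category.id_comp y)
    show dif ch ε f x k (y * x) - dif ch ε f x k y ∈ _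
    rw [← key φ hφJ x hφ]
    conv => arg 2; arg 2; rw [← _root_.mul_one y, ← key _ haug 1 (lifts_one ch ε hε C)]
    -- compare the two evaluations
    have hdiff : ∀ c : C', ev' φ hφJ c - ev' _ haug c ∈ J := by
      intro c
      induction c using TensorProduct.induction_on with
      | zero => simp
      | tmul a b =>
        obtain ⟨b, rfl⟩ := Ideal.Quotient.mk_surjective b
        rw [show ev' φ hφJ (a ⊗ₜ Ideal.Quotient.mk (I ^ M) b) = a * φ b from Algebra.TensorProduct.lift_tmul _ _ _ _ _,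
          show ev' _ haug (a ⊗ₜ Ideal.Quotient.mk (I ^ M) b) = a * aug ε C b from Algebra.TensorProduct.lift_tmul _ _ _ _ _,
          ← mul_sub]
        exact J.mul_mem_left a (hφJ b)
      | add a b ha hb => simp only [map_add]; rw [add_sub_add_comm]; exact add_mem ha hb
    rw [← Ideal.map_pow] at hG
    revert hG
    generalize G = g
    intro hG
    refine Submodule.span_induction ?_ (by simp) ?_ ?_ hG
    · rintro _ ⟨a, ha, rfl⟩
      have h1 : ∀ χ hχ, ev' χ hχ (inl.toRingHom a) = a := fun χ hχ => congr($((hev χ hχ).1) a)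
      rw [h1 φ hφJ, h1 _ haug, sub_self]
      exact zero_mem _
    · intro a b _ _ ha hb
      rw [map_add, map_add, add_sub_add_comm]
      exact add_mem ha hb
    · intro c g hg h
      rw [smul_eq_mul, map_mul, map_mul]
      have hg' : ev' φ hφJ g ∈ J ^ k := by
        have hle : (Ideal.map inl.toRingHom (J ^ k)).map (ev' φ hφJ).toRingHom ≤ J ^ k := by
          rw [Ideal.map_map]
          exact Ideal.map_le_iff_le_comap.2 fun a ha => by
            rw [Ideal.mem_comap]
            show (ev' φ hφJ).comp inl a ∈ _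
            rw [(hev φ hφJ).1]; exact ha
        exact hle (Ideal.mem_map_of_mem _ hg)
      rw [show ev' φ hφJ c * ev' φ hφJ g - ev' _ haug c * ev' _ haug g =
        (ev' φ hφJ c - ev' _ haug c) * ev' φ hφJ g + ev' _ haug c * (ev' φ hφJ g - ev' _ haug g) by ring]
      refine add_mem ?_ (Ideal.mul_mem_left _ _ h)
      rw [pow_succ']
      exact Ideal.mul_mem_mul (hdiff c) hg'

include hε in
theorem mul_sub_mem [IsOpenImmersion ch.left] {p : ℕ} (hp : p.Prime) {C : Type u} [CommRing C] [Algebra R C]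
    (J : Ideal C) (hJ : J ^ p = ⊥) (x : Sp (R := R) C ⟶ N) (φ : B →ₐ[R] C) (hφ : Lifts ch x φ)
    (hφJ : ∀ b, φ b - aug ε C b ∈ J) (hxp : x ^ p = 1) (hf : ε f = 0) :
    ∃ u ∈ J ^ 2, (p : C) * φ f = p * u := by
  have hnil : ∀ b, IsNilpotent (φ b - aug ε C b) := fun b => ⟨p, by
    have := Ideal.pow_mem_pow (hφJ b) p
    rwa [hJ, Ideal.mem_bot] at this⟩
  have hxN : Near x := (near_iff ch ε hε x).2 ⟨φ, hφ, hnil⟩
  let F : ℕ → C := fun j => ev ch ε (x ^ j) f
  have hΔ : ∀ k j, (fwdDiff 1)^[k] F j = dif ch ε f x k (x ^ j) := by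
    intro k
    induction k with
    | zero => intro j; rfl
    | succ k ih =>
      intro j
      rw [Function.iterate_succ_apply']
      show (fwdDiff 1)^[k] F (j + 1) - (fwdDiff 1)^[k] F j = _
      rw [ih, ih, pow_succ]
      rfl
  have h := shift_eq_sum_fwdDiff_iter (h := (1 : ℕ)) F p 0
  simp only [hΔ, pow_zero, nsmul_eq_mul, zero_add, _root_.mul_one, Nat.cast_id] at h
  have h1 : ev ch ε (1 : Sp (R := R) C ⟶ N) f = 0 := by
    rw [ev_eq ch ε (lifts_one ch ε hε C)]
    show algebraMap R C (ε f) = 0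
    rw [hf, map_zero]
  have hFp : F p = 0 := by show ev ch ε (x ^ p) f = 0; rw [hxp, h1]
  rw [hFp, Finset.sum_range_succ] at h
  have hd : ∀ k, dif ch ε f x k 1 ∈ J ^ k := fun k =>
    dif_mem ch ε hε f p hp.pos k J hJ x φ hφ hφJ 1 near_one
  have hlast : dif ch ε f x p 1 = 0 := by have := hd p; rwa [hJ, Ideal.mem_bot] at this
  obtain ⟨q, rfl⟩ : ∃ q, p = q + 2 := ⟨p - 2, by have := hp.two_le; omega⟩
  rw [hlast, mul_zero, add_zero, Finset.sum_range_succ', Finset.sum_range_succ'] at h
  have hd0 : dif ch ε f x 0 1 = 0 := h1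
  have hd1 : dif ch ε f x 1 1 = φ f := by
    show ev ch ε (1 * x) f - ev ch ε 1 f = _
    rw [h1, sub_zero, _root_.one_mul, ev_eq ch ε hφ]
  have hc : ∀ k ∈ Finset.range q, ∃ c : ℕ, (q + 2).choose (k + 1 + 1) = (q + 2) * c := fun k hk =>
    hp.dvd_choose_self (by omega) (by have := Finset.mem_range.1 hk; omega)
  choose c hc using hc
  rw [hd0, mul_zero, add_zero, hd1, Nat.choose_one_right] at h
  refine ⟨-∑ k ∈ (Finset.range q).attach, (c k.1 k.2 : C) * dif ch ε f x (k.1 + 1 + 1) 1,
    neg_mem (Ideal.sum_mem _ fun k _ => Ideal.mul_mem_left _ _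
      (Ideal.pow_le_pow_right (by omega) (hd _))), ?_⟩
  rw [mul_neg, Finset.mul_sum]
  rw [← Finset.sum_attach] at h
  refine eq_neg_of_add_eq_zero_right ?_
  refine Eq.trans ?_ h.symm
  congr 1
  refine Finset.sum_congr rfl fun k _ => ?_
  rw [hc k.1 k.2, Nat.cast_mul, _root_.mul_assoc]

open IsLocalRing in
/-- A point reducing to the unit. -/
theorem res_eq_one [IsLocalRing R] {k : Type u} [Field k] [Algebra R k] (hπ : Function.Surjective (algebraMap R k))
    (x : Sp (R := R) R ⟶ N) (h : x.left (closedPoint R) = (1 : Sp (R := R) R ⟶ N).left (closedPoint R)) :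
    res (Algebra.ofId R k) ≫ x = 1 := by
  rw [← MonObj.comp_one (res (Algebra.ofId R k)) (M := N)]
  ext1
  refine Groth.Agent.Neron.Torsion.eq_of_apply_eq (algebraMap R k) hπ N.hom
    (Over.w (res (Algebra.ofId R k) ≫ x)) (Over.w (res (Algebra.ofId R k) ≫ (1 : Sp (R := R) R ⟶ N))) ?_
  haveI : IsLocalHom (algebraMap R k) := IsLocalHom.of_surjective _ hπ
  have h0 : (res (Algebra.ofId R k)).left (closedPoint k) = closedPoint R := comap_closedPoint (algebraMap R k)
  rw [Over.comp_left, Over.comp_left, Scheme.Hom.comp_apply, Scheme.Hom.comp_apply, h0]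
  exact h

open IsLocalRing in
include ch in
/-- `eq_one` with a given chart. -/
theorem eq_one_of_chart [IsOpenImmersion ch.left] [IsDomain R] [IsDiscreteValuationRing R] {p : ℕ} (hp : p.Prime)
    (hv : (p : R) ∉ maximalIdeal R ^ (p - 1)) (x : Sp (R := R) R ⟶ N) (hx : x ^ p = 1)
    (hred : x.left (closedPoint R) = (1 : Sp (R := R) R ⟶ N).left (closedPoint R))
    (h1 : (1 : Sp (R := R) R ⟶ N).left (closedPoint R) ∈ Set.range ch.left) : x = 1 := by
  have hsub : ∀ z : Sp (R := R) R ⟶ N, z.left (closedPoint R) = (1 : Sp (R := R) R ⟶ N).left (closedPoint R) →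
      Set.range z.left ⊆ Set.range ch.left := by
    rintro z hz _ ⟨s, rfl⟩
    exact ((specializes_closedPoint (R := R) s).map z.left.continuous).mem_open
      ch.left.isOpenEmbedding.isOpen_range (hz ▸ h1)
  obtain ⟨ε, hε⟩ := exists_lifts ch 1 (hsub 1 rfl)
  obtain ⟨φ, hφ⟩ := exists_lifts ch x (hsub x hred)
  have hκ := res_eq_one (k := ResidueField R) Ideal.Quotient.mk_surjective x hred
  have hm : ∀ b, φ b - ε b ∈ maximalIdeal R := fun b => by
    have h1 := hφ.restrict ch (Algebra.ofId R (ResidueField R))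
    rw [hκ] at h1
    exact Ideal.Quotient.eq.1 congr($(h1.unique ch (lifts_one ch ε hε _)) b)
  by_contra hne
  have hex : ∃ r, ∃ b, φ b - ε b ∉ maximalIdeal R ^ (r + 1) := by
    by_contra h
    push_neg at h
    refine hne ?_
    rw [← hφ, ← hε]
    congr 2
    refine AlgHom.ext fun b => sub_eq_zero.1 ?_
    have : φ b - ε b ∈ ⨅ i, maximalIdeal R ^ i := by
      rw [Submodule.mem_iInf]
      intro i
      exact Ideal.pow_le_pow_right (Nat.le_succ i) (h i b)
    rwa [Ideal.iInf_pow_eq_bot_of_isLocalRing _ (maximalIdeal.isMaximal R).ne_top, Ideal.mem_bot] at this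
  classical
  obtain ⟨b, hb⟩ := Nat.find_spec hex
  set r := Nat.find hex with hr
  have hall : ∀ b, φ b - ε b ∈ maximalIdeal R ^ r := fun b => by
    rcases Nat.eq_zero_or_pos r with h0 | h0
    · rw [h0, pow_zero, Ideal.one_eq_top]; trivial
    · have := Nat.find_min hex (m := r - 1) (by omega)
      push_neg at this
      simpa [Nat.sub_add_cancel h0] using this b
  have hr1 : 1 ≤ r := by
    by_contra h0
    rw [show r = 0 by omega, zero_add, pow_one] at hb
    exact hb (hm b)
  let C := R ⧸ maximalIdeal R ^ (r * p)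
  let q : R →ₐ[R] C := Ideal.Quotient.mkₐ R _
  let f : B := b - algebraMap R B (ε b)
  have hf : ε f = 0 := by simp [f]
  have hφf : φ f = φ b - ε b := by simp [f]
  let J : Ideal C := (maximalIdeal R ^ r).map (Ideal.Quotient.mk _)
  have hJ : J ^ p = ⊥ := by
    rw [← Ideal.map_pow, ← pow_mul, Ideal.map_quotient_self]
  obtain ⟨u, hu, hpu⟩ := mul_sub_mem ch ε hε f hp J hJ (res q ≫ x) (q.comp φ) (hφ.restrict ch q)
    (fun c => by
      have := Ideal.mem_map_of_mem (Ideal.Quotient.mk (maximalIdeal R ^ (r * p))) (hall c)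
      rw [map_sub] at this
      exact this)
    (by rw [← MonObj.comp_pow, hx, MonObj.comp_one]) hf
  rw [← Ideal.map_pow, ← pow_mul, Ideal.mem_map_iff_of_surjective _ Ideal.Quotient.mk_surjective] at hu
  obtain ⟨u, hu, rfl⟩ := hu
  have hpu' : (p : R) * (φ f - u) ∈ maximalIdeal R ^ (r * p) := by
    rw [← Ideal.Quotient.eq_zero_iff_mem, map_mul, map_natCast, map_sub, mul_sub, sub_eq_zero]
    exact hpu
  have hfu : φ f - u ∉ maximalIdeal R ^ (r + 1) := fun h => hb <| by
    rw [← hφf]
    simpa using add_mem h (Ideal.pow_le_pow_right (by omega) hu)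
  obtain ⟨ϖ, hϖ⟩ := IsDiscreteValuationRing.exists_irreducible R
  have hp0 : (p : R) ≠ 0 := fun h => hv (h ▸ zero_mem _)
  have hfu0 : φ f - u ≠ 0 := fun h => hfu (h ▸ zero_mem _)
  obtain ⟨e, v, he⟩ := IsDiscreteValuationRing.eq_unit_mul_pow_irreducible hp0 hϖ
  obtain ⟨i, w, hi⟩ := IsDiscreteValuationRing.eq_unit_mul_pow_irreducible hfu0 hϖ
  rw [hϖ.maximalIdeal_eq, Ideal.span_singleton_pow, Ideal.mem_span_singleton] at hv hfu hpu'
  rw [he, Units.dvd_mul_left, pow_dvd_pow_iff hϖ.ne_zero hϖ.not_isUnit] at hv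
  rw [hi, Units.dvd_mul_left, pow_dvd_pow_iff hϖ.ne_zero hϖ.not_isUnit] at hfu
  rw [he, hi, _root_.mul_mul_mul_comm, ← pow_add, ← Units.val_mul, Units.dvd_mul_left,
    pow_dvd_pow_iff hϖ.ne_zero hϖ.not_isUnit] at hpu'
  obtain ⟨p', rfl⟩ : ∃ p', p = p' + 1 := ⟨p - 1, by have := hp.pos; omega⟩
  have : p' ≤ r * p' := Nat.le_mul_of_pos_left _ hr1
  rw [Nat.mul_succ] at hpu'
  omega

open IsLocalRing in
/-- The kernel of reduction has no `p`-torsion if `p` is not in the `(p-1)`-st power of the maximal ideal. -/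
theorem eq_one [IsDomain R] [IsDiscreteValuationRing R] {p : ℕ} (hp : p.Prime)
    (hv : (p : R) ∉ maximalIdeal R ^ (p - 1)) (x : Sp (R := R) R ⟶ N) (hx : x ^ p = 1)
    (hred : x.left (closedPoint R) = (1 : Sp (R := R) R ⟶ N).left (closedPoint R)) : x = 1 := by
  obtain ⟨U, hU, hUx, -⟩ := exists_isAffineOpen_mem_and_subset
    (x := (1 : Sp (R := R) R ⟶ N).left (closedPoint R)) (U := (⊤ : (N.left).Opens)) trivial
  obtain ⟨ψ, hψ⟩ := Spec.map_surjective (hU.fromSpec ≫ N.hom)
  letI : Algebra R Γ(N.left, U) := ψ.hom.toAlgebra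
  let ch : Sp (R := R) Γ(N.left, U) ⟶ N := Over.homMk (U := Sp (R := R) Γ(N.left, U)) hU.fromSpec hψ.symm
  haveI : IsOpenImmersion ch.left := hU.isOpenImmersion_fromSpec
  haveI : Mono ch := Over.mono_of_mono_left ch
  refine eq_one_of_chart ch hp hv x hx hred ?_
  show _ ∈ Set.range hU.fromSpec
  rw [hU.range_fromSpec]
  exact hUx

end Groth.Agent.Lead.SmallRamTorsion
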