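import Groth.Agent.L20.TorAmpWeaklyEtale
import Groth.Agent.L20.WeaklyEtaleStalk
import Groth.Agent.L10.DRing.Amp
import Groth.Agent.L10.DRing.LocalAmp
import Groth.Agent.L04.PolyInjDim
import Groth.Agent.L07.Syzygy
import Mathlib.RingTheory.Etale.Weakly
import Mathlib.RingTheory.RingHom.StandardSmooth
import Mathlib.Algebra.MvPolynomial.Equiv

/-!
# Tor amplitude along smooth ring maps

A complex over a smooth `A`-algebra of relative dimension `n` which has tor amplitude in `[a, b]` over `A`
has tor amplitude in `[a - n, b]` over the algebra.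
-/

set_option autoImplicit false
set_option linter.style.haveILetI false
set_option backward.isDefEq.respectTransparency false
set_option backward.isDefEq.respectTransparency.types false
set_option backward.defeqAttrib.useBackward true

universe u

open CategoryTheory CategoryTheory.Limits
open scoped TensorProduct Polynomial

noncomputable section

attribute [local instance] HasDerivedCategory.standard

namespace Groth.Lead.SmoothAmp

open Groth.L20.TorAmp

/-- If `μ : F → M` is a flat cover with flat kernel, every surjection from a flat module onto `M` has flat kernel. -/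
theorem flat_ker_of_cover {R P F M : Type u} [CommRing R] [AddCommGroup P] [Module R P] [AddCommGroup F]
    [Module R F] [AddCommGroup M] [Module R M] [Module.Flat R P] [Module.Flat R F]
    (g : P →ₗ[R] M) (μ : F →ₗ[R] M) [Module.Flat R (LinearMap.ker μ)]
    (hg : Function.Surjective g) (hμ : Function.Surjective μ) : Module.Flat R (LinearMap.ker g) := by
  let d : P × F →ₗ[R] M := g ∘ₗ LinearMap.fst _ _ _ - μ ∘ₗ LinearMap.snd _ _ _
  let Q := LinearMap.ker d
  have hQ : ∀ w : Q, g w.1.1 = μ w.1.2 := fun w => sub_eq_zero.1 (LinearMap.mem_ker.1 w.2)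
  let p₁ : Q →ₗ[R] P := LinearMap.fst _ _ _ ∘ₗ Q.subtype
  let p₂ : Q →ₗ[R] F := LinearMap.snd _ _ _ ∘ₗ Q.subtype
  have hp₁ : Function.Surjective p₁ := fun p => by
    obtain ⟨z, hz⟩ := hμ (g p)
    exact ⟨⟨(p, z), LinearMap.mem_ker.2 (sub_eq_zero.2 hz.symm)⟩, rfl⟩
  have hp₂ : Function.Surjective p₂ := fun z => by
    obtain ⟨p, hp⟩ := hg (μ z)
    exact ⟨⟨(p, z), LinearMap.mem_ker.2 (sub_eq_zero.2 hp)⟩, rfl⟩
  haveI : Module.Flat R Q := by
    let i : LinearMap.ker μ →ₗ[R] Q :=
      LinearMap.codRestrict Q (LinearMap.inr _ _ _ ∘ₗ (LinearMap.ker μ).subtype) fun z => by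
        have hz := LinearMap.mem_ker.1 z.2
        simp [Q, d, hz]
    have hex : Function.Exact i p₁ := by
      intro w
      constructor
      · intro hw
        have h1 : w.1.1 = 0 := hw
        refine ⟨⟨w.1.2, LinearMap.mem_ker.2 ?_⟩, Subtype.ext (Prod.ext h1.symm rfl)⟩
        rw [← hQ w, h1, map_zero]
      · rintro ⟨z, rfl⟩; rfl
    refine Groth.L07.FlatDescent.flat_of_shortExact i p₁ ?_ hp₁ hex
    intro x y h
    exact Subtype.ext (congrArg (fun w : Q => w.1.2) h)
  haveI := Groth.L07.FlatDescent.flat_ker p₂ hp₂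
  let e : LinearMap.ker g ≃ₗ[R] LinearMap.ker p₂ :=
    { toFun := fun x => ⟨⟨(x.1, 0), LinearMap.mem_ker.2 (by
        have hx := LinearMap.mem_ker.1 x.2
        simp [d, hx])⟩, rfl⟩
      map_add' := fun x y => by ext <;> simp
      map_smul' := fun r x => by ext <;> simp
      invFun := fun w => ⟨w.1.1.1, LinearMap.mem_ker.2 (by
        have hw : w.1.1.2 = 0 := LinearMap.mem_ker.1 w.2
        rw [hQ w.1, hw, map_zero])⟩
      left_inv := fun x => rfl
      right_inv := fun w => by
        have hw : w.1.1.2 = 0 := LinearMap.mem_ker.1 w.2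
        exact Subtype.ext (Subtype.ext (Prod.ext rfl hw.symm)) }
  exact Module.Flat.of_linearEquiv e

section Poly

variable {A : Type u} [CommRing A]

/-- The action map `A[X] ⊗ M → M`. -/
def act (M : Type u) [AddCommGroup M] [Module A M] [Module A[X] M] [IsScalarTower A A[X] M] :
    A[X] ⊗[A] M →ₗ[A[X]] M :=
  (LinearMap.id : M →ₗ[A] M).liftBaseChange A[X]

variable (M : Type u) [AddCommGroup M] [Module A M] [Module A[X] M] [IsScalarTower A A[X] M]

theorem act_tmul (p : A[X]) (m : M) : act (A := A) M (p ⊗ₜ m) = p • m := by simp [act]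

theorem act_surjective : Function.Surjective (act (A := A) M) := fun m => ⟨1 ⊗ₜ m, by simp [act_tmul]⟩

open Groth.L04.PolyInjDim in
theorem ker_act : LinearMap.ker (act (A := A) M) = LinearMap.range (charMap (A := A) M) := by
  refine le_antisymm (fun z hz => ?_) ?_
  · have key : ∀ (p : A[X]) (m : M), p ⊗ₜ[A] m - (1 : A[X]) ⊗ₜ[A] (p • m) ∈ LinearMap.range (charMap (A := A) M) := by
      intro p
      induction p using Polynomial.induction_on with
      | C a =>
        intro m
        have h1 : (Polynomial.C a : A[X]) = a • (1 : A[X]) := by rw [Polynomial.smul_eq_C_mul, mul_one]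
        have : (Polynomial.C a : A[X]) ⊗ₜ[A] m - (1 : A[X]) ⊗ₜ[A] ((Polynomial.C a : A[X]) • m) = 0 := by
          rw [sub_eq_zero]
          conv_lhs => rw [h1, TensorProduct.smul_tmul]
          congr 1
          rw [← Polynomial.algebraMap_eq, algebraMap_smul]
        rw [this]; exact zero_mem _
      | add p q hp hq =>
        intro m
        have := add_mem (hp m) (hq m)
        simpa [TensorProduct.add_tmul, add_smul, TensorProduct.tmul_add, sub_eq_add_neg, add_comm,
          add_left_comm, add_assoc] using this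
      | monomial n a ih =>
        intro m
        have hc : charMap (A := A) M ((Polynomial.C a * Polynomial.X ^ n) ⊗ₜ m) ∈
            LinearMap.range (charMap (A := A) M) := ⟨_, rfl⟩
        rw [charMap_tmul] at hc
        have hsum := add_mem hc (ih ((Polynomial.X : A[X]) • m))
        rw [sub_add_sub_cancel, smul_smul, ← mul_assoc] at hsum
        convert hsum using 2
        · congr 1; rw [pow_succ]; ring
        · congr 2; rw [pow_succ]; ring
    have hz' : ∀ z : A[X] ⊗[A] M, z - (1 : A[X]) ⊗ₜ[A] act (A := A) M z ∈ LinearMap.range (charMap (A := A) M) := by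
      intro z
      induction z with
      | zero => simp
      | tmul p m => rw [act_tmul]; exact key p m
      | add x y hx hy =>
        have := add_mem hx hy
        simpa [TensorProduct.tmul_add, sub_eq_add_neg, add_comm, add_left_comm, add_assoc] using this
    have := hz' z
    rwa [LinearMap.mem_ker.1 hz, TensorProduct.tmul_zero, sub_zero] at this
  · rintro _ ⟨w, rfl⟩
    rw [LinearMap.mem_ker]
    induction w with
    | zero => simp
    | tmul p m => rw [charMap_tmul, map_sub, act_tmul, act_tmul, smul_smul, mul_comm, sub_self]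
    | add x y hx hy => rw [map_add, map_add, hx, hy, add_zero]

/-- A kernel of a map from a flat `A[X]`-module onto a module flat over `A` is flat over `A[X]`. -/
theorem flat_ker_of_flat_base [Module.Flat A M] {P : Type u} [AddCommGroup P] [Module A[X] P]
    [Module.Flat A[X] P] (g : P →ₗ[A[X]] M) (hg : Function.Surjective g) :
    Module.Flat A[X] (LinearMap.ker g) := by
  let μ := act (A := A) M
  haveI hF : Module.Flat A[X] (A[X] ⊗[A] M) := inferInstance
  haveI hK : Module.Flat A[X] (LinearMap.ker μ) := by
    rw [ker_act]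
    exact Module.Flat.of_linearEquiv
      (LinearEquiv.ofInjective _ (Groth.L04.PolyInjDim.charMap_injective M)).symm
  exact flat_ker_of_cover (R := A[X]) g μ hg (act_surjective M)

/-- Homology vanishes outside the amplitude of a restriction. -/
theorem isZero_homology_of_amp_res {B : Type u} [CommRing B] [Algebra A B] {a b : ℤ} (X : DRing.Cx B)
    (h : DRing.HasTorAmplitudeIn A a b (DRing.toD (res (A := A) X))) (i : ℤ) (hi : i < a ∨ b < i) :
    IsZero (X.homology i) := by
  obtain ⟨E, hEv, -, ⟨e⟩⟩ := h
  refine isZero_of_isZero_restrict (A := A) _ ?_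
  refine IsZero.of_iso ?_ ((X.sc i).mapHomologyIso (ModuleCat.restrictScalars.{u} (algebraMap A B))).symm
  refine IsZero.of_iso (ShortComplex.isZero_homology_of_isZero_X₂ (E.sc i) (hEv i hi)) ?_
  exact ((DerivedCategory.homologyFunctorFactors (ModuleCat.{u} A) i).app (res (A := A) X)).symm ≪≫
    (DerivedCategory.homologyFunctor (ModuleCat.{u} A) i).mapIso e.symm ≪≫
    (DerivedCategory.homologyFunctorFactors (ModuleCat.{u} A) i).app E

/-- Tor amplitude over `A[X]` of a complex of tor amplitude in `[a, b]` over `A`. -/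
theorem amp_poly (X : DRing.Cx A[X]) (a b : ℤ)
    (h : DRing.HasTorAmplitudeIn A a b (DRing.toD (res (A := A) X))) :
    DRing.HasTorAmplitudeIn A[X] (a - 1) b (DRing.toD X) := by
  have hz := isZero_homology_of_amp_res X h
  have hLE : Groth.L02.PC.LEH (DRing.toD X) b := fun i hi =>
    (hz i (Or.inr hi)).of_iso ((DerivedCategory.homologyFunctorFactors (ModuleCat.{u} A[X]) i).app X)
  obtain ⟨P, hPb, hPfree, -, ⟨eP⟩⟩ := Groth.L02.PC.exists_free_rep hLE
  have hzP : ∀ i, i < a → P.ExactAt i := fun i hi => by
    rw [HomologicalComplex.exactAt_iff_isZero_homology]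
    exact (hz i (Or.inl hi)).of_iso
      (((DerivedCategory.homologyFunctorFactors (ModuleCat.{u} A[X]) i).app P).symm ≪≫
        (DerivedCategory.homologyFunctor (ModuleCat.{u} A[X]) i).mapIso eP ≪≫
        (DerivedCategory.homologyFunctorFactors (ModuleCat.{u} A[X]) i).app X)
  haveI : P.IsGE (a - 1) := (CochainComplex.isGE_iff P (a - 1)).mpr fun i hi => hzP i (by omega)
  obtain ⟨E, hEv, hE, ⟨e⟩⟩ := h
  have hflatP : DRing.TermwiseFlat (res (A := A) P) := fun i => by
    haveI := hPfree i
    exact flat_restrict (P.X i)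
  have hresb : DRing.VanishesAbove (res (A := A) P) b := fun i hi =>
    Functor.map_isZero (ModuleCat.restrictScalars.{u} (algebraMap A A[X])) (hPb i hi)
  have hOA : Module.Flat A (O (res (A := A) P) (a - 1) a) := flat_O_of_iso hflatP hresb hE hEv
    ((resIso P).symm ≪≫ (DRing.restrictD (algebraMap A A[X])).mapIso eP ≪≫ resIso X ≪≫ e.symm)
  have hO : Module.Flat A[X] (O P (a - 1 - 1) (a - 1)) := by
    letI : Module A (P.X a) := Module.compHom (P.X a) (algebraMap A A[X])
    haveI : IsScalarTower A A[X] (P.X a) := IsScalarTower.of_algebraMap_smul fun _ _ => rfl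
    let N : Submodule A[X] (P.X a) := LinearMap.range (P.d (a - 1) a).hom
    have h' : Module.Flat A ((P.X a) ⧸ N.restrictScalars A) := by
      have e : (LinearMap.range ((res (A := A) P).d (a - 1) a).hom : Submodule A (P.X a)) =
          N.restrictScalars A := Submodule.ext fun _ => Iff.rfl
      exact e ▸ hOA
    haveI : Module.Flat A ((P.X a) ⧸ N) :=
      Module.Flat.of_linearEquiv (Submodule.Quotient.restrictScalarsEquiv A N).symm
    haveI := hPfree a
    have hK := flat_ker_of_flat_base ((P.X a) ⧸ N) N.mkQ (Submodule.mkQ_surjective _)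
    rw [Submodule.ker_mkQ] at hK
    have he : LinearMap.range (P.d (a - 1 - 1) (a - 1)).hom = LinearMap.ker (P.d (a - 1) a).hom := by
      have := (P.exactAt_iff' (a - 1 - 1) (a - 1) a (by simp) (by simp)).1 (hzP (a - 1) (by omega))
      exact (ShortComplex.moduleCat_exact_iff_range_eq_ker _).1 this
    exact Module.Flat.of_linearEquiv
      ((Submodule.quotEquivOfEq _ _ he).trans (P.d (a - 1) a).hom.quotKerEquivRange)
  refine ⟨P.truncGE (a - 1), ?_, ?_, ⟨(asIso (DerivedCategory.Q.map (P.πTruncGE (a - 1)))).symm ≪≫ eP⟩⟩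
  · intro i hi
    rcases lt_trichotomy i (a - 1) with hlt | rfl | hlt
    · exact CochainComplex.isZero_of_isStrictlyGE _ (a - 1) i hlt
    · refine IsZero.of_iso ?_ (P.truncGEXIsoOpcycles _)
      have : b < a - 1 := hi.resolve_left (lt_irrefl _)
      have := ModuleCat.subsingleton_of_isZero (hPb _ this)
      have : Subsingleton (P.opcycles (a - 1)) := (opcyclesEquiv P (a - 1 - 1) (a - 1) (by omega)).toEquiv.subsingleton
      exact ModuleCat.isZero_of_subsingleton _
    · exact IsZero.of_iso (hPb i (hi.resolve_left (by omega))) (P.truncGEXIso (a - 1) i hlt)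
  · intro i
    rcases lt_trichotomy i (a - 1) with hlt | rfl | hlt
    · haveI := ModuleCat.subsingleton_of_isZero
        (CochainComplex.isZero_of_isStrictlyGE (P.truncGE (a - 1)) (a - 1) i hlt)
      infer_instance
    · exact Module.Flat.of_linearEquiv
        ((P.truncGEXIsoOpcycles _).toLinearEquiv.trans (opcyclesEquiv P (a - 1 - 1) (a - 1) (by omega)))
    · haveI := hPfree i
      exact Module.Flat.of_linearEquiv (P.truncGEXIso (a - 1) i hlt).toLinearEquiv

end Poly

/-- Tor amplitude along a weakly étale algebra. -/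
theorem amp_weaklyEtale {A B : Type u} [CommRing A] [CommRing B] [Algebra A B] [Algebra.WeaklyEtale A B]
    (a b : ℤ) (X : DRing.Cx B) :
    DRing.HasTorAmplitudeIn A a b (DRing.toD (res (A := A) X)) ↔ DRing.HasTorAmplitudeIn B a b (DRing.toD X) := by
  rw [← torAmp_restrict_iff (A := A) (B := B) (Algebra.WeaklyEtale.flat_lmul' A B) a b (DRing.toD X)]
  exact ⟨Groth.L10.DR.amp_of_iso (resIso X).symm, Groth.L10.DR.amp_of_iso (resIso X)⟩

/-- Restriction in two steps. -/
def resResIso {A B C : Type u} [CommRing A] [CommRing B] [CommRing C] [Algebra A B] [Algebra B C] [Algebra A C]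
    [IsScalarTower A B C] (X : DRing.Cx C) :
    res (A := A) (res (A := B) X) ≅ res (A := A) X :=
  (Groth.L10.LocalAmp.resComp (algebraMap A B) (algebraMap B C) (algebraMap A C)
    (IsScalarTower.algebraMap_eq A B C) X).symm

theorem amp_resRes {A B C : Type u} [CommRing A] [CommRing B] [CommRing C] [Algebra A B] [Algebra B C] [Algebra A C]
    [IsScalarTower A B C] (a b : ℤ) (X : DRing.Cx C) :
    DRing.HasTorAmplitudeIn A a b (DRing.toD (res (A := A) (res (A := B) X))) ↔
      DRing.HasTorAmplitudeIn A a b (DRing.toD (res (A := A) X)) :=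
  ⟨Groth.L10.DR.amp_of_iso (DerivedCategory.Q.mapIso (resResIso X)),
    Groth.L10.DR.amp_of_iso (DerivedCategory.Q.mapIso (resResIso X)).symm⟩

/-- Tor amplitude over a polynomial ring in `n` variables. -/
theorem amp_mvPolynomial {A : Type u} [CommRing A] (a b : ℤ) : ∀ (n : ℕ) (X : DRing.Cx (MvPolynomial (Fin n) A)),
    DRing.HasTorAmplitudeIn A a b (DRing.toD (res (A := A) X)) →
      DRing.HasTorAmplitudeIn (MvPolynomial (Fin n) A) (a - n) b (DRing.toD X) := by
  intro n
  induction n with
  | zero =>
    intro X h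
    haveI : Algebra.Etale A (MvPolynomial (Fin 0) A) :=
      Algebra.Etale.of_equiv (MvPolynomial.isEmptyAlgEquiv A (Fin 0)).symm
    exact Groth.L10.DR.amp_mono ((amp_weaklyEtale a b X).1 h) (by simp) le_rfl
  | succ n ih =>
    intro X h
    let e := MvPolynomial.finSuccEquiv A n
    letI : Algebra (Polynomial (MvPolynomial (Fin n) A)) (MvPolynomial (Fin (n + 1)) A) :=
      e.symm.toRingHom.toAlgebra
    letI : Algebra (MvPolynomial (Fin n) A) (MvPolynomial (Fin (n + 1)) A) :=
      (e.symm.toRingHom.comp Polynomial.C).toAlgebra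
    haveI : IsScalarTower (MvPolynomial (Fin n) A) (Polynomial (MvPolynomial (Fin n) A))
        (MvPolynomial (Fin (n + 1)) A) := IsScalarTower.of_algebraMap_eq fun _ => rfl
    haveI : IsScalarTower A (MvPolynomial (Fin n) A) (MvPolynomial (Fin (n + 1)) A) :=
      IsScalarTower.of_algebraMap_eq fun r => (e.symm.commutes r).symm
    haveI : Algebra.Etale (Polynomial (MvPolynomial (Fin n) A)) (MvPolynomial (Fin (n + 1)) A) :=
      Algebra.Etale.of_equiv (A := Polynomial (MvPolynomial (Fin n) A))
        (AlgEquiv.ofBijective (Algebra.ofId _ _) e.symm.bijective)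
    have h1 := ih (res (A := MvPolynomial (Fin n) A) X) ((amp_resRes a b X).2 h)
    have h2 := amp_poly (res (A := Polynomial (MvPolynomial (Fin n) A)) X) (a - n) b ((amp_resRes _ _ X).2 h1)
    exact Groth.L10.DR.amp_mono ((amp_weaklyEtale _ _ X).1 h2) (by push_cast; omega) le_rfl

/-- Tor amplitude over a localization of a standard smooth algebra. -/
theorem amp_localization_smooth {A B Ap Bq : Type u} [CommRing A] [CommRing B] [CommRing Ap] [CommRing Bq]
    [Algebra A B] (n : ℕ) [Algebra.IsStandardSmoothOfRelativeDimension n A B]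
    [Algebra A Ap] (S : Submonoid A) [IsLocalization S Ap]
    [Algebra B Bq] (T : Submonoid B) [IsLocalization T Bq]
    [Algebra Ap Bq] [Algebra A Bq] [IsScalarTower A Ap Bq] [IsScalarTower A B Bq] (a b : ℤ) (X : DRing.Cx Bq)
    (h : DRing.HasTorAmplitudeIn Ap a b (DRing.toD (res (A := Ap) X))) :
    DRing.HasTorAmplitudeIn Bq (a - n) b (DRing.toD X) := by
  obtain ⟨g, hg⟩ := Algebra.IsStandardSmoothOfRelativeDimension.exists_etale_mvPolynomial n A B
  letI : Algebra (MvPolynomial (Fin n) A) B := g.toRingHom.toAlgebra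
  haveI : Algebra.Etale (MvPolynomial (Fin n) A) B := RingHom.etale_algebraMap.mp hg
  letI : Algebra (MvPolynomial (Fin n) A) Bq := ((algebraMap B Bq).comp g.toRingHom).toAlgebra
  haveI : IsScalarTower (MvPolynomial (Fin n) A) B Bq := IsScalarTower.of_algebraMap_eq fun _ => rfl
  haveI : IsScalarTower A (MvPolynomial (Fin n) A) Bq :=
    IsScalarTower.of_algebraMap_eq fun r => by
      change algebraMap A Bq r = algebraMap B Bq (g (algebraMap A _ r))
      rw [g.commutes, ← IsScalarTower.algebraMap_apply]
  haveI : Algebra.WeaklyEtale A Ap := Groth.L20.weaklyEtale_isLocalization S Ap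
  haveI : Algebra.WeaklyEtale B Bq := Groth.L20.weaklyEtale_isLocalization T Bq
  haveI : Algebra.WeaklyEtale (MvPolynomial (Fin n) A) Bq := Algebra.WeaklyEtale.trans _ B _
  have h1 : DRing.HasTorAmplitudeIn A a b (DRing.toD (res (A := A) X)) :=
    (amp_resRes a b X).1 ((amp_weaklyEtale a b (res (A := Ap) X)).2 h)
  exact (amp_weaklyEtale _ _ X).1 (amp_mvPolynomial a b n (res X) ((amp_resRes a b X).2 h1))

end Groth.Lead.SmoothAmp
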