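import Groth.Agent.Lead.SmoothAmp
import Groth.Agent.Lead.StalkPush
import Groth.Agent.L17.ClosedPush
import Groth.Agent.L00.StalkFunctor
import Groth.Prelude.Def_DTor2
import Mathlib.AlgebraicGeometry.Morphisms.Smooth
import Mathlib.AlgebraicGeometry.AffineScheme

/-!
# Stalkwise tor amplitude over a smooth scheme
-/

set_option autoImplicit false
set_option linter.style.haveILetI false
set_option backward.isDefEq.respectTransparency false
set_option backward.isDefEq.respectTransparency.types false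
set_option backward.defeqAttrib.useBackward true

universe u

open CategoryTheory CategoryTheory.Limits AlgebraicGeometry Opposite TopologicalSpace

noncomputable section

attribute [local instance] HasDerivedCategory.standard

namespace Groth.Lead.SmoothStalk

variable {X Y : Scheme.{u}} (g : X ⟶ Y)

/-- The complex of stalks over the local ring of the scheme itself. -/
abbrev stk (x : X) (G : CochainComplex X.Modules ℤ) : DRing.Cx (X.presheaf.stalk x) :=
  ((Groth.L00.Stk.F X x).mapHomologicalComplex (ComplexShape.up ℤ)).obj G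

theorem isStandardSmooth_chart {n : ℕ} {V : X.Opens} [SmoothOfRelativeDimension n (V.ι ≫ g)] {x : X} (hx : x ∈ V) :
    ∃ (U : Y.Opens) (_ : IsAffineOpen U) (W : X.Opens) (_ : IsAffineOpen W) (_ : x ∈ W) (e : W ≤ g ⁻¹ᵁ U),
      RingHom.IsStandardSmoothOfRelativeDimension n (g.appLE U W e).hom := by
  obtain ⟨U, hU, W, hW, hxW, e, h⟩ :=
    SmoothOfRelativeDimension.exists_isStandardSmoothOfRelativeDimension (n := n) (f := V.ι ≫ g) ⟨x, hx⟩
  have e' : V.ι ''ᵁ W ≤ g ⁻¹ᵁ U := by
    rintro _ ⟨w, hw, rfl⟩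
    exact e hw
  refine ⟨U, hU, V.ι ''ᵁ W, hW.image_of_isOpenImmersion V.ι, ⟨_, hxW, rfl⟩, e', ?_⟩
  have he : (V.ι ≫ g).appLE U W e = g.appLE U (V.ι ''ᵁ W) e' := by
    rw [← Scheme.Hom.appLE_comp_appLE V.ι g U (V.ι ''ᵁ W) W e'
      (fun w hw => ⟨w, hw, rfl⟩), Scheme.Opens.ι_appLE]
    exact (congrArg (g.appLE U (V.ι ''ᵁ W) e' ≫ ·) (X.presheaf.map_id _)).trans (Category.comp_id _)
  exact he ▸ h

/-- Over a scheme smooth of relative dimension `n`, tor amplitude `[a, b]` over the base gives `[a - n, b]`. -/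
theorem amp_stalk {n : ℕ} {V : X.Opens} [SmoothOfRelativeDimension n (V.ι ≫ g)] {x : X} (hx : x ∈ V) (a b : ℤ)
    (G : CochainComplex X.Modules ℤ) (h : DerSch.HasTorAmplitudeAt g a b G x) :
    DRing.HasTorAmplitudeIn (X.presheaf.stalk x) (a - n) b (DRing.toD (stk x G)) := by
  obtain ⟨U, hU, W, hW, hxW, e, hsm⟩ := isStandardSmooth_chart g (n := n) hx
  letI : Algebra Γ(Y, U) Γ(X, W) := (g.appLE U W e).hom.toAlgebra
  haveI : Algebra.IsStandardSmoothOfRelativeDimension n Γ(Y, U) Γ(X, W) := hsm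
  letI : Algebra Γ(Y, U) (Y.presheaf.stalk (g x)) := TopCat.Presheaf.algebra_section_stalk Y.presheaf ⟨g x, e hxW⟩
  letI : Algebra Γ(X, W) (X.presheaf.stalk x) := TopCat.Presheaf.algebra_section_stalk X.presheaf ⟨x, hxW⟩
  haveI : IsLocalization.AtPrime (Y.presheaf.stalk (g x)) (hU.primeIdealOf ⟨g x, e hxW⟩).asIdeal :=
    hU.isLocalization_stalk ⟨g x, e hxW⟩
  haveI : IsLocalization.AtPrime (X.presheaf.stalk x) (hW.primeIdealOf ⟨x, hxW⟩).asIdeal :=
    hW.isLocalization_stalk ⟨x, hxW⟩
  letI : Algebra (Y.presheaf.stalk (g x)) (X.presheaf.stalk x) := (g.stalkMap x).hom.toAlgebra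
  letI : Algebra Γ(Y, U) (X.presheaf.stalk x) :=
    ((algebraMap Γ(X, W) (X.presheaf.stalk x)).comp (algebraMap Γ(Y, U) Γ(X, W))).toAlgebra
  haveI : IsScalarTower Γ(Y, U) Γ(X, W) (X.presheaf.stalk x) := IsScalarTower.of_algebraMap_eq fun _ => rfl
  haveI : IsScalarTower Γ(Y, U) (Y.presheaf.stalk (g x)) (X.presheaf.stalk x) :=
    IsScalarTower.of_algebraMap_eq fun s => by
      change X.presheaf.germ W x hxW ((g.appLE U W e).hom s) = (g.stalkMap x).hom (Y.presheaf.germ U (g x) (e hxW) s)
      refine Eq.trans ?_ (Scheme.Hom.germ_stalkMap_apply g U x (e hxW) s).symm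
      exact TopCat.Presheaf.germ_res_apply X.presheaf (homOfLE e) x hxW (g.app U s)
  refine Groth.Lead.SmoothAmp.amp_localization_smooth n (hU.primeIdealOf ⟨g x, e hxW⟩).asIdeal.primeCompl
    (hW.primeIdealOf ⟨x, hxW⟩).asIdeal.primeCompl (A := Γ(Y, U)) (B := Γ(X, W)) (Ap := Y.presheaf.stalk (g x)) (Bq := X.presheaf.stalk x) a b (stk x G) ?_
  exact h

/-- Flatness: tor amplitude on a scheme flat over the base gives tor amplitude over the base. -/
theorem amp_stalk_base [Flat g] (x : X) (a b : ℤ) (G : CochainComplex X.Modules ℤ)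
    (h : DRing.HasTorAmplitudeIn (X.presheaf.stalk x) a b (DRing.toD (stk x G))) :
    DerSch.HasTorAmplitudeAt g a b G x := by
  letI : Algebra (Y.presheaf.stalk (g x)) (X.presheaf.stalk x) := (g.stalkMap x).hom.toAlgebra
  haveI : Module.Flat (Y.presheaf.stalk (g x)) (X.presheaf.stalk x) := Flat.stalkMap g x
  obtain ⟨E, hEv, hE, ⟨e⟩⟩ := h
  refine ⟨Groth.L20.TorAmp.res E, fun i hi => Functor.map_isZero (ModuleCat.restrictScalars.{u} _) (hEv i hi),
    fun i => (haveI := hE i; Groth.L20.TorAmp.flat_restrict (E.X i)),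
    ⟨(Groth.L20.TorAmp.resIso E).symm ≪≫ (DRing.restrictD _).mapIso e ≪≫ Groth.L20.TorAmp.resIso (stk x G)⟩⟩

section Push

variable {Z : Scheme.{u}} (i : Z ⟶ X) [IsClosedImmersion i] (F : CochainComplex Z.Modules ℤ)

/-- The direct image complex. -/
abbrev push : CochainComplex X.Modules ℤ :=
  ((Scheme.Modules.pushforward i).mapHomologicalComplex (ComplexShape.up ℤ)).obj F

theorem amp_push_iff (z : Z) (a b : ℤ) :
    DerSch.HasTorAmplitudeAt g a b (push i F) (i z) ↔ DerSch.HasTorAmplitudeAt (i ≫ g) a b F z := by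
  let e := DerivedCategory.Q.mapIso ((NatIso.mapHomologicalComplex
    (Groth.Lead.StalkPush.stalkOverPushIso i g z i.isClosedEmbedding.isInducing) (ComplexShape.up ℤ)).app F)
  exact ⟨Groth.L10.DR.amp_of_iso e, Groth.L10.DR.amp_of_iso e.symm⟩

theorem amp_push_outside {x : X} (hx : x ∉ Set.range i) (a b : ℤ) :
    DerSch.HasTorAmplitudeAt g a b (push i F) x := by
  refine Groth.L10.DR.amp_of_isZero (Functor.map_isZero DerivedCategory.Q ?_) a b
  rw [IsZero.iff_id_eq_zero]
  ext n : 1
  haveI : Subsingleton (((DerSch.stalkCxOver g x).obj (push i F)).X n) :=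
    Groth.L17.ClosedPush.subsingleton_stalk_push i (F.X n) hx
  exact (ModuleCat.isZero_of_subsingleton _).eq_of_src _ _

theorem torAmplitude_push_iff (a b : ℤ) :
    DerSch.HasTorAmplitude g a b (push i F) ↔ DerSch.HasTorAmplitude (i ≫ g) a b F := by
  refine ⟨fun h z => (amp_push_iff g i F z a b).1 (h (i z)), fun h x => ?_⟩
  by_cases hx : x ∈ Set.range i
  · obtain ⟨z, rfl⟩ := hx
    exact (amp_push_iff g i F z a b).2 (h z)
  · exact amp_push_outside g i F hx a b

theorem locFinite_push_iff :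
    DerSch.LocFiniteTorAmplitude g (push i F) ↔ DerSch.LocFiniteTorAmplitude (i ≫ g) F := by
  constructor
  · intro h z
    obtain ⟨W, a, b, hz, hW⟩ := h (i z)
    exact ⟨i ⁻¹ᵁ W, a, b, hz, fun z' hz' => (amp_push_iff g i F z' a b).1 (hW _ hz')⟩
  · intro h x
    by_cases hx : x ∈ Set.range i
    · obtain ⟨z, rfl⟩ := hx
      obtain ⟨V, a, b, hz, hV⟩ := h z
      obtain ⟨W, hW, hVW⟩ := i.isClosedEmbedding.isInducing.isOpen_iff.1 V.isOpen
      refine ⟨⟨W, hW⟩, a, b, ?_, fun x' hx' => ?_⟩
      · have : z ∈ i ⁻¹' W := by rw [hVW]; exact hz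
        exact this
      · by_cases hx'' : x' ∈ Set.range i
        · obtain ⟨z', rfl⟩ := hx''
          refine (amp_push_iff g i F z' a b).2 (hV z' ?_)
          have : z' ∈ i ⁻¹' W := hx'
          rw [hVW] at this
          exact this
        · exact amp_push_outside g i F hx'' a b
    · exact ⟨⟨(Set.range i)ᶜ, i.isClosedEmbedding.isClosed_range.isOpen_compl⟩, 0, 0, hx,
        fun x' hx' => amp_push_outside g i F hx' 0 0⟩

end Push

section Restrict

variable {U : Scheme.{u}} (j : U ⟶ X) [IsOpenImmersion j] (y : U)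

/-- The stalk of a module at a point of an open subscheme, compared with that of its restriction. -/
def τ : DerSch.stalkOver g (j y) ⟶ Scheme.Modules.restrictFunctor j ⋙ DerSch.stalkOver (j ≫ g) y :=
  (Functor.leftUnitor _).inv ≫ Functor.whiskerRight (Scheme.Modules.restrictAdjunction j).unit (DerSch.stalkOver g (j y)) ≫
    (Functor.associator _ _ _).hom ≫
    Functor.whiskerLeft (Scheme.Modules.restrictFunctor j)
      (Groth.Lead.StalkPush.stalkOverPushIso j g y j.isOpenEmbedding.isInducing).hom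

theorem bijective_τ (M : X.Modules) : Function.Bijective ((τ g j y).app M) := by
  let ψ := (Scheme.Modules.restrictStalkNatIso j y).hom.app M
  have hψ : Function.Bijective ψ := ConcreteCategory.bijective_of_isIso ψ
  have key : ∀ m : M.presheaf.stalk (j y),
      ψ (show ((Scheme.Modules.restrictFunctor j).obj M).presheaf.stalk y from (τ g j y).app M m) = m := by
    intro m
    obtain ⟨U', hU', s, rfl⟩ := TopCat.Presheaf.exists_germ_eq (F := M.presheaf) m
    let R := (Scheme.Modules.restrictFunctor j).obj M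
    have h1 : (show R.presheaf.stalk y from (τ g j y).app M (M.presheaf.germ U' (j y) hU' s)) =
        R.presheaf.germ (j ⁻¹ᵁ U') y hU' (M.presheaf.map (homOfLE (j.image_preimage_le U')).op s) := by
      change Groth.Lead.StalkPush.σ j y R ((DerSch.stalkFunctor X (j y)).map
        ((Scheme.Modules.restrictAdjunction j).unit.app M) (M.presheaf.germ U' (j y) hU' s)) = _
      refine (congrArg (Groth.Lead.StalkPush.σ j y R)
        (DerSch.stalkFunctor_map_germ (j y) ((Scheme.Modules.restrictAdjunction j).unit.app M) U' hU' s)).trans ?_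
      exact Groth.Lead.StalkPush.σ_germ j y R U' hU' _
    rw [h1]
    refine (congrArg (fun k => (ConcreteCategory.hom k) (M.presheaf.map (homOfLE (j.image_preimage_le U')).op s))
      (Scheme.Modules.germ_restrictStalkNatIso_hom_app j y M (U := j ⁻¹ᵁ U') hU')).trans ?_
    exact TopCat.Presheaf.germ_res_apply M.presheaf (homOfLE (j.image_preimage_le U')) (j y) ⟨y, hU', rfl⟩ s
  refine ⟨fun a b hab => ?_, fun m => ?_⟩
  · rw [← key a, ← key b]
    exact congrArg ψ hab
  · refine ⟨ψ m, ?_⟩
    exact hψ.1 (key (ψ m))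

/-- Stalks do not change under restriction to an open subscheme. -/
def stalkResIso : DerSch.stalkOver g (j y) ≅ Scheme.Modules.restrictFunctor j ⋙ DerSch.stalkOver (j ≫ g) y :=
  haveI : ∀ M, IsIso ((τ g j y).app M) := fun M =>
    (ConcreteCategory.isIso_iff_bijective _).2 (bijective_τ g j y M)
  haveI : IsIso (τ g j y) := NatIso.isIso_of_isIso_app _
  asIso (τ g j y)

theorem amp_restrict_iff (G : CochainComplex X.Modules ℤ) (a b : ℤ) :
    DerSch.HasTorAmplitudeAt (j ≫ g) a b (((Scheme.Modules.restrictFunctor j).mapHomologicalComplex (ComplexShape.up ℤ)).obj G) y ↔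
      DerSch.HasTorAmplitudeAt g a b G (j y) := by
  let e := DerivedCategory.Q.mapIso ((NatIso.mapHomologicalComplex (stalkResIso g j y) (ComplexShape.up ℤ)).app G)
  exact ⟨Groth.L10.DR.amp_of_iso e.symm, Groth.L10.DR.amp_of_iso e⟩

end Restrict

end Groth.Lead.SmoothStalk
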