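import Groth.Agent.Lead.SmoothStalk

/-!
# Tor amplitude of complexes over the local rings of a smooth scheme
-/

set_option autoImplicit false
set_option linter.style.haveILetI false
set_option backward.isDefEq.respectTransparency false
set_option backward.isDefEq.respectTransparency.types false
set_option backward.defeqAttrib.useBackward true

universe u

open CategoryTheory CategoryTheory.Limits AlgebraicGeometry

noncomputable section

attribute [local instance] HasDerivedCategory.standard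

namespace Groth.Lead.SmoothStalkCx

open Groth.Lead.SmoothStalk

variable {X Y : Scheme.{u}} (g : X ⟶ Y)

/-- Over a scheme smooth of relative dimension `n`, tor amplitude `[a, b]` over the base gives `[a - n, b]`. -/
theorem amp_stalk_cx {n : ℕ} {V : X.Opens} [SmoothOfRelativeDimension n (V.ι ≫ g)] {x : X} (hx : x ∈ V) (a b : ℤ)
    (K : DRing.Cx (X.presheaf.stalk x))
    (h : DRing.HasTorAmplitudeIn (Y.presheaf.stalk (g x)) a b
      (DRing.toD (((ModuleCat.restrictScalars.{u} (g.stalkMap x).hom).mapHomologicalComplex (ComplexShape.up ℤ)).obj K))) :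
    DRing.HasTorAmplitudeIn (X.presheaf.stalk x) (a - n) b (DRing.toD K) := by
  obtain ⟨U, hU, W, hW, hxW, e, hsm⟩ := isStandardSmooth_chart g (n := n) hx
  letI : Algebra Γ(Y, U) Γ(X, W) := (g.appLE U W e).hom.toAlgebra
  haveI : Algebra.IsStandardSmoothOfRelativeDimension n Γ(Y, U) Γ(X, W) := hsm
  letI : Algebra Γ(Y, U) (Y.presheaf.stalk (g x)) := TopCat.Presheaf.algebra_section_stalk Y.presheaf ⟨g x, e hxW⟩
  letI : Algebra Γ(X, W) (X.presheaf.stalk x) := TopCat.Presheaf.algebra_section_stalk X.presheaf ⟨x, hxW⟩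
  haveI : IsLocalization.AtPrime (Y.presheaf.stalk (g x)) (hU.primeIdealOf ⟨g x, e hxW⟩).asIdeal :=
    hU.isLocalization_stalk ⟨g x, e hxW⟩
  haveI : IsLocalization.AtPrime (X.presheaf.stalk x) (hW.primeIdealOf ⟨x, hxW⟩).asIdeal :=
    hW.isLocalization_stalk ⟨x, hxW⟩
  letI : Algebra (Y.presheaf.stalk (g x)) (X.presheaf.stalk x) := (g.stalkMap x).hom.toAlgebra
  letI : Algebra Γ(Y, U) (X.presheaf.stalk x) :=
    ((algebraMap Γ(X, W) (X.presheaf.stalk x)).comp (algebraMap Γ(Y, U) Γ(X, W))).toAlgebra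
  haveI : IsScalarTower Γ(Y, U) Γ(X, W) (X.presheaf.stalk x) := IsScalarTower.of_algebraMap_eq fun _ => rfl
  haveI : IsScalarTower Γ(Y, U) (Y.presheaf.stalk (g x)) (X.presheaf.stalk x) :=
    IsScalarTower.of_algebraMap_eq fun s => by
      change X.presheaf.germ W x hxW ((g.appLE U W e).hom s) = (g.stalkMap x).hom (Y.presheaf.germ U (g x) (e hxW) s)
      refine Eq.trans ?_ (Scheme.Hom.germ_stalkMap_apply g U x (e hxW) s).symm
      exact TopCat.Presheaf.germ_res_apply X.presheaf (homOfLE e) x hxW (g.app U s)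
  refine Groth.Lead.SmoothAmp.amp_localization_smooth n (hU.primeIdealOf ⟨g x, e hxW⟩).asIdeal.primeCompl
    (hW.primeIdealOf ⟨x, hxW⟩).asIdeal.primeCompl (A := Γ(Y, U)) (B := Γ(X, W)) (Ap := Y.presheaf.stalk (g x)) (Bq := X.presheaf.stalk x) a b K ?_
  exact h

/-- smooth morphisms have a relative dimension near each point -/
theorem exists_relativeDimension {P S : Scheme.{u}} (π : P ⟶ S) [Smooth π] (x : P) :
    ∃ (W : P.Opens) (n : ℕ), x ∈ W ∧ SmoothOfRelativeDimension n (W.ι ≫ π) := by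
  obtain ⟨U, hU, V, hV, hxV, e, hsm⟩ := Smooth.exists_isStandardSmooth π x
  algebraize [(π.appLE U V e).hom]
  obtain ⟨ι, τ, _, _, ⟨Pr⟩⟩ := ‹Algebra.IsStandardSmooth Γ(S, U) Γ(P, V)›.out
  haveI : IsAffine (V : P.Opens).toScheme := hV
  refine ⟨V, Pr.dimension, hxV, ⟨fun y => ⟨U, hU, ⊤, isAffineOpen_top _, trivial, fun z _ => e z.2, ?_⟩⟩⟩
  have hn : RingHom.IsStandardSmoothOfRelativeDimension Pr.dimension (π.appLE U V e).hom := by
    rw [RingHom.IsStandardSmoothOfRelativeDimension]
    exact ⟨ι, τ, inferInstance, inferInstance, Pr, rfl⟩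
  have hcomp : (V.ι ≫ π).appLE U ⊤ (fun z _ => e z.2) = π.appLE U V e ≫ V.topIso.inv := by
    rw [Scheme.Hom.comp_appLE, Scheme.Hom.app_eq_appLE, Scheme.Opens.topIso_inv]
    simp [Scheme.Hom.appLE]
    rw [← Functor.map_comp, ← Functor.map_comp]
    congr 2
  rw [hcomp]
  exact RingHom.isStandardSmoothOfRelativeDimension_respectsIso.1 _ V.topIso.symm.commRingCatIsoToRingEquiv hn

end Groth.Lead.SmoothStalkCx
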