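import Groth.Agent.L25.SmoothUnit
import Groth.Agent.L25.GeomRed
import Mathlib.RingTheory.Localization.BaseChange

/-!
# Smoothness of a group from geometric reducedness of the local ring at the unit
-/

set_option autoImplicit false
set_option backward.isDefEq.respectTransparency.types false
set_option linter.style.haveILetI false
universe u
open CategoryTheory CategoryTheory.Limits MonoidalCategory CartesianMonoidalCategory MonObj GrpObj AlgebraicGeometry
open scoped TensorProduct
open Groth.L25 Groth.L25.SmoothUnit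

namespace Groth.Lead.SmoothUnitPerfect

/-- Stalks of affine schemes, as algebras. -/
noncomputable def stalkAlgEquiv (A : Type u) [CommRing A] (p : PrimeSpectrum A) :
    ((Spec.structureSheaf A).presheaf.stalk p) ≃ₐ[A] Localization.AtPrime p.asIdeal :=
  (IsLocalization.algEquiv p.asIdeal.primeCompl (Localization.AtPrime p.asIdeal)
    ((Spec.structureSheaf A).presheaf.stalk p)).symm

variable {k : Type u} [Field k]

/-- Smoothness from reducedness of `K ⊗ O_{G,e}` for one perfect extension `K`. -/
theorem smooth_of_perfect (G : Over (Spec (CommRingCat.of k))) [GrpObj G] [LocallyOfFiniteType G.hom]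
    (K : Type u) [Field K] [Algebra k K] [PerfectField K] (x : G.left) (hx : x = Component.one G)
    (h : letI := ((Scheme.ΓSpecIso (CommRingCat.of k)).inv ≫ G.hom.appTop ≫ G.left.presheaf.germ ⊤ x trivial).hom.toAlgebra
      _root_.IsReduced (K ⊗[k] G.left.presheaf.stalk x)) : Smooth G.hom := by
  refine smooth_of_isReduced_stalk G ?_
  let L := AlgebraicClosure k
  let t := Spec.map (CommRingCat.ofHom (algebraMap k L))
  obtain ⟨_, ⟨U, hU, rfl⟩, hne, -⟩ := G.left.isBasis_affineOpens.exists_subset_of_mem_open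
    (Set.mem_univ (Component.one G)) isOpen_univ
  let A := Γ(G.left, U)
  have : IsOpenImmersion hU.fromSpec := hU.isOpenImmersion_fromSpec
  let j : Spec (CommRingCat.of A) ⟶ G.left := hU.fromSpec
  letI : Algebra k A := (Spec.preimage (j ≫ G.hom)).hom.toAlgebra
  have hj : j ≫ G.hom = Spec.map (CommRingCat.ofHom (algebraMap k A)) := (Spec.map_preimage _).symm
  have : Algebra.FiniteType k A := by
    have h : LocallyOfFiniteType (j ≫ G.hom) := inferInstance
    rw [hj, HasRingHomProperty.Spec_iff (P := @LocallyOfFiniteType)] at h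
    exact h
  let e0 : Spec (CommRingCat.of k) ⟶ Spec (CommRingCat.of A) :=
    IsOpenImmersion.lift j η[G].left (by
      rintro _ ⟨c, rfl⟩
      rw [show c = IsLocalRing.closedPoint k from Subsingleton.elim (α := PrimeSpectrum k) _ _]
      exact hU.range_fromSpec.ge hne)
  obtain ⟨χ₀, hχ₀⟩ := Spec.map_surjective e0
  have he0 : e0 ≫ j = η[G].left := IsOpenImmersion.lift_fac _ _ _
  have hcomm : CommRingCat.ofHom (algebraMap k A) ≫ χ₀ = 𝟙 _ := by
    apply Spec.map_injective
    rw [Spec.map_comp, hχ₀, ← hj, ← Category.assoc, he0, Spec.map_id]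
    exact GrpBasics.unit_comp_hom G
  let χ : A →ₐ[k] k := { χ₀.hom with commutes' := fun r => congr(($hcomm).hom r) }
  let ev := (Algebra.TensorProduct.lid k L).toAlgHom.comp (Algebra.TensorProduct.map χ (AlgHom.id k L))
  let m : Ideal A := RingHom.ker χ
  let m' : Ideal (A ⊗[k] L) := RingHom.ker ev
  have : m.IsPrime := RingHom.ker_isPrime _
  have : m'.IsPrime := RingHom.ker_isPrime _
  let P : Spec (CommRingCat.of A) := ⟨m, ‹_›⟩
  have hP : j P = Component.one G := by
    rw [show P = e0 (IsLocalRing.closedPoint k) from ?_]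
    · exact congr(($he0) (IsLocalRing.closedPoint k))
    · rw [← hχ₀]
      refine PrimeSpectrum.ext ?_
      show RingHom.ker χ = Ideal.comap χ₀.hom (IsLocalRing.maximalIdeal k)
      rw [IsLocalRing.maximalIdeal_eq_bot]
      rfl
  let Om := Localization.AtPrime m
  obtain rfl : x = j P := hx.trans hP.symm
  let O := G.left.presheaf.stalk (j P)
  letI algO : Algebra k O :=
    ((Scheme.ΓSpecIso (CommRingCat.of k)).inv ≫ G.hom.appTop ≫ G.left.presheaf.germ ⊤ (j P) trivial).hom.toAlgebra
  let P' : PrimeSpectrum A := ⟨m, ‹_›⟩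
  let se : ((Spec.structureSheaf A).presheaf.stalk P') ≃ₐ[A] Om :=
    stalkAlgEquiv A P'
  let ε : O ≃+* Om := (asIso (j.stalkMap P)).commRingCatIsoToRingEquiv.trans se.toRingEquiv
  let εk : O ≃ₐ[k] Om := AlgEquiv.ofRingEquiv (f := ε) fun r => by
    show se (j.stalkMap P (G.left.presheaf.germ ⊤ (j P) trivial (G.hom.appTop ((Scheme.ΓSpecIso (CommRingCat.of k)).inv r)))) = _
    rw [Scheme.Hom.germ_stalkMap_apply, IsScalarTower.algebraMap_apply k A Om, ← se.commutes]
    congr 1
    have : j.app ⊤ (G.hom.appTop ((Scheme.ΓSpecIso (CommRingCat.of k)).inv r)) =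
        (Scheme.ΓSpecIso (CommRingCat.of A)).inv (algebraMap k A r) := by
      show ((Scheme.ΓSpecIso (CommRingCat.of k)).inv ≫ G.hom.appTop ≫ j.appTop) r = _
      rw [← Scheme.Hom.comp_appTop, hj, ← Scheme.ΓSpecIso_inv_naturality]
      rfl
    rw [this]
    rfl
  have hKO : _root_.IsReduced (K ⊗[k] Om) :=
    haveI : _root_.IsReduced (K ⊗[k] O) := h
    isReduced_of_injective (Algebra.TensorProduct.congr (AlgEquiv.refl (R := k) (A₁ := K)) εk).symm.toAlgHom
      (Algebra.TensorProduct.congr (AlgEquiv.refl (R := k) (A₁ := K)) εk).symm.injective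
  let Ω := AlgebraicClosure K
  haveI : _root_.IsReduced (Ω ⊗[K] (K ⊗[k] Om)) := Groth.L25.GeomRed.isReduced_tensorProduct
  haveI : _root_.IsReduced (Ω ⊗[k] Om) :=
    isReduced_of_injective (Algebra.TensorProduct.cancelBaseChange k K Ω Ω Om).symm.toAlgHom
      (Algebra.TensorProduct.cancelBaseChange k K Ω Ω Om).symm.injective
  let σ : L →ₐ[k] Ω := IsAlgClosed.lift
  haveI hOL : _root_.IsReduced (Om ⊗[k] L) :=
    isReduced_of_injective ((Algebra.TensorProduct.comm k Om Ω).toAlgHom.comp
        (Algebra.TensorProduct.map (AlgHom.id k Om) σ))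
      ((Algebra.TensorProduct.comm k Om Ω).injective.comp
        (Module.Flat.lTensor_preserves_injective_linearMap (M := Om) σ.toLinearMap σ.toRingHom.injective))
  let B := Localization.AtPrime m'
  let φ : A →ₐ[k] B := (IsScalarTower.toAlgHom k (A ⊗[k] L) B).comp Algebra.TensorProduct.includeLeft
  have hφ : ∀ y : m.primeCompl, IsUnit (φ y) := fun y => by
    refine IsLocalization.map_units (M := m'.primeCompl) B ⟨(y : A) ⊗ₜ[k] (1 : L), fun hy => y.2 ?_⟩
    simpa [m', m, ev, RingHom.mem_ker, ← Algebra.algebraMap_eq_smul_one] using hy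
  let Φ : Om ⊗[k] L →ₐ[k] B := Algebra.TensorProduct.lift (IsLocalization.liftAlgHom hφ)
    ((IsScalarTower.toAlgHom k (A ⊗[k] L) B).comp Algebra.TensorProduct.includeRight) fun _ _ => Commute.all _ _
  have hΦ : Φ.comp (Algebra.TensorProduct.map (IsScalarTower.toAlgHom k A Om) (AlgHom.id k L)) =
      IsScalarTower.toAlgHom k (A ⊗[k] L) B := by
    apply Algebra.TensorProduct.ext'
    intro a l
    simp [Φ, φ, IsLocalization.liftAlgHom_apply, ← map_mul]
  have hB : _root_.IsReduced B := ⟨fun b ⟨n, hn⟩ => by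
    obtain ⟨z, s, rfl⟩ := IsLocalization.exists_mk'_eq m'.primeCompl b
    rw [← IsLocalization.mk'_pow, IsLocalization.mk'_eq_zero_iff] at hn
    obtain ⟨t, ht⟩ := hn
    let π := Algebra.TensorProduct.map (IsScalarTower.toAlgHom k A Om) (AlgHom.id k L)
    have h0 : π (z * t) = 0 := IsReduced.eq_zero _ ⟨n + 1, by
      rw [← map_pow, mul_pow, pow_succ z, pow_succ (t : A ⊗[k] L),
        show z ^ n * z * ((t : A ⊗[k] L) ^ n * t) = z * (t : A ⊗[k] L) ^ n * (t * z ^ n) by ring, ht, mul_zero, map_zero]⟩
    have h1 := congrArg Φ h0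
    rw [← AlgHom.comp_apply, hΦ, map_zero, IsScalarTower.toAlgHom_apply, map_mul] at h1
    rw [IsLocalization.mk'_eq_mul_mk'_one,
      (IsLocalization.map_units (M := m'.primeCompl) B t).mul_left_eq_zero.mp h1, zero_mul]⟩
  let J : Spec (CommRingCat.of (A ⊗[k] L)) ⟶ pullback G.hom t :=
    (pullback.congrHom hj rfl ≪≫ pullbackSpecIso k A L).inv ≫
      pullback.map (j ≫ G.hom) t G.hom t j (𝟙 _) (𝟙 _) (by simp) (by simp)
  let Q : Spec (CommRingCat.of (A ⊗[k] L)) := ⟨m', ‹_›⟩
  have hJ : IsOpenImmersion J := inferInstance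
  have hfst : J ≫ pullback.fst G.hom t = Spec.map (CommRingCat.ofHom (algebraMap A (A ⊗[k] L))) ≫ j := by
    simp only [J, Category.assoc, pullback.lift_fst, Iso.trans_inv, pullback.congrHom_inv,
      Category.comp_id, pullbackSpecIso_inv_fst_assoc]
    rw [pullback.map, pullback.lift_fst_assoc, Category.comp_id, pullbackSpecIso_inv_fst_assoc]
  have hQ : J Q = Component.one (Red.bc t G) := by
    have key : Subsingleton ↥(pullback (pullback.fst G.hom t) η[G].left) := by
      have hiso : IsIso (η[G].left ≫ G.hom) := by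
        rw [GrpBasics.unit_comp_hom G]; exact IsIso.id _
      let e : pullback (pullback.fst G.hom t) η[G].left ≅ Spec (CommRingCat.of L) :=
        pullbackSymmetry _ _ ≪≫ pullbackRightPullbackFstIso G.hom t η[G].left ≪≫
          asIso (pullback.snd (η[G].left ≫ G.hom) t)
      exact e.hom.homeomorph.injective.subsingleton
    have hover : ∀ d, pullback.fst G.hom t d = Component.one G →
        d ∈ Set.range (pullback.fst (pullback.fst G.hom t) η[G].left) := fun d hd => by
      rw [Scheme.Pullback.range_fst]; exact ⟨_, hd.symm⟩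
    have h1 : pullback.fst G.hom t (J Q) = Component.one G := by
      refine (congr(($hfst) Q)).trans ?_
      rw [← hP]
      refine congrArg j (PrimeSpectrum.ext ?_)
      ext a
      show algebraMap A (A ⊗[k] L) a ∈ RingHom.ker ev ↔ a ∈ RingHom.ker χ
      simp [ev, RingHom.mem_ker, ← Algebra.algebraMap_eq_smul_one]
    have h2 : pullback.fst G.hom t (Component.one (Red.bc t G)) = Component.one G := by
      exact (congr(($(eta_bc_fst t G)) (IsLocalRing.closedPoint L))).trans
        (congrArg η[G].left (Subsingleton.elim (α := PrimeSpectrum k) _ _))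
    obtain ⟨a, ha⟩ := hover _ h1
    obtain ⟨b, hb⟩ := hover _ h2
    rw [← ha, ← hb, key.elim a b]
  haveI := hB
  haveI h1 : _root_.IsReduced ((Spec (CommRingCat.of (A ⊗[k] L))).presheaf.stalk Q) :=
    isReduced_of_injective (stalkRingEquiv (A ⊗[k] L) Q).some.symm.toRingHom
      (stalkRingEquiv (A ⊗[k] L) Q).some.symm.injective
  have h2 : _root_.IsReduced ((pullback G.hom t).presheaf.stalk (J Q)) :=
    isReduced_of_injective (J.stalkMap Q).hom (ConcreteCategory.bijective_of_isIso (J.stalkMap Q)).1
  rw [hQ] at h2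
  exact h2

end Groth.Lead.SmoothUnitPerfect
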