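import Groth.Agent.Lead.SplitH0
import Groth.Agent.L16.EtaleFibre.Stein
import Groth.Agent.L17.AffinePush
import Groth.Agent.L21.Nodal.NodalLocus
import Groth.Agent.L29.BC.Comp
import Groth.Agent.L00.TorAmp
import Groth.Agent.L20.FibreScheme
import Groth.Agent.L10.RelPC.RpushBound
import Groth.Prelude.Def_RelSpec
import Mathlib.AlgebraicGeometry.Morphisms.FlatMono

/-!
The direct image of the structure sheaf near a fibre with étale functions: a finite étale algebra and a perfect rest.
-/

set_option autoImplicit false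
set_option linter.style.haveILetI false
set_option backward.defeqAttrib.useBackward true
set_option backward.isDefEq.respectTransparency false
set_option backward.isDefEq.respectTransparency.types false

universe u

open CategoryTheory CategoryTheory.Limits AlgebraicGeometry

noncomputable section

attribute [local instance] HasDerivedCategory.standard

namespace Groth.Lead.SplitEtale

open Groth.L00 Groth.L29.DC

theorem etale_fibres {X S : Scheme.{u}} {f : X ⟶ S} (h : Groth.L16.EtaleFibre.Good f) (s : S) :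
    Algebra.Etale (S.residueField s) Γ(f.fiber s, ⊤) := by
  have h1 := (h.of_isPullback (IsPullback.of_hasPullback f (S.fromSpecResidueField s))).etale
  exact RingHom.Etale.respectsIso.2 _ (Scheme.ΓSpecIso (S.residueField s)).symm.commRingCatIsoToRingEquiv h1

theorem good_restrict {X S : Scheme.{u}} (f : X ⟶ S) (U : S.Opens) (hU : IsAffineOpen U)
    (h : Groth.L16.EtaleFibre.Good (pullback.snd f U.ι)) : Groth.L16.EtaleFibre.Good (f ∣_ U) := by
  haveI : IsAffine U.toScheme := hU
  have sq := IsPullback.of_hasPullback f U.ι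
  have sqR : IsPullback (f ⁻¹ᵁ U).ι (f ∣_ U) f U.ι := (isPullback_morphismRestrict f U).flip
  exact h.of_isPullback (g := 𝟙 U.toScheme) (f' := f ∣_ U) (g' := sq.lift (f ⁻¹ᵁ U).ι (f ∣_ U) sqR.w)
    (IsPullback.of_right (by rw [sq.lift_fst, Category.id_comp]; exact sqR)
      (by rw [sq.lift_snd, Category.comp_id]) sq)

/-- apps stay isomorphisms over an open subscheme of the target -/
theorem isIso_app_of_isPullback {P Q X' T : Scheme.{u}} {n : P ⟶ Q} (h : ∀ U, IsIso (n.app U)) {δ : T ⟶ Q}
    [IsOpenImmersion δ] {δ' : X' ⟶ P} {q' : X' ⟶ T} (sq : IsPullback δ' q' n δ) (U : T.Opens) :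
    IsIso (q'.app U) := by
  haveI : IsOpenImmersion δ' := MorphismProperty.of_isPullback sq.flip inferInstance
  have him : δ' ''ᵁ (q' ⁻¹ᵁ U) = n ⁻¹ᵁ (δ ''ᵁ U) := IsOpenImmersion.image_preimage_eq_preimage_image_of_isPullback sq.flip U
  haveI := h (δ ''ᵁ U)
  have hle : q' ⁻¹ᵁ U ≤ δ' ⁻¹ᵁ (n ⁻¹ᵁ (δ ''ᵁ U)) := by rw [← him, δ'.preimage_image_eq]
  have key : δ.appLE (δ ''ᵁ U) U (δ.preimage_image_eq U).ge ≫ q'.app U =
      n.app (δ ''ᵁ U) ≫ δ'.appLE _ (q' ⁻¹ᵁ U) hle := by
    rw [Scheme.Hom.app_eq_appLE, Scheme.Hom.app_eq_appLE, Scheme.Hom.appLE_comp_appLE, Scheme.Hom.appLE_comp_appLE]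
    congr 1
    exact sq.w.symm
  haveI : IsIso (δ.appLE (δ ''ᵁ U) U (δ.preimage_image_eq U).ge) := by
    rw [← Scheme.Hom.appIso_hom']; infer_instance
  haveI : IsIso (δ'.appLE (n ⁻¹ᵁ (δ ''ᵁ U)) (q' ⁻¹ᵁ U) hle) := by
    have h2 : ∀ (W : P.Opens) (e : W = δ' ''ᵁ (q' ⁻¹ᵁ U)) (e' : q' ⁻¹ᵁ U ≤ δ' ⁻¹ᵁ W),
        IsIso (δ'.appLE W (q' ⁻¹ᵁ U) e') := by
      rintro W rfl e'
      rw [← Scheme.Hom.appIso_hom']; infer_instance
    exact h2 _ him.symm hle
  haveI : IsIso (δ.appLE (δ ''ᵁ U) U (δ.preimage_image_eq U).ge ≫ q'.app U) := by rw [key]; infer_instance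
  exact IsIso.of_isIso_comp_left (δ.appLE (δ ''ᵁ U) U (δ.preimage_image_eq U).ge) _

/-- with étale fibre functions the Stein map has universally trivial functions -/
theorem isIso_app_stein {X S : Scheme.{u}} (f : X ⟶ S) [IsProper f] [Flat f] [LocallyOfFinitePresentation f]
    (het : ∀ s : S, Algebra.Etale (S.residueField s) Γ(f.fiber s, ⊤)) {Z' T : Scheme.{u}} (g' : Z' ⟶ X) (q' : Z' ⟶ T)
    (τ : T ⟶ f.normalization) (sq : IsPullback g' q' f.toNormalization τ) (U : T.Opens) : IsIso (q'.app U) := by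
  haveI : Etale f.fromNormalization := (Groth.L16.EtaleFibre.finite_etale_fromNormalization het).2
  let p := f.fromNormalization
  let k := τ ≫ p
  let Y' := pullback p k
  let δ : T ⟶ Y' := pullback.lift τ (𝟙 T) (by simp [k])
  haveI : IsOpenImmersion δ := by
    haveI : Etale (δ ≫ pullback.snd p k) := by rw [pullback.lift_snd]; infer_instance
    haveI : Etale δ := Etale.of_comp δ (pullback.snd p k)
    haveI : Mono δ := mono_of_mono_fac (pullback.lift_snd τ (𝟙 T) (by simp [k]))
    exact IsOpenImmersion.of_flat_of_mono δ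
  -- the Stein map after base change
  let f' := pullback.snd f k
  haveI : IsProper f' := MorphismProperty.pullback_snd f k inferInstance
  haveI := Groth.L16.EtaleFibre.isIso_normalizationPullback het k
  let n := f'.toNormalization ≫ f.normalizationPullback k
  have hn : ∀ W, IsIso (n.app W) := fun W => by
    haveI := Groth.L00.SteinNorm.isIso_toNormalization_app f' ((f.normalizationPullback k) ⁻¹ᵁ W)
    rw [Scheme.Hom.comp_app]; infer_instance
  have hn₁ : n ≫ pullback.fst p k = pullback.fst f k ≫ f.toNormalization := by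
    simp only [n, p, Category.assoc]
    exact f.toNormalization_normalizationPullback_fst k
  have hn₂ : n ≫ pullback.snd p k = f' := by
    simp only [n, p, Category.assoc, Scheme.Hom.normalizationPullback_snd]
    exact f'.toNormalization_fromNormalization
  have hbig : IsPullback (pullback.fst f k) n f.toNormalization (pullback.fst p k) := by
    have hr : IsPullback (pullback.fst f k) (n ≫ pullback.snd p k) (f.toNormalization ≫ p) k := by
      rw [hn₂, f.toNormalization_fromNormalization]
      exact IsPullback.of_hasPullback f k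
    exact IsPullback.of_bot hr hn₁.symm (IsPullback.of_hasPullback p k)
  let δ' : Z' ⟶ pullback f k := pullback.lift g' q' (by
    rw [← f.toNormalization_fromNormalization, sq.w_assoc])
  have hsmall : IsPullback δ' q' n δ := by
    have hτ : δ ≫ pullback.fst p k = τ := pullback.lift_fst _ _ _
    refine IsPullback.of_right (h₁₂ := pullback.fst f k) (h₂₂ := pullback.fst p k) ?_ ?_ hbig
    · rw [hτ, pullback.lift_fst]; exact sq
    · apply pullback.hom_ext
      · simp only [Category.assoc, hn₁, hτ, δ']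
        rw [pullback.lift_fst_assoc]
        exact sq.w
      · simp only [Category.assoc, hn₂, δ', f', δ, pullback.lift_snd]
        exact (Category.comp_id _).symm
  exact isIso_app_of_isPullback hn hsmall U

/-- direct image of the structure sheaf under an affine morphism -/
theorem nonempty_Rpush_unit {Y S : Scheme.{u}} (h : Y ⟶ S) [IsAffineHom h] [DCoh.HasRpush h] :
    Nonempty ((DCoh.Rpush h).obj (DCoh.inD Y (Coh.structureModule Y)) ≅
      DCoh.inD S ((Coh.push h).obj (Coh.structureModule Y))) := by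
  haveI := Groth.L17.PushQCoh.hasInjectiveResolutions Y
  haveI : HasInjectiveResolutions (ModSite.Mod Y.sheaf) := ‹HasInjectiveResolutions Y.Modules›
  haveI : EnoughInjectives Y.Modules := (Groth.L10.ModRDer.insts Y.sheaf).1
  haveI := Groth.L17.PushQCoh.additive_push h
  haveI : Coh.IsQCoh (Coh.structureModule Y) := Groth.L19.Conormal.isQCoh_structureModule Y
  have hN : ∀ p : ℕ, 0 < p → IsZero ((Coh.Rpush h p).obj (Coh.structureModule Y)) := fun p hp => by
    obtain ⟨m, rfl⟩ := Nat.exists_eq_succ_of_ne_zero hp.ne'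
    exact Groth.L17.PushQCoh.isZero_of_toAb ((Groth.L17.isZero_RpushAb_of_isAffineHom h _ m).of_iso
      (Groth.L17.nonempty_toAb_Rpush_iso h _ (m + 1)).some)
  obtain ⟨h1, h2, h3⟩ := Groth.L10.RDerBound.single_H (F := Scheme.Modules.pushforward h)
    ((DCoh.pushKh h).totalRightDerivedUnit DerivedCategory.Qh
      (HomotopyCategory.quasiIso Y.Modules (ComplexShape.up ℤ)))
    0 (Coh.structureModule Y) 0 hN
  let K := (DCoh.Rpush h).obj (DCoh.inD Y (Coh.structureModule Y))
  haveI : K.IsGE 0 := h1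
  haveI : K.IsLE 0 := by simpa using h2
  obtain ⟨A, ⟨e⟩⟩ := DerivedCategory.exists_iso_singleFunctor_obj_of_isGE_of_isLE K 0
  refine ⟨e ≪≫ (DerivedCategory.singleFunctor S.Modules 0).mapIso ?_⟩
  exact ((DerivedCategory.singleFunctorCompHomologyFunctorIso S.Modules 0).app A).symm ≪≫
    (DerivedCategory.homologyFunctor S.Modules 0).mapIso e.symm ≪≫
    (h3 0).some ≪≫ (Scheme.Modules.pushforward h).rightDerivedZeroIsoSelf.app (Coh.structureModule Y)

variable {X S : Scheme.{u}} (f : X ⟶ S) [IsProper f] [Flat f] [LocallyOfFinitePresentation f]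

set_option maxHeartbeats 1600000 in
/-- the splitting over an affine base -/
theorem exists_split [IsAffine S] (hg : Groth.L16.EtaleFibre.Good f) [DCoh.HasRpush f]
    [∀ A B : DCoh.D S, HasBinaryBiproduct A B] :
    ∃ (P : DCoh.D S) (b : ℤ), DCoh.IsPerfect P ∧ DCoh.HasTorAmplitudeIn 1 b P ∧
      Nonempty ((DCoh.Rpush f).obj (DCoh.inD X (Coh.structureModule X)) ≅
        DCoh.inD S ((Coh.push f).obj (Coh.structureModule X)) ⊞ P) := by
  have het := etale_fibres hg
  obtain ⟨hfin, het'⟩ := Groth.L16.EtaleFibre.finite_etale_fromNormalization het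
  let p₀ := f.fromNormalization
  haveI : IsFinite p₀ := hfin
  haveI : Etale p₀ := het'
  haveI : IsAffine f.normalization := isAffine_of_isAffineHom p₀
  let B : CommRingCat.{u} := Γ(f.normalization, ⊤)
  let ε := f.normalization.isoSpec
  let q : X ⟶ Spec B := f.toNormalization ≫ ε.hom
  let h : Spec B ⟶ S := ε.inv ≫ p₀
  have hqh : q ≫ h = f := by
    simp only [q, h, p₀, Category.assoc, Iso.hom_inv_id_assoc]
    exact f.toNormalization_fromNormalization
  haveI : IsFinite h := MorphismProperty.comp_mem _ ε.inv p₀ inferInstance hfin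
  haveI : Etale h := MorphismProperty.comp_mem _ ε.inv p₀ inferInstance het'
  haveI : Flat h := inferInstance
  haveI : LocallyOfFinitePresentation h := inferInstance
  haveI : IsProper (q ≫ h) := by rw [hqh]; infer_instance
  haveI : IsProper q := IsProper.of_comp q h
  haveI : Flat q := by
    haveI : Flat (q ≫ h) := by rw [hqh]; infer_instance
    exact Groth.L21.Nodal.flat_of_comp_etale q h
  haveI : LocallyOfFinitePresentation q := by
    haveI : LocallyOfFinitePresentation (q ≫ h) := by rw [hqh]; infer_instance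
    exact Groth.L20.locallyOfFinitePresentation_of_comp q h
  haveI := RpushQC.hasRpush q
  haveI := RpushQC.hasRpush h
  haveI : ∀ A A' : DCoh.D (Spec B), HasBinaryBiproduct A A' := fun A A' => inferInstance
  have hq : ∀ {Z' T : Scheme.{u}} (g' : Z' ⟶ X) (q' : Z' ⟶ T) (τ : T ⟶ Spec B),
      IsPullback g' q' q τ → ∀ U, IsIso (q'.app U) := fun g' q' τ hsq U => by
    refine isIso_app_stein f het g' q' (τ ≫ ε.inv) ?_ U
    exact IsPullback.of_iso hsq (Iso.refl _) (Iso.refl _) (Iso.refl _) ε.symm
      (by simp) (by simp) (by simp [q]) (by simp)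
  obtain ⟨C, b, hC, hamp, ⟨e⟩⟩ := Groth.Lead.SplitH0.exists_split q hq
  let R' := DCoh.Rpush h
  haveI : CompactSpace ↥(Spec B) := inferInstance
  haveI := Groth.L17.PushQCoh.hasInjectiveResolutions (Spec B)
  obtain ⟨N, hN⟩ := RpushQC.exists_bound h
  haveI hCb : C.IsLE b := by
    obtain ⟨E, hE, -, ⟨eE⟩⟩ := hamp
    haveI : CochainComplex.IsStrictlyLE E b := (CochainComplex.isStrictlyLE_iff _ _).2 fun i hi => hE i (Or.inr hi)
    exact (DerivedCategory.TStructure.t).isLE_of_iso eE b
  have hB : ∀ i, max 1 (b + (N : ℤ)) < i → IsZero (DCoh.HD (R'.obj C) i) := fun i hi => by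
    haveI := Groth.L10.RelPC.RpushBound.isLE_Rpush h N (fun M hM j hj => by
      obtain ⟨-, -, h3⟩ := Groth.L10.RDerBound.single_H (F := Scheme.Modules.pushforward h)
        ((DCoh.pushKh h).totalRightDerivedUnit DerivedCategory.Qh
          (HomotopyCategory.quasiIso (Spec B).Modules (ComplexShape.up ℤ))) 0 M N (fun p hp => hN M hM p hp.le)
      obtain ⟨p, rfl⟩ : ∃ p : ℕ, j = (0 : ℤ) + p := ⟨j.toNat, by omega⟩
      exact (hN M hM p (by omega)).of_iso (h3 p).some) C (Groth.L29.DC.PCQCoh.isQCohD_of_perfect hC) b hCb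
    exact DerivedCategory.isZero_of_isLE _ (b + (N : ℤ)) i (by omega)
  have hRC : DCoh.IsPerfect (R'.obj C) := Groth.L29.BC.isPerfect_Rpush h hC
  have hRamp := Groth.Lead.AmpRpush.flatAmp_Rpush h (le_max_left 1 (b + (N : ℤ))) hamp
    (fun m => pc_of_perfect hC m) hB
  obtain ⟨E, hEv, hEf, ⟨eE⟩⟩ := hRamp
  obtain ⟨eh⟩ := nonempty_Rpush_unit h
  haveI : R'.Additive := Groth.L29.DC.RpushColim.additive_Rpush h
  haveI : PreservesBinaryBiproducts R' := preservesBinaryBiproducts_of_preservesBiproducts R'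
  let eu : (Coh.push h).obj (Coh.structureModule (Spec B)) ≅ (Coh.push f).obj (Coh.structureModule X) :=
    haveI := Groth.L20.DescLocus.isIso_unitToPush q (hq (𝟙 _) q (𝟙 _) (IsPullback.of_horiz_isIso ⟨by simp⟩))
    (Coh.push h).mapIso (asIso (ClSub.unitToPush q)) ≪≫ (Scheme.Modules.pushforwardComp q h).app _ ≪≫
      (Scheme.Modules.pushforwardCongr hqh).app _
  exact ⟨R'.obj C, max 1 (b + (N : ℤ)), hRC, Groth.L00.TorAmp.torAmp_of_flatAmp hEv hEf eE,
    ⟨((Groth.L29.BC.cR hqh).app _).symm ≪≫ R'.mapIso e ≪≫ R'.mapBiprod _ C ≪≫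
      biprod.mapIso (eh ≪≫ (DerivedCategory.singleFunctor S.Modules 0).mapIso eu) (Iso.refl _)⟩⟩

/-- over an affine base the relative spectrum of the direct image is finite étale -/
theorem finite_etale_π [IsAffine S] (hg : Groth.L16.EtaleFibre.Good f) :
    IsFinite (RelSpec.QCAlg.directImage f).π ∧ Etale (RelSpec.QCAlg.directImage f).π := by
  let A := RelSpec.QCAlg.directImage f
  have hT : IsAffineOpen (⊤ : S.Opens) := isAffineOpen_top S
  haveI : IsIso (A.ι ⊤ hT) := by
    refine (isIso_iff_isOpenImmersion_and_surjective _).2 ⟨inferInstance, ⟨fun y => ?_⟩⟩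
    have hy : y ∈ (A.ι ⊤ hT).opensRange := by
      rw [← RelSpec.QCAlg.π_preimage]; trivial
    exact hy
  have hπ : A.π = inv (A.ι ⊤ hT) ≫ Spec.map (A.str.app (Opposite.op ⊤)) ≫ hT.fromSpec := by
    rw [IsIso.eq_inv_comp]; exact RelSpec.QCAlg.ι_π A ⊤ hT
  haveI : IsIso hT.fromSpec := by
    refine (isIso_iff_isOpenImmersion_and_surjective _).2 ⟨inferInstance, ⟨fun y => ?_⟩⟩
    have : y ∈ Set.range hT.fromSpec := by rw [hT.range_fromSpec]; trivial
    exact this
  rw [hπ]
  refine ⟨MorphismProperty.RespectsIso.precomp _ _ _ (MorphismProperty.RespectsIso.postcomp _ _ _ ?_),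
    MorphismProperty.RespectsIso.precomp _ _ _ (MorphismProperty.RespectsIso.postcomp _ _ _ ?_)⟩
  · exact (IsFinite.SpecMap_iff _).2 hg.finite
  · exact (HasRingHomProperty.Spec_iff (P := @Etale)).2 hg.etale

end Groth.Lead.SplitEtale
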