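import Groth.Agent.L20.UnivInj
import Groth.Agent.L00.TorFlat
import Mathlib.Algebra.TrivSqZeroExt.Basic

/-!
A complex of projectives whose degree zero cohomology is universally free of rank one.
-/

set_option autoImplicit false
set_option linter.style.haveILetI false
set_option backward.isDefEq.respectTransparency false
set_option backward.isDefEq.respectTransparency.types false

universe u

open TensorProduct

namespace Groth.Lead.SplitH0

variable {A : Type u} [CommRing A] {M N : Type u} [AddCommGroup M] [Module A M] [AddCommGroup N] [Module A N]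
  (f : M →ₗ[A] N)

/-- kernels of all base changes are free of rank one -/
def UnivRankOne : Prop :=
  ∀ (B : Type u) [CommRing B] [Algebra A B], Nonempty (B ≃ₗ[B] LinearMap.ker (f.baseChange B))

theorem generator (h : UnivRankOne f) :
    ∃ e : M, f e = 0 ∧ (∀ a : A, a • e = 0 → a = 0) ∧ ∀ x, f x = 0 → ∃ a : A, a • e = x := by
  obtain ⟨i⟩ := h A
  let l : A ⊗[A] M ≃ₗ[A] M := TensorProduct.lid A M
  have hl : ∀ w, f (l w) = TensorProduct.lid A N (f.baseChange A w) := fun w => by
    induction w using TensorProduct.induction_on with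
    | zero => simp
    | tmul a b => simp [l]
    | add a b ha hb => simp [map_add, ha, hb]
  let w₀ : A ⊗[A] M := i 1
  refine ⟨l w₀, ?_, fun a ha => ?_, fun x hx => ?_⟩
  · rw [hl, LinearMap.mem_ker.1 (i 1).2, map_zero]
  · have h1 : a • w₀ = 0 := l.injective (by rw [map_smul, ha, map_zero])
    have h2 : i a = 0 := Subtype.ext (by
      rw [show a = a • (1 : A) by simp, map_smul]; exact h1)
    exact i.map_eq_zero_iff.1 h2
  · have hk : l.symm x ∈ LinearMap.ker (f.baseChange A) := by
      refine LinearMap.mem_ker.2 ((TensorProduct.lid A N).injective ?_)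
      rw [← hl, LinearEquiv.apply_symm_apply, hx, map_zero]
    obtain ⟨a, ha⟩ := i.surjective ⟨_, hk⟩
    refine ⟨a, ?_⟩
    have h3 : a • w₀ = l.symm x := by
      rw [show a = a • (1 : A) by simp, map_smul] at ha
      exact congrArg Subtype.val ha
    rw [← map_smul, h3, LinearEquiv.apply_symm_apply]

theorem universally (h : UnivRankOne f) (e : M) (hfe : f e = 0) (hinj : ∀ a : A, a • e = 0 → a = 0)
    (hker : ∀ x, f x = 0 → ∃ a : A, a • e = x) (L : Type u) [AddCommGroup L] [Module A L] :
    Function.Injective ((LinearMap.toSpanSingleton A M e).lTensor L) ∧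
      Function.Exact ((LinearMap.toSpanSingleton A M e).rTensor L) (f.rTensor L) := by
  letI : Module Aᵐᵒᵖ L := Module.compHom L ((RingHom.id A).fromOpposite mul_comm)
  haveI : IsCentralScalar A L := ⟨fun _ _ => rfl⟩
  obtain ⟨i⟩ := h (TrivSqZeroExt A L)
  let Φ : TrivSqZeroExt A L ⊗[A] M →ₗ[A] M :=
    (TensorProduct.lid A M).toLinearMap ∘ₗ (TrivSqZeroExt.fstHom A A L).toLinearMap.rTensor M
  let Ψ : TrivSqZeroExt A L ⊗[A] M →ₗ[A] L ⊗[A] M := (TrivSqZeroExt.sndHom A L).rTensor M
  let Φ' : TrivSqZeroExt A L ⊗[A] N →ₗ[A] N :=
    (TensorProduct.lid A N).toLinearMap ∘ₗ (TrivSqZeroExt.fstHom A A L).toLinearMap.rTensor N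
  let inlM : M →ₗ[A] TrivSqZeroExt A L ⊗[A] M := TensorProduct.mk A _ M 1
  let inrM : L ⊗[A] M →ₗ[A] TrivSqZeroExt A L ⊗[A] M := (TrivSqZeroExt.inrHom A L).rTensor M
  have hf : ∀ w, f (Φ w) = Φ' (f.baseChange (TrivSqZeroExt A L) w) := fun w => by
    induction w using TensorProduct.induction_on with
    | zero => simp
    | tmul a b => simp [Φ, Φ']
    | add a b ha hb => simp [map_add, ha, hb]
  have hΦ : ∀ (b : TrivSqZeroExt A L) w, Φ (b • w) = b.fst • Φ w := fun b w => by
    induction w using TensorProduct.induction_on with
    | zero => simp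
    | tmul a c => simp [Φ, TensorProduct.smul_tmul', mul_smul]
    | add a c ha hc => simp [smul_add, map_add, ha, hc]
  have hΨ : ∀ (b : TrivSqZeroExt A L) w, Ψ (b • w) = b.fst • Ψ w + b.snd ⊗ₜ Φ w := fun b w => by
    induction w using TensorProduct.induction_on with
    | zero => simp
    | tmul a c =>
      simp [Φ, Ψ, TensorProduct.smul_tmul', TrivSqZeroExt.snd_mul, TensorProduct.add_tmul,
        TensorProduct.tmul_smul]
    | add a c ha hc => simp [smul_add, map_add, TensorProduct.tmul_add, ha, hc]; abel
  let w₀ : TrivSqZeroExt A L ⊗[A] M := i 1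
  have hgen : ∀ w, f.baseChange (TrivSqZeroExt A L) w = 0 → ∃ b : TrivSqZeroExt A L, b • w₀ = w := fun w hw => by
    obtain ⟨b, hb⟩ := i.surjective ⟨w, hw⟩
    refine ⟨b, ?_⟩
    rw [show b = b • (1 : TrivSqZeroExt A L) by simp, map_smul] at hb
    exact congrArg Subtype.val hb
  have hfree : ∀ b : TrivSqZeroExt A L, b • w₀ = 0 → b = 0 := fun b hb => by
    have h2 : i b = 0 := Subtype.ext (by
      rw [show b = b • (1 : TrivSqZeroExt A L) by simp, map_smul]; exact hb)
    exact i.map_eq_zero_iff.1 h2
  obtain ⟨α, hα⟩ := hker (Φ w₀) (by rw [hf, LinearMap.mem_ker.1 (i 1).2, map_zero])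
  obtain ⟨b₁, hb₁⟩ := hgen (inlM e) (by simp [inlM, hfe])
  have hunit : b₁.fst * α = 1 := by
    have := congrArg Φ hb₁
    rw [hΦ, ← hα, smul_smul] at this
    have h1 : (b₁.fst * α - 1) • e = 0 := by
      rw [sub_smul, this, one_smul]
      simp [Φ, inlM]
    exact sub_eq_zero.1 (hinj _ h1)
  constructor
  · rw [injective_iff_map_eq_zero]
    intro z hz
    obtain ⟨l, rfl⟩ : ∃ l : L, l ⊗ₜ[A] (1 : A) = z :=
      ⟨TensorProduct.rid A L z, (TensorProduct.rid A L).symm_apply_apply z⟩
    have h0 : l ⊗ₜ[A] e = (0 : L ⊗[A] M) := by simpa using hz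
    have h1 : (TrivSqZeroExt.inr l : TrivSqZeroExt A L) • w₀ = 0 := by
      have hw : ∀ w, inrM (Ψ ((TrivSqZeroExt.inr l : TrivSqZeroExt A L) • w)) =
          (TrivSqZeroExt.inr l : TrivSqZeroExt A L) • w := fun w => by
        induction w using TensorProduct.induction_on with
        | zero => simp
        | tmul a c =>
          simp only [Ψ, inrM, TensorProduct.smul_tmul', smul_eq_mul, LinearMap.rTensor_tmul,
            TrivSqZeroExt.sndHom_apply, TrivSqZeroExt.inrHom_apply]
          congr 1
          ext <;> simp
        | add a c ha hc => rw [smul_add, map_add, map_add, ha, hc]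
      rw [← hw w₀, hΨ, TrivSqZeroExt.fst_inr, zero_smul, zero_add, TrivSqZeroExt.snd_inr, ← hα,
        TensorProduct.tmul_smul, h0, smul_zero, map_zero]
    have := congrArg TrivSqZeroExt.snd (hfree _ h1)
    rw [TrivSqZeroExt.snd_inr, TrivSqZeroExt.snd_zero] at this
    rw [this, TensorProduct.zero_tmul]
  · intro z
    constructor
    · intro hz
      have hk : f.baseChange (TrivSqZeroExt A L) (inrM (TensorProduct.comm A M L z)) = 0 := by
        have : f.baseChange (TrivSqZeroExt A L) (inrM (TensorProduct.comm A M L z)) =
            (TrivSqZeroExt.inrHom A L).rTensor N (TensorProduct.comm A N L (f.rTensor L z)) := by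
          clear hz
          induction z using TensorProduct.induction_on with
          | zero => simp
          | tmul a c => simp [inrM]
          | add a c ha hc => simp [map_add, ha, hc]
        rw [this, hz, map_zero, map_zero]
      obtain ⟨b, hb⟩ := hgen _ hk
      have h1 := congrArg Φ hb
      have h2 : Φ (inrM (TensorProduct.comm A M L z)) = 0 := by
        clear hz hk hb h1
        induction z using TensorProduct.induction_on with
        | zero => simp
        | tmul a c => simp [Φ, inrM]
        | add a c ha hc => simp [map_add, ha, hc]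
      rw [hΦ, h2, ← hα, smul_smul] at h1
      have hb0 : b.fst = 0 := by
        have := congrArg (· * b₁.fst) (hinj _ h1)
        simpa [mul_assoc, mul_comm α, hunit] using this
      have h3 := congrArg Ψ hb
      rw [hΨ, hb0, zero_smul, zero_add, ← hα] at h3
      have h4 : Ψ (inrM (TensorProduct.comm A M L z)) = TensorProduct.comm A M L z := by
        generalize TensorProduct.comm A M L z = v
        induction v using TensorProduct.induction_on with
        | zero => simp
        | tmul a c => simp [Ψ, inrM]
        | add a c ha hc => simp [map_add, ha, hc]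
      rw [h4] at h3
      refine ⟨α ⊗ₜ b.snd, (TensorProduct.comm A M L).injective ?_⟩
      rw [← h3]
      simp
    · rintro ⟨y, rfl⟩
      rw [← LinearMap.rTensor_comp_apply, show f ∘ₗ LinearMap.toSpanSingleton A M e = 0 from
        LinearMap.ext_ring (by simpa using hfe)]
      simp

/-- splitting data of a universally rank one kernel -/
theorem splitting [Module.Finite A M] [Module.Projective A M] [Module.Finite A N] [Module.Projective A N]
    (h : UnivRankOne f) :
    ∃ (e : M) (r : M →ₗ[A] A), f e = 0 ∧ r e = 1 ∧ (∀ x, f x = 0 → r x • e = x) ∧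
      Module.Projective A (N ⧸ LinearMap.range f) := by
  obtain ⟨e, hfe, hinj, hker⟩ := generator f h
  let u := LinearMap.toSpanSingleton A M e
  haveI : Module.Flat A (M ⧸ LinearMap.range u) :=
    Groth.L20.flat_quotient_range_of_lTensor_injective u fun I => (universally f h e hfe hinj hker _).1
  haveI : Module.FinitePresentation A M := Module.finitePresentation_of_projective A M
  haveI : Module.FinitePresentation A (M ⧸ LinearMap.range u) :=
    Module.finitePresentation_of_surjective _ (Submodule.mkQ_surjective _)
      (by rw [Submodule.ker_mkQ]; exact LinearMap.range_eq_map u ▸ (Module.Finite.fg_top (R := A) (M := A)).map _)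
  haveI : Module.Projective A (M ⧸ LinearMap.range u) := Module.Flat.projective_of_finitePresentation
  obtain ⟨σ, hσ⟩ := Module.projective_lifting_property (LinearMap.range u).mkQ LinearMap.id (Submodule.mkQ_surjective _)
  have hu : Function.Injective u := fun a b hab => sub_eq_zero.1 (hinj _ (by
    simpa [u, sub_smul, sub_eq_zero] using hab))
  let r : M →ₗ[A] A := (LinearEquiv.ofInjective u hu).symm.toLinearMap ∘ₗ
    (LinearMap.id - σ ∘ₗ (LinearMap.range u).mkQ).codRestrict (LinearMap.range u) (fun x => by
      rw [← Submodule.Quotient.mk_eq_zero]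
      have := LinearMap.congr_fun hσ ((LinearMap.range u).mkQ x)
      simp only [LinearMap.comp_apply, LinearMap.id_apply] at this
      simp only [LinearMap.sub_apply, LinearMap.id_apply, LinearMap.comp_apply]
      rw [Submodule.Quotient.mk_sub]
      exact sub_eq_zero.2 this.symm)
  have hr : ∀ a : A, r (a • e) = a := fun a => by
    apply hu
    have h0 : (LinearMap.range u).mkQ (a • e) = 0 := (Submodule.Quotient.mk_eq_zero _).2 ⟨a, rfl⟩
    have := LinearEquiv.apply_symm_apply (LinearEquiv.ofInjective u hu)
      ((LinearMap.id - σ ∘ₗ (LinearMap.range u).mkQ).codRestrict (LinearMap.range u) (fun x => by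
        rw [← Submodule.Quotient.mk_eq_zero]
        have := LinearMap.congr_fun hσ ((LinearMap.range u).mkQ x)
        simp only [LinearMap.comp_apply, LinearMap.id_apply] at this
        simp only [LinearMap.sub_apply, LinearMap.id_apply, LinearMap.comp_apply]
        rw [Submodule.Quotient.mk_sub]
        exact sub_eq_zero.2 this.symm) (a • e))
    have h5 := congrArg Subtype.val this
    simp only [LinearEquiv.ofInjective_apply, LinearMap.codRestrict_apply, LinearMap.sub_apply,
      LinearMap.id_apply, LinearMap.comp_apply, h0, map_zero, sub_zero] at h5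
    exact h5
  refine ⟨e, r, hfe, by simpa using hr 1, fun x hx => ?_, ?_⟩
  · obtain ⟨a, rfl⟩ := hker x hx
    rw [hr]
  · haveI : Module.Flat A (N ⧸ LinearMap.range f) :=
      Groth.L00.TorAmp.flat_of_shifted_exact u f (LinearMap.range f).mkQ (LinearMap.exact_map_mkQ_range _)
        (Submodule.mkQ_surjective _) (LinearMap.ext_ring (by simpa [u] using hfe))
        fun I _ => (universally f h e hfe hinj hker _).2
    haveI : Module.FinitePresentation A N := Module.finitePresentation_of_projective A N
    haveI : Module.FinitePresentation A (N ⧸ LinearMap.range f) :=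
      Module.finitePresentation_of_surjective _ (Submodule.mkQ_surjective _)
        (by rw [Submodule.ker_mkQ]; exact LinearMap.range_eq_map f ▸ (Module.Finite.fg_top (R := A) (M := M)).map _)
    exact Module.Flat.projective_of_finitePresentation

end Groth.Lead.SplitH0
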