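import Groth.Prelude.Def_FSch3
import Groth.Agent.S9602
import Groth.Agent.L05.Bosch.ComplMapFlat
import Mathlib.RingTheory.Flat.EquationalCriterion
import Mathlib.RingTheory.Flat.FaithfullyFlat.Algebra
import Mathlib.RingTheory.Localization.Away.Basic

/-!
# The stalk ring of a formal spectrum
-/

set_option autoImplicit false
set_option linter.style.haveILetI false

universe u

noncomputable section

namespace Groth.Lead.StalkSubring

variable {S T U : Type u} [CommRing S] [CommRing T] [CommRing U]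

theorem evalₐ_complMap (I : Ideal S) (K : Ideal T) (g : S →+* T) (h : I.map g ≤ K) (n : ℕ)
    (y : AdicCompletion.AdicCauchySequence I S) :
    AdicCompletion.evalₐ K n (FSch.complMap I K g h (AdicCompletion.mk I S y)) =
      Ideal.Quotient.mk (K ^ n) (g (y n)) := by
  unfold FSch.complMap
  rw [AdicCompletion.evalₐ_liftRingHom]
  · simp [AdicCompletion.evalₐ_mk]
  · intro m n hle
    apply RingHom.ext
    intro x
    obtain ⟨y, rfl⟩ := AdicCompletion.mk_surjective I S x
    simp only [RingHom.coe_comp, Function.comp_apply, AlgHom.toRingHom_eq_coe, AlgHom.coe_toRingHom,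
      AdicCompletion.evalₐ_mk, Ideal.quotientMap_mk, Ideal.Quotient.factorPow, Ideal.Quotient.factor_mk]
    rw [Ideal.Quotient.eq]
    have hy := y.2 hle
    rw [SModEq.sub_mem] at hy
    simp only [smul_eq_mul, Ideal.mul_top] at hy
    rw [← map_sub]
    refine FSch.pow_le_comap_pow_of_map_le I K g h m ?_
    rw [← neg_sub]
    exact (I ^ m).neg_mem hy

theorem complMap_complMap (I : Ideal S) (K : Ideal T) (L : Ideal U) (g : S →+* T) (g' : T →+* U) (g'' : S →+* U)
    (hc : g'.comp g = g'') (h : I.map g ≤ K) (h' : K.map g' ≤ L) (h'' : I.map g'' ≤ L) (x : AdicCompletion I S) :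
    FSch.complMap K L g' h' (FSch.complMap I K g h x) = FSch.complMap I L g'' h'' x := by
  subst hc
  refine AdicCompletion.ext_evalₐ fun n => ?_
  obtain ⟨y, rfl⟩ := AdicCompletion.mk_surjective I S x
  obtain ⟨z, hz⟩ := AdicCompletion.mk_surjective K T (FSch.complMap I K g h (AdicCompletion.mk I S y))
  have e1 := evalₐ_complMap I K g h n y
  rw [← hz, AdicCompletion.evalₐ_mk, Ideal.Quotient.eq] at e1
  rw [← hz, evalₐ_complMap, evalₐ_complMap, Ideal.Quotient.eq, RingHom.comp_apply, ← map_sub]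
  exact FSch.pow_le_comap_pow_of_map_le K L g' h' n e1

variable {A : Type u} [CommRing A] (J : Ideal A) (𝔭 : Ideal A) [𝔭.IsPrime]

theorem range_le {f g h : A} (hf : f ∉ 𝔭) (hg : g ∉ 𝔭) (e : g = f * h) :
    (FSch.cAwayToAtPrime A J 𝔭 f hf).range ≤ (FSch.cAwayToAtPrime A J 𝔭 g hg).range := by
  have hu : IsUnit (algebraMap A (Localization.Away g) f) := by
    have := IsLocalization.Away.algebraMap_isUnit (S := Localization.Away g) g
    rw [e, map_mul] at this
    subst e
    exact (IsUnit.mul_iff.1 this).1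
  let φ : Localization.Away f →+* Localization.Away g := IsLocalization.Away.lift f hu
  have hφ : (J.map (algebraMap A (Localization.Away f))).map φ ≤ J.map (algebraMap A (Localization.Away g)) := by
    rw [Ideal.map_map, show φ.comp (algebraMap A (Localization.Away f)) = algebraMap A (Localization.Away g) from
      IsLocalization.Away.lift_comp f hu]
  rintro _ ⟨x, rfl⟩
  refine ⟨FSch.complMap _ _ φ hφ x, ?_⟩
  refine complMap_complMap _ _ _ φ (FSch.awayToAtPrime A 𝔭 g hg) (FSch.awayToAtPrime A 𝔭 f hf) ?_ hφ _ _ x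
  refine IsLocalization.ringHom_ext (Submonoid.powers f) (RingHom.ext fun a => ?_)
  simp [φ, FSch.awayToAtPrime]

theorem directed :
    Directed (· ≤ ·) fun f : {f : A // f ∉ 𝔭} => (FSch.cAwayToAtPrime A J 𝔭 f.1 f.2).range := fun f g =>
  have hfg : f.1 * g.1 ∉ 𝔭 := fun h => (Ideal.IsPrime.mem_or_mem ‹_› h).elim f.2 g.2
  ⟨⟨f.1 * g.1, hfg⟩, range_le J 𝔭 f.2 hfg rfl, range_le J 𝔭 g.2 hfg (mul_comm _ _)⟩

instance : Nonempty {f : A // f ∉ 𝔭} := ⟨⟨1, fun h => ‹𝔭.IsPrime›.ne_top ((Ideal.eq_top_iff_one _).2 h)⟩⟩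

theorem mem_iff {x : FSch.cAtPrime A J 𝔭} :
    x ∈ FSch.stalkSubring A J 𝔭 ↔ ∃ (f : A) (hf : f ∉ 𝔭), x ∈ (FSch.cAwayToAtPrime A J 𝔭 f hf).range := by
  rw [FSch.stalkSubring, Subring.mem_iSup_of_directed (directed J 𝔭)]
  exact ⟨fun ⟨f, h⟩ => ⟨f.1, f.2, h⟩, fun ⟨f, hf, h⟩ => ⟨⟨f, hf⟩, h⟩⟩

theorem exists_finset_range {ι : Type*} [Fintype ι] (x : ι → FSch.stalkSubring A J 𝔭) :
    ∃ (f : A) (hf : f ∉ 𝔭), ∀ i, (x i : FSch.cAtPrime A J 𝔭) ∈ (FSch.cAwayToAtPrime A J 𝔭 f hf).range := by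
  classical
  choose f hf h using fun i => (mem_iff J 𝔭).1 (x i).2
  obtain ⟨g, hg⟩ := (directed J 𝔭).finset_le (Finset.univ.image fun i => (⟨f i, hf i⟩ : {f : A // f ∉ 𝔭}))
  exact ⟨g.1, g.2, fun i => hg _ (Finset.mem_image_of_mem _ (Finset.mem_univ i)) (h i)⟩

variable (hJ : J ≤ 𝔭)

include hJ in
theorem map_le_maximalIdeal :
    J.map (algebraMap A (Localization.AtPrime 𝔭)) ≤ IsLocalRing.maximalIdeal (Localization.AtPrime 𝔭) :=
  (Ideal.map_mono hJ).trans (Localization.AtPrime.map_eq_maximalIdeal).le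

include hJ in
theorem isUnit_iff (x : FSch.cAtPrime A J 𝔭) :
    IsUnit x ↔ IsUnit (AdicCompletion.evalOneₐ _ x) :=
  ⟨fun h => h.map _, (Groth.Agent.S9602.result _).1 x⟩

include hJ in
theorem isLocalRing_cAtPrime : IsLocalRing (FSch.cAtPrime A J 𝔭) := by
  let I := J.map (algebraMap A (Localization.AtPrime 𝔭))
  have hI : I ≠ ⊤ := ne_top_of_le_ne_top (IsLocalRing.maximalIdeal.isMaximal _).ne_top (map_le_maximalIdeal J 𝔭 hJ)
  haveI : Nontrivial (Localization.AtPrime 𝔭 ⧸ I) := Ideal.Quotient.nontrivial_iff.2 hI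
  haveI : IsLocalRing (Localization.AtPrime 𝔭 ⧸ I) :=
    IsLocalRing.of_surjective' _ Ideal.Quotient.mk_surjective
  let e := (AdicCompletion.evalOneₐ I).toRingHom
  haveI : Nontrivial (FSch.cAtPrime A J 𝔭) := e.domain_nontrivial
  refine IsLocalRing.of_nonunits_add fun a b ha hb hab => ?_
  have := IsLocalRing.isUnit_or_isUnit_of_isUnit_add (a := e a) (b := e b) (by rw [← map_add]; exact hab.map _)
  exact this.elim (fun h => ha ((isUnit_iff J 𝔭 hJ a).2 h)) (fun h => hb ((isUnit_iff J 𝔭 hJ b).2 h))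

include hJ in
theorem isUnit_subring {x : FSch.stalkSubring A J 𝔭} (hx : IsUnit (x : FSch.cAtPrime A J 𝔭)) : IsUnit x := by
  obtain ⟨f, hf, y, hy⟩ := (mem_iff J 𝔭).1 x.2
  obtain ⟨y', hy'⟩ := AdicCompletion.mk_surjective _ _ y
  -- the leading term of `y`
  obtain ⟨n, a, ha⟩ := IsLocalization.Away.surj f (y' 1)
  have hev : AdicCompletion.evalOneₐ _ (x : FSch.cAtPrime A J 𝔭) =
      Ideal.Quotient.mk _ (FSch.awayToAtPrime A 𝔭 f hf (y' 1)) := by
    rw [← hy, ← hy']
    have h1 := evalₐ_complMap _ _ (FSch.awayToAtPrime A 𝔭 f hf) (FSch.map_awayToAtPrime_le A J 𝔭 f hf) 1 y'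
    rw [AdicCompletion.evalOneₐ]
    simp only [AlgHom.comp_apply]
    erw [h1]
    simp
  have haP : a ∉ 𝔭 := by
    intro hap
    have h1 : IsUnit (Ideal.Quotient.mk (J.map (algebraMap A (Localization.AtPrime 𝔭)))
        (FSch.awayToAtPrime A 𝔭 f hf (y' 1))) := by
      rw [← hev]; exact hx.map _
    have h2 : IsUnit (Ideal.Quotient.mk (J.map (algebraMap A (Localization.AtPrime 𝔭)))
        (FSch.awayToAtPrime A 𝔭 f hf (y' 1) * algebraMap A _ f ^ n)) := by
      rw [map_mul]
      exact h1.mul (((IsLocalization.map_units (Localization.AtPrime 𝔭) (⟨f, hf⟩ : 𝔭.primeCompl)).pow n).map _)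
    have e := congrArg (FSch.awayToAtPrime A 𝔭 f hf) ha
    have hAw : ∀ c : A, FSch.awayToAtPrime A 𝔭 f hf (algebraMap A (Localization.Away f) c) =
        algebraMap A (Localization.AtPrime 𝔭) c := fun c => by simp [FSch.awayToAtPrime]
    rw [map_mul, map_pow, hAw, hAw] at e
    haveI : IsLocalHom (Ideal.Quotient.mk (J.map (algebraMap A (Localization.AtPrime 𝔭)))) :=
      ⟨fun b hb => by
        by_contra hbn
        obtain ⟨c, hc⟩ := isUnit_iff_exists_inv.1 hb
        obtain ⟨c, rfl⟩ := Ideal.Quotient.mk_surjective c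
        rw [← map_mul, ← map_one (Ideal.Quotient.mk _), Ideal.Quotient.eq] at hc
        have hm := map_le_maximalIdeal J 𝔭 hJ hc
        have hb' : b * c ∈ IsLocalRing.maximalIdeal (Localization.AtPrime 𝔭) := Ideal.mul_mem_right _ _ hbn
        exact (IsLocalRing.maximalIdeal.isMaximal (Localization.AtPrime 𝔭)).ne_top
          ((Ideal.eq_top_iff_one (IsLocalRing.maximalIdeal (Localization.AtPrime 𝔭))).2 (by simpa using Ideal.sub_mem _ hb' hm))⟩
    have h3 : IsUnit (algebraMap A (Localization.AtPrime 𝔭) a) := by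
      rw [← e]
      exact h2.of_map
    exact ((IsLocalization.AtPrime.isUnit_to_map_iff (Localization.AtPrime 𝔭) 𝔭 a).1 h3) hap
  have hg : f * a ∉ 𝔭 := fun h => (Ideal.IsPrime.mem_or_mem ‹_› h).elim hf haP
  have hu : IsUnit (algebraMap A (Localization.Away (f * a)) f) ∧ IsUnit (algebraMap A (Localization.Away (f * a)) a) := by
    have := IsLocalization.Away.algebraMap_isUnit (S := Localization.Away (f * a)) (f * a)
    rw [map_mul] at this
    exact IsUnit.mul_iff.1 this
  let φ : Localization.Away f →+* Localization.Away (f * a) := IsLocalization.Away.lift f hu.1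
  have hφ : (J.map (algebraMap A (Localization.Away f))).map φ ≤ J.map (algebraMap A (Localization.Away (f * a))) := by
    rw [Ideal.map_map, show φ.comp (algebraMap A (Localization.Away f)) = algebraMap A _ from
      IsLocalization.Away.lift_comp f hu.1]
  let z := FSch.complMap _ _ φ hφ y
  have hz : FSch.cAwayToAtPrime A J 𝔭 (f * a) hg z = x := by
    rw [← hy]
    refine complMap_complMap _ _ _ φ (FSch.awayToAtPrime A 𝔭 (f * a) hg) (FSch.awayToAtPrime A 𝔭 f hf) ?_ hφ _ _ y
    refine IsLocalization.ringHom_ext (Submonoid.powers f) (RingHom.ext fun c => ?_)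
    simp [φ, FSch.awayToAtPrime]
  have huz : IsUnit z := by
    refine (Groth.Agent.S9602.result _).1 z ?_
    have h1 : AdicCompletion.evalOneₐ _ z = Ideal.Quotient.mk _ (φ (y' 1)) := by
      rw [show z = FSch.complMap _ _ φ hφ y from rfl, ← hy', AdicCompletion.evalOneₐ]
      simp only [AlgHom.comp_apply]
      erw [evalₐ_complMap _ _ φ hφ 1 y']
      simp
    rw [h1]
    refine IsUnit.map _ ?_
    have e := congrArg φ ha
    simp [φ] at e
    exact (IsUnit.mul_iff.1 (e.symm ▸ hu.2 : IsUnit (φ (y' 1) * algebraMap A _ f ^ n))).1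
  obtain ⟨w, hw⟩ := isUnit_iff_exists_inv.1 huz
  refine isUnit_iff_exists_inv.2 ⟨⟨_, (mem_iff J 𝔭).2 ⟨f * a, hg, w, rfl⟩⟩, Subtype.ext ?_⟩
  change (x : FSch.cAtPrime A J 𝔭) * FSch.cAwayToAtPrime A J 𝔭 (f * a) hg w = 1
  rw [← hz, ← map_mul, hw, map_one]

include hJ in
theorem isLocalRing_and_isLocalHom :
    IsLocalRing (FSch.stalkSubring A J 𝔭) ∧ IsLocalHom (FSch.stalkSubring A J 𝔭).subtype := by
  haveI := isLocalRing_cAtPrime J 𝔭 hJ
  have hloc : IsLocalHom (FSch.stalkSubring A J 𝔭).subtype := ⟨fun x hx => isUnit_subring J 𝔭 hJ hx⟩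
  exact ⟨RingHom.domain_isLocalRing (FSch.stalkSubring A J 𝔭).subtype, hloc⟩

theorem flat_subring [IsNoetherianRing A] :
    Module.Flat (FSch.stalkSubring A J 𝔭) (FSch.cAtPrime A J 𝔭) := by
  classical
  refine Module.Flat.iff_forall_isTrivialRelation.2 fun {l r x} h => ?_
  obtain ⟨f, hf, hr⟩ := exists_finset_range J 𝔭 r
  choose y hy using hr
  let φ := FSch.cAwayToAtPrime A J 𝔭 f hf
  letI := φ.toAlgebra
  haveI : Module.Flat (FSch.cAway A J f) (FSch.cAtPrime A J 𝔭) :=
    Groth.L05.Bosch.flat_complMap_localization A J (Submonoid.powers f) 𝔭.primeCompl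
      (Submonoid.powers_le.2 hf) (FSch.awayToAtPrime A 𝔭 f hf)
      (RingHom.ext fun a => by simp [FSch.awayToAtPrime]) (FSch.map_awayToAtPrime_le A J 𝔭 f hf)
  have hsum : ∑ i, y i • x i = 0 := by
    rw [← h]
    exact Finset.sum_congr rfl fun i _ => by
      rw [Algebra.smul_def, Subring.smul_def, smul_eq_mul]
      exact congrArg (· * x i) (hy i)
  obtain ⟨k, c, z, hxz, hc⟩ := Module.Flat.isTrivialRelation_of_sum_smul_eq_zero hsum
  refine ⟨k, fun i j => ⟨φ (c i j), (mem_iff J 𝔭).2 ⟨f, hf, c i j, rfl⟩⟩, z, fun i => ?_, fun j => Subtype.ext ?_⟩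
  · rw [hxz i]
    exact Finset.sum_congr rfl fun j _ => by rw [Algebra.smul_def, Subring.smul_def, smul_eq_mul]; rfl
  · have e := congrArg φ (hc j)
    rw [map_sum, map_zero] at e
    simp only [map_mul] at e
    rw [AddSubmonoidClass.coe_finsetSum]
    refine Eq.trans (Finset.sum_congr rfl fun i _ => ?_) e
    change (r i : FSch.cAtPrime A J 𝔭) * φ (c i j) = φ (y i) * φ (c i j)
    rw [show φ (y i) = r i from hy i]

include hJ in
theorem faithfullyFlat [IsNoetherianRing A] :
    Module.FaithfullyFlat (FSch.stalkSubring A J 𝔭) (FSch.cAtPrime A J 𝔭) := by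
  obtain ⟨h1, h2⟩ := isLocalRing_and_isLocalHom J 𝔭 hJ
  haveI := h1
  haveI := isLocalRing_cAtPrime J 𝔭 hJ
  haveI := flat_subring J 𝔭
  haveI : IsLocalHom (algebraMap (FSch.stalkSubring A J 𝔭) (FSch.cAtPrime A J 𝔭)) := h2
  exact Module.FaithfullyFlat.of_flat_of_isLocalHom

include hJ in
theorem isNoetherianRing [IsNoetherianRing A] : IsNoetherianRing (FSch.stalkSubring A J 𝔭) := by
  haveI := faithfullyFlat J 𝔭 hJ
  haveI : IsNoetherianRing (FSch.cAtPrime A J 𝔭) :=
    Groth.L01.AdicNoeth.isNoetherianRing_adicCompletion _ (IsNoetherian.noetherian _)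
  refine isNoetherianRing_iff.2 (isNoetherian_iff'.2 ?_)
  exact StrictMono.wellFoundedGT
    (f := fun I : Ideal (FSch.stalkSubring A J 𝔭) => I.map (algebraMap _ (FSch.cAtPrime A J 𝔭)))
    (Monotone.strictMono_of_injective (fun _ _ h => Ideal.map_mono h)
      (Function.LeftInverse.injective Ideal.comap_map_eq_self_of_faithfullyFlat))

end Groth.Lead.StalkSubring
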