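import Groth.Agent.L00.SubAlg
import Groth.Agent.L00.QCAlgModule
import Groth.Agent.L17.Approx.Extend
import Mathlib.AlgebraicGeometry.Morphisms.Immersion
import Mathlib.AlgebraicGeometry.Morphisms.FiniteType
import Groth.Prelude.Def_RelSpec

/-!
An immersion into a relative spectrum over a quasi-compact quasi-separated base is an immersion into the
spectrum of a subalgebra of finite type.
-/

set_option autoImplicit false
set_option linter.style.haveILetI false
set_option backward.defeqAttrib.useBackward true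
set_option backward.isDefEq.respectTransparency false
set_option backward.isDefEq.respectTransparency.types false

universe u

open CategoryTheory CategoryTheory.Limits AlgebraicGeometry Opposite

noncomputable section

namespace Groth.Lead.SubAlgImm

/-- the open immersion of a standard open -/
abbrev awayι {B : CommRingCat.{u}} (s : B) : Spec (CommRingCat.of (Localization.Away s)) ⟶ Spec B :=
  Spec.map (CommRingCat.ofHom (algebraMap B (Localization.Away s)))

theorem range_awayι {B : CommRingCat.{u}} (s : B) :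
    Set.range (awayι s) = (PrimeSpectrum.basicOpen s : Set (PrimeSpectrum B)) :=
  PrimeSpectrum.localization_away_comap_range (Localization.Away s) s

theorem opensRange_awayι {B : CommRingCat.{u}} (s : B) :
    (awayι s).opensRange = PrimeSpectrum.basicOpen s :=
  TopologicalSpace.Opens.ext (range_awayι s)

/-- finitely many elements control an immersion near a point -/
theorem exists_finset {R B : CommRingCat.{u}} (ρ : R ⟶ B) {U : Scheme.{u}} (h : U ⟶ Spec B) [IsImmersion h]
    [LocallyOfFiniteType (h ≫ Spec.map ρ)] (x : U) :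
    ∃ (s : B) (T : Finset B), h x ∈ PrimeSpectrum.basicOpen s ∧
      ∀ (B' : CommRingCat.{u}) (ψ : B' ⟶ B) (ρ' : R ⟶ B'), ρ' ≫ ψ = ρ → ∀ s' : B', ψ s' = s →
        (∀ t ∈ T, t ∈ Set.range ψ) → IsClosedImmersion (pullback.snd (h ≫ Spec.map ψ) (awayι s')) := by
  classical
  obtain ⟨_, ⟨s, rfl⟩, hxs, hsW⟩ := PrimeSpectrum.isTopologicalBasis_basic_opens.exists_subset_of_mem_open
    (show h x ∈ (h.coborderRange : Set (Spec B)) from subset_coborder ⟨x, rfl⟩) h.coborderRange.2
  let j := awayι s
  let q := pullback.snd h j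
  haveI : IsClosedImmersion q := by
    haveI : IsImmersion q := MorphismProperty.pullback_snd h j inferInstance
    refine IsClosedImmersion.of_isPreimmersion q ?_
    have hr : Set.range q = j ⁻¹' closure (Set.range h) := by
      rw [Scheme.Pullback.range_snd]
      refine Set.Subset.antisymm (Set.preimage_mono subset_closure) fun z hz => ?_
      have hW : j z ∈ coborder (Set.range h) := hsW (by
        have : j z ∈ Set.range (awayι s) := ⟨z, rfl⟩
        rwa [range_awayι] at this)
      show j z ∈ Set.range h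
      exact coborder_inter_closure.le ⟨hW, hz⟩
    rw [hr]
    exact isClosed_closure.preimage j.continuous
  haveI : IsAffine (pullback h j) := isAffine_of_isAffineHom q
  let A := Γ(pullback h j, ⊤)
  let Φ : CommRingCat.of (Localization.Away s) ⟶ A :=
    (Scheme.ΓSpecIso (CommRingCat.of (Localization.Away s))).inv ≫ q.appTop
  have hΦ : Function.Surjective Φ := by
    obtain ⟨-, hq⟩ := (HasAffineProperty.iff_of_isAffine (P := @IsClosedImmersion) (f := q)).1 inferInstance
    exact hq.comp (Scheme.ΓSpecIso _).symm.commRingCatIsoToRingEquiv.surjective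
  let loc : B ⟶ CommRingCat.of (Localization.Away s) := CommRingCat.ofHom (algebraMap B _)
  have hft : (ρ ≫ loc ≫ Φ).hom.FiniteType := by
    have h1 : ((pullback.fst h j ≫ h ≫ Spec.map ρ).appTop).hom.FiniteType :=
      HasRingHomProperty.appTop (P := @LocallyOfFiniteType) _ inferInstance
    have h2 : ρ ≫ loc ≫ Φ = (Scheme.ΓSpecIso R).inv ≫ (pullback.fst h j ≫ h ≫ Spec.map ρ).appTop := by
      rw [pullback.condition_assoc]
      simp only [Φ, q, j, loc, awayι, Scheme.Hom.comp_appTop, Category.assoc]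
      rw [Scheme.ΓSpecIso_inv_naturality_assoc, Scheme.ΓSpecIso_inv_naturality_assoc]
    rw [h2, CommRingCat.hom_comp]
    exact h1.comp (RingHom.FiniteType.of_surjective _ (Scheme.ΓSpecIso R).symm.commRingCatIsoToRingEquiv.surjective)
  letI : Algebra R A := (ρ ≫ loc ≫ Φ).hom.toAlgebra
  haveI : Algebra.FiniteType R A := hft
  obtain ⟨G, hG⟩ := (Algebra.FiniteType.out : (⊤ : Subalgebra R A).FG)
  choose w hw using fun a : A => hΦ a
  choose c hc using fun a : A => IsLocalization.Away.surj s (w a)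
  choose d hd using hc
  refine ⟨s, G.image d, hxs, fun B' ψ ρ' hρ s' hs' hT => ?_⟩
  let ψs : CommRingCat.of (Localization.Away s') ⟶ CommRingCat.of (Localization.Away s) :=
    CommRingCat.ofHom (IsLocalization.Away.lift s' (g := (algebraMap B (Localization.Away s)).comp ψ.hom)
      (by
        show IsUnit (algebraMap B (Localization.Away s) (ψ s'))
        rw [hs']
        exact IsLocalization.Away.algebraMap_isUnit s))
  have hsq : CommRingCat.ofHom (algebraMap B' (Localization.Away s')) ≫ ψs = ψ ≫ loc := by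
    ext b
    exact IsLocalization.Away.lift_eq s' (show IsUnit (algebraMap B (Localization.Away s) (ψ s')) by
      rw [hs']; exact IsLocalization.Away.algebraMap_isUnit s) b
  have hpb : IsPullback (Spec.map ψs) j (awayι s') (Spec.map ψ) := by
    refine IsOpenImmersion.isPullback _ _ _ _ ?_ ?_
    · simp only [j, awayι, ← Spec.map_comp]
      exact congrArg Spec.map hsq.symm
    · rw [opensRange_awayι, opensRange_awayι, ← hs']
      rfl
  have hpb2 : IsPullback (pullback.fst h j) (q ≫ Spec.map ψs) (h ≫ Spec.map ψ) (awayι s') :=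
    ((IsPullback.of_hasPullback h j).flip.paste_horiz hpb).flip
  rw [← hpb2.isoPullback_inv_snd]
  refine (MorphismProperty.cancel_left_of_respectsIso @IsClosedImmersion _ _).2 ?_
  refine IsClosedImmersion.of_surjective_of_isAffine _ ?_
  have hsurj : Function.Surjective (ψs ≫ Φ) := by
    intro a
    let Rg : Subring A := (ψs ≫ Φ).hom.range
    suffices a ∈ Rg from this
    have hR : ∀ r : R, algebraMap R A r ∈ Rg := fun r => by
      refine ⟨algebraMap B' (Localization.Away s') (ρ' r), ?_⟩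
      show Φ (ψs (algebraMap B' _ (ρ' r))) = Φ (loc (ρ r))
      refine congrArg _ ((congr(($hsq).hom (ρ' r))).trans ?_)
      exact congrArg (fun e : R ⟶ B => loc (e r)) hρ
    have hG' : ∀ g ∈ G, g ∈ Rg := fun g hg => by
      obtain ⟨d', hd'⟩ := hT (d g) (Finset.mem_image_of_mem d hg)
      let t : Localization.Away s' := IsLocalization.Away.invSelf s' ^ c g * algebraMap B' _ d'
      refine ⟨t, ?_⟩
      have hinv : loc s * ψs (IsLocalization.Away.invSelf s') = 1 := by
        have h0 := congrArg ψs.hom (IsLocalization.Away.mul_invSelf (S := Localization.Away s') s')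
        rw [map_mul, map_one] at h0
        refine Eq.trans ?_ h0
        refine congrArg (· * _) ?_
        exact (congrArg loc hs'.symm).trans (congr(($hsq).hom s')).symm
      show Φ (ψs t) = g
      have : ψs t = w g := by
        show ψs.hom t = w g
        simp only [t, map_mul, map_pow]
        have h1 : ψs.hom (algebraMap B' _ d') = w g * (loc s) ^ c g := by
          refine (congr(($hsq).hom d')).trans ?_
          show loc (ψ d') = _
          rw [hd']
          exact (hd g).symm
        rw [h1, mul_comm (w g), ← mul_assoc, ← mul_pow, mul_comm (ψs.hom _), hinv, one_pow, one_mul]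
      rw [this, hw]
    have hle : (⊤ : Subalgebra R A) ≤ ⟨⟨⟨⟨Rg, mul_mem⟩, one_mem _⟩, add_mem, zero_mem _⟩, hR⟩ := by
      rw [← hG]; exact Algebra.adjoin_le fun g hg => hG' g hg
    exact hle (Algebra.mem_top)
  have e : (Scheme.ΓSpecIso (CommRingCat.of (Localization.Away s'))).inv ≫ (q ≫ Spec.map ψs).appTop = ψs ≫ Φ := by
    simp only [Φ, Scheme.Hom.comp_appTop]
    rw [← Scheme.ΓSpecIso_inv_naturality_assoc]
  intro a
  obtain ⟨t, ht⟩ := hsurj a
  exact ⟨(Scheme.ΓSpecIso _).inv t, (congr(($e).hom t)).trans ht⟩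

variable {X Y : Scheme.{u}} (f : X ⟶ Y)

set_option maxHeartbeats 800000 in
theorem exists_subalgebra [CompactSpace Y] [QuasiSeparatedSpace Y] [LocallyOfFiniteType f] [QuasiCompact f]
    (C : RelSpec.QCAlg Y) (g : X ⟶ C.spec) (hg : g ≫ C.π = f) [IsImmersion g] :
    ∃ (C' : RelSpec.QCAlg Y) (φ : C' ⟶ C),
        (∀ U : Y.Opens, Function.Injective (φ.hom.app (op U))) ∧
        (∀ U : Y.affineOpens, (C'.str.app (op (U : Y.Opens))).hom.FiniteType) ∧
        IsImmersion (g ≫ RelSpec.QCAlg.specMap φ) := by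
  classical
  haveI : CompactSpace X := QuasiCompact.compactSpace_of_compactSpace f
  have key : ∀ x : X, ∃ (V : Y.Opens) (hV : IsAffineOpen V) (s : C.presheaf.obj (op V))
      (T : Finset (C.presheaf.obj (op V))), g x ∈ (C.ι V hV ''ᵁ PrimeSpectrum.basicOpen s) ∧
      ∀ (C' : RelSpec.QCAlg Y) (φ : C' ⟶ C) (s' : C'.presheaf.obj (op V)), φ.hom.app (op V) s' = s →
        (∀ t ∈ T, t ∈ Set.range (φ.hom.app (op V))) →
        IsClosedImmersion ((g ≫ RelSpec.QCAlg.specMap φ) ∣_ (awayι s' ≫ C'.ι V hV).opensRange) := by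
    intro x
    obtain ⟨V, hV, hxV, -⟩ := exists_isAffineOpen_mem_and_subset (x := f x) (U := ⊤) trivial
    let U : X.Opens := g ⁻¹ᵁ (C.ι V hV).opensRange
    have hU : ∀ y, y ∈ U ↔ f y ∈ V := fun y => by
      show g y ∈ (C.ι V hV).opensRange ↔ _
      rw [← C.π_preimage V hV, ← hg]
      rfl
    let h : U.toScheme ⟶ Spec (C.presheaf.obj (op V)) := IsOpenImmersion.lift (C.ι V hV) (U.ι ≫ g)
      (by rintro _ ⟨y, rfl⟩; exact y.2)
    have hh : h ≫ C.ι V hV = U.ι ≫ g := IsOpenImmersion.lift_fac _ _ _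
    haveI : IsImmersion h := by
      haveI : IsImmersion (h ≫ C.ι V hV) := by rw [hh]; infer_instance
      exact IsImmersion.of_comp h (C.ι V hV)
    let ρ := C.str.app (op V)
    haveI : LocallyOfFiniteType (h ≫ Spec.map ρ) := by
      haveI : LocallyOfFiniteType ((h ≫ Spec.map ρ) ≫ hV.fromSpec) := by
        rw [Category.assoc, ← C.ι_π V hV, reassoc_of% hh, hg]
        infer_instance
      exact locallyOfFiniteType_of_comp _ hV.fromSpec
    obtain ⟨s, T, hxs, hT⟩ := exists_finset ρ h ⟨x, (hU x).2 hxV⟩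
    refine ⟨V, hV, s, T, ⟨h ⟨x, (hU x).2 hxV⟩, hxs, congr(($hh) ⟨x, _⟩)⟩, fun C' φ s' hs' hT' => ?_⟩
    let ψ := φ.hom.app (op V)
    have hcl := hT (C'.presheaf.obj (op V)) ψ (C'.str.app (op V))
      (by rw [← NatTrans.comp_app, φ.comm]) s' hs' hT'
    let g' := g ≫ RelSpec.QCAlg.specMap φ
    have sq : IsPullback (h ≫ Spec.map ψ) U.ι (C'.ι V hV) g' := by
      refine IsOpenImmersion.isPullback _ _ _ _ ?_ ?_
      · rw [Category.assoc, ← RelSpec.QCAlg.ι_specMap V hV φ, reassoc_of% hh]
      · rw [← C'.π_preimage V hV, Scheme.Opens.opensRange_ι]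
        ext y
        show (g' ≫ C'.π) y ∈ V ↔ y ∈ U
        rw [Category.assoc, RelSpec.QCAlg.specMap_π, hg]
        exact (hU y).symm
    have sq2 := (IsPullback.of_hasPullback (h ≫ Spec.map ψ) (awayι s')).paste_horiz sq.flip
    refine ((MorphismProperty.arrow_mk_iso_iff @IsClosedImmersion
      (morphismRestrictOpensRange g' (awayι s' ≫ C'.ι V hV))).2 ?_)
    have sq3 : IsPullback (pullback.fst (h ≫ Spec.map ψ) (awayι s') ≫ U.ι) (pullback.snd (h ≫ Spec.map ψ) (awayι s'))
        g' (awayι s' ≫ C'.ι V hV) := (IsPullback.of_hasPullback (h ≫ Spec.map ψ) (awayι s')).paste_horiz sq.flip |>.flip.flip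
    rw [← sq3.isoPullback_inv_snd]
    exact (MorphismProperty.cancel_left_of_respectsIso @IsClosedImmersion _ _).2 hcl
  choose V hV s T hs hT using key
  obtain ⟨t, ht⟩ := isCompact_univ.elim_finite_subcover
    (fun x => ((g ⁻¹ᵁ (C.ι (V x) (hV x) ''ᵁ PrimeSpectrum.basicOpen (s x))) : Set X))
    (fun x => (g ⁻¹ᵁ _).2) (fun x _ => Set.mem_iUnion.2 ⟨x, hs x⟩)
  haveI := Groth.L00.QCAlgModule.isQCoh_toModule C
  obtain ⟨E, j, -, hE, hEs⟩ := Groth.L17.Approx.exists_submodule_finset C.toModule V (fun x => (hV x).isCompact)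
    (fun x => ↥(insert (s x) (T x))) (fun x q => (show Γ(C.toModule, V x) from (q : C.presheaf.obj (op (V x))))) t
  haveI : Coh.IsQCoh E := hE.1
  let C' := Groth.L00.SubAlg.alg C j
  let φ := Groth.L00.SubAlg.incl C j
  refine ⟨C', φ, Groth.L00.SubAlg.incl_injective C j, fun U => Groth.L00.SubAlg.finiteType C j hE.2 U.2, ?_⟩
  have hmem : ∀ x ∈ t, ∀ a ∈ insert (s x) (T x), a ∈ Set.range (φ.hom.app (op (V x))) := fun x hx a ha => by
    obtain ⟨e, he⟩ := hEs x hx ⟨a, ha⟩
    exact (show _ = a from he) ▸ Groth.L00.SubAlg.mem_range_incl C j (hV x) e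
  choose s' hs' using fun x : t => hmem x.1 x.2 (s x.1) (Finset.mem_insert_self _ _)
  let g' := g ≫ RelSpec.QCAlg.specMap φ
  let D : t → C'.spec.Opens := fun x => (awayι (s' x) ≫ C'.ι (V x.1) (hV x.1)).opensRange
  let W : C'.spec.Opens := ⨆ x, D x
  have hr : Set.range g' ⊆ Set.range W.ι := by
    rintro _ ⟨y, rfl⟩
    rw [Scheme.Opens.range_ι]
    obtain ⟨x, hx, hy⟩ := Set.mem_iUnion₂.1 (ht (Set.mem_univ y))
    refine TopologicalSpace.Opens.mem_iSup.2 ⟨⟨x, hx⟩, ?_⟩
    obtain ⟨z, hz, hzy⟩ := hy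
    have h1 : Spec.map (φ.hom.app (op (V x))) z ∈ Set.range (awayι (s' ⟨x, hx⟩)) := by
      rw [range_awayι]
      show φ.hom.app (op (V x)) (s' ⟨x, hx⟩) ∉ z.asIdeal
      rw [hs' ⟨x, hx⟩]
      exact hz
    obtain ⟨w, hw⟩ := h1
    refine ⟨w, ?_⟩
    show C'.ι (V x) (hV x) (awayι _ w) = RelSpec.QCAlg.specMap φ (g y)
    rw [hw, ← hzy]
    exact (congr(($(RelSpec.QCAlg.ι_specMap (V x) (hV x) φ)) z)).symm
  haveI : IsClosedImmersion (g' ∣_ W) := by
    refine IsZariskiLocalAtTarget.of_iSup_eq_top (P := @IsClosedImmersion) (fun x => W.ι ⁻¹ᵁ D x) ?_ fun x => ?_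
    · rw [← Scheme.Hom.preimage_iSup]; exact W.ι_preimage_self
    · refine (MorphismProperty.arrow_mk_iso_iff @IsClosedImmersion (morphismRestrictRestrict g' W _)).2 ?_
      have e : W.ι ''ᵁ W.ι ⁻¹ᵁ D x = D x := by
        rw [Scheme.Hom.image_preimage_eq_opensRange_inf, Scheme.Opens.opensRange_ι]
        exact inf_eq_right.2 (le_iSup D x)
      rw [e]
      exact hT x.1 C' φ (s' x) (hs' x) fun a ha => hmem x.1 x.2 a (Finset.mem_insert_of_mem ha)
  have hpre : g' ⁻¹ᵁ W = ⊤ := top_le_iff.1 fun y _ => by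
    have := hr ⟨y, rfl⟩
    rwa [Scheme.Opens.range_ι] at this
  haveI : IsIso (g' ⁻¹ᵁ W).ι := by rw [hpre]; exact (Scheme.topIso X).isIso_hom
  have hfac : g' = inv (g' ⁻¹ᵁ W).ι ≫ (g' ∣_ W) ≫ W.ι := by
    rw [IsIso.eq_inv_comp, morphismRestrict_ι]
  show IsImmersion g'
  rw [hfac]
  infer_instance

theorem isImmersion_of_specMap {C C' : RelSpec.QCAlg Y} (φ : C' ⟶ C) (g : X ⟶ C.spec)
    [IsImmersion (g ≫ RelSpec.QCAlg.specMap φ)] : IsImmersion g :=
  IsImmersion.of_comp g (RelSpec.QCAlg.specMap φ)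

end Groth.Lead.SubAlgImm
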