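import Groth.Agent.Lead.ThickPC
import Groth.Agent.Lead.RelFinTor
import Groth.Agent.L17.ThickBasic
import Groth.Agent.L20.ThickeningProps

/-!
# Relative tor amplitude from a thickening of the base
-/

set_option autoImplicit false
set_option linter.style.haveILetI false
set_option backward.isDefEq.respectTransparency false
set_option backward.isDefEq.respectTransparency.types false
set_option backward.defeqAttrib.useBackward true

universe u

open CategoryTheory CategoryTheory.Limits AlgebraicGeometry HomologicalComplex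

attribute [local instance] HasDerivedCategory.standard

noncomputable section

namespace Groth.Lead.ThickAmp

open Groth.Lead.SmoothStalk Groth.Lead.ThickPC Groth.Lead.FibreBounded Groth.L02.PC

variable {X X' Y Y' : Scheme.{u}}

theorem ker_congr_stalkMap {j : Y ⟶ Y'} [IsClosedImmersion j] (y : Y) {q : Y'} (e : q = j y) :
    RingHom.ker ((Y'.presheaf.stalkCongr (.of_eq e)).hom ≫ j.stalkMap y).hom = Groth.L20.SeeNormal.sI j.ker q := by
  subst e
  rw [show (Y'.presheaf.stalkCongr (.of_eq (rfl : j y = j y))).hom = 𝟙 _ from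
    TopCat.Presheaf.stalkSpecializes_refl _ _, Category.id_comp]
  exact Groth.L20.Infinitesimal.ker_stalkMap j y

theorem surj_nil_congr_stalkMap {j : Y ⟶ Y'} (hj : Thick j) (y : Y) {q : Y'} (e : q = j y) :
    Function.Surjective ((Y'.presheaf.stalkCongr (.of_eq e)).hom ≫ j.stalkMap y).hom ∧
      IsNilpotent (RingHom.ker ((Y'.presheaf.stalkCongr (.of_eq e)).hom ≫ j.stalkMap y).hom) := by
  subst e
  haveI := hj.1
  rw [show (Y'.presheaf.stalkCongr (.of_eq (rfl : j y = j y))).hom = 𝟙 _ from
    TopCat.Presheaf.stalkSpecializes_refl _ _, Category.id_comp]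
  exact ⟨j.stalkMap_surjective y, hj.2.2 y⟩

/-- amplitude at a point from the amplitude of the derived restriction to the thickened fibre product -/
theorem ampAt_of_thick (f : X ⟶ Y) (f' : X' ⟶ Y') (i : X ⟶ X') (j : Y ⟶ Y') (sq : IsPullback i f f' j)
    [Flat f'] (hj : Thick j) [DCoh.HasLpull i] (G : CochainComplex X'.Modules ℤ)
    (F : CochainComplex X.Modules ℤ) (eF : DCoh.toD X F ≅ (DCoh.Lpull i).obj (DCoh.toD X' G)) (x : X) (a b : ℤ)
    (h : DerSch.HasTorAmplitudeAt f a b F x) : DerSch.HasTorAmplitudeAt f' a b G (i x) := by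
  haveI := hj.1
  haveI : IsClosedImmersion i := MorphismProperty.of_isPullback sq.flip hj.1
  obtain ⟨P, r, hP, -, hr, -⟩ := Groth.L00.KFlat.exists_resolution G
  haveI : IsIso (DerivedCategory.Q.map r) := (DerivedCategory.isIso_Q_map_iff_quasiIso _ _).2 hr
  let eP : DCoh.toD X' P ≅ DCoh.toD X' G := asIso (DerivedCategory.Q.map r)
  let PX := ((Scheme.Modules.pullback i).mapHomologicalComplex (ComplexShape.up ℤ)).obj P
  let eX : DCoh.toD X F ≅ DCoh.toD X PX := eF ≪≫ (DCoh.Lpull i).mapIso eP.symm ≪≫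
    Groth.L00.DerivedApi.objIso (Groth.L00.DerivedApi.acyclicKFlat_pullback i) P hP
  have h1 := Groth.Lead.RelFinTor.amp_congr f eX x a b h
  let A' := X'.presheaf.stalk (i x)
  let A := X.presheaf.stalk x
  let T' := Y'.presheaf.stalk (f' (i x))
  let T := Y.presheaf.stalk (f x)
  have hpt : f' (i x) = j (f x) := congrArg (fun k : X ⟶ Y' => k x) sq.w
  let ψc := (Y'.presheaf.stalkCongr (.of_eq hpt)).hom ≫ j.stalkMap (f x)
  let ψ : T' →+* T := ψc.hom
  obtain ⟨hψ, hnil⟩ := surj_nil_congr_stalkMap hj (f x) hpt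
  have hcomm : f'.stalkMap (i x) ≫ i.stalkMap x = ψc ≫ f.stalkMap x := by
    have := Scheme.Hom.stalkMap_congr_hom _ _ sq.w x
    rw [Scheme.Hom.stalkMap_comp, Scheme.Hom.stalkMap_comp] at this
    exact this.trans (Category.assoc _ _ _).symm
  have hker : RingHom.ker (i.stalkMap x).hom = (RingHom.ker ψ).map (f'.stalkMap (i x)).hom := by
    rw [Groth.L20.Infinitesimal.ker_stalkMap, Groth.L17.Thick.ker_of_isPullback sq,
      Groth.L20.SeeNormal.sI_comap]
    exact congrArg (Ideal.map _) (ker_congr_stalkMap (f x) hpt).symm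
  letI : Algebra T' T := ψ.toAlgebra
  letI : Algebra T' A' := (f'.stalkMap (i x)).hom.toAlgebra
  letI : Algebra A' A := (i.stalkMap x).hom.toAlgebra
  letI : Algebra T A := (f.stalkMap x).hom.toAlgebra
  letI : Algebra T' A := ((f.stalkMap x).hom.comp ψ).toAlgebra
  haveI : IsScalarTower T' T A := IsScalarTower.of_algebraMap_eq fun _ => rfl
  haveI : IsScalarTower T' A' A := IsScalarTower.of_algebraMap_eq fun t =>
    (congrArg (fun k => k.hom t) hcomm).symm
  haveI : Algebra.IsPushout T' A' T' A' := ⟨IsBaseChange.linearMap T' A'⟩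
  haveI : Algebra.IsPushout T' A' T A :=
    Groth.L20.FibreCrit.isPushout_of_surjective (P₀ := T') (P := A') hψ (i.stalkMap_surjective x) hker.le
  haveI : Algebra.IsPushout T' T A' A := .symm inferInstance
  let PT := (DerSch.stalkCxOver f' (i x)).obj P
  have hPT : DRing.IsKFlat T' PT :=
    isKFlat_restrict_of_flat (f'.stalkMap (i x)).hom (Flat.stalkMap f' (i x)) (stk (i x) P) (isKFlat_stk hP (i x))
  haveI := Groth.L10.KFlatLBC.hasLBaseChange ψ
  have h2 : DRing.HasTorAmplitudeIn T a b ((DRing.LBaseChange ψ).obj (DRing.toD PT)) := by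
    refine Groth.L10.DR.amp_of_iso ((Groth.L10.KFlatLBC.lbcKF ψ PT hPT).symm) ?_
    refine Groth.L10.DR.amp_of_iso (DerivedCategory.Q.mapIso
      (((ModuleCat.restrictScalars.{u} (f.stalkMap x).hom).mapHomologicalComplex (ComplexShape.up ℤ)).mapIso
          (Groth.L00.KFlat.pullCxIso i P x) ≪≫
        ((NatIso.mapHomologicalComplex (Groth.L10.RelPC.extResNat T' T A' A)
          (ComplexShape.up ℤ)).app (stk (i x) P)).symm)) h1
  have h3 := Groth.L10.NilpotentThick.amp_of_lBaseChange hψ hnil (DRing.toD PT) a b h2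
  exact Groth.Lead.RelFinTor.amp_congr f' eP (i x) a b h3

end Groth.Lead.ThickAmp
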