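import Groth.Agent.Lead.FibreBounded
import Groth.Agent.L10.DRing.Nilpotent
import Groth.Agent.L20.ThickeningFlat
import Groth.Agent.L20.Infinitesimal.Flat
import Groth.Agent.L29.DCoh.PCDescent
import Groth.Prelude.Def_MoreMor

/-!
# Pseudo-coherence from a finite order thickening

The proof of descent of pseudo-coherence along flat quotient maps works for thickenings: cohomology
above a degree vanishes, and the top cohomology is finite, as soon as this holds after derived pullback.
-/

set_option autoImplicit false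
set_option linter.style.haveILetI false
set_option backward.isDefEq.respectTransparency false
set_option backward.isDefEq.respectTransparency.types false
set_option backward.defeqAttrib.useBackward true

universe u

open CategoryTheory CategoryTheory.Limits CategoryTheory.Pretriangulated AlgebraicGeometry HomologicalComplex

attribute [local instance] HasDerivedCategory.standard

noncomputable section

namespace Groth.Lead.ThickPC

open Groth.L29.DC Groth.L29.DC.PCStalk Groth.L29.DC.PCDesc Groth.Lead.SmoothStalk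

section Ring

open Groth.L02.PC Groth.L10.DR Groth.L10.KFlatLBC Groth.L10.NilpotentThick

variable {A B : Type u} [CommRing A] [CommRing B] {φ : A →+* B} (hφ : Function.Surjective φ)
  (hnil : IsNilpotent (RingHom.ker φ))

theorem exists_bounded_model {P : DRing.Cx A} (hP : DRing.IsKFlat A P) {n : ℤ}
    (h : ∀ i, n < i → IsZero (P.homology i)) :
    ∃ Q : DRing.Cx A, DRing.VanishesAbove Q n ∧ Nonempty (DRing.toD Q ≅ DRing.toD P) ∧
      Nonempty (DRing.toD ((bcCx φ).obj Q) ≅ DRing.toD ((bcCx φ).obj P)) := by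
  obtain ⟨Q, hQb, hQf, -, ⟨e⟩⟩ := exists_free_rep (K := DRing.toD P) (n := n)
    fun i hi => (isZero_HH_Q_iff _ i).2 (h i hi)
  haveI := Groth.L10.KFlatLBC.hasLBaseChange φ
  exact ⟨Q, hQb, ⟨e⟩, ⟨(lbcKF φ Q (Groth.L10.KFlat.of_bounded Q n hQb (flat_of_free hQf))).symm ≪≫
    (DRing.LBaseChange φ).mapIso e ≪≫ lbcKF φ P hP⟩⟩

include hφ hnil in
theorem zero_above_ring {P : DRing.Cx A} (hP : DRing.IsKFlat A P) (n : ℤ) :
    (∀ i, n < i → IsZero (P.homology i)) ↔ ∀ i, n < i → IsZero (((bcCx φ).obj P).homology i) := by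
  constructor
  · intro h i hi
    obtain ⟨Q, hQb, -, ⟨e⟩⟩ := exists_bounded_model (φ := φ) hP h
    exact (isZero_HH_Q_iff _ i).1 ((HH_iso_zero e i).2 ((HomologicalComplex.exactAt_iff_isZero_homology _ i).1
      (HomologicalComplex.ExactAt.of_isZero ((ModuleCat.extendScalars.{u, u, u} φ).map_isZero (hQb i hi)))))
  · intro h i hi
    haveI := Groth.L10.KFlatLBC.hasLBaseChange φ
    exact (isZero_HH_Q_iff _ i).1 (leh_of_family (fun _ : PUnit.{1} => φ) (fun _ => hφ) (exists_prod hφ hnil)
      (DRing.toD P) n (fun _ j hj => (HH_iso_zero (lbcKF φ P hP).symm j).2 (h j hj)) i hi)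

include hφ hnil in
theorem finite_ring {P : DRing.Cx A} (hP : DRing.IsKFlat A P) {n : ℤ}
    (h : ∀ i, n < i → IsZero (P.homology i)) (hfin : Module.Finite B (((bcCx φ).obj P).homology n)) :
    Module.Finite A (P.homology n) := by
  obtain ⟨P₀, hP₀b, ⟨eA⟩, ⟨eB⟩⟩ := exists_bounded_model (φ := φ) hP h
  let M := ModuleCat.of A (P₀.X n ⧸ LinearMap.range (P₀.d (n - 1) n).hom)
  obtain ⟨e0⟩ := top_homology P₀ n hP₀b
  obtain ⟨e1⟩ := top_homology ((bcCx φ).obj P₀) n
    (fun i hi => (ModuleCat.extendScalars.{u, u, u} φ).map_isZero (hP₀b i hi))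
  haveI : Module.Finite B ((HomologicalComplex.homologyFunctor (ModuleCat.{u} B) (ComplexShape.up ℤ) n).obj
      ((bcCx φ).obj P)) := hfin
  haveI : Module.Finite B
      ((((bcCx φ).obj P₀)).X n ⧸ LinearMap.range (((bcCx φ).obj P₀).d (n - 1) n).hom) :=
    Module.Finite.equiv ((((DerivedCategory.homologyFunctorFactors _ n).app _).symm ≪≫ (HH n).mapIso eB.symm ≪≫
      (DerivedCategory.homologyFunctorFactors _ n).app _).toLinearEquiv.trans e1)
  let q := (((bcCx φ).obj P₀).d (n - 1) n).hom
  let p := ((ModuleCat.extendScalars.{u, u, u} φ).map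
    (ModuleCat.ofHom (LinearMap.range (P₀.d (n - 1) n).hom).mkQ : P₀.X n ⟶ M)).hom
  have hle : LinearMap.range q ≤ LinearMap.ker p := by
    rintro _ ⟨x, rfl⟩
    have h0 : P₀.d (n - 1) n ≫ (ModuleCat.ofHom (LinearMap.range (P₀.d (n - 1) n).hom).mkQ : P₀.X n ⟶ M) = 0 :=
      ModuleCat.hom_ext (LinearMap.ext fun y => (Submodule.Quotient.mk_eq_zero _).2 ⟨y, rfl⟩)
    have h1 := congrArg (fun t => (ModuleCat.extendScalars.{u, u, u} φ).map t) h0
    simp only [Functor.map_comp, Functor.map_zero] at h1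
    exact LinearMap.congr_fun (congrArg ModuleCat.Hom.hom h1) x
  haveI : Module.Finite B ((ModuleCat.extendScalars.{u, u, u} φ).obj M) := by
    refine Module.Finite.of_surjective (Submodule.liftQ _ p hle) ?_
    intro z
    letI : Algebra A B := φ.toAlgebra
    obtain ⟨w, hw⟩ := LinearMap.lTensor_surjective _ (Submodule.mkQ_surjective
      (LinearMap.range (P₀.d (n - 1) n).hom)) z
    exact ⟨Submodule.Quotient.mk w, hw⟩
  haveI := finite_of_family (fun _ : PUnit.{1} => φ) (fun _ => hφ) (exists_prod hφ hnil) M fun _ => inferInstance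
  exact Module.Finite.equiv (e0.symm.trans (((DerivedCategory.homologyFunctorFactors _ n).app P₀).symm ≪≫
    (HH n).mapIso eA ≪≫ (DerivedCategory.homologyFunctorFactors _ n).app P).toLinearEquiv)

end Ring

variable {X Y : Scheme.{u}}

/-- a closed immersion, surjective, with nilpotent kernels on local rings -/
def Thick (f : X ⟶ Y) : Prop :=
  IsClosedImmersion f ∧ Surjective f ∧ ∀ x : X, IsNilpotent (RingHom.ker (f.stalkMap x).hom)

theorem Thick.isQuotientMap {f : X ⟶ Y} (h : Thick f) : Topology.IsQuotientMap f :=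
  haveI := h.1
  f.isClosedEmbedding.isClosedMap.isQuotientMap f.continuous h.2.1.surj

theorem thick_of_finiteOrder {f : X ⟶ Y} (h : MoreMor.IsFiniteOrderThickening f) : Thick f := by
  haveI : IsClosedImmersion f := h.1.1
  refine ⟨h.1.1, h.1.2, fun x => ?_⟩
  rw [Groth.L20.Infinitesimal.ker_stalkMap]
  obtain ⟨U, hU, hxU, -⟩ := exists_isAffineOpen_mem_and_subset (x := f x) (U := (⊤ : Y.Opens)) trivial
  rw [Groth.L20.SeeNormal.sI_eq _ ⟨U, hU⟩ hxU]
  obtain ⟨c, hc⟩ := Groth.L20.Thick.isNilpotent_ker_ideal f h.2 ⟨U, hU⟩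
  exact ⟨c, by rw [← Ideal.map_pow, hc, Ideal.zero_eq_bot, Ideal.map_bot]; rfl⟩

theorem thick_restrict (f : X ⟶ Y) (h : Thick f) (W : Y.Opens) : Thick (f ∣_ W) := by
  haveI := h.1
  refine ⟨inferInstance, ⟨fun y => ?_⟩, fun x => ?_⟩
  · obtain ⟨z, hz⟩ := h.2.1.surj y.1
    refine ⟨⟨z, show f z ∈ W from hz ▸ y.2⟩, Subtype.ext ?_⟩
    exact (morphismRestrict_base_coe f W _).trans hz
  · let e := morphismRestrictStalkMap f W x
    let eL := (Arrow.leftFunc.mapIso e).commRingCatIsoToRingEquiv
    obtain ⟨c, hc⟩ := h.2.2 x.1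
    have hle : RingHom.ker ((f ∣_ W).stalkMap x).hom ≤
        (RingHom.ker (f.stalkMap x.1).hom).map eL.symm.toRingHom := fun a ha => by
      have hw : (f.stalkMap x.1).hom (eL a) = e.hom.right.hom (((f ∣_ W).stalkMap x).hom a) :=
        congrArg (fun k => k.hom a) e.hom.w
      rw [show ((f ∣_ W).stalkMap x).hom a = 0 from ha, map_zero] at hw
      rw [← eL.symm_apply_apply a]
      exact Ideal.mem_map_of_mem _ hw
    refine ⟨c, le_bot_iff.1 ((Ideal.pow_right_mono hle c).trans ?_)⟩
    rw [← Ideal.map_pow, hc, Ideal.zero_eq_bot, Ideal.map_bot]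

/-- stalks of the cohomology of an object and of its derived pullback -/
theorem exists_stalk_model (f : X ⟶ Y) [DCoh.HasLpull f] (L : DCoh.D Y) (x : X) :
    ∃ P : DRing.Cx (Y.presheaf.stalk (f x)), DRing.IsKFlat _ P ∧ ∀ i,
      Nonempty (stk L i (f x) ≅ P.homology i) ∧
      Nonempty (PCStalk.stk ((DCoh.Lpull f).obj L) i x ≅
        (((Groth.L02.PC.bcCx (f.stalkMap x).hom).obj P).homology i)) := by
  let F := DerivedCategory.Q.objPreimage L
  obtain ⟨P, r, hP, -, hr, -⟩ := Groth.L00.KFlat.exists_resolution F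
  haveI : IsIso (DerivedCategory.Q.map r) := (DerivedCategory.isIso_Q_map_iff_quasiIso _ _).2 hr
  let e : DCoh.toD Y P ≅ L := asIso (DerivedCategory.Q.map r) ≪≫ DerivedCategory.Q.objObjPreimageIso L
  let PX := ((Scheme.Modules.pullback f).mapHomologicalComplex (ComplexShape.up ℤ)).obj P
  let eX : (DCoh.Lpull f).obj L ≅ DCoh.toD X PX := (DCoh.Lpull f).mapIso e.symm ≪≫
    Groth.L00.DerivedApi.objIso (Groth.L00.DerivedApi.acyclicKFlat_pullback f) P hP
  refine ⟨Groth.Lead.SmoothStalk.stk (f x) P, Groth.Lead.FibreBounded.isKFlat_stk hP (f x), fun i => ⟨⟨?_⟩, ⟨?_⟩⟩⟩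
  · exact (Groth.L00.Stk.F Y (f x)).mapIso ((DerivedCategory.homologyFunctor Y.Modules i).mapIso e.symm) ≪≫
      PerfDesc.stkQIso P i (f x)
  · exact (Groth.L00.Stk.F X x).mapIso ((DerivedCategory.homologyFunctor X.Modules i).mapIso eX) ≪≫
      PerfDesc.stkQIso PX i x ≪≫ (HomologicalComplex.homologyFunctor _ _ i).mapIso (Groth.L00.KFlat.pullCxIso f P x)

theorem zero_above_iff {f : X ⟶ Y} (h : Thick f) [DCoh.HasLpull f] (L : DCoh.D Y) (n : ℤ) (x : X) :
    (∀ i, n ≤ i → IsZero (PCStalk.stk L i (f x))) ↔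
      ∀ i, n ≤ i → IsZero (PCStalk.stk ((DCoh.Lpull f).obj L) i x) := by
  haveI := h.1
  obtain ⟨P, hP, hi⟩ := exists_stalk_model f L x
  have key := zero_above_ring (f.stalkMap_surjective x) (h.2.2 x) hP (n - 1)
  constructor
  · intro hL i hin
    exact (key.1 (fun j hj => ((hi j).1.some.isZero_iff).1 (hL j (by omega))) i (by omega)).of_iso (hi i).2.some
  · intro hX i hin
    exact (key.2 (fun j hj => ((hi j).2.some.isZero_iff).1 (hX j (by omega))) i (by omega)).of_iso (hi i).1.some

theorem finite_of_pull' {f : X ⟶ Y} (h : Thick f) [DCoh.HasLpull f] (L : DCoh.D Y) (n : ℤ) (x : X)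
    (hz : ∀ i, n < i → IsZero (PCStalk.stk L i (f x)))
    (hfin : Module.Finite (X.presheaf.stalk x) (PCStalk.stk ((DCoh.Lpull f).obj L) n x)) :
    Module.Finite (Y.presheaf.stalk (f x)) (PCStalk.stk L n (f x)) := by
  haveI := h.1
  obtain ⟨P, hP, hi⟩ := exists_stalk_model f L x
  haveI := hfin
  haveI := finite_ring (f.stalkMap_surjective x) (h.2.2 x) hP (n := n)
    (fun i hin => ((hi i).1.some.isZero_iff).1 (hz i hin)) (Module.Finite.equiv (hi n).2.some.toLinearEquiv)
  exact Module.Finite.equiv (hi n).1.some.symm.toLinearEquiv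

set_option maxHeartbeats 1000000 in
theorem pc_descends_aux (m : ℤ) : ∀ (k : ℕ) {X Y : Scheme.{u}} (f : X ⟶ Y)
    (_ : Thick f) [DCoh.HasLpull f] (L : DCoh.D Y),
    DCoh.IsPseudoCoherentD m ((DCoh.Lpull f).obj L) →
    (∀ i, m - 1 + k < i → IsZero (DCoh.HD L i)) → DCoh.IsPseudoCoherentD m L := by
  intro k
  induction k with
  | zero =>
    intro X Y f _ _ L _ hz
    exact pc_of_isZero fun i hi => hz i (by simp only [Nat.cast_zero, add_zero]; omega)
  | succ k ih =>
    intro X Y f hq _ L hL hz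
    let n : ℤ := m + k
    have hn : m - 1 + ((k + 1 : ℕ) : ℤ) = n := by simp only [n]; omega
    refine pc_of_local fun y => ?_
    obtain ⟨x, rfl⟩ := hq.2.1.surj y
    have hzX : ∀ i, n < i → IsZero (DCoh.HD ((DCoh.Lpull f).obj L) i) := fun i hi =>
      (isZero_HD_iff_stk _ _).2 fun x' => (zero_above_iff hq L (n + 1) x').1
        (fun j hj => (isZero_HD_iff_stk _ _).1 (hz j (by omega)) _) i (by omega)
    have hfin := finite_of_pull' hq L n x (fun j hj => (isZero_HD_iff_stk _ _).1 (hz j (by omega)) _)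
      (finite_stk_top (m := m) (by omega) hL hzX x)
    haveI : L.IsLE n := (L.isLE_iff n).2 fun i hi => hz i (by omega)
    obtain ⟨G, hG, ⟨e⟩⟩ := DerivedCategory.exists_iso_Q_obj_of_isLE L n
    have hGz : ∀ i, n < i → IsZero (G.X i) := fun i hi => CochainComplex.isZero_of_isStrictlyLE G n i hi
    have hd : G.d n (n + 1) = 0 := (hGz (n + 1) (by omega)).eq_of_tgt _ _
    haveI : IsIso (G.iCycles n) := G.isIso_iCycles n (n + 1) (by simp) hd
    let π : G.X n ⟶ G.homology n := inv (G.iCycles n) ≫ G.homologyπ n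
    haveI : Epi π := epi_comp _ _
    have hfin' : Module.Finite (Y.presheaf.stalk (f x)) ((Groth.L00.Stk.F Y (f x)).obj (G.homology n)) :=
      haveI := hfin
      Module.Finite.equiv ((Groth.L00.Stk.F Y (f x)).mapIso
        ((DerivedCategory.homologyFunctor Y.Modules n).mapIso e ≪≫
          (DerivedCategory.homologyFunctorFactors Y.Modules n).app G)).toLinearEquiv
    obtain ⟨Φ, W, φ, hyW, hΦ, hepi⟩ := exists_gen π (f x) hfin'
    let E : CochainComplex Y.Modules ℤ := (HomologicalComplex.single _ (ComplexShape.up ℤ) n).obj Φ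
    let a : E ⟶ G := HomologicalComplex.mkHomFromSingle φ (fun j hj => by
      obtain rfl : n + 1 = j := hj
      rw [hd, comp_zero])
    let T := DerivedCategory.Q.mapTriangle.obj (CochainComplex.mappingCone.triangle a)
    have hT : T ∈ distTriang _ := (DerivedCategory.mem_distTriang_iff _).mpr ⟨_, _, a, ⟨Iso.refl _⟩⟩
    let H : ℤ → DCoh.D Y ⥤ Y.Modules := fun i => DerivedCategory.homologyFunctor Y.Modules i
    have hEz : ∀ i, i ≠ n → IsZero (E.X i) := fun i hi =>
      HomologicalComplex.isZero_single_obj_X _ _ _ _ hi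
    have hE1 : IsZero ((H (n + 1)).obj T.obj₁) :=
      (ShortComplex.isZero_homology_of_isZero_X₂ _ (hEz (n + 1) (by omega))).of_iso
        ((DerivedCategory.homologyFunctorFactors Y.Modules (n + 1)).app E)
    have hz3 : ∀ i, n < i → IsZero ((H i).obj T.obj₃) := fun i hi => by
      refine (ShortComplex.isZero_homology_of_isZero_X₂ _ ?_).of_iso
        ((DerivedCategory.homologyFunctorFactors Y.Modules i).app (CochainComplex.mappingCone a))
      exact (CochainComplex.mappingCone.isZero_X_iff a i).2 ⟨hEz _ (by omega), hGz i hi⟩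
    have hy : IsZero (stk T.obj₃ n (f x)) := by
      haveI : Epi ((H n).map T.mor₂) :=
        (DerivedCategory.HomologySequence.epi_homologyMap_mor₂_iff T hT n (n + 1) rfl).2
          ((DerivedCategory.HomologySequence.mono_homologyMap_mor₁_iff T hT n (n + 1) rfl).1
            ⟨fun g h _ => hE1.eq_of_tgt g h⟩)
      haveI : Epi ((Groth.L00.Stk.F Y (f x)).map ((H n).map T.mor₁)) := by
        have key : (HomologicalComplex.singleObjHomologySelfIso (ComplexShape.up ℤ) n Φ).inv ≫
            HomologicalComplex.homologyMap a n = φ ≫ π := by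
          rw [← HomologicalComplex.singleObjCyclesSelfIso_inv_homologyπ, Category.assoc,
            HomologicalComplex.homologyπ_naturality, ← Category.assoc, ← Category.assoc φ]
          refine congrArg (fun t => t ≫ G.homologyπ n) ?_
          rw [IsIso.eq_comp_inv, Category.assoc, HomologicalComplex.cyclesMap_i,
            HomologicalComplex.singleObjCyclesSelfIso_inv_iCycles_assoc,
            HomologicalComplex.mkHomFromSingle_f, Iso.inv_hom_id_assoc]
        have h1 : Epi ((Groth.L00.Stk.F Y (f x)).map (HomologicalComplex.homologyMap a n)) := by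
          haveI : Epi ((Groth.L00.Stk.F Y (f x)).map
              (HomologicalComplex.singleObjHomologySelfIso (ComplexShape.up ℤ) n Φ).inv ≫
              (Groth.L00.Stk.F Y (f x)).map (HomologicalComplex.homologyMap a n)) := by
            rw [← Functor.map_comp, key]; exact hepi
          exact epi_of_epi ((Groth.L00.Stk.F Y (f x)).map
              (HomologicalComplex.singleObjHomologySelfIso (ComplexShape.up ℤ) n Φ).inv) _
        exact ((MorphismProperty.epimorphisms _).arrow_mk_iso_iff
          ((Groth.L00.Stk.F Y (f x)).mapArrow.mapIso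
            (Arrow.isoOfNatIso (DerivedCategory.homologyFunctorFactors Y.Modules n) (Arrow.mk a)))).2 h1
      refine IsZero.of_epi_eq_zero ((Groth.L00.Stk.F Y (f x)).map ((H n).map T.mor₂))
        (zero_of_epi_comp ((Groth.L00.Stk.F Y (f x)).map ((H n).map T.mor₁)) ?_)
      rw [← Functor.map_comp, ← Functor.map_comp, comp_distTriang_mor_zero₁₂ _ hT, Functor.map_zero,
        Functor.map_zero]
    let g := f ∣_ W
    haveI := Groth.L00.KFlat.hasLpull g
    let T' := (resD W).mapTriangle.obj T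
    have hT' : T' ∈ distTriang _ := (resD W).map_distinguished _ hT
    have hEW : ∀ j, DCoh.IsPseudoCoherentD j T'.obj₁ := fun j => by
      have hs : DCoh.IsStrictlyPerfect ((DCoh.restrictCx W).obj E) := by
        refine ⟨⟨n, n, fun i hi => (Scheme.Modules.restrictFunctor W.ι).map_isZero (hEz i (by omega))⟩,
          fun i => ?_⟩
        by_cases hi : i = n
        · rw [hi]
          exact Groth.L29.LocFree.of_iso ((Scheme.Modules.restrictFunctor W.ι).mapIso
            (HomologicalComplex.singleObjXSelf (ComplexShape.up ℤ) n Φ).symm) hΦ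
        · exact Groth.L29.LocFree.of_isZero ((Scheme.Modules.restrictFunctor W.ι).map_isZero (hEz i hi))
      refine pc_of_perfect (perfect_of_on fun z => ⟨_, (⊤ : (W : Scheme.{u}).Opens).ι, inferInstance, by simp, ?_⟩) j
      exact (PWit.restrict _ ⟨_, hs, ⟨resQIso W E⟩⟩)
    have hg1 : DCoh.IsPseudoCoherentD (m + 1) ((DCoh.Lpull g).obj T'.obj₁) :=
      isPseudoCoherentD_Lpull g (hEW _)
    have hg2 : DCoh.IsPseudoCoherentD m ((DCoh.Lpull g).obj T'.obj₂) :=
      isPseudoCoherentD_of_iso ((DCoh.Lpull g).mapIso ((resD W).mapIso e))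
        (pc_pull_res f W hL)
    have hg3 : DCoh.IsPseudoCoherentD m ((DCoh.Lpull g).obj T'.obj₃) :=
      pc_pull_third g hT' hg1 hg2
    let O : (W : Scheme.{u}).Opens := ⟨van T'.obj₃ n, by
      rw [← (thick_restrict f hq W).isQuotientMap.isOpen_preimage]
      have : g ⁻¹' (van T'.obj₃ n) = van ((DCoh.Lpull g).obj T'.obj₃) n := by
        ext z
        exact zero_above_iff (thick_restrict f hq W) T'.obj₃ n z
      rw [this]
      exact isOpen_van hg3 (by omega)⟩
    have hyO : (⟨f x, hyW⟩ : (W : Scheme.{u})) ∈ O := fun i hi => by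
      refine (isZero_res_iff W.ι T.obj₃ i ⟨f x, hyW⟩).2 ?_
      rcases eq_or_lt_of_le hi with rfl | hi'
      · exact hy
      · exact (isZero_HD_iff_stk _ _).1 (hz3 i hi') _
    haveI := Groth.L00.KFlat.hasLpull (g ∣_ O)
    have h3 : DCoh.IsPseudoCoherentD m ((resD O).obj T'.obj₃) :=
      ih (g ∣_ O) (thick_restrict g (thick_restrict f hq W) O) _ (pc_pull_res g O hg3)
        fun i hi => isZero_of_subset_van O (le_refl _) (by omega)
    have h2 : DCoh.IsPseudoCoherentD m ((resD O).obj T'.obj₂) :=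
      (pc_two_out_of_three ((resD O).map_distinguished _ hT') m).2.1 (pc_res O.ι (hEW m)) h3
    exact exists_pc_res hyW hyO (isPseudoCoherentD_of_iso ((resD O).mapIso ((resD W).mapIso e.symm)) h2)

/-- pseudo-coherence descends -/
theorem pc_descends (f : X ⟶ Y) (hq : Thick f) [DCoh.HasLpull f] {m : ℤ}
    {L : DCoh.D Y} (h : DCoh.IsPseudoCoherentD m ((DCoh.Lpull f).obj L)) : DCoh.IsPseudoCoherentD m L := by
  refine pc_of_local fun y => ?_
  obtain ⟨x, rfl⟩ := hq.2.1.surj y
  obtain ⟨V, hxV, hV⟩ := (isPC_iff_wit m _).1 h x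
  obtain ⟨N, hmN, hN⟩ := hV.exists_isZero
  let W : Y.Opens := ⟨van L N, by
    rw [← hq.isQuotientMap.isOpen_preimage]
    have : f ⁻¹' (van L N) = van ((DCoh.Lpull f).obj L) N := by
      ext z
      exact zero_above_iff hq L N z
    rw [this]
    exact isOpen_van h hmN⟩
  refine ⟨W, (zero_above_iff hq L N x).2 fun i hi => ?_, ?_⟩
  · exact (isZero_res_iff V.ι _ i ⟨x, hxV⟩).1 ((isZero_HD_iff_stk _ _).1 (hN i hi) _)
  haveI := Groth.L00.KFlat.hasLpull (f ∣_ W)
  exact pc_descends_aux m (N - m + 1).toNat (f ∣_ W) (thick_restrict f hq W) _ (pc_pull_res f W h)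
    fun i hi => isZero_of_subset_van W (le_refl _) (by omega)

end Groth.Lead.ThickPC
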