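import Groth.Agent.L25.Actions
import Groth.Agent.L24.Alg.SourceFppf
import Groth.Agent.L24.LocQ.Descent
import Groth.Prelude.Def_RedSub

/-!
# Points of fppf quotients
-/

set_option autoImplicit false
set_option linter.style.haveILetI false
set_option backward.isDefEq.respectTransparency.types false
universe u
open CategoryTheory CategoryTheory.Limits MonoidalCategory CartesianMonoidalCategory MonObj AlgebraicGeometry

namespace Groth.Lead.ThirdIso

variable {S : Scheme.{u}}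

/-- An fppf cover in `Over S`. -/
def Cov {W T : Over S} (c : W ⟶ T) : Prop :=
  Surjective c.left ∧ Flat c.left ∧ LocallyOfFinitePresentation c.left

theorem Cov.comp {V W T : Over S} {d : V ⟶ W} {c : W ⟶ T} (hd : Cov d) (hc : Cov c) : Cov (d ≫ c) := by
  obtain ⟨_, _, _⟩ := hd
  obtain ⟨_, _, _⟩ := hc
  exact ⟨by rw [Over.comp_left]; infer_instance, by rw [Over.comp_left]; infer_instance,
    by rw [Over.comp_left]; infer_instance⟩

theorem Cov.epi {W T : Over S} {c : W ⟶ T} (hc : Cov c) : Epi c := by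
  obtain ⟨_, _, _⟩ := hc
  haveI : EffectiveEpi c.left := inferInstance
  exact Over.epi_of_epi_left c

theorem Cov.desc {W T K : Over S} {c : W ⟶ T} (hc : Cov c) (e : W ⟶ K)
    (h : ∀ (Z : Over S) (g₁ g₂ : Z ⟶ W), g₁ ≫ c = g₂ ≫ c → g₁ ≫ e = g₂ ≫ e) : ∃ d : T ⟶ K, c ≫ d = e := by
  obtain ⟨_, _, _⟩ := hc
  exact (Groth.L25.Actions.existsUnique_desc c e h).exists

/-- Points lift along an fppf cover after a cover. -/
theorem exists_lift {A B T : Over S} {q : A ⟶ B} (hq : Cov q) (t : T ⟶ B) :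
    ∃ (W : Over S) (c : W ⟶ T) (a : W ⟶ A), Cov c ∧ c ≫ t = a ≫ q := by
  obtain ⟨h₁, h₂, h₃⟩ := hq
  refine ⟨Over.mk (pullback.fst t.left q.left ≫ T.hom), Over.homMk (pullback.fst t.left q.left) rfl,
    Over.homMk (pullback.snd t.left q.left) ?_, ⟨MorphismProperty.pullback_fst _ _ h₁,
      MorphismProperty.pullback_fst _ _ h₂, MorphismProperty.pullback_fst _ _ h₃⟩,
    Over.OverMorphism.ext pullback.condition⟩
  show pullback.snd t.left q.left ≫ A.hom = pullback.fst t.left q.left ≫ T.hom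
  rw [← Over.w q, ← Category.assoc, ← pullback.condition, Category.assoc, Over.w t]

section Quot

variable {H G Q : Over S} [GrpObj G] {i : H ⟶ G} {q : G ⟶ Q} (hq : RedSub.IsQuotient i q)
include hq

/-- Two points have the same image iff they differ by a point of the subgroup. -/
theorem comp_eq_iff {T : Over S} (a b : T ⟶ G) : a ≫ q = b ≫ q ↔ ∃ n : T ⟶ H, b = a * (n ≫ i) := by
  have hm : ∀ {T : Over S} (x : T ⟶ G ⊗ H), x ≫ (G ◁ i) ≫ μ[G] = (x ≫ fst G H) * (x ≫ snd G H ≫ i) := by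
    intro T x
    rw [MonObj.mul_eq_mul G, MonObj.comp_mul, MonObj.comp_mul, whiskerLeft_fst, whiskerLeft_snd]
  constructor
  · intro h
    obtain ⟨l, hl₁, hl₂⟩ := hq.2.2.2.exists_lift a b h
    refine ⟨l ≫ snd G H, ?_⟩
    rw [← hl₂, hm, hl₁, Category.assoc]
  · rintro ⟨n, rfl⟩
    have := (hm (lift a n)).symm
    rw [lift_fst, lift_snd_assoc] at this
    rw [this, Category.assoc, ← hq.2.2.2.w, lift_fst_assoc]

end Quot

variable {H K G QH Kb : Over S} [GrpObj H] [GrpObj K] [GrpObj G] [GrpObj Kb]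
  {h : H ⟶ K} {k : K ⟶ G} [IsMonHom h] [IsMonHom k]
  {qH : G ⟶ QH} (hqH : RedSub.IsQuotient (h ≫ k) qH)
  {qKb : K ⟶ Kb} [IsMonHom qKb] (hqKb : RedSub.IsQuotient h qKb)
  {act : QH ⊗ Kb ⟶ QH} (hact : (qH ⊗ₘ qKb) ≫ act = (G ◁ k) ≫ μ[G] ≫ qH)

include hqH hqKb hact

omit hqH hqKb [GrpObj H] [GrpObj Kb] [IsMonHom h] [IsMonHom k] [IsMonHom qKb] in
/-- The action on points. -/
theorem act_pt {T : Over S} (g : T ⟶ G) (x : T ⟶ K) :
    lift (g ≫ qH) (x ≫ qKb) ≫ act = (g * (x ≫ k)) ≫ qH := by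
  rw [← lift_map, Category.assoc, hact, ← Category.assoc, lift_whiskerLeft, Hom.mul_def, Category.assoc]

omit hqH hact [IsMonHom k] in
/-- The subgroup is killed. -/
theorem comp_qKb_eq_one {T : Over S} (n : T ⟶ H) : (n ≫ h) ≫ qKb = 1 := by
  have := (comp_eq_iff hqKb (1 : T ⟶ K) (n ≫ h)).2 ⟨n, by rw [_root_.one_mul]⟩
  rw [← this, MonObj.one_comp]

/-- `act` is a free action with orbits the fibres of `qbar`. -/
theorem isPullback_act [Mono k] {QK : Over S} {qK : G ⟶ QK} (hqK : RedSub.IsQuotient k qK) (qbar : QH ⟶ QK)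
    (hbar : qH ≫ qbar = qK) : IsPullback (fst QH Kb) act qbar qbar := by
  have hH : Cov qH := ⟨hqH.1, hqH.2.1, hqH.2.2.1⟩
  have hK : Cov qKb := ⟨hqKb.1, hqKb.2.1, hqKb.2.2.1⟩
  -- joint lifts
  have lifts₂ : ∀ {T : Over S} (a : T ⟶ QH) (κ : T ⟶ Kb), ∃ (W : Over S) (c : W ⟶ T) (g : W ⟶ G) (x : W ⟶ K),
      Cov c ∧ c ≫ a = g ≫ qH ∧ c ≫ κ = x ≫ qKb := by
    intro T a κ
    obtain ⟨W, c, g, hc, hg⟩ := exists_lift hH a
    obtain ⟨V, d, x, hd, hx⟩ := exists_lift hK (c ≫ κ)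
    exact ⟨V, d ≫ c, d ≫ g, x, hd.comp hc, by rw [Category.assoc, hg, Category.assoc], by rw [Category.assoc, hx]⟩
  have hw : fst QH Kb ≫ qbar = act ≫ qbar := by
    obtain ⟨W, c, g, x, hc, hg, hx⟩ := lifts₂ (fst QH Kb) (snd QH Kb)
    haveI := hc.epi
    rw [← cancel_epi c, reassoc_of% hg, hbar]
    have e : c ≫ act = (g * (x ≫ k)) ≫ qH := by
      rw [← act_pt hact, ← hg, ← hx, ← comp_lift, lift_fst_snd, Category.comp_id]
    rw [reassoc_of% e, hbar]
    exact (comp_eq_iff hqK _ _).2 ⟨x, rfl⟩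
  -- two lifts of a pair of points of `QH` give the same point of `Kb`
  have indep : ∀ {W : Over S} (g g' : W ⟶ G) (x x' : W ⟶ K),
      g ≫ qH = g' ≫ qH → (g * (x ≫ k)) ≫ qH = (g' * (x' ≫ k)) ≫ qH → x ≫ qKb = x' ≫ qKb := by
    intro W g g' x x' e₁ e₂
    obtain ⟨n, rfl⟩ := (comp_eq_iff hqH g g').1 e₁
    obtain ⟨n', hn'⟩ := (comp_eq_iff hqH _ _).1 e₂
    have : (n ≫ h) * x' = x * (n' ≫ h) := by
      rw [← cancel_mono k, MonObj.mul_comp, MonObj.mul_comp, Category.assoc, Category.assoc]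
      rw [_root_.mul_assoc, _root_.mul_assoc] at hn'
      exact mul_left_cancel hn'
    have := congrArg (· ≫ qKb) this
    simp only [MonObj.mul_comp, comp_qKb_eq_one hqKb] at this
    simpa using this.symm
  have key : ∀ s : PullbackCone qbar qbar, ∃ κ : s.pt ⟶ Kb, lift s.fst κ ≫ act = s.snd := by
    intro s
    obtain ⟨W, c, g, hc, hg⟩ := exists_lift hH s.fst
    obtain ⟨V, d, g', hd, hg'⟩ := exists_lift hH (c ≫ s.snd)
    have e : (d ≫ g) ≫ qK = g' ≫ qK := by
      rw [← hbar, ← Category.assoc, ← Category.assoc, Category.assoc d, ← hg, ← hg']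
      simp only [Category.assoc, s.condition]
    obtain ⟨x, hx⟩ := (comp_eq_iff hqK _ _).1 e
    have hdc := hd.comp hc
    obtain ⟨κ, hκ⟩ := hdc.desc (x ≫ qKb) fun Z g₁ g₂ h12 => by
      rw [← Category.assoc, ← Category.assoc]
      refine indep (g₁ ≫ d ≫ g) (g₂ ≫ d ≫ g) _ _ ?_ ?_
      · have := congrArg (· ≫ s.fst) h12
        simp only [Category.assoc, hg] at this
        simpa only [Category.assoc] using this
      · have := congrArg (· ≫ s.snd) h12
        simp only [Category.assoc, hg'] at this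
        have e : ∀ γ : Z ⟶ V, (γ ≫ d ≫ g) * ((γ ≫ x) ≫ k) = γ ≫ g' := fun γ => by
          rw [hx, MonObj.comp_mul, Category.assoc]
        rw [e, e, Category.assoc, Category.assoc]
        exact this
    refine ⟨κ, ?_⟩
    haveI := hdc.epi
    rw [← cancel_epi (d ≫ c), ← Category.assoc, comp_lift, Category.assoc d c s.fst, hg, ← Category.assoc d g qH,
      hκ, act_pt hact, ← hx, Category.assoc d c, hg']
  refine IsPullback.of_isLimit' ⟨hw⟩ (PullbackCone.IsLimit.mk _ (fun s => lift s.fst (key s).choose)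
    (fun s => lift_fst _ _) (fun s => (key s).choose_spec) fun s m h₁ h₂ => ?_)
  apply CartesianMonoidalCategory.hom_ext
  · rw [lift_fst, h₁]
  · rw [lift_snd]
    obtain ⟨W, c, g, x, hc, hg, hx⟩ := lifts₂ s.fst (m ≫ snd QH Kb)
    obtain ⟨V, d, x', hd, hx'⟩ := exists_lift hK (c ≫ (key s).choose)
    have hdc := hd.comp hc
    haveI := hdc.epi
    rw [← cancel_epi (d ≫ c), Category.assoc, Category.assoc, hx, hx', ← Category.assoc d x]
    refine indep (d ≫ g) (d ≫ g) _ _ rfl ?_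
    rw [← act_pt hact, ← act_pt hact]
    have e₁ : lift ((d ≫ g) ≫ qH) ((d ≫ x) ≫ qKb) = d ≫ c ≫ m := by
      rw [Category.assoc, Category.assoc, ← hx, ← hg, ← comp_lift, ← comp_lift]
      congr 2
      apply CartesianMonoidalCategory.hom_ext <;> simp [h₁]
    have e₂ : lift ((d ≫ g) ≫ qH) (x' ≫ qKb) = d ≫ c ≫ lift s.fst (key s).choose := by
      rw [comp_lift, comp_lift, Category.assoc, ← hg, hx']
    rw [e₁, e₂, Category.assoc, Category.assoc, Category.assoc, Category.assoc, h₂, (key s).choose_spec]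

/-- A map with the orbits of `act` as fibres gives the quotient. -/
theorem isQuotient_comp [Mono k] {Y : Over S} (p : QH ⟶ Y) (hp : Cov p) (hsq : IsPullback (fst QH Kb) act p p) :
    RedSub.IsQuotient k (qH ≫ p) := by
  have hH : Cov qH := ⟨hqH.1, hqH.2.1, hqH.2.2.1⟩
  have hK : Cov qKb := ⟨hqKb.1, hqKb.2.1, hqKb.2.2.1⟩
  have hP := hH.comp hp
  have hm : (G ◁ k) ≫ μ[G] = fst G K * (snd G K ≫ k) := by
    rw [MonObj.mul_eq_mul G, MonObj.comp_mul, whiskerLeft_fst, whiskerLeft_snd]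
  have hw : fst G K ≫ qH ≫ p = (fst G K * (snd G K ≫ k)) ≫ qH ≫ p := by
    rw [← Category.assoc (_ * _), ← act_pt hact, Category.assoc, ← hsq.w, lift_fst_assoc, Category.assoc]
  have key : ∀ s : PullbackCone (qH ≫ p) (qH ≫ p), ∃ x : s.pt ⟶ K, x ≫ k = s.fst⁻¹ * s.snd := by
    intro s
    obtain ⟨l, hl₁, hl₂⟩ := hsq.exists_lift (s.fst ≫ qH) (s.snd ≫ qH)
      (by simp only [Category.assoc]; exact s.condition)
    obtain ⟨W, c, x, hc, hx⟩ := exists_lift hK (l ≫ snd QH Kb)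
    have e : (c ≫ s.snd) ≫ qH = ((c ≫ s.fst) * (x ≫ k)) ≫ qH := by
      rw [← act_pt hact, ← hx, Category.assoc, Category.assoc, ← comp_lift, Category.assoc, ← hl₁, ← hl₂,
        ← comp_lift, lift_fst_snd, Category.comp_id]
    obtain ⟨n, hn⟩ := (comp_eq_iff hqH _ _).1 e.symm
    have hxk : (x * (n ≫ h)) ≫ k = c ≫ (s.fst⁻¹ * s.snd) := by
      rw [MonObj.comp_mul, GrpObj.comp_inv, hn, MonObj.mul_comp, Category.assoc, _root_.mul_assoc (c ≫ s.fst),
        inv_mul_cancel_left]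
    obtain ⟨d, hd⟩ := hc.desc (x * (n ≫ h)) fun Z g₁ g₂ hg => by
      rw [← cancel_mono k, Category.assoc, Category.assoc, hxk, reassoc_of% hg]
    haveI := hc.epi
    exact ⟨d, by rw [← cancel_epi c, ← Category.assoc, hd, hxk]⟩
  refine ⟨hP.1, hP.2.1, hP.2.2, ?_⟩
  rw [hm]
  refine IsPullback.of_isLimit' ⟨hw⟩ (PullbackCone.IsLimit.mk _ (fun s => lift s.fst (key s).choose)
    (fun s => lift_fst _ _) (fun s => ?_) fun s m h₁ h₂ => ?_)
  · rw [MonObj.comp_mul, lift_fst, lift_snd_assoc, (key s).choose_spec, mul_inv_cancel_left]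
  · apply CartesianMonoidalCategory.hom_ext
    · rw [lift_fst, h₁]
    · rw [lift_snd, ← cancel_mono k, (key s).choose_spec, ← h₂, MonObj.comp_mul, h₁, inv_mul_cancel_left,
        Category.assoc]

end Groth.Lead.ThirdIso
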