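import Groth.Agent.L19.PerfectHomCases
import Groth.Agent.L29.RelPC.PerfSmooth
import Groth.Agent.Lead.AmpZero

/-!
The quotient by a Koszul-regular sequence of length `d` has tor dimension at most `d`;
tor dimension of a morphism at a point as tor amplitude of the structure sheaf.
-/

set_option autoImplicit false
set_option linter.style.haveILetI false
set_option backward.isDefEq.respectTransparency false
set_option backward.isDefEq.respectTransparency.types false
set_option backward.defeqAttrib.useBackward true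

universe u

open CategoryTheory CategoryTheory.Limits CategoryTheory.Pretriangulated AlgebraicGeometry

attribute [local instance] HasDerivedCategory.standard

namespace Groth.Lead.TorDimKoszul

open Groth.L10.DR

theorem amp_koszul {S : Type u} [CommRing S] :
    ∀ l : List S, DRing.HasTorAmplitudeIn S (-(l.length : ℤ)) 0 (DRing.toD (Koszul.koszul S l)) := by
  intro l
  induction l with
  | nil =>
    exact amp_of_iso ((DerivedCategory.singleFunctorIsoCompQ (ModuleCat.{u} S) 0).app (ModuleCat.of S S))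
      ((hasTorDimLE_iff_amp 0).1 (hasTorDimLE_zero_iff.2 inferInstance))
  | cons f l ih =>
    simp only [List.length_cons]
    exact amp_third _ (Groth.L02.PC.mappingCone_distinguished (f • 𝟙 (Koszul.koszul S l)))
      (amp_mono ih (by push_cast; omega) (by omega)) (amp_mono ih (by push_cast; omega) le_rfl)

theorem hasTorDimLE_quotient {S : Type u} [CommRing S] (l : List S)
    (hl : LCI.IsKoszulRegularSeq S l) : DRing.HasTorDimLE S l.length (S ⧸ Ideal.ofList l) := by
  let K := Koszul.koszul S l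
  have hz : ∀ i : ℤ, i ≠ 0 → IsZero ((DerivedCategory.homologyFunctor (ModuleCat.{u} S) i).obj (DRing.toD K)) :=
    fun i hi => (Groth.L02.PC.isZero_HH_Q_iff K i).2 (hl i hi)
  haveI : (DRing.toD K).IsGE 0 := (DerivedCategory.isGE_iff _ 0).2 fun i hi => hz i (by omega)
  haveI : (DRing.toD K).IsLE 0 := (DerivedCategory.isLE_iff _ 0).2 fun i hi => hz i (by omega)
  obtain ⟨Y, ⟨eY⟩⟩ := DerivedCategory.exists_iso_singleFunctor_obj_of_isGE_of_isLE (DRing.toD K) 0
  let e0 : Y ≅ ModuleCat.of S (S ⧸ Ideal.ofList l) :=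
    ((DerivedCategory.singleFunctorCompHomologyFunctorIso (ModuleCat.{u} S) 0).app Y).symm ≪≫
      (DerivedCategory.homologyFunctor (ModuleCat.{u} S) 0).mapIso eY.symm ≪≫
      (DerivedCategory.homologyFunctorFactors (ModuleCat.{u} S) 0).app K ≪≫
      (HomologicalComplex.homologyFunctor _ _ 0).mapIso (eqToIso (Groth.L04.Koszul.koszul_eq l)) ≪≫
      (Groth.L04.Koszul.topEquiv (ModuleCat.of S S) l).symm.toModuleIso ≪≫
      (Submodule.quotEquivOfEq (Ideal.ofList l • (⊤ : Submodule S S)) (Ideal.ofList l)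
        (by rw [smul_eq_mul, Ideal.mul_top])).toModuleIso
  exact (hasTorDimLE_iff_amp _).2
    (amp_of_iso (eY ≪≫ (DerivedCategory.singleFunctor (ModuleCat.{u} S) 0).mapIso e0) (amp_koszul l))

variable {X Y : Scheme.{u}} (f : X ⟶ Y)

/-- tor amplitude of the structure sheaf at a point is tor dimension at that point -/
theorem ampAt_unit_of_td {d : ℕ} {x : X} (h : Groth.L29.RelPC.TD f d x) :
    DerSch.HasTorAmplitudeAt f (-(d : ℤ)) 0 (DerSch.unitCx X) x := by
  letI : Algebra (Y.presheaf.stalk (f x)) (X.presheaf.stalk x) := (f.stalkMap x).hom.toAlgebra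
  let σ : X.presheaf.stalk x ≃ₗ[X.presheaf.stalk x] (Coh.structureModule X).presheaf.stalk x := LinearEquiv.ofBijective
    (LinearMap.toSpanSingleton (X.presheaf.stalk x) ((Coh.structureModule X).presheaf.stalk x)
      (Groth.L22.oneGerm x))
    ⟨(injective_iff_map_eq_zero _).2 fun a ha => Groth.L22.eq_zero_of_smul_oneGerm ha,
      Groth.L22.stalk_smul_oneGerm_surjective x⟩
  let e : ((DerSch.stalkOver f x).obj (Coh.structureModule X) : Type u) ≃ₗ[Y.presheaf.stalk (f x)]
      (X.presheaf.stalk x : Type u) :=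
    { σ.symm.toAddEquiv with
      map_smul' := fun a m => σ.symm.map_smul ((f.stalkMap x).hom a) (show (Coh.structureModule X).presheaf.stalk x from m) }
  let e' : ModuleCat.of (Y.presheaf.stalk (f x)) (X.presheaf.stalk x) ≅
      (DerSch.stalkOver f x).obj (Coh.structureModule X) :=
    LinearEquiv.toModuleIso (X₁ := ModuleCat.of (Y.presheaf.stalk (f x)) (X.presheaf.stalk x))
      (X₂ := (DerSch.stalkOver f x).obj (Coh.structureModule X)) e.symm
  exact amp_of_iso ((DerivedCategory.singleFunctor _ 0).mapIso e' ≪≫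
      (Groth.Lead.AmpZero.singleIso f (Coh.structureModule X) x).symm)
    ((hasTorDimLE_iff_amp d).1 h)

/-- a Koszul-regular immersion of codimension `d` has tor dimension at most `d` at every point -/
theorem td_of_koszulCodim {Z : Scheme.{u}} (i : Z ⟶ X) (d : ℕ)
    (hi : RegImm.IsRegularImmersionOfCodim RegImm.Kind.koszul d i) (z : Z) : Groth.L29.RelPC.TD i d z := by
  obtain ⟨⟨U, hU⟩, hz, hcl, rs, hlen, hrs, hker⟩ := hi.2 z
  have hU' : IsAffineOpen (i ⁻¹ᵁ U) := by
    haveI := hcl
    haveI : IsAffine (U : Scheme.{u}) := hU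
    haveI : IsAffineHom (i ∣_ U) := inferInstance
    exact isAffine_of_isAffineHom (i ∣_ U)
  refine Groth.L29.RelPC.td_of_hom hU' hU le_rfl ?_ hz
  letI := (i.appLE U (i ⁻¹ᵁ U) le_rfl).hom.toAlgebra
  have hs : Function.Surjective (algebraMap Γ(X, U) Γ(Z, i ⁻¹ᵁ U)) := by
    rw [RingHom.algebraMap_toAlgebra, ← Scheme.Hom.app_eq_appLE]
    exact Groth.L07.RegImmComp.app_surjective i U hU hcl
  have hk : Ideal.ofList rs = RingHom.ker (Algebra.ofId Γ(X, U) Γ(Z, i ⁻¹ᵁ U)) := by
    rw [← hker, Scheme.Hom.app_eq_appLE]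
    rfl
  exact Groth.L29.RelPC.hasTorDimLE_congr
    ((Ideal.quotientEquivAlgOfEq Γ(X, U) hk).trans
      (Ideal.quotientKerAlgEquivOfSurjective (f := Algebra.ofId Γ(X, U) Γ(Z, i ⁻¹ᵁ U)) hs)).toLinearEquiv
    (hlen ▸ hasTorDimLE_quotient rs hrs)

end Groth.Lead.TorDimKoszul
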