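import Groth.Agent.Lead.TwistKill
import Groth.Agent.Lead.TwistGen

/-!
`O, O(-1), …, O(-n)` generate `D_QCoh` of projective `n`-space.
-/

set_option autoImplicit false
set_option linter.style.haveILetI false
set_option backward.defeqAttrib.useBackward true
set_option backward.isDefEq.respectTransparency false
set_option backward.isDefEq.respectTransparency.types false

universe u

open CategoryTheory CategoryTheory.Limits AlgebraicGeometry MonoidalCategory

attribute [local instance] HasDerivedCategory.standard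

noncomputable section

namespace Groth.Lead.TwistGenProj

open Groth.L29.DC.Gen Groth.Lead.KoszulTwist Groth.L16.ProjSpace

variable (n : ℕ) (A : Type u) [CommRing A]

local notation "O" => Twist.twistProjSpace n A

theorem genLocus_coord (i : Fin (n + 1)) :
    CohB1.genLocus (O 1) (Groth.L16.homOfSection (O 1) (xsec n A i)) = dOpen n A i := by
  refine le_antisymm ?_ ?_
  · have h := Groth.L18.GenLoc.isFrame_genLocus (Groth.L16.homOfSection (O 1) (xsec n A i))
    rw [Groth.L18.GenLoc.secOf_homOfSection] at h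
    exact le_dOpen_of_isFrame n A i h
  · refine Groth.L18.GenLoc.le_genLocus _ ?_
    rw [Groth.L18.GenLoc.secOf_homOfSection]
    exact isFrame_xsec n A i

theorem kills (S : ℤ → Prop) (hS : ∀ c (N : ℕ), S c → S (c - N)) (i : Fin (n + 1)) :
    TwistGen.Kills (X := CohB1.ProjSpace n A) (fun P => ∃ c : ℤ, S c ∧ P = O c) (dOpen n A i) := by
  rintro P ⟨c, hc, rfl⟩ F hF hF0 g
  haveI := hF
  let s := Groth.L16.homOfSection (O 1) (xsec n A i)
  have hg := genLocus_coord n A i
  obtain ⟨N, hN⟩ := TwistKill.exists_kill (Groth.L16.ProjTwist.isInvertible_twistProjSpace n A 1) s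
    (Groth.L16.ProjTwist.isInvertible_twistProjSpace n A c) F g (fun x hx => hF0 x (hg.le hx))
  obtain ⟨e⟩ := tpow_twist n A (c - N) N
  let e' : Tpow (O 1) (O (c - N)) N ≅ O c := e ≪≫ eqToIso (by rw [sub_add_cancel])
  refine ⟨O (c - N), TwistKill.muPow s (O (c - N)) N ≫ e'.hom, ⟨_, hS c N hc, rfl⟩, ?_, ?_⟩
  · refine TwistGen.isIso_restrict_of_stalk _ _ fun x hx => ?_
    haveI := TwistKill.isIso_stalk_muPow s (O (c - N)) (hg.ge hx) N
    rw [Functor.map_comp]
    infer_instance
  · rw [Category.assoc]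
    exact hN _ e'

variable {n} {A} {K : DCoh.D (CohB1.ProjSpace n A)}

attribute [local instance] HasFiniteBiproducts.of_hasFiniteProducts

/-- the Koszul complex of the coordinates, and its terms -/
theorem exists_koszul (c : ℤ) :
    ∃ C : CochainComplex (CohB1.ProjSpace n A).Modules ℤ, (∀ i, C.ExactAt i) ∧
      (∀ i, i < 0 → IsZero (C.X i)) ∧ (∀ i, ((n + 1 : ℕ) : ℤ) < i → IsZero (C.X i)) ∧
      ∀ i : ℕ, Nonempty (C.X (i : ℤ) ≅ ⨁ fun _ : Fin ((n + 1).choose i) => O (c + i)) := by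
  have hl : (coords n A).length = n + 1 := by simp [coords]
  refine ⟨kos (coords n A) (O c), exact_kos _ _ (coords_iso n A),
    fun i hi => isZero_kos _ _ i (Or.inl hi), fun i hi => isZero_kos _ _ i (Or.inr (by rw [hl]; exact hi)), fun i => ?_⟩
  obtain ⟨e⟩ := nonempty_term_iso (coords n A) (O c) i
  obtain ⟨f⟩ := tpow_twist n A c i
  exact ⟨e ≪≫ biproduct.mapIso (fun _ => f) ≪≫ eqToIso (by rw [hl])⟩

/-- orthogonality to `n + 1` consecutive twists spreads to all -/
theorem ortho_all (h : ∀ d : ℕ, d ≤ n → Ortho (DCoh.inD _ (O (-(d : ℤ)))) K) (c : ℤ) :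
    Ortho (DCoh.inD _ (O c)) K := by
  have step : ∀ (k : ℕ) (c : ℤ), (-(n : ℤ) - k ≤ c ∧ c ≤ k) → Ortho (DCoh.inD _ (O c)) K := by
    intro k
    induction k with
    | zero =>
      intro c hc
      obtain ⟨d, rfl⟩ : ∃ d : ℕ, c = -(d : ℤ) := ⟨(-c).toNat, by omega⟩
      exact h d (by omega)
    | succ k ih =>
      intro c hc
      by_cases hc' : -(n : ℤ) - k ≤ c ∧ c ≤ k
      · exact ih c hc'
      rcases lt_or_ge c 0 with hneg | hpos
      · obtain ⟨C, hC, hlo, hhi, hX⟩ := exists_koszul (n := n) (A := A) c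
        obtain ⟨e⟩ := hX 0
        refine TwistGen.ortho_of_iso_mod ?_ (TwistGen.ortho_bot C hC 0 (n + 1 : ℕ) hlo hhi (fun i hi => ?_) (by omega))
        · exact e ≪≫ eqToIso (by rw [Nat.choose_zero_right]) ≪≫
            biproductUniqueIso (fun _ : Fin 1 => O (c + (0 : ℕ))) ≪≫ eqToIso (by simp)
        · by_cases hbig : ((n + 1 : ℕ) : ℤ) < i
          · exact TwistGen.ortho_of_isZero (hhi i hbig)
          · obtain ⟨j, rfl⟩ : ∃ j : ℕ, i = j := ⟨i.toNat, by omega⟩
            obtain ⟨e'⟩ := hX j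
            exact TwistGen.ortho_of_iso_mod e'.symm (TwistGen.ortho_biproduct (ih _ (by omega)))
      · obtain ⟨C, hC, hlo, hhi, hX⟩ := exists_koszul (n := n) (A := A) (c - (n + 1 : ℕ))
        obtain ⟨e⟩ := hX (n + 1)
        refine TwistGen.ortho_of_iso_mod ?_ (TwistGen.ortho_top C hC 0 (n + 1 : ℕ) hlo hhi (fun i hi => ?_) (by omega))
        · exact e ≪≫ eqToIso (by rw [Nat.choose_self]) ≪≫
            biproductUniqueIso (fun _ : Fin 1 => O (c - (n + 1 : ℕ) + (n + 1 : ℕ))) ≪≫ eqToIso (by simp)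
        · by_cases hneg : i < 0
          · exact TwistGen.ortho_of_isZero (hlo i hneg)
          · obtain ⟨j, rfl⟩ : ∃ j : ℕ, i = j := ⟨i.toNat, by omega⟩
            obtain ⟨e'⟩ := hX j
            exact TwistGen.ortho_of_iso_mod e'.symm (TwistGen.ortho_biproduct (ih _ (by omega)))
  exact step c.natAbs c (by omega)

/-- the generation theorem -/
theorem isZero_of_ortho (hK : DCoh.IsQCohD K)
    (h : ∀ d : ℕ, d ≤ n → Ortho (DCoh.inD _ (O (-(d : ℤ)))) K) : IsZero K := by
  have hcov : ∀ x : CohB1.ProjSpace n A, ∃ i : Fin (n + 1), x ∈ dOpen n A i := fun x => exists_mem_basicOpen_X n A x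
  haveI : QuasiSeparatedSpace (CohB1.ProjSpace n A) :=
    inferInstanceAs (QuasiSeparatedSpace (Proj (CohB1.polyGrading n A)))
  have haff : ∀ i, IsAffineOpen (dOpen n A i) := fun i =>
    Proj.isAffineOpen_basicOpen (CohB1.polyGrading n A) (Xd n A i).1 (Xd n A i).2 one_pos
  have htriv : ∀ P, (∃ c : ℤ, True ∧ P = O c) → ∀ i : Fin (n + 1),
      Nonempty (P.restrict (dOpen n A i).ι ≅ Coh.structureModule (dOpen n A i : Scheme.{u})) := by
    rintro P ⟨c, -, rfl⟩ i
    have := Groth.L16.ProjTwist.nonempty_restrict_iso_of_mem (CohB1.polyGrading n A) (dOpen n A i).ι (Xd n A i) (fun z => z.2) c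
    rwa [Nat.cast_one, mul_one] at this
  refine isZero_of_cover fun x => ?_
  obtain ⟨j, hj⟩ := hcov x
  refine ⟨dOpen n A j, hj, (isZero_res_iff _ K).2 ?_⟩
  exact TwistGen.zOn_of_ortho (kills n A (fun _ => True) (fun _ _ _ => trivial) j) (fun i => dOpen n A i) haff htriv (List.ofFn id)
    (fun y => by obtain ⟨i, hi⟩ := hcov y; exact ⟨i, List.mem_ofFn.2 ⟨i, rfl⟩, hi⟩) (haff j)
    (P := O 0) ⟨0, trivial, rfl⟩ (htriv _ ⟨0, trivial, rfl⟩ j) hK (by rintro P ⟨c, -, rfl⟩; exact ortho_all h c)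

end Groth.Lead.TwistGenProj
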