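import Groth.Agent.Lead.KoszulTwist
import Groth.Agent.L18.GenLocus
import Groth.Agent.L16.QCohSections

/-!
A morphism into a quasi-coherent module without stalks where `s` generates is killed by a power of `s`.
-/

set_option autoImplicit false
set_option linter.style.haveILetI false
set_option backward.defeqAttrib.useBackward true
set_option backward.isDefEq.respectTransparency false
set_option backward.isDefEq.respectTransparency.types false

universe u

open CategoryTheory CategoryTheory.Limits AlgebraicGeometry MonoidalCategory Opposite TopologicalSpace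

noncomputable section

namespace Groth.Lead.TwistKill

open Groth.L00.Tensor Groth.Lead.KoszulTwist
open Groth.L18.Frame (rs ro rs_rs rs_self rs_smul IsFrame)
open Groth.L18.GenLoc (secOf)

local notation "ρM" => Groth.L00.Tensor.tensorUnitRight

variable {X : Scheme.{u}} {L : X.Modules}

/-- multiplication by a power of a section -/
def muPow (s : Coh.structureModule X ⟶ L) (M : X.Modules) : ∀ i : ℕ, M ⟶ Tpow L M i
  | 0 => 𝟙 M
  | i + 1 => muPow s M i ≫ (μ s).app (Tpow L M i)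

theorem isIso_stalk_of_mem (s : Coh.structureModule X ⟶ L) {x : X} (hx : x ∈ CohB1.genLocus L s) :
    IsIso ((Groth.L00.Stk.F X x).map s) := by
  have := isIso_stalk_of_frame (secOf s) (CohB1.genLocus L s) (Groth.L18.GenLoc.isFrame_genLocus s) x hx
  rwa [Groth.L18.GenLoc.homOfSection_secOf] at this

theorem isIso_stalk_muPow (s : Coh.structureModule X ⟶ L) (M : X.Modules) {x : X}
    (hx : x ∈ CohB1.genLocus L s) : ∀ i : ℕ, IsIso ((Groth.L00.Stk.F X x).map (muPow s M i))
  | 0 => inferInstanceAs (IsIso ((Groth.L00.Stk.F X x).map (𝟙 M)))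
  | i + 1 => by
    haveI := isIso_stalk_muPow s M hx i
    haveI := isIso_stalk_μ s x (isIso_stalk_of_mem s hx) (Tpow L M i)
    change IsIso ((Groth.L00.Stk.F X x).map (muPow s M i ≫ (μ s).app (Tpow L M i)))
    rw [Functor.map_comp]
    infer_instance

theorem stalk_div (s : Coh.structureModule X ⟶ L) {W : X.Opens} {ε : Γ(L, W)} {a : Γ(X, W)}
    (ha : a • ε = rs L le_top (secOf s)) {x : X} (hx : x ∈ W) (t : (Groth.L00.Stk.F X x).obj (Coh.structureModule X)) :
    ∃ l, ((Groth.L00.Stk.F X x).map s).hom t = (X.presheaf.germ W x hx a) • l := by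
  obtain ⟨U, hxU, c, rfl⟩ := (Coh.structureModule X).presheaf.germ_exist t
  let V : X.Opens := U ⊓ W
  have hxV : x ∈ V := ⟨hxU, hx⟩
  let c' : Γ(X, V) := X.presheaf.map (homOfLE (inf_le_left : V ≤ U)).op c
  refine ⟨L.presheaf.germ V x hxV (c' • rs L (inf_le_right : V ≤ W) ε), ?_⟩
  rw [← (Coh.structureModule X).presheaf.germ_res_apply (homOfLE (inf_le_left : V ≤ U)) x hxV c]
  refine (DerSch.stalkFunctor_map_germ x s V hxV _).trans ?_
  change L.presheaf.germ V x hxV (s.app V c') = _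
  rw [Groth.L18.GenLoc.app_eq, ← rs_rs L (le_top : W ≤ ⊤) (inf_le_right : V ≤ W), ← ha, rs_smul, smul_smul, mul_comm,
    ← smul_smul, ← X.presheaf.germ_res_apply (homOfLE (inf_le_right : V ≤ W)) x hxV a]
  exact Groth.L00.StalkTensor.germ_smul' (pre L) x hxV (ro (inf_le_right : V ≤ W) a) _

theorem μ_div (s : Coh.structureModule X ⟶ L) {W : X.Opens} {ε : Γ(L, W)} {a : Γ(X, W)}
    (ha : a • ε = rs L le_top (secOf s)) {x : X} (hx : x ∈ W) (M : X.Modules) (m : (Groth.L00.Stk.F X x).obj M) :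
    ∃ y, ((Groth.L00.Stk.F X x).map ((μ s).app M)).hom m = (X.presheaf.germ W x hx a) • y := by
  let τ := Groth.L00.Stk.τ x M
  let r := X.presheaf.germ W x hx a
  have key : ∀ z, ∃ y, ((Groth.L00.Stk.F X x).map (tensorMap (𝟙 M) s)).hom
      ((τ (Coh.structureModule X)).hom.hom z) = r • y := by
    intro z
    have hn := fun w => congr($(Groth.L00.Stk.τ_natural x (𝟙 M) s) w)
    induction z using TensorProduct.induction_on with
    | zero => exact ⟨0, by rw [map_zero, map_zero, smul_zero]⟩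
    | tmul p q =>
      obtain ⟨l, hl⟩ := stalk_div s ha hx q
      refine ⟨(τ L).hom.hom (p ⊗ₜ l), ?_⟩
      refine (hn (p ⊗ₜ q)).symm.trans ?_
      change (τ L).hom.hom ((((Groth.L00.Stk.F X x).map (𝟙 M)).hom p) ⊗ₜ
        (((Groth.L00.Stk.F X x).map s).hom q)) = _
      rw [hl, CategoryTheory.Functor.map_id, ← map_smul]
      exact congrArg _ (TensorProduct.tmul_smul r p l)
    | add z w hz hw =>
      obtain ⟨y, hy⟩ := hz
      obtain ⟨y', hy'⟩ := hw
      exact ⟨y + y', by rw [map_add, map_add, hy, hy', smul_add]⟩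
  obtain ⟨z, hz⟩ := (ConcreteCategory.bijective_of_isIso (τ (Coh.structureModule X)).hom).2
    (((Groth.L00.Stk.F X x).map (ρM M).inv).hom m)
  obtain ⟨y, hy⟩ := key z
  refine ⟨y, ?_⟩
  change ((Groth.L00.Stk.F X x).map ((ρM M).inv ≫ tensorMap (𝟙 M) s)).hom m = _
  rw [Functor.map_comp]
  exact (congrArg ((Groth.L00.Stk.F X x).map (tensorMap (𝟙 M) s)).hom hz.symm).trans hy

theorem muPow_div (s : Coh.structureModule X ⟶ L) {W : X.Opens} {ε : Γ(L, W)} {a : Γ(X, W)}
    (ha : a • ε = rs L le_top (secOf s)) {x : X} (hx : x ∈ W) (M : X.Modules) :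
    ∀ (i : ℕ) (m : (Groth.L00.Stk.F X x).obj M), ∃ y, ((Groth.L00.Stk.F X x).map (muPow s M i)).hom m =
      (X.presheaf.germ W x hx a) ^ i • y
  | 0, m => ⟨m, by
      rw [pow_zero, one_smul]
      change ((Groth.L00.Stk.F X x).map (𝟙 M)).hom m = m
      rw [CategoryTheory.Functor.map_id]
      rfl⟩
  | i + 1, m => by
    obtain ⟨y, hy⟩ := muPow_div s ha hx M i m
    obtain ⟨y', hy'⟩ := μ_div s ha hx (Tpow L M i) y
    refine ⟨y', ?_⟩
    change ((Groth.L00.Stk.F X x).map (muPow s M i ≫ (μ s).app (Tpow L M i))).hom m = _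
    rw [Functor.map_comp]
    change ((Groth.L00.Stk.F X x).map ((μ s).app (Tpow L M i))).hom
      (((Groth.L00.Stk.F X x).map (muPow s M i)).hom m) = _
    rw [hy, map_smul, hy', smul_smul, ← pow_succ]

theorem kill_chart (F : X.Modules) [Coh.IsQCoh F] {P : X.Modules} (g : P ⟶ F) {W : X.Opens}
    (hW : IsAffineOpen W) {p : Γ(P, W)} (hp : IsFrame P W p) (a : Γ(X, W))
    (hF : ∀ x ∈ X.basicOpen a, IsZero ((Groth.L00.Stk.F X x).obj F)) :
    ∃ N : ℕ, ∀ N', N ≤ N' → ∀ (x : X) (hx : x ∈ W) (y : (Groth.L00.Stk.F X x).obj P),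
      (X.presheaf.germ W x hx a) ^ N' • ((Groth.L00.Stk.F X x).map g).hom y = 0 := by
  let t : Γ(F, W) := g.app W p
  obtain ⟨N, hN⟩ := Groth.L16.QCohSect.exists_pow_smul_eq_zero hW F a t
    (TopCat.Presheaf.section_ext ((Groth.L21.Mod.toAbSh X).obj F) _ _ _ fun x hx => by
      haveI : Subsingleton ((Groth.L00.Stk.F X x).obj F) := ModuleCat.subsingleton_of_isZero (hF x hx)
      exact Subsingleton.elim (α := (Groth.L00.Stk.F X x).obj F) _ _)
  refine ⟨N, fun N' hN' x hx y => ?_⟩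
  obtain ⟨U, hxU, y', rfl⟩ := P.presheaf.germ_exist y
  let V : X.Opens := U ⊓ W
  have hxV : x ∈ V := ⟨hxU, hx⟩
  obtain ⟨c, hc⟩ := hp.exists_coeff (inf_le_right : V ≤ W) (P.presheaf.map (homOfLE (inf_le_left : V ≤ U)).op y')
  rw [← P.presheaf.germ_res_apply (homOfLE (inf_le_left : V ≤ U)) x hxV y', ← hc,
    ← X.presheaf.germ_res_apply (homOfLE (inf_le_right : V ≤ W)) x hxV a, ← map_pow]
  refine (congrArg (((X.presheaf.germ V x hxV) ((ro (inf_le_right : V ≤ W) a) ^ N')) • ·)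
    (DerSch.stalkFunctor_map_germ x g V hxV _)).trans ?_
  refine (Groth.L00.StalkTensor.germ_smul' (pre F) x hxV _ _).symm.trans ?_
  refine (congrArg (F.presheaf.germ V x hxV) ?_).trans (map_zero _)
  change (ro (inf_le_right : V ≤ W) a) ^ N' • g.app V (c • rs P inf_le_right p) = (0 : Γ(F, V))
  rw [Scheme.Modules.Hom.app_smul,
    show g.app V (rs P inf_le_right p) = rs F inf_le_right t from
      ConcreteCategory.congr_hom (g.mapPresheaf.naturality (homOfLE (inf_le_right : V ≤ W)).op) p,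
    smul_comm, show (ro (inf_le_right : V ≤ W) a) ^ N' = ro (inf_le_right : V ≤ W) (a ^ N') from (map_pow _ _ _).symm,
    ← rs_smul, show a ^ N' • t = 0 by rw [← Nat.sub_add_cancel hN', pow_add, mul_smul, hN, smul_zero]]
  exact (congrArg (c • ·) (map_zero _)).trans (smul_zero c)

/-- a power of `s` kills morphisms into modules without stalks where `s` generates -/
theorem exists_kill [CompactSpace X] (hL : PicF.IsInvertible L) (s : Coh.structureModule X ⟶ L)
    {P : X.Modules} (hP : PicF.IsInvertible P) (F : X.Modules) [Coh.IsQCoh F] (g : P ⟶ F)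
    (hF : ∀ x ∈ CohB1.genLocus L s, IsZero ((Groth.L00.Stk.F X x).obj F)) :
    ∃ N : ℕ, ∀ (M : X.Modules) (e : Tpow L M N ≅ P), muPow s M N ≫ e.hom ≫ g = 0 := by
  have hloc : ∀ x : X, ∃ (W : X.Opens) (ε : Γ(L, W)) (p : Γ(P, W)), x ∈ W ∧ IsAffineOpen W ∧ IsFrame L W ε ∧
      IsFrame P W p := fun x => by
    obtain ⟨W₁, e₁, h₁, he₁⟩ := Groth.L18.Frame.exists_frame hL x
    obtain ⟨W₂, e₂, h₂, he₂⟩ := Groth.L18.Frame.exists_frame hP x
    obtain ⟨_, ⟨V, hV, rfl⟩, hxV, hVW⟩ := X.isBasis_affineOpens.exists_subset_of_mem_open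
      (show x ∈ W₁ ⊓ W₂ from ⟨h₁, h₂⟩) (W₁ ⊓ W₂).2
    exact ⟨V, _, _, hxV, hV, he₁.mono (fun y hy => (hVW hy).1), he₂.mono (fun y hy => (hVW hy).2)⟩
  choose W ε p hxW hW hε hp using hloc
  choose a ha using fun x => (hε x).exists_coeff le_rfl (rs L le_top (secOf s))
  simp only [rs_self] at ha
  choose N hN using fun x => kill_chart F g (hW x) (hp x) (a x) fun y hy =>
    hF y ((Groth.L18.GenLoc.genLocus_inf_eq s (hε x) (ha x)).ge hy).1
  obtain ⟨T, hT⟩ := isCompact_univ.elim_finite_subcover (fun x : X => (W x : Set X)) (fun x => (W x).2)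
    (fun x _ => Set.mem_iUnion.2 ⟨x, hxW x⟩)
  refine ⟨T.sup N, fun M e => (Groth.L21.Mod.eq_zero_iff_stalk _).2 fun y => ?_⟩
  obtain ⟨x, hxT, hy⟩ := Set.mem_iUnion₂.1 (hT (Set.mem_univ y))
  refine AddCommGrpCat.hom_ext (AddMonoidHom.ext fun m => ?_)
  change ((Groth.L00.Stk.F X y).map (muPow s M (T.sup N) ≫ e.hom ≫ g)).hom m = 0
  rw [Functor.map_comp, Functor.map_comp]
  change ((Groth.L00.Stk.F X y).map g).hom (((Groth.L00.Stk.F X y).map e.hom).hom
    (((Groth.L00.Stk.F X y).map (muPow s M (T.sup N))).hom m)) = 0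
  obtain ⟨z, hz⟩ := muPow_div s (ha x) hy M (T.sup N) m
  rw [hz, map_smul, map_smul]
  exact hN x _ (Finset.le_sup hxT) y hy _

end Groth.Lead.TwistKill
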