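import Groth.Agent.L20.SchDesc.Points
import Groth.Agent.L20.SchDesc.Glue

/-!
# Zariski descent of schemes

Descent data relative to a Zariski covering are effective, and pulling back along a Zariski
covering is essentially surjective on descent data.
-/

set_option autoImplicit false
set_option linter.style.haveILetI false
set_option backward.isDefEq.respectTransparency.types false

universe u

open CategoryTheory Limits AlgebraicGeometry TopologicalSpace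
open Groth.L20.SchDesc

namespace Groth.Lead.ZarDesc

variable {S : Scheme.{u}} {κ : Type u} {X : κ → Scheme.{u}} {f : ∀ i, X i ⟶ S}

/-- Descent data relative to a Zariski covering are effective. -/
theorem isEffective (D : Desc.SchDDFam f) [∀ i, IsOpenImmersion (f i)]
    (hf : Presieve.ofArrows X f ∈ Scheme.fpqcPrecoverage S) : D.IsEffective := by
  have := cov_sigmaDesc f hf
  let P := famPre D
  refine isEffective_of_famPre D (effective_of_cover P fun v => ?_)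
  obtain ⟨i, v₀, rfl⟩ := exists_sigmaι_eq v
  let O : (famTot D).Opens := (famHom D ≫ Sigma.desc f) ⁻¹ᵁ (f i).opensRange
  have hιc : famι D i ≫ famHom D ≫ Sigma.desc f = (D.obj i).hom ≫ f i := by
    rw [← Category.assoc, famι_hom, Category.assoc, Sigma.ι_desc]
  have hO : Stable P O := fun T v x h hv => by
    rintro _ ⟨t, rfl⟩
    have e : P.act v x h ≫ famHom D ≫ Sigma.desc f = v ≫ famHom D ≫ Sigma.desc f :=
      (P.hom_p _ _ _).trans h.symm
    show (P.act v x h ≫ famHom D ≫ Sigma.desc f) t ∈ Set.range (f i)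
    rw [e]
    exact hv ⟨t, rfl⟩
  refine ⟨O, ?_, hO, ?_⟩
  · show (famι D i ≫ famHom D ≫ Sigma.desc f) v₀ ∈ Set.range (f i)
    rw [hιc]
    exact ⟨_, rfl⟩
  let l : O.toScheme ⟶ X i := IsOpenImmersion.lift (f i) (O.ι ≫ famHom D ≫ Sigma.desc f)
    (by rintro _ ⟨t, rfl⟩; exact t.2)
  have hl : l ≫ f i = O.ι ≫ famHom D ≫ Sigma.desc f := IsOpenImmersion.lift_fac _ _ _
  have hlp : O.ι ≫ famHom D ≫ Sigma.desc f = (l ≫ Sigma.ι X i) ≫ Sigma.desc f := by
    rw [Category.assoc, Sigma.ι_desc, hl]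
  let w := P.act O.ι (l ≫ Sigma.ι X i) hlp
  have hpb : IsPullback (D.obj i).hom (famι D i) (Sigma.ι X i) (famHom D) :=
    isPullback_sigmaMap (fun i => (D.obj i).hom) i
  let q : O.toScheme ⟶ (D.obj i).left := hpb.lift l w (P.hom _ _ _).symm
  have hq₁ : q ≫ (D.obj i).hom = l := hpb.lift_fst _ _ _
  have hq₂ : q ≫ famι D i = w := hpb.lift_snd _ _ _
  have hw : (O.ι ≫ famHom D) ≫ Sigma.desc f = q ≫ (D.obj i).hom ≫ f i := by
    rw [← Category.assoc q, hq₁, hl, Category.assoc]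
  have hbase : ∀ {T : Scheme.{u}} (m : T ⟶ O.toScheme) (y : T ⟶ ∐ X)
      (_ : (m ≫ O.ι) ≫ famHom D ≫ Sigma.desc f = y ≫ Sigma.desc f) (d : T ⟶ (D.obj i).left)
      (_ : d ≫ (D.obj i).hom ≫ f i = y ≫ Sigma.desc f),
      m ≫ l = d ≫ (D.obj i).hom := fun m y hy d hd => by
    rw [← cancel_mono (f i), Category.assoc, hl, Category.assoc, hd, ← hy, Category.assoc]
  refine ⟨⟨(D.obj i).left, (D.obj i).hom ≫ f i, q,
    ⟨⟨hw⟩, ⟨PullbackCone.IsLimit.mk hw (fun s => ?_) (fun s => ?_) (fun s => ?_) fun s m hm₁ hm₂ => ?_⟩⟩,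
    fun {T} v x h => ?_⟩⟩
  rotate_left 4
  · apply hpb.hom_ext
    · rw [Category.assoc, hq₁, Category.assoc, hq₁, ← cancel_mono (f i), Category.assoc, hl,
        Category.assoc, hl]
      have h' : (v ≫ O.ι) ≫ famHom D ≫ Sigma.desc f = x ≫ Sigma.desc f := by simpa using h
      rw [← Category.assoc, restrict_act_ι, P.hom_p, ← Category.assoc, h']
    · have h' : (v ≫ O.ι) ≫ famHom D ≫ Sigma.desc f = x ≫ Sigma.desc f := by simpa using h
      have e1 : ((restrict P hO).act v x h ≫ O.ι) ≫ famHom D ≫ Sigma.desc f =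
          (v ≫ O.ι) ≫ famHom D ≫ Sigma.desc f := by
        rw [restrict_act_ι, P.hom_p, h']
      have e2 : (restrict P hO).act v x h ≫ l = v ≫ l := by
        rw [← cancel_mono (f i), Category.assoc, hl, Category.assoc, hl, ← Category.assoc, e1,
          Category.assoc]
      have hvl : (v ≫ O.ι) ≫ famHom D ≫ Sigma.desc f = (v ≫ l ≫ Sigma.ι X i) ≫ Sigma.desc f := by
        simp only [Category.assoc, hlp]
      have hxl : P.act (v ≫ O.ι) x h' ≫ famHom D ≫ Sigma.desc f =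
          (v ≫ l ≫ Sigma.ι X i) ≫ Sigma.desc f := by
        rw [P.hom_p, ← h', hvl]
      rw [Category.assoc, hq₂, Category.assoc, hq₂,
        P.natural' v O.ι (l ≫ Sigma.ι X i) hlp hvl rfl rfl,
        P.natural' ((restrict P hO).act v x h) O.ι (l ≫ Sigma.ι X i) hlp hxl
          (restrict_act_ι P hO v x h) (by rw [← Category.assoc, e2, Category.assoc])]
      exact P.comp _ _ _ h' hxl hvl
  · refine IsOpenImmersion.lift O.ι (P.act (s.snd ≫ famι D i) s.fst (by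
      rw [Category.assoc, hιc]; exact s.condition.symm)) ?_
    rw [Scheme.Opens.range_ι]
    rintro _ ⟨t, rfl⟩
    show (P.act (s.snd ≫ famι D i) s.fst _ ≫ famHom D ≫ Sigma.desc f) t ∈ Set.range (f i)
    rw [P.hom_p]
    have := congrArg (fun m : s.pt ⟶ S => m t) s.condition
    exact this ▸ ⟨(s.snd ≫ (D.obj i).hom) t, rfl⟩
  · rw [← Category.assoc, IsOpenImmersion.lift_fac, P.hom]
  · apply hpb.hom_ext
    · rw [Category.assoc, hq₁]
      refine hbase _ s.fst ?_ s.snd s.condition.symm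
      rw [IsOpenImmersion.lift_fac, P.hom_p]
    · have h₀ : (s.snd ≫ famι D i) ≫ famHom D ≫ Sigma.desc f = s.fst ≫ Sigma.desc f := by
        rw [Category.assoc, hιc]; exact s.condition.symm
      have h₁ : P.act (s.snd ≫ famι D i) s.fst h₀ ≫ famHom D ≫ Sigma.desc f =
          ((s.snd ≫ famι D i) ≫ famHom D) ≫ Sigma.desc f := by
        rw [P.hom_p, ← h₀]; exact (Category.assoc _ _ _).symm
      rw [Category.assoc, hq₂, P.natural' _ O.ι (l ≫ Sigma.ι X i) hlp h₁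
        (IsOpenImmersion.lift_fac _ _ _) (by
          rw [← Category.assoc, hbase _ s.fst (by rw [IsOpenImmersion.lift_fac, P.hom_p]) s.snd
            s.condition.symm, Category.assoc, ← famι_hom, Category.assoc])]
      exact (P.comp _ _ _ h₀ h₁ (Category.assoc _ _ _).symm).trans
        (P.self _ _)
  · have h₀ : (s.snd ≫ famι D i) ≫ famHom D ≫ Sigma.desc f = s.fst ≫ Sigma.desc f := by
      rw [Category.assoc, hιc]; exact s.condition.symm
    rw [← cancel_mono O.ι, IsOpenImmersion.lift_fac]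
    have e : s.fst = (m ≫ O.ι) ≫ famHom D := by rw [Category.assoc]; exact hm₁.symm
    have h₁ : (m ≫ O.ι) ≫ famHom D ≫ Sigma.desc f = (m ≫ l ≫ Sigma.ι X i) ≫ Sigma.desc f := by
      simp only [Category.assoc, hlp]
    have e2 : s.snd ≫ famι D i = P.act (m ≫ O.ι) (m ≫ l ≫ Sigma.ι X i) h₁ := by
      rw [← hm₂, Category.assoc, hq₂]
      exact P.natural' _ _ _ hlp h₁ rfl rfl
    have h₂ : P.act (m ≫ O.ι) (m ≫ l ≫ Sigma.ι X i) h₁ ≫ famHom D ≫ Sigma.desc f =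
        ((m ≫ O.ι) ≫ famHom D) ≫ Sigma.desc f := by
      rw [P.hom_p, ← h₁]; exact (Category.assoc _ _ _).symm
    rw [P.act_congr e2 e h₀ h₂, P.comp _ _ _ h₁ h₂ (Category.assoc _ _ _).symm,
      P.self]

section refine

variable {ι : Type u} {Q : Scheme.{u}} {U : ι → Scheme.{u}} {u : ∀ i, U i ⟶ S} {q : Q ⟶ S}
  {h : ∀ i, U i ⟶ Q} (hq : ∀ i, h i ≫ q = u i) (D : Desc.SchDDFam u)

include hq in
theorem cond_of_eq {T : Scheme.{u}} {a b : ι} {x : T ⟶ U a} {y : T ⟶ U b}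
    (e : x ≫ h a = y ≫ h b) : x ≫ u a = y ≫ u b := by
  rw [← hq a, ← hq b, reassoc_of% e]

/-- The datum relative to the covering of `Q`. -/
noncomputable def toCover : Desc.SchDDFam h where
  obj := D.obj
  φ _ _ _ x₀ x₁ e := D.φ x₀ x₁ (cond_of_eq hq e)
  φ_natural _ _ g _ _ x₀ x₁ _ y₀ y₁ h₀ h₁ _ v v' hv := D.φ_natural g x₀ x₁ _ y₀ y₁ h₀ h₁ _ v v' hv
  φ_self _ _ x v := D.φ_self x v
  φ_comp _ _ _ _ x₀ x₁ x₂ e e' v := D.φ_comp x₀ x₁ x₂ _ _ v

/-- A scheme over `Q` restricting to the objects of the datum. -/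
structure Glued where
  W : Scheme.{u}
  a : W ⟶ Q
  m : ∀ i, (D.obj i).left ⟶ W
  isPullback : ∀ i, IsPullback (D.obj i).hom (m i) (h i) a
  compat : ∀ {T : Scheme.{u}} {i j : ι} (x : T ⟶ U i) (y : T ⟶ U j) (e : x ≫ h i = y ≫ h j)
    (l : Desc.Lifts (D.obj i) x), (D.φ x y (cond_of_eq hq e) l).1 ≫ m j = l.1 ≫ m i

theorem exists_glued [∀ i, IsOpenImmersion (h i)]
    (hh : Presieve.ofArrows U h ∈ Scheme.fpqcPrecoverage Q) : Nonempty (Glued hq D) := by
  obtain ⟨W, ⟨e⟩⟩ := isEffective (toCover hq D) hh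
  let ei (i : ι) : (D.obj i).left ≅ pullback (h i) W.hom :=
    ⟨(e.inv.hom i).left, (e.hom.hom i).left,
      congrArg (fun z : toCover hq D ⟶ toCover hq D => (z.hom i).left) e.inv_hom_id,
      congrArg (fun z : (Desc.toDDFam h).obj W ⟶ (Desc.toDDFam h).obj W => (z.hom i).left)
        e.hom_inv_id⟩
  have hfst : ∀ i, (ei i).hom ≫ pullback.fst (h i) W.hom = (D.obj i).hom := fun i =>
    Over.w (e.inv.hom i)
  refine ⟨⟨W.left, W.hom, fun i => (ei i).hom ≫ pullback.snd (h i) W.hom, fun i => ?_,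
    fun {T} {i j} x y hxy l => ?_⟩⟩
  · exact (IsPullback.of_hasPullback (h i) W.hom).of_iso (ei i).symm (Iso.refl _) (Iso.refl _)
      (Iso.refl _) (by simp [← hfst i]) (by simp) (by simp) (by simp)
  · have c := e.inv.comm x y hxy l (e.inv.push l) rfl
    show (D.φ x y _ l).1 ≫ (e.inv.hom j).left ≫ _ = l.1 ≫ (e.inv.hom i).left ≫ _
    rw [← Category.assoc]
    refine (congrArg (· ≫ pullback.snd (h j) W.hom) c.symm).trans ?_
    exact (pullback.lift_snd _ _ _).trans (Category.assoc _ _ _)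

variable {hq D} (G : Glued hq D)

namespace Glued

/-- `w'` is the transport of `w` to the point `x`. -/
def Rel {T : Scheme.{u}} (w : T ⟶ G.W) (x : T ⟶ Q) (w' : T ⟶ G.W) : Prop :=
  ∀ {T' : Scheme.{u}} (g : T' ⟶ T) (a b : ι) (l : T' ⟶ (D.obj a).left) (y : T' ⟶ U b)
    (_ : l ≫ G.m a = g ≫ w) (_ : y ≫ h b = g ≫ x) (e : (l ≫ (D.obj a).hom) ≫ u a = y ≫ u b),
    g ≫ w' = (D.φ (l ≫ (D.obj a).hom) y e ⟨l, rfl⟩).1 ≫ G.m b

theorem cond {T T' : Scheme.{u}} {w : T ⟶ G.W} {x : T ⟶ Q} (hwx : w ≫ G.a ≫ q = x ≫ q)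
    {g : T' ⟶ T} {a b : ι} {l : T' ⟶ (D.obj a).left} {y : T' ⟶ U b}
    (hl : l ≫ G.m a = g ≫ w) (hy : y ≫ h b = g ≫ x) :
    (l ≫ (D.obj a).hom) ≫ u a = y ≫ u b := by
  rw [← hq a, ← hq b, reassoc_of% hy, ← hwx, Category.assoc, reassoc_of% (G.isPullback a).w,
    reassoc_of% hl]

include G in
theorem m_natural {T T' : Scheme.{u}} (r : T' ⟶ T) {a b : ι} (l : T ⟶ (D.obj a).left)
    (y : T ⟶ U b) (e : (l ≫ (D.obj a).hom) ≫ u a = y ≫ u b)
    (e' : ((r ≫ l) ≫ (D.obj a).hom) ≫ u a = (r ≫ y) ≫ u b) :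
    (D.φ ((r ≫ l) ≫ (D.obj a).hom) (r ≫ y) e' ⟨r ≫ l, rfl⟩).1 =
      r ≫ (D.φ (l ≫ (D.obj a).hom) y e ⟨l, rfl⟩).1 :=
  D.φ_natural r _ _ e _ _ (Category.assoc _ _ _).symm rfl e' _ _ rfl

theorem indep {T : Scheme.{u}} {a a' b b' : ι} {l : T ⟶ (D.obj a).left} {y : T ⟶ U b}
    {l' : T ⟶ (D.obj a').left} {y' : T ⟶ U b'} (hl : l ≫ G.m a = l' ≫ G.m a')
    (hy : y ≫ h b = y' ≫ h b') (e : (l ≫ (D.obj a).hom) ≫ u a = y ≫ u b)
    (e' : (l' ≫ (D.obj a').hom) ≫ u a' = y' ≫ u b') :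
    (D.φ (l ≫ (D.obj a).hom) y e ⟨l, rfl⟩).1 ≫ G.m b =
      (D.φ (l' ≫ (D.obj a').hom) y' e' ⟨l', rfl⟩).1 ≫ G.m b' := by
  have c : (l ≫ (D.obj a).hom) ≫ h a = (l' ≫ (D.obj a').hom) ≫ h a' := by
    rw [Category.assoc, Category.assoc, (G.isPullback a).w, (G.isPullback a').w,
      reassoc_of% hl]
  let L := D.φ (l ≫ (D.obj a).hom) (l' ≫ (D.obj a').hom) (cond_of_eq hq c) ⟨l, rfl⟩
  have hL : L = ⟨l', rfl⟩ := Subtype.ext ((G.isPullback a').hom_ext L.2
    ((G.compat _ _ c ⟨l, rfl⟩).trans hl))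
  rw [← G.compat y y' hy (D.φ _ y e ⟨l, rfl⟩), D.φ_comp, ← hL, D.φ_comp]

instance [∀ i, IsOpenImmersion (h i)] (i : ι) : IsOpenImmersion (G.m i) :=
  MorphismProperty.of_isPullback (P := @IsOpenImmersion) (G.isPullback i) inferInstance

variable [∀ i, IsOpenImmersion (h i)]

theorem exists_m_eq (hh : ∀ z : Q, ∃ (i : ι) (t : U i), h i t = z) (z : G.W) :
    ∃ i, z ∈ Set.range (G.m i) := by
  obtain ⟨i, t, ht⟩ := hh (G.a z)
  obtain ⟨d, hd₁, hd₂⟩ := Scheme.Pullback.exists_preimage_pullback t z ht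
  refine ⟨i, (G.isPullback i).isoPullback.inv d, ?_⟩
  rw [← Scheme.Hom.comp_apply, (G.isPullback i).isoPullback_inv_snd]
  exact hd₂

/-- The piece of `T` where `w` and `x` meet the given members. -/
noncomputable def piece {T : Scheme.{u}} (w : T ⟶ G.W) (x : T ⟶ Q) (k : ι × ι) : T.Opens :=
  w ⁻¹ᵁ (G.m k.1).opensRange ⊓ x ⁻¹ᵁ (h k.2).opensRange

variable (hh : ∀ z : Q, ∃ (i : ι) (t : U i), h i t = z)

include hh in
theorem isOpenCover_piece {T : Scheme.{u}} (w : T ⟶ G.W) (x : T ⟶ Q) :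
    IsOpenCover (G.piece w x) :=
  IsOpenCover.mk (eq_top_iff.2 fun t _ => by
    obtain ⟨a, ha⟩ := G.exists_m_eq hh (w t)
    obtain ⟨b, t', hb⟩ := hh (x t)
    exact Opens.mem_iSup.2 ⟨(a, b), ha, ⟨t', hb⟩⟩)

/-- The chosen point of the first member on a piece. -/
noncomputable def pieceL {T : Scheme.{u}} (w : T ⟶ G.W) (x : T ⟶ Q) (k : ι × ι) :
    (G.piece w x k).toScheme ⟶ (D.obj k.1).left :=
  IsOpenImmersion.lift (G.m k.1) ((G.piece w x k).ι ≫ w) (by rintro _ ⟨t, rfl⟩; exact t.2.1)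

/-- The chosen point of the second member on a piece. -/
noncomputable def pieceY {T : Scheme.{u}} (w : T ⟶ G.W) (x : T ⟶ Q) (k : ι × ι) :
    (G.piece w x k).toScheme ⟶ U k.2 :=
  IsOpenImmersion.lift (h k.2) ((G.piece w x k).ι ≫ x) (by rintro _ ⟨t, rfl⟩; exact t.2.2)

theorem pieceL_m {T : Scheme.{u}} (w : T ⟶ G.W) (x : T ⟶ Q) (k : ι × ι) :
    G.pieceL w x k ≫ G.m k.1 = (G.piece w x k).ι ≫ w := IsOpenImmersion.lift_fac _ _ _

theorem pieceY_h {T : Scheme.{u}} (w : T ⟶ G.W) (x : T ⟶ Q) (k : ι × ι) :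
    G.pieceY w x k ≫ h k.2 = (G.piece w x k).ι ≫ x := IsOpenImmersion.lift_fac _ _ _

include hh in
theorem exists_rel {T : Scheme.{u}} {w : T ⟶ G.W} {x : T ⟶ Q}
    (hwx : w ≫ G.a ≫ q = x ≫ q) : ∃ w', G.Rel w x w' := by
  let 𝒰 := T.openCoverOfIsOpenCover _ (G.isOpenCover_piece hh w x)
  let val (k : ι × ι) : (G.piece w x k).toScheme ⟶ G.W :=
    (D.φ _ _ (G.cond hwx (G.pieceL_m w x k) (G.pieceY_h w x k)) ⟨G.pieceL w x k, rfl⟩).1 ≫ G.m k.2
  have hval : ∀ (k k' : ι × ι),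
      pullback.fst (G.piece w x k).ι (G.piece w x k').ι ≫ val k =
        pullback.snd (G.piece w x k).ι (G.piece w x k').ι ≫ val k' := fun k k' => by
    have e₁ := G.cond (g := pullback.fst (G.piece w x k).ι (G.piece w x k').ι ≫ (G.piece w x k).ι)
      hwx (a := k.1) (b := k.2) (l := pullback.fst _ _ ≫ G.pieceL w x k)
      (y := pullback.fst _ _ ≫ G.pieceY w x k)
      (by rw [Category.assoc, G.pieceL_m, Category.assoc]) (by rw [Category.assoc, G.pieceY_h, Category.assoc])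
    have e₂ := G.cond (g := pullback.snd (G.piece w x k).ι (G.piece w x k').ι ≫ (G.piece w x k').ι)
      hwx (a := k'.1) (b := k'.2) (l := pullback.snd _ _ ≫ G.pieceL w x k')
      (y := pullback.snd _ _ ≫ G.pieceY w x k')
      (by rw [Category.assoc, G.pieceL_m, Category.assoc]) (by rw [Category.assoc, G.pieceY_h, Category.assoc])
    simp only [val, ← Category.assoc]
    rw [← G.m_natural _ _ _ _ e₁, ← G.m_natural _ _ _ _ e₂]
    exact G.indep (by rw [Category.assoc, G.pieceL_m, Category.assoc, G.pieceL_m, pullback.condition_assoc])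
      (by rw [Category.assoc, G.pieceY_h, Category.assoc, G.pieceY_h, pullback.condition_assoc]) _ _
  refine ⟨𝒰.glueMorphisms val hval, fun {T'} g a b l y hl hy e => ?_⟩
  refine Scheme.Cover.hom_ext (T'.openCoverOfIsOpenCover _
    ((G.isOpenCover_piece hh w x).comap ⟨g, g.continuous⟩)) _ _ fun (k : ι × ι) => ?_
  let O : T'.Opens := g ⁻¹ᵁ G.piece w x k
  show O.ι ≫ g ≫ _ = O.ι ≫ _
  have hg : O.ι ≫ g = (g ∣_ G.piece w x k) ≫ (G.piece w x k).ι := (morphismRestrict_ι _ _).symm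
  have hk : (G.piece w x k).ι ≫ 𝒰.glueMorphisms val hval = val k := 𝒰.ι_glueMorphisms _ hval k
  let r := g ∣_ G.piece w x k
  have e₁ := G.cond (g := r ≫ (G.piece w x k).ι) hwx (a := k.1) (b := k.2)
    (l := r ≫ G.pieceL w x k) (y := r ≫ G.pieceY w x k)
    (by rw [Category.assoc, G.pieceL_m, Category.assoc]) (by rw [Category.assoc, G.pieceY_h, Category.assoc])
  have e₂ : ((O.ι ≫ l) ≫ (D.obj a).hom) ≫ u a = (O.ι ≫ y) ≫ u b := by
    simp only [Category.assoc] at e ⊢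
    rw [e]
  rw [reassoc_of% hg, hk]
  simp only [val, ← Category.assoc]
  rw [← G.m_natural _ _ _ _ e₁, ← G.m_natural _ _ _ _ e₂]
  exact G.indep (by rw [Category.assoc, G.pieceL_m, ← Category.assoc, ← hg, Category.assoc, Category.assoc, hl])
    (by rw [Category.assoc, G.pieceY_h, ← Category.assoc, ← hg, Category.assoc, Category.assoc, hy]) _ _

include hh in
theorem rel_unique {T : Scheme.{u}} {w : T ⟶ G.W} {x : T ⟶ Q} (hwx : w ≫ G.a ≫ q = x ≫ q)
    {w₁ w₂ : T ⟶ G.W} (h₁ : G.Rel w x w₁) (h₂ : G.Rel w x w₂) : w₁ = w₂ :=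
  Scheme.Cover.hom_ext (T.openCoverOfIsOpenCover _ (G.isOpenCover_piece hh w x)) _ _
    fun (k : ι × ι) =>
      (h₁ _ k.1 k.2 _ _ (G.pieceL_m w x k) (G.pieceY_h w x k)
        (G.cond hwx (G.pieceL_m w x k) (G.pieceY_h w x k))).trans
      (h₂ _ k.1 k.2 _ _ (G.pieceL_m w x k) (G.pieceY_h w x k)
        (G.cond hwx (G.pieceL_m w x k) (G.pieceY_h w x k))).symm

include hh in
/-- The glued datum relative to `Q ⟶ S`. -/
noncomputable def pre : Pre q G.a where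
  act w x hwx := (G.exists_rel hh hwx).choose
  hom {T} w x hwx := by
    refine Scheme.Cover.hom_ext (T.openCoverOfIsOpenCover _ (G.isOpenCover_piece hh w x)) _ _
      fun (k : ι × ι) => ?_
    show (G.piece w x k).ι ≫ _ ≫ G.a = (G.piece w x k).ι ≫ x
    have c := G.cond hwx (G.pieceL_m w x k) (G.pieceY_h w x k)
    rw [← Category.assoc, (G.exists_rel hh hwx).choose_spec _ k.1 k.2 _ _ (G.pieceL_m w x k)
      (G.pieceY_h w x k) c, Category.assoc, ← (G.isPullback k.2).w, ← G.pieceY_h, ← Category.assoc]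
    exact congrArg (· ≫ h k.2) (D.φ _ _ c ⟨_, rfl⟩).2
  natural r w x e e' := G.rel_unique hh e' (G.exists_rel hh e').choose_spec
    fun {T'} g a b l y hl hy c => by
      rw [← Category.assoc]
      exact (G.exists_rel hh e).choose_spec (g ≫ r) a b l y (by rw [hl, Category.assoc])
        (by rw [hy, Category.assoc]) c
  self w e := G.rel_unique hh e (G.exists_rel hh e).choose_spec fun {T'} g a b l y hl hy c => by
    rw [← hl]
    exact (G.compat _ _ (by rw [Category.assoc, (G.isPullback a).w, reassoc_of% hl, hy]) ⟨l, rfl⟩).symm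
  comp {T} w x z e e' e'' := by
    refine G.rel_unique hh e'' ?_ (G.exists_rel hh e'').choose_spec
    intro T' g a c l y hl hy c₀
    have hcov : IsOpenCover fun b : ι => (g ≫ x) ⁻¹ᵁ (h b).opensRange :=
      IsOpenCover.mk (eq_top_iff.2 fun t _ => by
        obtain ⟨b, t', hb⟩ := hh ((g ≫ x) t)
        exact Opens.mem_iSup.2 ⟨b, ⟨t', hb⟩⟩)
    refine Scheme.Cover.hom_ext (T'.openCoverOfIsOpenCover _ hcov) _ _ fun (b : ι) => ?_
    let O : T'.Opens := (g ≫ x) ⁻¹ᵁ (h b).opensRange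
    show O.ι ≫ g ≫ _ = O.ι ≫ _
    let y₁ : O.toScheme ⟶ U b := IsOpenImmersion.lift (h b) ((O.ι ≫ g) ≫ x)
      (by rintro _ ⟨t, rfl⟩; exact t.2)
    have hy₁ : y₁ ≫ h b = (O.ι ≫ g) ≫ x := IsOpenImmersion.lift_fac _ _ _
    have hl₁ : (O.ι ≫ l) ≫ G.m a = (O.ι ≫ g) ≫ w := by rw [Category.assoc, hl, Category.assoc]
    have hy₂ : (O.ι ≫ y) ≫ h c = (O.ι ≫ g) ≫ z := by rw [Category.assoc, hy, Category.assoc]
    have c₁ := G.cond e hl₁ hy₁
    let L := D.φ ((O.ι ≫ l) ≫ (D.obj a).hom) y₁ c₁ ⟨O.ι ≫ l, rfl⟩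
    have hL : L.1 ≫ G.m b = (O.ι ≫ g) ≫ (G.exists_rel hh e).choose :=
      ((G.exists_rel hh e).choose_spec (O.ι ≫ g) a b _ y₁ hl₁ hy₁ c₁).symm
    have c₂ := G.cond e'' hl₁ hy₂
    have c₃ := G.cond e' hL hy₂
    rw [← Category.assoc, (G.exists_rel hh e').choose_spec (O.ι ≫ g) b c L.1 (O.ι ≫ y) hL hy₂ c₃,
      ← Category.assoc O.ι, ← G.m_natural O.ι l y c₀ c₂]
    congr 1
    have key : ∀ (x₁ : O.toScheme ⟶ U b) (l₂ : Desc.Lifts (D.obj b) x₁)
        (p₁ : (l₂.1 ≫ (D.obj b).hom) ≫ u b = (O.ι ≫ y) ≫ u c)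
        (p₂ : x₁ ≫ u b = (O.ι ≫ y) ≫ u c),
        (D.φ (l₂.1 ≫ (D.obj b).hom) (O.ι ≫ y) p₁ ⟨l₂.1, rfl⟩).1 = (D.φ x₁ (O.ι ≫ y) p₂ l₂).1 := by
      intro x₁ l₂ p₁ p₂
      obtain ⟨l₂, rfl⟩ := l₂
      rfl
    rw [key y₁ L c₃ (c₁.symm.trans c₂)]
    exact congrArg Subtype.val (D.φ_comp _ _ _ c₁ (c₁.symm.trans c₂) _)

end Glued

end refine

end Groth.Lead.ZarDesc
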